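import Cfsg.Agent.MinSimple.Basic

/-!
# THEOREM NS (#13174) (5): the commutator computation

* `comm_act` : `A` abelian, `p, r` act on `A` by `u ↦ a(u) u`, `u ↦ b(u) u` with `a∘a = a∘b = b∘b = 1`: then `⁅r, p⁆` acts
  as `u ↦ b(a(u)) u`.
* `hO2_of` : `A = ⟨B ^ M⟩` of exponent 2, `B ≤ Z(T)`, `T` Sylow in `M ≤ C(U)`: `x ∈ M`, `[x, A] ≤ U` ==> `[x, A] = 1`
  (`O₂(M / C_M(A)) = 1`; `le_centralizer_of`, `le_centralizer_of_pow` = the general Frattini lemma).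
* `claim` : THEOREM NS (5), `[N^c, N'] ≠ 1`.
-/

set_option autoImplicit false

namespace Cfsg.Agent.Omega.HOne.NSClaim

open Subgroup Cfsg Cfsg.Agent.ZN
open Cfsg.Agent.MinSimple.Basic Cfsg.Agent.MinSimple.VModule

variable {G : Type*} [Group G]

/-- `[x, u] = x u x⁻¹ u⁻¹` -/
def br (x u : G) : G := x * u * x⁻¹ * u⁻¹

theorem br_mul_self (x u : G) : x * u * x⁻¹ = br x u * u := by unfold br; group

theorem br_mem {A : Subgroup G} {x u : G} (hx : ∀ u ∈ A, x * u * x⁻¹ ∈ A) (hu : u ∈ A) : br x u ∈ A :=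
  A.mul_mem (hx u hu) (A.inv_mem hu)

/-- additivity of `[x, ·]` on an abelian `x`-invariant group -/
theorem br_mul {A : Subgroup G} (hA : ∀ u ∈ A, ∀ v ∈ A, u * v = v * u) {x : G} (hx : ∀ u ∈ A, x * u * x⁻¹ ∈ A)
    {u v : G} (hu : u ∈ A) (hv : v ∈ A) : br x (u * v) = br x u * br x v := by
  have h1 : br x (u * v) = (x * u * x⁻¹) * (br x v * u⁻¹) := by unfold br; group
  have h2 : br x v * u⁻¹ = u⁻¹ * br x v := hA _ (br_mem hx hv) _ (A.inv_mem hu)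
  rw [h1, h2]; unfold br; group

theorem br_inv {A : Subgroup G} (hA : ∀ u ∈ A, ∀ v ∈ A, u * v = v * u) {x : G} (hx : ∀ u ∈ A, x * u * x⁻¹ ∈ A)
    {u : G} (hu : u ∈ A) : br x u⁻¹ = (br x u)⁻¹ := by
  have h := br_mul hA hx hu (A.inv_mem hu)
  rw [mul_inv_cancel] at h
  have h0 : br x (1 : G) = 1 := by unfold br; group
  rw [h0] at h
  exact eq_inv_of_mul_eq_one_right h.symm

/-- if `[x, [x, u]] = 1` then `x⁻¹ u x = [x, u]⁻¹ u` -/
theorem inv_act {A : Subgroup G} (hA : ∀ u ∈ A, ∀ v ∈ A, u * v = v * u) {x : G} (hx : ∀ u ∈ A, x * u * x⁻¹ ∈ A)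
    {u : G} (hu : u ∈ A) (h : br x (br x u) = 1) : x⁻¹ * u * x = (br x u)⁻¹ * u := by
  have h1 : x * ((br x u)⁻¹ * u) * x⁻¹ = u := by
    have h2 : (br x u)⁻¹ * u ∈ A := A.mul_mem (A.inv_mem (br_mem hx hu)) hu
    rw [br_mul_self, br_mul hA hx (A.inv_mem (br_mem hx hu)) hu, br_inv hA hx (br_mem hx hu), h, inv_one, one_mul,
      ← mul_assoc, mul_inv_cancel, one_mul]
  calc x⁻¹ * u * x = x⁻¹ * (x * ((br x u)⁻¹ * u) * x⁻¹) * x := by rw [h1]
    _ = _ := by group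

/-- **the commutator acts as `u ↦ b(a(u)) u`** -/
theorem comm_act {A : Subgroup G} (hA : ∀ u ∈ A, ∀ v ∈ A, u * v = v * u) {p r : G}
    (hp : ∀ u ∈ A, p * u * p⁻¹ ∈ A) (hr : ∀ u ∈ A, r * u * r⁻¹ ∈ A)
    (haa : ∀ u ∈ A, br p (br p u) = 1) (hab : ∀ u ∈ A, br p (br r u) = 1)
    (hbb : ∀ u ∈ A, br r (br r u) = 1) {u : G} (hu : u ∈ A) :
    (r * p * r⁻¹ * p⁻¹) * u * (r * p * r⁻¹ * p⁻¹)⁻¹ = br r (br p u) * u := by
  have mp : ∀ u ∈ A, br p u ∈ A := fun u hu => br_mem hp hu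
  have mr : ∀ u ∈ A, br r u ∈ A := fun u hu => br_mem hr hu
  -- `w = p⁻¹ u p`
  have e1 : p⁻¹ * u * p = (br p u)⁻¹ * u := inv_act hA hp hu (haa u hu)
  have m1 : (br p u)⁻¹ * u ∈ A := A.mul_mem (A.inv_mem (mp u hu)) hu
  have e2 : r⁻¹ * ((br p u)⁻¹ * u) * r = (br r ((br p u)⁻¹ * u))⁻¹ * ((br p u)⁻¹ * u) :=
    inv_act hA hr m1 (hbb _ m1)
  have e3 : br r ((br p u)⁻¹ * u) = (br r (br p u))⁻¹ * br r u := by
    rw [br_mul hA hr (A.inv_mem (mp u hu)) hu, br_inv hA hr (mp u hu)]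
  -- `v = r⁻¹ w r`
  set v : G := r⁻¹ * ((br p u)⁻¹ * u) * r with hv
  have mv : v ∈ A := by
    rw [e2]; exact A.mul_mem (A.inv_mem (mr _ m1)) m1
  have e4 : br p v = br p u := by
    rw [e2, br_mul hA hp (A.inv_mem (mr _ m1)) m1, br_inv hA hp (mr _ m1), hab _ m1, inv_one, one_mul,
      br_mul hA hp (A.inv_mem (mp u hu)) hu, br_inv hA hp (mp u hu), haa u hu, inv_one, one_mul]
  have e5 : p * v * p⁻¹ = br p u * v := by rw [br_mul_self, e4]
  calc (r * p * r⁻¹ * p⁻¹) * u * (r * p * r⁻¹ * p⁻¹)⁻¹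
      = r * (p * (r⁻¹ * (p⁻¹ * u * p) * r) * p⁻¹) * r⁻¹ := by group
    _ = r * (p * v * p⁻¹) * r⁻¹ := by rw [e1]
    _ = r * (br p u * v) * r⁻¹ := by rw [e5]
    _ = (r * br p u * r⁻¹) * (r * v * r⁻¹) := by group
    _ = (br r (br p u) * br p u) * ((br p u)⁻¹ * u) := by
        rw [br_mul_self r (br p u)]
        congr 1
        rw [hv]; group
    _ = _ := by group

section frattini

variable [Finite G]

/-- A normal subgroup of `X` inducing a 2-group on `V = ⟨B ^ X⟩`, `B ≤ Z(S)`, `S` Sylow in `X`, centralises `V`. -/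
theorem le_centralizer_of {X S D B V : Subgroup G} (hSX : S ≤ X) (hS : IsPGroup 2 S)
    (hSs : ¬ 2 ∣ S.relIndex X) (hD : X ≤ normalizer (D : Set G))
    (hBS : B ≤ centralizer (S : Set G)) (hBV : B ≤ V) (hXV : X ≤ normalizer (V : Set G))
    (hV : ∀ W : Subgroup G, B ≤ W → X ≤ normalizer (W : Set G) → V ≤ W)
    (h : D ≤ centralizer (V : Set G) ⊔ (S ⊓ D)) : D ≤ centralizer (V : Set G) := by
  have hC : B ≤ V ⊓ centralizer ((S ⊓ D : Subgroup G) : Set G) :=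
    le_inf hBV (hBS.trans (centralizer_le inf_le_left))
  have hn : X ≤ normalizer ((V ⊓ centralizer ((S ⊓ D : Subgroup G) : Set G) : Subgroup G) :
      Set G) := by
    refine (frattini hSX hS hSs hD).trans (sup_le (h.trans (sup_le ?_ ?_)) ?_)
    · intro c hc
      refine mem_normalizer_of_map_le ?_
      rintro _ ⟨v, ⟨hv1, hv2⟩, rfl⟩
      have e : c * v * c⁻¹ = v := by
        rw [← mem_centralizer_iff.mp hc v hv1]
        group
      change c * v * c⁻¹ ∈ _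
      rw [e]
      exact ⟨hv1, hv2⟩
    · intro c hc
      refine mem_normalizer_of_map_le ?_
      rintro _ ⟨v, ⟨hv1, hv2⟩, rfl⟩
      have e : c * v * c⁻¹ = v := by
        rw [mem_centralizer_iff.mp hv2 c hc]
        group
      change c * v * c⁻¹ ∈ _
      rw [e]
      exact ⟨hv1, hv2⟩
    · rintro c ⟨hcX, hcN⟩
      refine mem_normalizer_of_map_le ?_
      rintro _ ⟨v, ⟨hv1, hv2⟩, rfl⟩
      refine ⟨(mem_normalizer_iff.mp (hXV hcX) v).mp hv1, ?_⟩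
      change c * v * c⁻¹ ∈ centralizer ((S ⊓ D : Subgroup G) : Set G)
      rw [mem_centralizer_iff]
      intro t ht
      have h4 : c⁻¹ * t * c ∈ S ⊓ D := by
        have := (mem_normalizer_iff.mp (inv_mem hcN) t).mp ht
        rwa [inv_inv] at this
      have h5 := mem_centralizer_iff.mp hv2 _ h4
      calc t * (c * v * c⁻¹) = c * ((c⁻¹ * t * c) * v) * c⁻¹ := by group
        _ = c * (v * (c⁻¹ * t * c)) * c⁻¹ := by rw [h5]
        _ = c * v * c⁻¹ * t := by group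
  have hle : V ≤ V ⊓ centralizer ((S ⊓ D : Subgroup G) : Set G) := hV _ hC hn
  refine h.trans (sup_le le_rfl ?_)
  exact le_centralizer_iff.mp (hle.trans inf_le_right)

/-- The same, elementwise. -/
theorem le_centralizer_of_pow {X S D B V : Subgroup G} (hSX : S ≤ X) (hS : IsPGroup 2 S)
    (hSs : ¬ 2 ∣ S.relIndex X) (hDX : D ≤ X) (hD : X ≤ normalizer (D : Set G))
    (hBS : B ≤ centralizer (S : Set G)) (hBV : B ≤ V) (hXV : X ≤ normalizer (V : Set G))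
    (hV : ∀ W : Subgroup G, B ≤ W → X ≤ normalizer (W : Set G) → V ≤ W)
    (h : ∀ x ∈ D, ∃ k : ℕ, x ^ 2 ^ k ∈ centralizer (V : Set G)) :
    D ≤ centralizer (V : Set G) := by
  have hf : Fact (Nat.Prime 2) := ⟨Nat.prime_two⟩
  refine le_centralizer_of hSX hS hSs hD hBS hBV hXV hV ?_
  have h1 : IsPGroup 2 (S.subgroupOf X) := hS.comap_of_injective _ X.subtype_injective
  have hn : (D.subgroupOf X).Normal := normal_subgroupOf_of_le_normalizer hD
  have hXC : X ≤ normalizer (centralizer (V : Set G) : Set G) := by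
    intro x hx
    refine mem_normalizer_of_map_le ?_
    rintro _ ⟨c, hc, rfl⟩
    change x * c * x⁻¹ ∈ centralizer (V : Set G)
    rw [mem_centralizer_iff]
    intro v hv
    have h4 : x⁻¹ * v * x ∈ V := by
      have := (mem_normalizer_iff.mp (inv_mem (hXV hx)) v).mp hv
      rwa [inv_inv] at this
    have h5 := mem_centralizer_iff.mp hc _ h4
    calc v * (x * c * x⁻¹) = x * ((x⁻¹ * v * x) * c) * x⁻¹ := by group
      _ = x * (c * (x⁻¹ * v * x)) * x⁻¹ := by rw [h5]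
      _ = x * c * x⁻¹ * v := by group
  have hn2 : ((centralizer (V : Set G)).subgroupOf X).Normal :=
    normal_subgroupOf_of_le_normalizer hXC
  have h2 := Lib.SylowNormalInf.le_sup_inf (h1.toSylow hSs : Sylow 2 X)
    (D.subgroupOf X) ((centralizer (V : Set G)).subgroupOf X) (fun x hx => by
      obtain ⟨k, hk⟩ := h x hx
      exact ⟨k, hk⟩)
  have h3 := Subgroup.map_mono (f := X.subtype) h2
  rw [subgroupOf_map_subtype, inf_eq_left.mpr hDX, Subgroup.map_sup, subgroupOf_map_subtype] at h3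
  refine h3.trans (sup_le_sup inf_le_left ?_)
  rintro _ ⟨x, hx, rfl⟩
  exact hx

/-- **`O₂(M / C_M(A)) = 1` in the form used in `claim`**: `A = ⟨B ^ M⟩` of exponent 2, `B ≤ Z(T)`, `T` Sylow in `M ≤ C(U)`. -/
theorem hO2_of {A U B T M : Subgroup G} (hTM : T ≤ M) (hT : IsPGroup 2 T) (hTs : ¬ 2 ∣ T.relIndex M)
    (hA2 : ∀ u ∈ A, u * u = 1)
    (hBT : B ≤ centralizer (T : Set G)) (hBA : B ≤ A)
    (hMA : ∀ x ∈ M, ∀ u ∈ A, x * u * x⁻¹ ∈ A) (hMU : ∀ x ∈ M, ∀ u ∈ U, x * u = u * x) (hUA : U ≤ A)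
    (hgen : ∀ W : Subgroup G, B ≤ W → M ≤ normalizer (W : Set G) → A ≤ W) :
    ∀ x ∈ M, (∀ u ∈ A, br x u ∈ U) → ∀ u ∈ A, br x u = 1 := by
  have hMA' : M ≤ normalizer (A : Set G) := fun x hx =>
    mem_normalizer_of_map_le (by rintro _ ⟨u, hu, rfl⟩; exact hMA x hx u hu)
  -- the group `D`
  let D : Subgroup G :=
    { carrier := {x | x ∈ M ∧ ∀ u ∈ A, br x u ∈ U}
      one_mem' := ⟨M.one_mem, fun u _ => by
        have : br (1 : G) u = 1 := by unfold br; group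
        rw [this]; exact U.one_mem⟩
      mul_mem' := by
        rintro x y ⟨hx, hxU⟩ ⟨hy, hyU⟩
        refine ⟨M.mul_mem hx hy, fun u hu => ?_⟩
        have h1 : br (x * y) u = (x * br y u * x⁻¹) * br x u := by unfold br; group
        rw [h1, hMU x hx _ (hyU u hu)]
        have h2 : br y u * x * x⁻¹ = br y u := by group
        rw [h2]
        exact U.mul_mem (hyU u hu) (hxU u hu)
      inv_mem' := by
        rintro x ⟨hx, hxU⟩
        refine ⟨M.inv_mem hx, fun u hu => ?_⟩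
        have h0 : x⁻¹ * u * x ∈ A := by
          have := hMA x⁻¹ (M.inv_mem hx) u hu
          rwa [inv_inv] at this
        have h1 : br x⁻¹ u = (br x (x⁻¹ * u * x))⁻¹ := by unfold br; group
        rw [h1]
        exact U.inv_mem (hxU _ h0) }
  have hDM : D ≤ M := fun x hx => hx.1
  have hMD : M ≤ normalizer (D : Set G) := by
    intro m hm
    refine mem_normalizer_of_map_le ?_
    rintro _ ⟨x, hx, rfl⟩
    change m * x * m⁻¹ ∈ D
    refine ⟨M.mul_mem (M.mul_mem hm hx.1) (M.inv_mem hm), fun u hu => ?_⟩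
    have h0 : m⁻¹ * u * m ∈ A := by
      have := hMA m⁻¹ (M.inv_mem hm) u hu
      rwa [inv_inv] at this
    have h1 : br (m * x * m⁻¹) u = m * br x (m⁻¹ * u * m) * m⁻¹ := by unfold br; group
    rw [h1, hMU m hm _ (hx.2 _ h0)]
    have h2 : br x (m⁻¹ * u * m) * m * m⁻¹ = br x (m⁻¹ * u * m) := by group
    rw [h2]
    exact hx.2 _ h0
  have hD := le_centralizer_of_pow hTM hT hTs hDM hMD hBT hBA hMA' hgen (fun x hx => by
    refine ⟨1, mem_centralizer_iff.mpr fun u hu => ?_⟩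
    have hxU := hx.2 u hu
    have h1 : x * (x * u * x⁻¹) * x⁻¹ = u := by
      rw [br_mul_self x u]
      calc x * (br x u * u) * x⁻¹ = (x * br x u) * (u * x⁻¹) := by group
        _ = (br x u * x) * (u * x⁻¹) := by rw [hMU x hx.1 _ hxU]
        _ = br x u * (x * u * x⁻¹) := by group
        _ = (br x u * br x u) * u := by rw [br_mul_self x u]; group
        _ = u := by rw [hA2 _ (hUA hxU), one_mul]
    have e : x ^ 2 ^ 1 = x * x := by rw [pow_one, pow_two]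
    rw [e]
    calc u * (x * x) = (x * (x * u * x⁻¹) * x⁻¹) * (x * x) := by rw [h1]
      _ = x * x * u := by group)
  intro x hx hxU u hu
  have := mem_centralizer_iff.mp (hD (show x ∈ D from ⟨hx, hxU⟩)) u hu
  unfold br
  rw [← this]; group

end frattini

section claim

variable {F : Type*} [Field F] [CharP F 2]

/-- **THEOREM NS (5)**: if `s(N ^ c) = 0` then a commutator of `M` acts nontrivially on `UU` and trivially on `UU / U`. -/
theorem claim {A U R N M : Subgroup G} (hA : ∀ u ∈ A, ∀ v ∈ A, u * v = v * u)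
    (hMA : ∀ x ∈ M, ∀ u ∈ A, x * u * x⁻¹ ∈ A) (hMU : ∀ x ∈ M, ∀ u ∈ U, x * u = u * x)
    (hUR : U ≤ R) (hRN : R ≤ N) (hNA : N ≤ A)
    (hO2 : ∀ x ∈ M, (∀ u ∈ A, br x u ∈ U) → ∀ u ∈ A, br x u = 1)
    {s : G → F} (hs : ∀ u ∈ A, ∀ v ∈ A, s (u * v) = s u + s v) (hsR : ∀ u ∈ R, s u = 0)
    {e f g : F → G} (heR : ∀ x, e x ∈ R) (hgU : ∀ x, g x ∈ U) (hfN : ∀ x, f x ∈ N)
    (he : ∀ x y, e (x + y) = e x * e y) (hg : ∀ x y, g (x + y) = g x * g y)
    (hg1 : ∀ x, g x = 1 → x = 0) (hsf : ∀ x, s (f x) = x)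
    {nn : F → G} (hnM : ∀ t, nn t ∈ M)
    (hform : ∀ t, ∀ u ∈ A, br (nn t) u = e (s u * t ^ 2) * g (s u * t))
    {c n : G} (hcM : c ∈ M) (hcR : ∀ u ∈ R, c * u = u * c) (hnef : ∀ x, n * e x * n⁻¹ = f x)
    (hyM : c * n * c⁻¹ ∈ M) (hnN : ∀ u ∈ N, n⁻¹ * u * n ∈ N)
    (hF : ∃ θ : F, θ ≠ 0 ∧ θ ≠ 1)
    (h0 : ∀ u ∈ N, s (c * u * c⁻¹) = 0) : False := by
  have hRA : R ≤ A := hRN.trans hNA
  have hUA : U ≤ A := hUR.trans hRA
  set y : G := c * n * c⁻¹ with hy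
  have hcR' : ∀ u ∈ R, c * u * c⁻¹ = u := fun u hu => by rw [hcR u hu]; group
  have hcR2 : ∀ u ∈ R, c⁻¹ * u * c = u := fun u hu => by
    rw [mul_assoc, ← hcR u hu]; group
  have hMA' : ∀ x ∈ M, ∀ u ∈ A, x⁻¹ * u * x ∈ A := fun x hx u hu => by
    have := hMA x⁻¹ (M.inv_mem hx) u hu
    rwa [inv_inv] at this
  -- `y e(x) y⁻¹ = c f(x) c⁻¹`
  have hye : ∀ x, y * e x * y⁻¹ = c * f x * c⁻¹ := by
    intro x
    calc y * e x * y⁻¹ = c * (n * (c⁻¹ * e x * c) * n⁻¹) * c⁻¹ := by rw [hy]; group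
      _ = c * f x * c⁻¹ := by rw [hcR2 _ (heR x), hnef]
  have hyg : ∀ x, y * g x * y⁻¹ = g x := by
    intro x
    rw [hMU y hyM _ (hgU x)]; group
  -- `y⁻¹ (c N c⁻¹) y = c N c⁻¹`
  have hyN : ∀ u ∈ N, y⁻¹ * (c * u * c⁻¹) * y = c * (n⁻¹ * u * n) * c⁻¹ := by
    intro u _
    rw [hy]; group
  -- values of `s`
  have hs1 : s 1 = 0 := by
    have := hs 1 A.one_mem 1 A.one_mem
    rw [mul_one] at this
    have h2 : s 1 + 0 = s 1 + s 1 := by rw [add_zero]; exact this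
    exact (add_left_cancel h2).symm
  have hsyN : ∀ u ∈ N, s (y⁻¹ * (c * u * c⁻¹) * y) = 0 := fun u hu => by
    rw [hyN u hu]; exact h0 _ (hnN u hu)
  have hsyR : ∀ u ∈ R, s (y⁻¹ * u * y) = 0 := fun u hu => by
    have := hsyN u (hRN hu)
    rwa [hcR' u hu] at this
  have hscR : ∀ u ∈ R, s (c⁻¹ * u * c) = 0 := fun u hu => by rw [hcR2 u hu]; exact hsR u hu
  -- the two kinds of elements
  let p : F → G := fun t => y * nn t * y⁻¹
  let r : F → G := fun t => c * nn t * c⁻¹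
  have pM : ∀ t, p t ∈ M := fun t => M.mul_mem (M.mul_mem hyM (hnM t)) (M.inv_mem hyM)
  have rM : ∀ t, r t ∈ M := fun t => M.mul_mem (M.mul_mem hcM (hnM t)) (M.inv_mem hcM)
  have hp : ∀ t, ∀ u ∈ A, br (p t) u
      = c * f (s (y⁻¹ * u * y) * t ^ 2) * c⁻¹ * g (s (y⁻¹ * u * y) * t) := by
    intro t u hu
    calc br (p t) u = y * br (nn t) (y⁻¹ * u * y) * y⁻¹ := by unfold br; simp only [p]; group
      _ = (y * e (s (y⁻¹ * u * y) * t ^ 2) * y⁻¹) * (y * g (s (y⁻¹ * u * y) * t) * y⁻¹) := by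
          rw [hform t _ (hMA' y hyM u hu)]; group
      _ = _ := by rw [hye, hyg]
  have hr : ∀ t, ∀ u ∈ A, br (r t) u
      = e (s (c⁻¹ * u * c) * t ^ 2) * g (s (c⁻¹ * u * c) * t) := by
    intro t u hu
    calc br (r t) u = c * br (nn t) (c⁻¹ * u * c) * c⁻¹ := by unfold br; simp only [r]; group
      _ = _ := by
          rw [hform t _ (hMA' c hcM u hu)]
          exact hcR' _ (R.mul_mem (heR _) (hUR (hgU _)))
  have hrR : ∀ t, ∀ u ∈ A, br (r t) u ∈ R := fun t u hu => by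
    rw [hr t u hu]; exact R.mul_mem (heR _) (hUR (hgU _))
  have hpA : ∀ t, ∀ u ∈ A, br (p t) u ∈ A := fun t u hu => br_mem (fun v hv => hMA _ (pM t) v hv) hu
  have e0 : e 0 = 1 := by
    have := he 0 0
    rw [add_zero] at this
    exact (mul_eq_left.mp this.symm)
  have g0 : g 0 = 1 := by
    have := hg 0 0
    rw [add_zero] at this
    exact (mul_eq_left.mp this.symm)
  have f0 : f 0 = 1 := by rw [← hnef, e0]; group
  -- `s_y` of `[p, u]`
  have hsyA : ∀ u ∈ A, ∀ v ∈ A, s (y⁻¹ * (u * v) * y) = s (y⁻¹ * u * y) + s (y⁻¹ * v * y) := by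
    intro u hu v hv
    rw [← hs _ (hMA' y hyM u hu) _ (hMA' y hyM v hv)]
    congr 1; group
  have hscA : ∀ u ∈ A, ∀ v ∈ A, s (c⁻¹ * (u * v) * c) = s (c⁻¹ * u * c) + s (c⁻¹ * v * c) := by
    intro u hu v hv
    rw [← hs _ (hMA' c hcM u hu) _ (hMA' c hcM v hv)]
    congr 1; group
  have hcfA : ∀ x, c * f x * c⁻¹ ∈ A := fun x => hMA c hcM _ (hNA (hfN x))
  have hsyp : ∀ t, ∀ u ∈ A, s (y⁻¹ * br (p t) u * y) = 0 := by
    intro t u hu
    rw [hp t u hu, hsyA _ (hcfA _) _ (hUA (hgU _)), hsyN _ (hfN _), hsyR _ (hUR (hgU _)), add_zero]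
  have haa : ∀ t t', ∀ u ∈ A, br (p t) (br (p t') u) = 1 := by
    intro t t' u hu
    rw [hp t _ (hpA t' u hu), hsyp t' u hu, zero_mul, zero_mul, f0, g0]; group
  have hab : ∀ t t', ∀ u ∈ A, br (p t) (br (r t') u) = 1 := by
    intro t t' u hu
    rw [hp t _ (hRA (hrR t' u hu)), hsyR _ (hrR t' u hu), zero_mul, zero_mul, f0, g0]; group
  have hbb : ∀ t t', ∀ u ∈ A, br (r t) (br (r t') u) = 1 := by
    intro t t' u hu
    rw [hr t _ (hRA (hrR t' u hu)), hscR _ (hrR t' u hu), zero_mul, zero_mul, e0, g0]; group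
  have hba : ∀ t t', ∀ u ∈ A, br (r t) (br (p t') u)
      = e (s (y⁻¹ * u * y) * (t' * t) ^ 2) * g (s (y⁻¹ * u * y) * (t' * t) * t') := by
    intro t t' u hu
    have h1 : s (c⁻¹ * br (p t') u * c) = s (y⁻¹ * u * y) * t' ^ 2 := by
      rw [hp t' u hu, hscA _ (hcfA _) _ (hUA (hgU _)), hscR _ (hUR (hgU _)), add_zero]
      rw [show c⁻¹ * (c * f (s (y⁻¹ * u * y) * t' ^ 2) * c⁻¹) * c = f (s (y⁻¹ * u * y) * t' ^ 2) by group, hsf]
    rw [hr t _ (hpA t' u hu), h1]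
    congr 2 <;> ring
  -- the commutators
  let k : F → F → G := fun t t' => r t * p t' * (r t)⁻¹ * (p t')⁻¹
  have kM : ∀ t t', k t t' ∈ M := fun t t' =>
    M.mul_mem (M.mul_mem (M.mul_mem (rM t) (pM t')) (M.inv_mem (rM t))) (M.inv_mem (pM t'))
  have hk : ∀ t t', ∀ u ∈ A, k t t' * u * (k t t')⁻¹ = br (r t) (br (p t') u) * u := by
    intro t t' u hu
    exact comm_act hA (fun v hv => hMA _ (pM t') v hv) (fun v hv => hMA _ (rM t) v hv)
      (fun v hv => haa t' t' v hv) (fun v hv => hab t' t v hv) (fun v hv => hbb t t v hv) hu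
  obtain ⟨θ, hθ0, hθ1⟩ := hF
  have hk2 : ∀ u ∈ A, br (k 1 θ * k θ 1) u = g (s (y⁻¹ * u * y) * θ * (θ + 1)) := by
    intro u hu
    have m1 : br (r θ) (br (p 1) u) ∈ R := hrR _ _ (hpA _ u hu)
    have m2 : br (r 1) (br (p θ) u) ∈ R := hrR _ _ (hpA _ u hu)
    have h1 : k 1 θ * k θ 1 * u * (k 1 θ * k θ 1)⁻¹
        = (k 1 θ * br (r θ) (br (p 1) u) * (k 1 θ)⁻¹) * (k 1 θ * u * (k 1 θ)⁻¹) := by
      calc k 1 θ * k θ 1 * u * (k 1 θ * k θ 1)⁻¹ = k 1 θ * (k θ 1 * u * (k θ 1)⁻¹) * (k 1 θ)⁻¹ := by group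
        _ = _ := by rw [hk θ 1 u hu]; group
    have h2 : k 1 θ * br (r θ) (br (p 1) u) * (k 1 θ)⁻¹ = br (r θ) (br (p 1) u) := by
      rw [hk 1 θ _ (hRA m1), hab _ _ _ (hpA _ u hu)]
      unfold br; group
    have h3 : br (k 1 θ * k θ 1) u = br (r θ) (br (p 1) u) * br (r 1) (br (p θ) u) := by
      have : br (k 1 θ * k θ 1) u = k 1 θ * k θ 1 * u * (k 1 θ * k θ 1)⁻¹ * u⁻¹ := rfl
      rw [this, h1, h2, hk 1 θ u hu]; group
    rw [h3, hba _ _ u hu, hba _ _ u hu]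
    set z := s (y⁻¹ * u * y)
    have h4 : g (z * (1 * θ) * 1) * e (z * (θ * 1) ^ 2) = e (z * (θ * 1) ^ 2) * g (z * (1 * θ) * 1) :=
      hA _ (hUA (hgU _)) _ (hRA (heR _))
    calc e (z * (1 * θ) ^ 2) * g (z * (1 * θ) * 1) * (e (z * (θ * 1) ^ 2) * g (z * (θ * 1) * θ))
        = e (z * (1 * θ) ^ 2) * (g (z * (1 * θ) * 1) * e (z * (θ * 1) ^ 2)) * g (z * (θ * 1) * θ) := by group
      _ = (e (z * (1 * θ) ^ 2) * e (z * (θ * 1) ^ 2)) * (g (z * (1 * θ) * 1) * g (z * (θ * 1) * θ)) := by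
          rw [h4]; group
      _ = e (z * (1 * θ) ^ 2 + z * (θ * 1) ^ 2) * g (z * (1 * θ) * 1 + z * (θ * 1) * θ) := by rw [he, hg]
      _ = _ := by
          rw [one_mul, mul_one, mul_one, CharTwo.add_self_eq_zero, e0, one_mul]
          congr 1; ring
  have hfin := hO2 _ (M.mul_mem (kM 1 θ) (kM θ 1)) (fun u hu => by rw [hk2 u hu]; exact hgU _)
    (y * f 1 * y⁻¹) (hMA y hyM _ (hNA (hfN 1)))
  rw [hk2 _ (hMA y hyM _ (hNA (hfN 1)))] at hfin
  have h5 := hg1 _ hfin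
  rw [show y⁻¹ * (y * f 1 * y⁻¹) * y = f 1 by group, hsf, one_mul] at h5
  rcases mul_eq_zero.mp h5 with h6 | h6
  · exact hθ0 h6
  · refine hθ1 ?_
    have h7 : θ + 1 + 1 = 0 + 1 := by rw [h6]
    rwa [add_assoc, CharTwo.add_self_eq_zero, add_zero, zero_add] at h7

end claim

end Cfsg.Agent.Omega.HOne.NSClaim
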