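import Cfsg.Agent.Omega.HOne.Leaf
import Cfsg.Agent.Omega.HOneEnd.EndIn
import Cfsg.Agent.Omega.HOneTwo.TransDefs
import Cfsg.Agent.Omega.HTwo.AlphaP
import Cfsg.Agent.Omega.HTwo.Entry

/-!
# Leaf II.0h1: the cut of `Same4` and `Same2`

Everything goes through the interface `HOneEnd.EndIn` of the END.

* `StEnd K` : the END (`EndIn` and the normal form `Same` imply that `G` is known);
* `StFour K` : `q ≥ 4`: the normal form gives `EndIn`;
* `StTS K` : `q = 2`: the transvection statement `TSz` holds for some `z ∈ C_Z(P)`, `M = ⟨C(r) ∩ C(z), X⟩`;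
* `StThree K`, `StMore K` : `q = 2`: `TSz` gives `EndIn` (`|N_r| = 8`, `Sp_{2m+2}(2)`; `|N_r| ≠ 8`, `F₄(2)`).

`same4_of`, `same2_of`, `leafH1_of`.

Local forms of the `q = 2` part (only `Pos`; nothing about mutual pairs, `Full`, `AllIn`, `K`): `TS0`, `Three0`, `More0`;
`ends_of_pos`, `same2_of'`, `leafH1_of'`. `EndL` : the END in the strong form; `known_of_pos` : the exit `Pos` for
every leaf.
-/

set_option autoImplicit false

namespace Cfsg.Agent.Omega.HOne.Cut

open Subgroup Cfsg Cfsg.Agent.ZN Cfsg.Agent.Omega.MinPar Cfsg.Agent.Omega.Frame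
open Cfsg.Agent.Omega.NatPair (NatMod)
open Cfsg.Agent.Omega.FrameFF (AllSingle LeafH1)
open Cfsg.Agent.Omega.FrameLE (AllIn)
open Cfsg.Agent.Omega.BTwo
open Cfsg.Agent.Omega.HOne.Main (Same Same2 Same4 AllSplit)
open Cfsg.Agent.Omega.HTwo.Entry (Pos)
open Cfsg.Agent.Omega.HTwo.AlphaP (MP)
open Cfsg.Agent.Omega.HOneTwo.Trans (gn gen)
open Cfsg.Agent.Omega.HOneEnd (EndIn)

universe u v

/-- the output of the chains: `EndIn` for `R = R o`, and `N ≤ G₀`, `N_G(N) ≤ N_G(G₀)` -/
def Ends {G : Type u} [Group G] (S N R : Subgroup G) : Prop :=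
  ∃ (G₀ U : Subgroup G) (v : G), EndIn S G₀ U R v ∧ N ≤ G₀ ∧ normalizer (N : Set G) ≤ normalizer (G₀ : Set G)

/-- TS(z) : the transvection statement for `M = ⟨N(R o) ∩ C(z), X⟩`, `U = ⟨r^M⟩`, `N r = ⟨z^{C(r)}⟩`:
`|U : U ∩ Q| = 2`, `[U, N r] = ⟨z r⟩`. -/
structure TSz {G : Type u} [Group G] {ι : Type*} (V : Subgroup G) (R : ι → Subgroup G) (o : ι) (r z : G) :
    Prop where
  idx : ∀ u ∈ gn (MP V R o z) r, ∀ u' ∈ gn (MP V R o z) r, u ∉ QQ (R o) → u' ∉ QQ (R o) → u * u' ∈ QQ (R o)
  act : ∀ u ∈ gn (MP V R o z) r, ∀ n ∈ gen r z, n * u = u * n ∨ n * u = z * r * (u * n)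
  ne : ∃ u ∈ gn (MP V R o z) r, ∃ n ∈ gen r z, n * u ≠ u * n

section local_

/-- **TS**, purely local form (#15959 helper916, JUNCTION 202 / 972 / 677 / 773): the transvection statement for some `z` -/
def TS0 : Prop :=
  ∀ (G : Type u) [Group G] [Finite G] (S : Sylow 2 G) (P V : Subgroup G) (ι : Type v) (R : ι → Subgroup G) (o : ι)
    (r z : G), Pos S P V R o r z → ∃ z', Pos S P V R o r z' ∧ TSz V R o r z'

/-- **after TS, `|N_r| = 8`**, purely local form (#15507 (1)-(7): helper773, 663, 176) -/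
def Three0 : Prop :=
  ∀ (G : Type u) [Group G] [Finite G] (S : Sylow 2 G) (P V : Subgroup G) (ι : Type v) (R : ι → Subgroup G) (o : ι)
    (r z : G), Pos S P V R o r z → TSz V R o r z → Nat.card (gen r z) = 8 → Ends (S : Subgroup G) V (R o)

/-- **after TS, `|N_r| ≠ 8`**, purely local form (#16429 helper779) -/
def More0 : Prop :=
  ∀ (G : Type u) [Group G] [Finite G] (S : Sylow 2 G) (P V : Subgroup G) (ι : Type v) (R : ι → Subgroup G) (o : ι)
    (r z : G), Pos S P V R o r z → TSz V R o r z → Nat.card (gen r z) ≠ 8 → Ends (S : Subgroup G) V (R o)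

/-- the position `Pos` gives `EndIn` (no hypothesis on mutual pairs) -/
theorem ends_of_pos (hT : TS0.{u, v}) (h3 : Three0.{u, v}) (hm : More0.{u, v}) {G : Type u} [Group G] [Finite G]
    {S : Sylow 2 G} {P V : Subgroup G} {ι : Type v} {R : ι → Subgroup G} {o : ι} {r z : G}
    (p : Pos S P V R o r z) : Ends (S : Subgroup G) V (R o) := by
  obtain ⟨z', p', ht⟩ := hT G S P V ι R o r z p
  by_cases h8 : Nat.card (gen r z') = 8
  · exact h3 G S P V ι R o r z' p' ht h8
  · exact hm G S P V ι R o r z' p' ht h8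

/-- **the END**, strong form (helper124, 384): only `Ctx`, `Full`, `AllIn` and `EndIn` -/
def EndL : Prop :=
  ∀ (G : Type u) [Group G] [Finite G], Ctx G → ∀ (S : Sylow 2 G), Full (S : Subgroup G) → AllIn (S : Subgroup G) →
    ∀ (G₀ U R : Subgroup G) (v : G), EndIn (S : Subgroup G) G₀ U R v → IsKnownSimple' G

/-- **the exit `Pos`** (for every leaf: nothing is assumed about the other mutual pairs) -/
theorem known_of_pos (hT : TS0.{u, v}) (h3 : Three0.{u, v}) (hm : More0.{u, v}) (hE : EndL.{u}) {G : Type u} [Group G]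
    [Finite G] (hG : Ctx G) {S : Sylow 2 G} (hF : Full (S : Subgroup G)) (hI : AllIn (S : Subgroup G))
    {P V : Subgroup G} {ι : Type v} {R : ι → Subgroup G} {o : ι} {r z : G} (p : Pos S P V R o r z) :
    IsKnownSimple' G := by
  obtain ⟨G₀, U, w, h, -, -⟩ := ends_of_pos hT h3 hm p
  exact hE G hG S hF hI G₀ U _ w h

end local_

section props

variable (K : Cls.{u})

/-- **the END** (helper124, 384, ..) -/
def StEnd : Prop :=
  ∀ (G : Type u) [Group G] [Finite G], Ctx G → K G → ∀ (S : Sylow 2 G), Full (S : Subgroup G) →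
    AllIn (S : Subgroup G) → AllSingle (S : Subgroup G) → AllSplit (S : Subgroup G) →
    ∀ (P : Subgroup G) (g : G) (F : Type) [Field F] [Finite F] [CharP F 2] (N : Subgroup G) (M : NatMod F N),
      Same (S : Subgroup G) P g M → ∀ o : Pt M, (S : Subgroup G) ≤ normalizer (pt M o : Set G) →
        Ends (S : Subgroup G) N (pt M o) → IsKnownSimple' G

/-- **SAME4**: the normal form, `q ≥ 4`, gives `EndIn` (helper811 #14148, #16450) -/
def StFour : Prop :=
  ∀ (G : Type u) [Group G] [Finite G], Ctx G → K G → ∀ (S : Sylow 2 G), Full (S : Subgroup G) →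
    AllIn (S : Subgroup G) → AllSingle (S : Subgroup G) → AllSplit (S : Subgroup G) →
    ∀ (P : Subgroup G) (g : G) (F : Type) [Field F] [Finite F] [CharP F 2] (N : Subgroup G) (M : NatMod F N),
      Same (S : Subgroup G) P g M → 4 ≤ Nat.card F →
        ∃ o : Pt M, (S : Subgroup G) ≤ normalizer (pt M o : Set G) ∧ Ends (S : Subgroup G) N (pt M o)

/-- **TS** (#15959 helper916, #16932 + THEOREM U helper677, #17168 helper766): the transvection statement for some `z` -/
def StTS : Prop :=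
  ∀ (G : Type u) [Group G] [Finite G], Ctx G → K G → ∀ (S : Sylow 2 G), Full (S : Subgroup G) →
    AllIn (S : Subgroup G) → AllSingle (S : Subgroup G) → AllSplit (S : Subgroup G) →
    ∀ (P V : Subgroup G) (ι : Type u) (R : ι → Subgroup G) (o : ι) (r z : G), Pos S P V R o r z →
      IsParS (S : Subgroup G) P →
      zl (S : Subgroup G) P = V ⊔ (zc (S : Subgroup G) ⊓ centralizer (P : Set G)) →
        ∃ z', Pos S P V R o r z' ∧ TSz V R o r z'

/-- **after TS, `|N_r| = 8`** (#15507 (1)-(7): helper773, 663, 176) -/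
def StThree : Prop :=
  ∀ (G : Type u) [Group G] [Finite G], Ctx G → K G → ∀ (S : Sylow 2 G), Full (S : Subgroup G) →
    AllIn (S : Subgroup G) → AllSingle (S : Subgroup G) → AllSplit (S : Subgroup G) →
    ∀ (P V : Subgroup G) (ι : Type u) (R : ι → Subgroup G) (o : ι) (r z : G), Pos S P V R o r z →
      IsParS (S : Subgroup G) P →
      zl (S : Subgroup G) P = V ⊔ (zc (S : Subgroup G) ⊓ centralizer (P : Set G)) →
        TSz V R o r z → Nat.card (gen r z) = 8 → Ends (S : Subgroup G) V (R o)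

/-- **after TS, `|N_r| ≠ 8`** (#16429, helper779's plan #17243) -/
def StMore : Prop :=
  ∀ (G : Type u) [Group G] [Finite G], Ctx G → K G → ∀ (S : Sylow 2 G), Full (S : Subgroup G) →
    AllIn (S : Subgroup G) → AllSingle (S : Subgroup G) → AllSplit (S : Subgroup G) →
    ∀ (P V : Subgroup G) (ι : Type u) (R : ι → Subgroup G) (o : ι) (r z : G), Pos S P V R o r z →
      IsParS (S : Subgroup G) P →
      zl (S : Subgroup G) P = V ⊔ (zc (S : Subgroup G) ⊓ centralizer (P : Set G)) →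
        TSz V R o r z → Nat.card (gen r z) ≠ 8 → Ends (S : Subgroup G) V (R o)

end props

variable {K : Cls.{u}}

theorem stEnd_of (h : EndL.{u}) : StEnd K := by
  intro G _ _ hG _ S hF hI _ _ P g F _ _ _ N M _ o _ he
  obtain ⟨G₀, U, w, h', -, -⟩ := he
  exact h G hG S hF hI G₀ U _ w h'

theorem same4_of (h4 : StFour K) (hE : StEnd K) : Same4 K := by
  intro G _ _ hG hK S hF hI hS hs P g F _ _ _ N M h hq
  obtain ⟨o, ho, he⟩ := h4 G hG hK S hF hI hS hs P g F N M h hq
  exact hE G hG hK S hF hI hS hs P g F N M h o ho he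

theorem same2_of (hT : StTS K) (h3 : StThree K) (hm : StMore K) (hE : StEnd K) : Same2 K := by
  intro G _ _ hG hK S hF hI hS hs P g F _ _ _ N M h h2
  obtain ⟨o, r, z, p⟩ := HTwo.Entry.exists_pos hG.char2 h h2
  have hz : zl (S : Subgroup G) P = N ⊔ (zc (S : Subgroup G) ⊓ centralizer (P : Set G)) := by
    rw [HTwo.Entry.cz_eq h hG.char2, h.sup]
  obtain ⟨z', p', ht⟩ := hT G hG hK S hF hI hS hs P N (Pt M) (pt M) o r z p h.mp.star₁ hz
  refine hE G hG hK S hF hI hS hs P g F N M h o p.S_R ?_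
  by_cases h8 : Nat.card (gen r z') = 8
  · exact h3 G hG hK S hF hI hS hs P N (Pt M) (pt M) o r z' p' h.mp.star₁ hz ht h8
  · exact hm G hG hK S hF hI hS hs P N (Pt M) (pt M) o r z' p' h.mp.star₁ hz ht h8

theorem same2_of' (hT : TS0.{u, u}) (h3 : Three0.{u, u}) (hm : More0.{u, u}) (hE : StEnd K) : Same2 K := by
  intro G _ _ hG hK S hF hI hS hs P g F _ _ _ N M h h2
  obtain ⟨o, r, z, p⟩ := HTwo.Entry.exists_pos hG.char2 h h2
  exact hE G hG hK S hF hI hS hs P g F N M h o p.S_R (ends_of_pos hT h3 hm p)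

/-- **Leaf II.0h1 from the five open statements**, the `q = 2` part in the local form. -/
theorem leafH1_of' (h40 : Outputs.St1740.{u}) (h4 : StFour K) (hT : TS0.{u, u}) (h3 : Three0.{u, u})
    (hm : More0.{u, u}) (hE : StEnd K) : LeafH1 K :=
  Leaf.leafH1 h40 (same4_of h4 hE) (same2_of' hT h3 hm hE)

/-- **Leaf II.0h1 from the five open statements.** -/
theorem leafH1_of (h40 : Outputs.St1740.{u}) (h4 : StFour K) (hT : StTS K) (h3 : StThree K) (hm : StMore K)
    (hE : StEnd K) : LeafH1 K :=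
  Leaf.leafH1 h40 (same4_of h4 hE) (same2_of hT h3 hm hE)

end Cfsg.Agent.Omega.HOne.Cut
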