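import Cfsg.Agent.Omega.BTwo.XMod
import Cfsg.Agent.Omega.BTwo.SplitFour
import Cfsg.Agent.Omega.Lie.TorNat
import Cfsg.Agent.Omega.Lie.End.ZeroSep

/-!
# `C_X(V) = Y` and `X ∩ N(R i) = W_i Y T` for `BTS` (II.0h1), `q ≥ 4`

Copies of `BTwo/XMod` (`cen_X_V_four`) and `Lie/End/ZeroXB` (`X_inf_le`, `dat_of`) with `C(W i)` a 2-group instead of `C(X) = 1`.
-/

set_option autoImplicit false
set_option linter.unusedSectionVars false

namespace Cfsg.Agent.Omega.HOne.XV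

open Subgroup Cfsg.Agent.Omega.BTwo Cfsg.Agent.Lib.SL2Mat Cfsg.Agent.Omega.Lie Cfsg.Agent.ParSys
  Cfsg.Agent.Omega.Lie.Zero

universe u v w

open scoped commutatorElement

variable {G : Type u} [Group G] {ι : Type w} {V : Subgroup G} {R : ι → Subgroup G} {i j : ι} {F : Type v} [Field F]
  {v : F → F → G} {w1 w2 : F → G} {t : F → G} {M : Type u} [AddCommGroup M] [Module F M] {P1 P2 : G → M}

section aux

variable (y : YPair V R i j w1 w2 M P1 P2) (c : Coord V R i j v w1 w2)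
include y c

/-- **`C_X(V) = Y`**, assuming that `C_X(V)` is in `Y X'` -/
theorem cen_X_V_aux' [Finite G] [Finite F] [CharP F 2] (b : BT V R)
    (hp : IsPGroup 2 (centralizer (WW V (R i) : Set G)))
    (hc : ∀ x ∈ XX V R, x ∈ centralizer (V : Set G) → ∃ z ∈ YY V R, x * z ∈ ⁅XX V R, XX V R⁆) :
    XX V R ⊓ centralizer (V : Set G) = YY V R := by
  have hYX : YY V R ≤ XX V R := YY_le_XX
  have hn : ((YY V R).subgroupOf (XX V R)).Normal :=
    ⟨fun n hn g => conj_mem_of_normalizer (g := (g : G)) (x := (n : G)) (b.NV_le_NY (b.X_le_NV g.2)) hn⟩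
  let Γ := XX V R ⧸ (YY V R).subgroupOf (XX V R)
  let π : XX V R →* Γ := QuotientGroup.mk' ((YY V R).subgroupOf (XX V R))
  have hπ : Function.Surjective π := QuotientGroup.mk'_surjective _
  have hπ1 : ∀ x : XX V R, π x = 1 ↔ (x : G) ∈ YY V R := fun x => QuotientGroup.eq_one_iff x
  let C : Subgroup (XX V R) := (c.rho b).ker
  have hC : ∀ x : XX V R, x ∈ C ↔ (x : G) ∈ centralizer (V : Set G) := fun x => c.rho_eq_one b
  let W : Subgroup (XX V R) := (WW V (R i)).subgroupOf (XX V R)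
  have hYC : (YY V R).subgroupOf (XX V R) ≤ C := fun x hx => (hC x).2 (YY_le_cen hx)
  have hZ : C.map π ≤ center Γ := by
    rintro _ ⟨x, hx, rfl⟩
    rw [mem_center_iff]
    intro g
    obtain ⟨g, rfl⟩ := hπ g
    rw [← map_mul, ← map_mul]
    have h1 := b.cen_comm_X ((hC x).1 hx) g.2
    have h2 : π (x * g * x⁻¹ * g⁻¹) = 1 := (hπ1 _).2 h1
    rw [map_mul, map_mul, map_mul, map_inv, map_inv, mul_inv_eq_one, mul_inv_eq_iff_eq_mul] at h2
    rw [map_mul, map_mul]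
    exact h2.symm
  have hPZ : ∀ x ∈ W.map π, x ∈ C.map π → x = 1 := by
    rintro _ ⟨w, hw, rfl⟩ ⟨x, hx, e⟩
    rw [hπ1]
    have h1 : π (w⁻¹ * x) = 1 := by rw [map_mul, map_inv, e, inv_mul_cancel]
    have h2 : (w⁻¹ * x : XX V R) ∈ C := hYC ((hπ1 _).1 h1)
    have h3 : w ∈ C := by
      have h4 := mul_mem hx (inv_mem h2)
      have e2 : x * (w⁻¹ * x)⁻¹ = w := by group
      rwa [e2] at h4
    exact UU_le_YY i (mem_inf.2 ⟨hw, (hC w).1 h3⟩)
  have hidx : Odd (W.map π ⊔ C.map π).index := by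
    rw [← Subgroup.map_sup]
    have h1 : W ⊔ C = (upG F).comap (c.rho b) := by
      apply le_antisymm
      · refine sup_le (fun w hw => ?_) fun x hx => ?_
        · obtain ⟨a, ha⟩ := c.exists_up (x := (w : G)) hw
          exact ⟨a, c.rho_eq b ha⟩
        · have h2 : c.rho b x = 1 := hx
          rw [mem_comap, h2]
          exact one_mem _
      · rintro x ⟨a, ha⟩
        have h2 : (⟨w1 a, W_le_X V R i (c.w1_mem a)⟩ : XX V R)⁻¹ * x ∈ C := by
          show c.rho b _ = 1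
          rw [map_mul, map_inv, c.rho_w1, ha, inv_mul_cancel]
        have h3 : (⟨w1 a, W_le_X V R i (c.w1_mem a)⟩ : XX V R) ∈ W := c.w1_mem a
        have h4 := mul_mem ((le_sup_left : W ≤ W ⊔ C) h3) ((le_sup_right : C ≤ W ⊔ C) h2)
        rwa [mul_inv_cancel_left] at h4
    have h2 : (W ⊔ C).index = (upG F).index := by
      rw [h1]
      exact index_comap_of_surjective _ (c.rho_surjective b)
    have h3 : ((W ⊔ C).map π).index = (W ⊔ C).index := by
      rw [index_map, (MonoidHom.range_eq_top.2 hπ), index_top, mul_one]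
      congr 1
      rw [sup_eq_left, QuotientGroup.ker_mk']
      exact hYC.trans le_sup_right
    rw [h3, h2]
    exact odd_index_upG
  have h2 : IsPGroup 2 (C.map π) := by
    refine IsPGroup.map ?_ π
    have h3 := Lie.coord_cen_X_V_isPGroup b c hp
    have h4 : C.map (XX V R).subtype ≤ XX V R ⊓ centralizer (V : Set G) := by
      rintro _ ⟨x, hx, rfl⟩
      exact mem_inf.2 ⟨x.2, (hC x).1 hx⟩
    have h5 := h3.to_le h4
    exact h5.of_injective (C.equivMapOfInjective _ (XX V R).subtype_injective).toMonoidHom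
      (C.equivMapOfInjective _ (XX V R).subtype_injective).injective
  have hcm : C.map π ≤ _root_.commutator Γ := by
    rintro _ ⟨x, hx, rfl⟩
    obtain ⟨z, hz, hxz⟩ := hc x x.2 ((hC x).1 hx)
    have h3 : π x = π (x * ⟨z, hYX hz⟩) := by
      rw [map_mul, (hπ1 ⟨z, hYX hz⟩).2 hz, mul_one]
    rw [h3]
    have h4 : (x * ⟨z, hYX hz⟩ : XX V R) ∈ _root_.commutator (XX V R) := by
      have h5 : (_root_.commutator (XX V R)).map (XX V R).subtype = ⁅XX V R, XX V R⁆ := by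
        rw [_root_.commutator_def, Subgroup.map_commutator, ← MonoidHom.range_eq_map, range_subtype]
      rw [← h5] at hxz
      obtain ⟨q, hq, e⟩ := hxz
      have e2 : q = x * ⟨z, hYX hz⟩ := Subtype.ext e
      rwa [e2] at hq
    have h5 : (_root_.commutator (XX V R)).map π ≤ _root_.commutator Γ := by
      rw [_root_.commutator_def, Subgroup.map_commutator, _root_.commutator_def]
      exact commutator_mono le_top le_top
    exact h5 ⟨_, h4, rfl⟩
  have key := central_eq_bot (C.map π) (W.map π) hZ hPZ hidx h2 hcm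
  apply le_antisymm
  · rintro x hx
    obtain ⟨hxX, hxV⟩ := mem_inf.1 hx
    have h3 : π ⟨x, hxX⟩ ∈ C.map π := ⟨_, (hC ⟨x, hxX⟩).2 hxV, rfl⟩
    rw [key, mem_bot] at h3
    exact (hπ1 ⟨x, hxX⟩).1 h3
  · exact le_inf hYX YY_le_cen

/-- **`C_X(V) = Y`**, `q ≥ 4` -/
theorem cen_X_V_four' [Finite G] [Finite F] [CharP F 2] (b : BT V R)
    (hp : IsPGroup 2 (centralizer (WW V (R i) : Set G))) {a : F} (ha : a ≠ 0) (ha1 : a ≠ 1) :
    XX V R ⊓ centralizer (V : Set G) = YY V R := by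
  refine cen_X_V_aux' y c b hp fun x hx _ => ?_
  -- `X = X' Y`
  have hn : YY V R ≤ normalizer ((⁅XX V R, XX V R⁆ : Subgroup G) : Set G) := by
    refine le_normalizer_of fun k hk z hz => ?_
    have h1 : ⁅XX V R, XX V R⁆ ≤ XX V R := commutator_le.2 fun p hp r hr =>
      mul_mem (mul_mem (mul_mem hp hr) (inv_mem hp)) (inv_mem hr)
    have h2 : ⁅k, z⁆ ∈ ⁅XX V R, XX V R⁆ := commutator_mem_commutator (YY_le_XX hk) (h1 hz)
    have e : k * z * k⁻¹ = ⁅k, z⁆ * z := by rw [commutatorElement_def]; group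
    rw [e]
    exact mul_mem h2 hz
  have half : ∀ {i j : ι} {v : F → F → G} {w1 w2 : F → G}, Coord V R i j v w1 w2 →
      WW V (R i) ≤ ⁅XX V R, XX V R⁆ ⊔ YY V R := by
    intro i j v w1 w2 c w hw
    obtain ⟨t, ht⟩ := c.exists_comm_hh b ha ha1 hw
    have h1 : hh w1 w2 a * w1 t * (hh w1 w2 a)⁻¹ * (w1 t)⁻¹ ∈ ⁅XX V R, XX V R⁆ :=
      commutator_mem_commutator (c.hh_mem_X b a) (W_le_X V R i (c.w1_mem t))
    have h2 := mul_mem ((le_sup_left : _ ≤ ⁅XX V R, XX V R⁆ ⊔ YY V R) h1)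
      ((le_sup_right : _ ≤ ⁅XX V R, XX V R⁆ ⊔ YY V R) (UU_le_YY i ht))
    rwa [mul_inv_cancel_left] at h2
  have h1 : XX V R ≤ ⁅XX V R, XX V R⁆ ⊔ YY V R := by
    conv_lhs => rw [b.X_eq c.ne]
    exact sup_le (half c) (half c.symm)
  have h2 : x ∈ ((⁅XX V R, XX V R⁆ ⊔ YY V R : Subgroup G) : Set G) := h1 hx
  rw [coe_mul_of_right_le_normalizer_left _ _ hn] at h2
  obtain ⟨q, hq, z, hz, e⟩ := h2
  refine ⟨z⁻¹, inv_mem hz, ?_⟩
  have e' : x = q * z := e.symm
  rw [e', mul_inv_cancel_right]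
  exact hq

end aux

/-- **`C_X(V) = Y`** -/
theorem cen_X_V [Finite G] [Finite F] [CharP F 2] (hF : ∃ a : F, a ≠ 0 ∧ a ≠ 1) (b : BTS V R)
    (c : Coord V R i j v w1 w2) : XX V R ⊓ centralizer (V : Set G) = YY V R := by
  obtain ⟨M, _, _, P1, P2, y⟩ := c.exists_yPair b.toBT
  obtain ⟨a, ha, ha1⟩ := hF
  exact cen_X_V_four' y c b.toBT (b.cen_W_isPGroup i) ha ha1

variable {B U : Subgroup G}

/-- **`X ∩ N(R i) ≤ W_i Y T`** -/
theorem X_inf_le [Finite G] [Finite F] [CharP F 2] (hF : ∃ a : F, a ≠ 0 ∧ a ≠ 1) (b : BTS V R) (c : Coord V R i j v w1 w2)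
    (τ : TorD V R i j v t) : XX V R ⊓ normalizer (R i : Set G) ≤ WW V (R i) ⊔ YY V R ⊔ τ.grp := by
  obtain ⟨M, _, _, P1, P2, y⟩ := c.exists_yPair b.toBT
  intro x hx
  obtain ⟨hxX, hxN⟩ := mem_inf.1 hx
  obtain ⟨A, hA⟩ := c.exists_actV b.toBT hxX
  have h10 : ent A 1 0 = 0 := by
    have h1 := BTwo.conj_mem_of_normalizer hxN ((c.mem_R1 _).2 ⟨1, rfl⟩)
    rw [hA 1 0] at h1
    obtain ⟨r, hr⟩ := (c.mem_R1 _).1 h1
    have h2 := (c.v_inj hr).2
    rw [mul_one, mul_zero, add_zero] at h2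
    exact h2.symm
  have hdet := det_eq A
  rw [h10] at hdet
  have hdet' : ent A 0 0 * ent A 1 1 = 1 := by linear_combination hdet
  set a := ent A 0 0 with ha
  have ha0 : a ≠ 0 := left_ne_zero_of_mul_eq_one hdet'
  have h11 : ent A 1 1 = a⁻¹ := eq_inv_of_mul_eq_one_right hdet'
  set s := ent A 0 1 with hs
  -- `w1 (s a) t(a)` has the same action
  have h1 : ∀ p r, (w1 (s * a) * t a) * v p r * (w1 (s * a) * t a)⁻¹ = v (a * p + s * r) (a⁻¹ * r) := by
    intro p r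
    have e : (w1 (s * a) * t a) * v p r * (w1 (s * a) * t a)⁻¹ =
        w1 (s * a) * (t a * v p r * (t a)⁻¹) * (w1 (s * a))⁻¹ := by group
    rw [e, τ.act a p r ha0, c.w1_act]
    congr 1
    field_simp
  have h2 : ∀ p r, x * v p r * x⁻¹ = v (a * p + s * r) (a⁻¹ * r) := by
    intro p r
    rw [hA p r, h10, h11, zero_mul, zero_add]
  have h3 : (w1 (s * a) * t a)⁻¹ * x ∈ centralizer (V : Set G) := by
    rw [mem_centralizer_iff]
    intro z hz
    obtain ⟨p, r, rfl⟩ := (c.mem_V z).1 hz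
    have h4 : x * v p r * x⁻¹ = (w1 (s * a) * t a) * v p r * (w1 (s * a) * t a)⁻¹ := by rw [h1, h2]
    have h5 : x * v p r = (w1 (s * a) * t a) * v p r * (w1 (s * a) * t a)⁻¹ * x := by
      rw [← h4]; group
    rw [mul_assoc ((w1 (s * a) * t a)⁻¹), h5]
    group
  have h4 : (w1 (s * a) * t a)⁻¹ * x ∈ XX V R :=
    mul_mem (inv_mem (mul_mem (W_le_X V R i (c.w1_mem _)) (τ.memX a ha0))) hxX
  have h5 : (w1 (s * a) * t a)⁻¹ * x ∈ YY V R := by
    rw [← cen_X_V hF b c]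
    exact mem_inf.2 ⟨h4, h3⟩
  have e : x = w1 (s * a) * t a * ((w1 (s * a) * t a)⁻¹ * x) := by group
  rw [e]
  exact mul_mem (mul_mem ((le_sup_left.trans le_sup_left : WW V (R i) ≤ _) (c.w1_mem _))
    ((le_sup_right : τ.grp ≤ _) ⟨a, ha0, rfl⟩)) ((le_sup_right.trans le_sup_left : YY V R ≤ WW V (R i) ⊔ YY V R ⊔ τ.grp) h5)

/-- **the data at the node `0`** -/
theorem dat_of [Finite G] [Finite F] [CharP F 2] (hF : ∃ a : F, a ≠ 0 ∧ a ≠ 1) (b : BTS V R) (c : Coord V R i j v w1 w2)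
    (τ : TorD V R i j v t) (BV : B ≤ normalizer (V : Set G)) (BR : B ≤ normalizer (R i : Set G)) (UB : U ≤ B)
    (WU : WW V (R i) ≤ U) (YU : YY V R ≤ U) (TB : τ.grp ≤ B) (hU : IsPGroup 2 U)
    (hUR : U ≤ centralizer (R i : Set G)) : Dat V R i B U where
  BV := BV
  BR := BR
  XB := (X_inf_le hF b c τ).trans (sup_le (sup_le (WU.trans UB) (YU.trans UB)) TB)
  UB := UB
  WU := WU
  UC := by
    intro u hu
    obtain ⟨n, hn⟩ := hU ⟨u, hu⟩
    have hn' : u ^ 2 ^ n = 1 := by simpa using congrArg Subtype.val hn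
    exact two_elt c b.toBT (BV (UB hu)) (fun x hx => (mem_centralizer_iff.1 (hUR hu) x hx).symm) (n := n)
      (by rw [hn']; exact one_mem _)


end Cfsg.Agent.Omega.HOne.XV
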