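import Cfsg.Agent.Omega.Lie.End.Real2
import Cfsg.Agent.Omega.HOne.XV

/-!
# II.0h1, split: `RealSys` from the enumeration `RS` of the moved components (BTS version)

`datS` : the data at the node 0; `realSysS` : `RealSys`; `UG_le` : `U ≤ S₁`; `PG_le_NR` : the nodes lie in `N(R i)`.
-/

set_option autoImplicit false
set_option linter.unusedSectionVars false

namespace Cfsg.Agent.Omega.HOne.RealOf

open Subgroup Cfsg Cfsg.Agent.ParSys Cfsg.Agent.Omega.BTwo Cfsg.Agent.Omega.Lie Cfsg.Agent.Omega.Lie.Quot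
open Cfsg.Agent.Omega.IIa4 Cfsg.Agent.Omega.Lie.End.OfLay Cfsg.Agent.Omega.Lie.End

universe u v w

variable {G : Type u} [Group G] {ι : Type w} {V : Subgroup G} {R : ι → Subgroup G} {F : Type v} [Field F] {i j : ι}
  {v : F → F → G} {w1 w2 : F → G} {t : F → G}

variable {T S : Subgroup (HQ (R i))} {α : Type} {K : α → Subgroup (HQ (R i))} {J : α → Type}
  {P : ∀ a, J a → Subgroup (K a)} {m : ∀ a, J a → J a → ℕ} (D : RS V R i j T S K J P m)
include D

/-- **the data at the node 0** -/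
theorem datS [Finite G] [Finite F] [CharP F 2] [Finite α] (hF : ∃ a : F, a ≠ 0 ∧ a ≠ 1) (b : BTS V R)
    (c : Coord V R i j v w1 w2) (τ : TorD V R i j v t) (hij : i ≠ j) (hT : T = TT τ)
    (hNV : ∀ (g : G) (hg : g ∈ normalizer (R i : Set G)),
      pr (R i) ⟨g, hg⟩ ∈ normalizer (AA V R i j : Set (HQ (R i))) → g ∈ normalizer (V : Set G)) :
    Zero.Dat V R i (BG K T S) (UG K S) := by
  refine XV.dat_of hF b c τ (D.BG_le hNV) up_le D.preG.U_le ((b.W_le_Q i).trans QQ_le_up) (D.Y_le_UG b.toBT hij) ?_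
    D.preG.isP (D.UG_le_cen b.toBT)
  have h1 : τ.grp ≤ normalizer (R i : Set G) := by
    rintro _ ⟨a, ha, rfl⟩
    exact τ.normR ha
  refine (le_up_im h1).trans (up_mono ?_)
  rw [hT]
  exact le_sup_right

/-- **`RealSys`** -/
theorem realSysS [Finite G] [Finite F] [CharP F 2] [Finite α] [Nonempty α] (hF : ∃ a : F, a ≠ 0 ∧ a ≠ 1)
    (b : BTS V R) (c : Coord V R i j v w1 w2) (τ : TorD V R i j v t) (hij : i ≠ j) (hT : T = TT τ)
    (hNV : ∀ (g : G) (hg : g ∈ normalizer (R i : Set G)),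
      pr (R i) ⟨g, hg⟩ ∈ normalizer (AA V R i j : Set (HQ (R i))) → g ∈ normalizer (V : Set G)) :
    RealSys V R i (IIa4.Moved.EE V R i j) (BG K T S) (UG K S) (PG K T S P) (mm m) := by
  have hd := datS D hF b c τ hij hT hNV
  refine ⟨hd, D.preG, D.E_le b.toBT hij, ?_, D.prod b.toBT c hd, D.conn b.toBT hij⟩
  refine D.le_E b.toBT hij ?_
  rw [hT]
  exact D.up_T_le τ

theorem PG_le_NR (x : Σ a, J a) : PG K T S P x ≤ normalizer (R i : Set G) := up_le

omit D in
/-- the preimage of `im S₁` lies in `S₁` -/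
theorem up_SS_le [Finite G] {S₁ : Sylow 2 G} (hR : (S₁ : Subgroup G) ≤ normalizer (R i : Set G)) :
    up (R i) (SS R i S₁) ≤ (S₁ : Subgroup G) := by
  intro g hg
  obtain ⟨a, ha, -, h1⟩ := mem_up_im.1 hg
  have e : g = a * (a⁻¹ * g) := by group
  rw [e]
  exact mul_mem (mem_inf.1 ha).1 (QQ_le_sylow S₁ hR h1)

/-- `U ≤ S₁` -/
theorem UG_le [Finite G] {S₁ : Sylow 2 G} (hR : (S₁ : Subgroup G) ≤ normalizer (R i : Set G)) (hS : S = SS R i S₁) :
    UG K S ≤ (S₁ : Subgroup G) := by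
  refine (up_mono D.UE_le_S).trans ?_
  rw [hS]
  exact up_SS_le hR

end Cfsg.Agent.Omega.HOne.RealOf
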