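import Mathlib

/-!
# II.0h1, `q = 2`, case (beta): the transvection statement (#15959), the setting (H)

`r = r_1`, `t = r_2`, `V = {1, r, t, r t}`; `Q s`, `N s` are equivariant families of subgroups of `G`
(`Q s = O_2(C(s))`, `N s = ⟨z^g : r^g = s⟩`), `ZC Q s = C_G(Q s) = Z(Q s)` for the points `s`;
`Om M r = r^M` the points, `UU M r = ⟨Om⟩ = U`, `Adj M r t s s'` : `s, s'` are two different points of
a line (the pair is `M`-conjugate to `(r, t)`); the line is `{1, s, s', s s'}`.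

`TvH` : the hypotheses at the base pair `(r, t)`.  Below everything is transported to all points / pairs.
-/

set_option autoImplicit false
set_option linter.unusedSectionVars false

namespace Cfsg.Agent.Omega.HOne.TvDef

open Subgroup

variable {G : Type*} [Group G]

/-- `C_G(Q s)` -/
abbrev ZC (Q : G → Subgroup G) (s : G) : Subgroup G := Subgroup.centralizer (Q s : Set G)

/-- the points `r^M` -/
def Om (M : Subgroup G) (r : G) : Set G := {s | ∃ m ∈ M, m * r * m⁻¹ = s}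

/-- `U = ⟨r^M⟩` -/
def UU (M : Subgroup G) (r : G) : Subgroup G := Subgroup.closure (Om M r)

/-- two points of a line -/
def Adj (M : Subgroup G) (r t s s' : G) : Prop := ∃ m ∈ M, m * r * m⁻¹ = s ∧ m * t * m⁻¹ = s'

/-- the hypotheses (H), without (3) -/
structure TvH0 (M : Subgroup G) (r t : G) (Q N : G → Subgroup G) : Prop where
  Qc : ∀ g s x, x ∈ Q s → g * x * g⁻¹ ∈ Q (g * s * g⁻¹)
  Nc : ∀ g s x, x ∈ N s → g * x * g⁻¹ ∈ N (g * s * g⁻¹)
  r_sq : r * r = 1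
  r_ne : r ≠ 1
  t_ne : t ≠ 1
  t_ne_r : t ≠ r
  Q_le : Q r ≤ M
  r_mem : r ∈ Q r
  t_mem : t ∈ Q r
  Q_comm : ∀ x ∈ Q r, ∀ y ∈ Q r, x * y * x⁻¹ * y⁻¹ = 1 ∨ x * y * x⁻¹ * y⁻¹ = r
  Q_sq : ∀ x ∈ Q r, x * x = 1 ∨ x * x = r
  ZC_le : ZC Q r ≤ Q r
  N_le : N r ≤ ZC Q r
  q12 : ∃ q ∈ Q r, q * t * q⁻¹ = r * t
  q21 : ∃ q ∈ Q t, q * r * q⁻¹ = r * t
  /-- `M` is generated by `M ∩ C(r)`, `Q r`, `Q t` -/
  gen : ∀ T : Subgroup G, (∀ m ∈ M, m * r = r * m → m ∈ T) → Q r ≤ T → Q t ≤ T → M ≤ T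
  Qt_le : Q t ≤ M
  /-- `U` is abelian -/
  ab : ∀ m ∈ M, m * r * m⁻¹ * r = r * (m * r * m⁻¹)
  /-- `C_U(N r) ≤ Q r` -/
  UN : ∀ u ∈ UU M r, (∀ n ∈ N r, u * n = n * u) → u ∈ Q r
  /-- `Z r ∩ Q t = R × C_V` -/
  ZQ : ∀ b ∈ ZC Q r, b ∈ Q t → b ∈ ZC Q t ∨ r * b ∈ ZC Q t
  /-- 2-reduced -/
  red : ∀ u ∈ UU M r, (∀ n ∈ N r, u * n * u⁻¹ * n⁻¹ = 1 ∨ u * n * u⁻¹ * n⁻¹ = r) →
    ∀ n ∈ N r, u * n = n * u
  /-- case (beta) -/
  beta : ∃ u ∈ UU M r, u ∉ Q r

/-- the hypotheses (H) -/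
structure TvH (M : Subgroup G) (r t : G) (Q N : G → Subgroup G) : Prop extends TvH0 M r t Q N where
  /-- no parallels, (3) -/
  noPar : ∀ a b, Adj M r t r a → Adj M r t r b → a * b ∈ ZC Q r → b = a ∨ b = r * a

/-! ### the joints -/

/-- the line `⟨s,b⟩` is opposite to the line `⟨s,a⟩` : `N a` moves `b` -/
def Opp (M : Subgroup G) (r t : G) (N : G → Subgroup G) (s a b : G) : Prop :=
  Adj M r t s a ∧ Adj M r t s b ∧ ∃ n ∈ N a, n * b * n⁻¹ ≠ b

/-- JOINT (4), (5): `n b n⁻¹ = a b c`, `c = c(L, L') = c(L', L)` in `C_L ∩ C_L' ∩ C_third`, `c ≠ 1` -/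
def JOpp (M : Subgroup G) (r t : G) (Q N : G → Subgroup G) : Prop :=
  ∀ s a b, Opp M r t N s a b → Opp M r t N s b a ∧ Opp M r t N s (s * a) b ∧ Opp M r t N s a (s * b) ∧
    b ≠ a ∧ b ≠ s * a ∧
    ∃ c, c ≠ 1 ∧ c ∈ UU M r ∧ c ∈ ZC Q s ∧ c ∈ ZC Q a ∧ c ∈ ZC Q b ∧ c ∈ ZC Q (a * b * c) ∧
      Adj M r t s (a * b * c) ∧
      (∀ n ∈ N a, n * b * n⁻¹ = b ∨ n * b * n⁻¹ = a * b * c) ∧
      (∀ n ∈ N b, n * a * n⁻¹ = a ∨ n * a * n⁻¹ = a * b * c)

/-- JOINT (6): different lines on `s` which are not opposite span a totally collinear plane -/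
def JNon (M : Subgroup G) (r t : G) (N : G → Subgroup G) : Prop :=
  ∀ s a b, Adj M r t s a → Adj M r t s b → b ≠ a → b ≠ s * a → ¬ Opp M r t N s a b →
    Adj M r t s (a * b) ∧ Adj M r t a b

/-- all pairs of different lines on a point are opposite -/
def AllOpp (M : Subgroup G) (r t : G) (N : G → Subgroup G) : Prop :=
  ∀ s a b, Adj M r t s a → Adj M r t s b → b ≠ a → b ≠ s * a → Opp M r t N s a b

/-- `e = 1` : `N a` acts on the lines on `s` as a group of order 2 -/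
def E1 (M : Subgroup G) (r t : G) (N : G → Subgroup G) : Prop :=
  ∀ s a b c, Opp M r t N s a b → Opp M r t N s a c → ∀ n ∈ N a, (n * b = b * n ↔ n * c = c * n)

/-- JOINT (7) -/
def JDich (M : Subgroup G) (r t : G) (N : G → Subgroup G) : Prop := AllOpp M r t N ∨ E1 M r t N

/-- JOINT (11): `AllOpp` implies that there are exactly three lines on a point (so `E1`) -/
def JEleven (M : Subgroup G) (r t : G) (Q N : G → Subgroup G) : Prop :=
  AllOpp M r t N → ∀ s a b c, Opp M r t N s a b → Adj M r t s c →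
    c = a ∨ c = s * a ∨ c = b ∨ c = s * b ∨ a * b * c ∈ ZC Q s

/-- JOINT (8): the constant `c_0` -/
def JConst (M : Subgroup G) (r t : G) (Q N : G → Subgroup G) (c : G) : Prop :=
  c ≠ 1 ∧ c ∈ UU M r ∧ (∀ s ∈ Om M r, c ∈ ZC Q s) ∧ (∀ m ∈ M, m * c = c * m) ∧
    ∀ s a b, Opp M r t N s a b → Adj M r t s (a * b * c) ∧
      ∀ n ∈ N a, n * b * n⁻¹ = b ∨ n * b * n⁻¹ = a * b * c

/-- CONCLUSION (14) for the constant `c` : `[U, N r] ≤ ⟨r c⟩`, `|U : U ∩ Q r| = 2`, `|N r : C_{N r}(U)| = 2` -/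
def JEnd (M : Subgroup G) (r : G) (Q N : G → Subgroup G) (c : G) : Prop :=
  (∀ u ∈ UU M r, ∀ n ∈ N r, u * n * u⁻¹ * n⁻¹ = 1 ∨ u * n * u⁻¹ * n⁻¹ = r * c) ∧
  (∀ u ∈ UU M r, ∀ v ∈ UU M r, u ∉ Q r → v ∉ Q r → u * v ∈ Q r) ∧
  (∀ m ∈ N r, ∀ n ∈ N r, (∃ u ∈ UU M r, u * m ≠ m * u) → (∃ u ∈ UU M r, u * n ≠ n * u) →
    ∀ u ∈ UU M r, u * (m * n) = m * n * u)

/-- H-SIDE of (13) (Baer-Suzuki): two transvections of `NN` with the same axis `N0` and different centres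
`c, z` fixed by the Sylow group `S` do not exist -/
def HSide (S H NN : Subgroup G) : Prop :=
  ∀ (N0 : Subgroup G) (n1 u0 u1 c z : G), N0 ≤ NN → n1 ∈ NN → (∀ n ∈ NN, n ∈ N0 ∨ n1 * n ∈ N0) →
    u0 ∈ H → u1 ∈ H → (∀ n ∈ N0, u0 * n = n * u0) → (∀ n ∈ N0, u1 * n = n * u1) →
    u0 * n1 * u0⁻¹ = n1 * c → u1 * n1 * u1⁻¹ = n1 * z → c ∈ N0 → z ∈ N0 →
    (∀ x ∈ S, x * c = c * x) → (∀ x ∈ S, x * z = z * x) → c ≠ 1 → z ≠ 1 → z ≠ c → False

/-- the hypotheses on the Sylow group `S` (only used in (13)) -/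
structure TvS (M S : Subgroup G) (r t : G) (N : G → Subgroup G) : Prop where
  S_le : S ≤ M
  S_p : IsPGroup 2 S
  S_r : ∀ x ∈ S, x * r = r * x
  S_t : ∀ x ∈ S, x * t * x⁻¹ = t ∨ x * t * x⁻¹ = r * t
  N_S : N t ≤ S
  hside : HSide S (Subgroup.centralizer {r}) (N r)

section basic

variable {M : Subgroup G} {r t : G} {Q N : G → Subgroup G}

theorem Om_base : r ∈ Om M r := ⟨1, M.one_mem, by simp⟩

theorem Adj_base : Adj M r t r t := ⟨1, M.one_mem, by simp, by simp⟩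

theorem Adj.left {s s' : G} (h : Adj M r t s s') : s ∈ Om M r := by
  obtain ⟨m, hm, h1, -⟩ := h
  exact ⟨m, hm, h1⟩

theorem Om_conj {m s : G} (hm : m ∈ M) (hs : s ∈ Om M r) : m * s * m⁻¹ ∈ Om M r := by
  obtain ⟨x, hx, rfl⟩ := hs
  exact ⟨m * x, M.mul_mem hm hx, by group⟩

theorem Adj.conj {m s s' : G} (hm : m ∈ M) (h : Adj M r t s s') :
    Adj M r t (m * s * m⁻¹) (m * s' * m⁻¹) := by
  obtain ⟨x, hx, rfl, rfl⟩ := h
  exact ⟨m * x, M.mul_mem hm hx, by group, by group⟩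

theorem Om_le_UU {s : G} (hs : s ∈ Om M r) : s ∈ UU M r := Subgroup.subset_closure hs

theorem UU_conj {m u : G} (hm : m ∈ M) (hu : u ∈ UU M r) : m * u * m⁻¹ ∈ UU M r := by
  unfold UU at hu ⊢
  induction hu using Subgroup.closure_induction with
  | mem x hx => exact Subgroup.subset_closure (Om_conj hm hx)
  | one => simp
  | mul x y _ _ hx hy =>
    have : m * (x * y) * m⁻¹ = (m * x * m⁻¹) * (m * y * m⁻¹) := by group
    rw [this]; exact mul_mem hx hy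
  | inv x _ hx =>
    have : m * x⁻¹ * m⁻¹ = (m * x * m⁻¹)⁻¹ := by group
    rw [this]; exact inv_mem hx

theorem UU_comm_mem {m u : G} (hm : m ∈ M) (hu : u ∈ UU M r) : m * u * m⁻¹ * u⁻¹ ∈ UU M r :=
  mul_mem (UU_conj hm hu) (inv_mem hu)

theorem UU_comm_mem' {m u : G} (hm : m ∈ M) (hu : u ∈ UU M r) : u * m * u⁻¹ * m⁻¹ ∈ UU M r := by
  have : u * m * u⁻¹ * m⁻¹ = u * (m * u⁻¹ * m⁻¹) := by group
  rw [this]; exact mul_mem hu (UU_conj hm (inv_mem hu))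

end basic

namespace TvH0

variable {M : Subgroup G} {r t : G} {Q N : G → Subgroup G} (h : TvH0 M r t Q N)
include h

/-! ### the families -/

theorem Q_conj {g s x : G} : g * x * g⁻¹ ∈ Q (g * s * g⁻¹) ↔ x ∈ Q s := by
  refine ⟨fun hx => ?_, h.Qc g s x⟩
  have := h.Qc g⁻¹ _ _ hx
  simpa [mul_assoc] using this

theorem N_conj {g s x : G} : g * x * g⁻¹ ∈ N (g * s * g⁻¹) ↔ x ∈ N s := by
  refine ⟨fun hx => ?_, h.Nc g s x⟩
  have := h.Nc g⁻¹ _ _ hx
  simpa [mul_assoc] using this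

theorem ZC_conj {g s x : G} : g * x * g⁻¹ ∈ ZC Q (g * s * g⁻¹) ↔ x ∈ ZC Q s := by
  have key : ∀ g s x, x ∈ ZC Q s → g * x * g⁻¹ ∈ ZC Q (g * s * g⁻¹) := by
    intro g s x hx
    rw [Subgroup.mem_centralizer_iff] at hx ⊢
    intro q hq
    have h1 : g⁻¹ * q * g ∈ Q s := by
      have := h.Qc g⁻¹ _ _ hq
      simpa [mul_assoc] using this
    have h2 := hx _ h1
    calc q * (g * x * g⁻¹) = g * ((g⁻¹ * q * g) * x) * g⁻¹ := by group
      _ = g * (x * (g⁻¹ * q * g)) * g⁻¹ := by rw [h2]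
      _ = _ := by group
  refine ⟨fun hx => ?_, key g s x⟩
  have := key g⁻¹ _ _ hx
  simpa [mul_assoc] using this

/-- elements commuting with `s` normalise `Q s` -/
theorem Q_fix {g s x : G} (hg : g * s = s * g) : g * x * g⁻¹ ∈ Q s ↔ x ∈ Q s := by
  have e : g * s * g⁻¹ = s := by rw [hg]; group
  have := h.Q_conj (g := g) (s := s) (x := x)
  rwa [e] at this

theorem N_fix {g s x : G} (hg : g * s = s * g) : g * x * g⁻¹ ∈ N s ↔ x ∈ N s := by
  have e : g * s * g⁻¹ = s := by rw [hg]; group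
  have := h.N_conj (g := g) (s := s) (x := x)
  rwa [e] at this

theorem ZC_fix {g s x : G} (hg : g * s = s * g) : g * x * g⁻¹ ∈ ZC Q s ↔ x ∈ ZC Q s := by
  have e : g * s * g⁻¹ = s := by rw [hg]; group
  have := h.ZC_conj (g := g) (s := s) (x := x)
  rwa [e] at this

/-! ### U -/

theorem Om_comm {s s' : G} (hs : s ∈ Om M r) (hs' : s' ∈ Om M r) : s * s' = s' * s := by
  obtain ⟨m, hm, rfl⟩ := hs
  obtain ⟨x, hx, rfl⟩ := hs'
  have h1 := h.ab (x⁻¹ * m) (M.mul_mem (M.inv_mem hx) hm)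
  calc m * r * m⁻¹ * (x * r * x⁻¹) = x * ((x⁻¹ * m) * r * (x⁻¹ * m)⁻¹ * r) * x⁻¹ := by group
    _ = x * (r * ((x⁻¹ * m) * r * (x⁻¹ * m)⁻¹)) * x⁻¹ := by rw [h1]
    _ = _ := by group

theorem Om_sq {s : G} (hs : s ∈ Om M r) : s * s = 1 := by
  obtain ⟨m, hm, rfl⟩ := hs
  calc m * r * m⁻¹ * (m * r * m⁻¹) = m * (r * r) * m⁻¹ := by group
    _ = 1 := by rw [h.r_sq]; group

theorem Om_ne {s : G} (hs : s ∈ Om M r) : s ≠ 1 := by
  obtain ⟨m, hm, rfl⟩ := hs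
  intro e
  apply h.r_ne
  have : r = m⁻¹ * (m * r * m⁻¹) * m := by group
  rw [this, e]; group

theorem UU_comm {u v : G} (hu : u ∈ UU M r) (hv : v ∈ UU M r) : u * v = v * u := by
  have : UU M r ≤ Subgroup.centralizer (UU M r : Set G) := by
    unfold UU
    rw [Subgroup.closure_le]
    intro a ha
    rw [SetLike.mem_coe, Subgroup.mem_centralizer_iff]
    intro b hb
    induction hb using Subgroup.closure_induction with
    | mem x hx => exact h.Om_comm hx ha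
    | one => simp
    | mul x y _ _ hx hy => rw [mul_assoc, hy, ← mul_assoc, hx, mul_assoc]
    | inv x _ hx =>
      have : x⁻¹ * (x * a) * x⁻¹ = x⁻¹ * (a * x) * x⁻¹ := by rw [hx]
      have h2 : a * x⁻¹ = x⁻¹ * a := by simpa [mul_assoc] using this
      exact h2.symm
  exact (Subgroup.mem_centralizer_iff.1 (this hv) u hu)

theorem UU_sq {u : G} (hu : u ∈ UU M r) : u * u = 1 := by
  have hu' := hu
  unfold UU at hu'
  induction hu' using Subgroup.closure_induction with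
  | mem x hx => exact h.Om_sq hx
  | one => simp
  | mul x y hx' hy' hx hy =>
    have hx2 := hx hx'
    have hy2 := hy hy'
    have hc := h.UU_comm hx' hy'
    calc x * y * (x * y) = x * (y * x) * y := by group
      _ = x * (x * y) * y := by rw [hc]
      _ = (x * x) * (y * y) := by group
      _ = 1 := by rw [hx2, hy2, one_mul]
  | inv x hx' hx =>
    have := hx hx'
    calc x⁻¹ * x⁻¹ = (x * x)⁻¹ := by group
      _ = 1 := by rw [this, inv_one]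

theorem UU_inv {u : G} (hu : u ∈ UU M r) : u⁻¹ = u := inv_eq_of_mul_eq_one_left (h.UU_sq hu)

/-! ### everything at a point `s` -/

theorem Q_le_M {s : G} (hs : s ∈ Om M r) : Q s ≤ M := by
  obtain ⟨m, hm, rfl⟩ := hs
  intro x hx
  have h1 : m⁻¹ * x * m ∈ Q r := by
    have := h.Qc m⁻¹ _ _ hx
    simpa [mul_assoc] using this
  have : x = m * (m⁻¹ * x * m) * m⁻¹ := by group
  rw [this]
  exact M.mul_mem (M.mul_mem hm (h.Q_le h1)) (M.inv_mem hm)

theorem mem_Q {s : G} (hs : s ∈ Om M r) : s ∈ Q s := by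
  obtain ⟨m, hm, rfl⟩ := hs
  exact h.Qc m _ _ h.r_mem

theorem comm_Q {s : G} (hs : s ∈ Om M r) {x y : G} (hx : x ∈ Q s) (hy : y ∈ Q s) :
    x * y * x⁻¹ * y⁻¹ = 1 ∨ x * y * x⁻¹ * y⁻¹ = s := by
  obtain ⟨m, hm, rfl⟩ := hs
  have hx1 : m⁻¹ * x * m ∈ Q r := by
    have := h.Qc m⁻¹ _ _ hx
    simpa [mul_assoc] using this
  have hy1 : m⁻¹ * y * m ∈ Q r := by
    have := h.Qc m⁻¹ _ _ hy
    simpa [mul_assoc] using this
  have e : x * y * x⁻¹ * y⁻¹ = m * ((m⁻¹ * x * m) * (m⁻¹ * y * m) * (m⁻¹ * x * m)⁻¹ *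
    (m⁻¹ * y * m)⁻¹) * m⁻¹ := by group
  rcases h.Q_comm _ hx1 _ hy1 with h1 | h1
  · left; rw [e, h1]; group
  · right; rw [e, h1]

theorem sq_Q {s : G} (hs : s ∈ Om M r) {x : G} (hx : x ∈ Q s) : x * x = 1 ∨ x * x = s := by
  obtain ⟨m, hm, rfl⟩ := hs
  have hx1 : m⁻¹ * x * m ∈ Q r := by
    have := h.Qc m⁻¹ _ _ hx
    simpa [mul_assoc] using this
  have e : x * x = m * ((m⁻¹ * x * m) * (m⁻¹ * x * m)) * m⁻¹ := by group
  rcases h.Q_sq _ hx1 with h1 | h1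
  · left; rw [e, h1]; group
  · right; rw [e, h1]

/-- `s` commutes with `Q s` -/
theorem mem_ZC {s : G} (hs : s ∈ Om M r) : s ∈ ZC Q s := by
  rw [Subgroup.mem_centralizer_iff]
  intro x hx
  -- [x,s] ∈ {1,s}
  rcases h.comm_Q hs hx (h.mem_Q hs) with h1 | h1
  · have : x * s = s * x := by
      have h2 : x * s * x⁻¹ * s⁻¹ * (s * x) = 1 * (s * x) := by rw [h1]
      simpa [mul_assoc] using h2
    exact this
  · exfalso
    -- x s x⁻¹ = s * s = 1
    have h2 : x * s * x⁻¹ = s * s := by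
      have h3 : x * s * x⁻¹ * s⁻¹ * s = s * s := by rw [h1]
      simpa [mul_assoc] using h3
    rw [h.Om_sq hs] at h2
    apply h.Om_ne hs
    have : s = x⁻¹ * (x * s * x⁻¹) * x := by group
    rw [this, h2]; group

theorem ZC_le_Q {s : G} (hs : s ∈ Om M r) : ZC Q s ≤ Q s := by
  obtain ⟨m, hm, rfl⟩ := hs
  intro x hx
  have h1 : m⁻¹ * x * m ∈ ZC Q r := by
    have := (h.ZC_conj (g := m⁻¹) (s := m * r * m⁻¹) (x := x)).2 hx
    simpa [mul_assoc] using this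
  have := h.Qc m _ _ (h.ZC_le h1)
  simpa [mul_assoc] using this

theorem N_le_ZC {s : G} (hs : s ∈ Om M r) : N s ≤ ZC Q s := by
  obtain ⟨m, hm, rfl⟩ := hs
  intro x hx
  have h1 : m⁻¹ * x * m ∈ N r := by
    have := h.Nc m⁻¹ _ _ hx
    simpa [mul_assoc] using this
  have := (h.ZC_conj (g := m)).2 (h.N_le h1)
  simpa [mul_assoc] using this

theorem N_le_Q {s : G} (hs : s ∈ Om M r) : N s ≤ Q s := (h.N_le_ZC hs).trans (h.ZC_le_Q hs)

theorem N_le_M {s : G} (hs : s ∈ Om M r) : N s ≤ M := (h.N_le_Q hs).trans (h.Q_le_M hs)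

theorem ZC_comm {s : G} {z q : G} (hz : z ∈ ZC Q s) (hq : q ∈ Q s) : z * q = q * z :=
  (Subgroup.mem_centralizer_iff.1 hz q hq).symm

theorem UN_at {s : G} (hs : s ∈ Om M r) {u : G} (hu : u ∈ UU M r) (hc : ∀ n ∈ N s, u * n = n * u) :
    u ∈ Q s := by
  obtain ⟨m, hm, rfl⟩ := hs
  have h1 : m⁻¹ * u * m ∈ UU M r := by
    have := UU_conj (r := r) (M.inv_mem hm) hu
    simpa using this
  have h2 := h.UN _ h1 (by
    intro n hn
    have h3 := hc _ (h.Nc m _ _ hn)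
    calc m⁻¹ * u * m * n = m⁻¹ * (u * (m * n * m⁻¹)) * m := by group
      _ = m⁻¹ * ((m * n * m⁻¹) * u) * m := by rw [h3]
      _ = _ := by group)
  have := h.Qc m _ _ h2
  simpa [mul_assoc] using this

/-- `I_s = U ∩ Q s = C_U(N s)` -/
theorem mem_Q_iff {s : G} (hs : s ∈ Om M r) {u : G} (hu : u ∈ UU M r) :
    u ∈ Q s ↔ ∀ n ∈ N s, u * n = n * u :=
  ⟨fun h1 _ hn => (h.ZC_comm (h.N_le_ZC hs hn) h1).symm, h.UN_at hs hu⟩

theorem red_at {s : G} (hs : s ∈ Om M r) {u : G} (hu : u ∈ UU M r)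
    (hc : ∀ n ∈ N s, u * n * u⁻¹ * n⁻¹ = 1 ∨ u * n * u⁻¹ * n⁻¹ = s) : ∀ n ∈ N s, u * n = n * u := by
  obtain ⟨m, hm, rfl⟩ := hs
  have h1 : m⁻¹ * u * m ∈ UU M r := by
    have := UU_conj (r := r) (M.inv_mem hm) hu
    simpa using this
  have h2 := h.red _ h1 (by
    intro n hn
    have e : m⁻¹ * u * m * n * (m⁻¹ * u * m)⁻¹ * n⁻¹ =
      m⁻¹ * (u * (m * n * m⁻¹) * u⁻¹ * (m * n * m⁻¹)⁻¹) * m := by group
    rcases hc _ (h.Nc m _ _ hn) with h3 | h3
    · left; rw [e, h3]; group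
    · right; rw [e, h3]; group)
  intro n hn
  have hn1 : m⁻¹ * n * m ∈ N r := by
    have := h.Nc m⁻¹ _ _ hn
    simpa [mul_assoc] using this
  have h4 := h2 _ hn1
  calc u * n = m * ((m⁻¹ * u * m) * (m⁻¹ * n * m)) * m⁻¹ := by group
    _ = m * ((m⁻¹ * n * m) * (m⁻¹ * u * m)) * m⁻¹ := by rw [h4]
    _ = _ := by group

theorem beta_at {s : G} (hs : s ∈ Om M r) : ∃ u ∈ UU M r, u ∉ Q s := by
  obtain ⟨m, hm, rfl⟩ := hs
  obtain ⟨u, hu, hu'⟩ := h.beta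
  exact ⟨m * u * m⁻¹, UU_conj hm hu, fun h1 => hu' (h.Q_conj.1 h1)⟩

/-! ### lines -/

theorem t_Om : t ∈ Om M r := by
  obtain ⟨q, hq, h1⟩ := h.q12
  obtain ⟨p, hp, h2⟩ := h.q21
  -- p : r ↦ r t ; q : r ↦ r, t ↦ r t, r t ↦ t
  have hqr : q * r * q⁻¹ = r := by
    have := h.ZC_comm (h.mem_ZC Om_base) hq
    rw [← this]; group
  have hrt : q * (r * t) * q⁻¹ = t := by
    calc q * (r * t) * q⁻¹ = (q * r * q⁻¹) * (q * t * q⁻¹) := by group
      _ = r * (r * t) := by rw [hqr, h1]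
      _ = (r * r) * t := by group
      _ = t := by rw [h.r_sq, one_mul]
  refine ⟨q * p, M.mul_mem (h.Q_le hq) (h.Qt_le hp), ?_⟩
  calc q * p * r * (q * p)⁻¹ = q * (p * r * p⁻¹) * q⁻¹ := by group
    _ = t := by rw [h2, hrt]

theorem Adj_right {s s' : G} (a : Adj M r t s s') : s' ∈ Om M r := by
  obtain ⟨m, hm, -, rfl⟩ := a
  exact Om_conj hm h.t_Om

theorem Adj_comm {s s' : G} (a : Adj M r t s s') : s * s' = s' * s := h.Om_comm a.left (h.Adj_right a)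

theorem Adj_swap : Adj M r t t r := by
  obtain ⟨q, hq, h1⟩ := h.q12
  obtain ⟨p, hp, h2⟩ := h.q21
  have hrt : r * t = t * r := h.Adj_comm Adj_base
  have hqr : q * r * q⁻¹ = r := by
    have := h.ZC_comm (h.mem_ZC Om_base) hq
    rw [← this]; group
  have hqrt : q * (r * t) * q⁻¹ = t := by
    calc q * (r * t) * q⁻¹ = (q * r * q⁻¹) * (q * t * q⁻¹) := by group
      _ = r * (r * t) := by rw [hqr, h1]
      _ = (r * r) * t := by group
      _ = t := by rw [h.r_sq, one_mul]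
  have hpt : p * t * p⁻¹ = t := by
    have := h.ZC_comm (h.mem_ZC h.t_Om) hp
    rw [← this]; group
  have htt : t * t = 1 := h.Om_sq h.t_Om
  have hprt : p * (r * t) * p⁻¹ = r := by
    calc p * (r * t) * p⁻¹ = (p * r * p⁻¹) * (p * t * p⁻¹) := by group
      _ = r * t * t := by rw [hpt, h2]
      _ = r * (t * t) := by group
      _ = r := by rw [htt, mul_one]
  refine ⟨q * p * q, M.mul_mem (M.mul_mem (h.Q_le hq) (h.Qt_le hp)) (h.Q_le hq), ?_, ?_⟩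
  · calc q * p * q * r * (q * p * q)⁻¹ = q * (p * (q * r * q⁻¹) * p⁻¹) * q⁻¹ := by group
      _ = t := by rw [hqr, h2, hqrt]
  · calc q * p * q * t * (q * p * q)⁻¹ = q * (p * (q * t * q⁻¹) * p⁻¹) * q⁻¹ := by group
      _ = r := by rw [h1, hprt, hqr]

theorem Adj_mul_base : Adj M r t r (r * t) := by
  obtain ⟨q, hq, h1⟩ := h.q12
  have hqr : q * r * q⁻¹ = r := by
    have := h.ZC_comm (h.mem_ZC Om_base) hq
    rw [← this]; group
  exact ⟨q, h.Q_le hq, hqr, h1⟩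

theorem Adj_symm {s s' : G} (a : Adj M r t s s') : Adj M r t s' s := by
  obtain ⟨m, hm, rfl, rfl⟩ := a
  exact h.Adj_swap.conj hm

theorem Adj_mul {s s' : G} (a : Adj M r t s s') : Adj M r t s (s * s') := by
  obtain ⟨m, hm, rfl, rfl⟩ := a
  have := h.Adj_mul_base.conj hm
  have e : m * r * m⁻¹ * (m * t * m⁻¹) = m * (r * t) * m⁻¹ := by group
  rwa [e]

/-- `s' ~ s s'` -/
theorem Adj_mul' {s s' : G} (a : Adj M r t s s') : Adj M r t s' (s * s') := by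
  have := h.Adj_mul (h.Adj_symm a)
  rwa [← h.Adj_comm a] at this

theorem Adj_ne {s s' : G} (a : Adj M r t s s') : s' ≠ s := by
  obtain ⟨m, hm, rfl, rfl⟩ := a
  intro e
  apply h.t_ne_r
  have : t = m⁻¹ * (m * t * m⁻¹) * m := by group
  rw [this, e]; group

theorem Adj_mul_ne {s s' : G} (a : Adj M r t s s') : s * s' ≠ 1 := fun e =>
  h.Om_ne (h.Adj_right (h.Adj_mul a)) e

theorem mul_cancel {s : G} (hs : s ∈ Om M r) (x : G) : s * (s * x) = x := by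
  rw [← mul_assoc, h.Om_sq hs, one_mul]

/-- `t ∈ Q s` on a line -/
theorem Adj_mem {s s' : G} (a : Adj M r t s s') : s' ∈ Q s := by
  obtain ⟨m, hm, rfl, rfl⟩ := a
  exact h.Qc m _ _ h.t_mem

theorem Adj_q {s s' : G} (a : Adj M r t s s') : ∃ q ∈ Q s, q * s' * q⁻¹ = s * s' := by
  obtain ⟨m, hm, rfl, rfl⟩ := a
  obtain ⟨q, hq, h1⟩ := h.q12
  refine ⟨m * q * m⁻¹, h.Qc m _ _ hq, ?_⟩
  calc m * q * m⁻¹ * (m * t * m⁻¹) * (m * q * m⁻¹)⁻¹ = m * (q * t * q⁻¹) * m⁻¹ := by group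
    _ = _ := by rw [h1]; group

theorem Adj_not_mem {s s' : G} (a : Adj M r t s s') : s' ∉ ZC Q s := by
  intro h1
  obtain ⟨q, hq, h2⟩ := h.Adj_q a
  have h3 := h.ZC_comm h1 hq
  have h4 : q * s' * q⁻¹ = s' := by rw [← h3]; group
  rw [h4] at h2
  apply h.Om_ne a.left
  have : s = (s * s') * s'⁻¹ := by group
  rw [this, ← h2]; group

theorem Adj_ZQ {s s' : G} (a : Adj M r t s s') {b : G} (hb : b ∈ ZC Q s) (hb' : b ∈ Q s') :
    b ∈ ZC Q s' ∨ s * b ∈ ZC Q s' := by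
  obtain ⟨m, hm, rfl, rfl⟩ := a
  have h1 : m⁻¹ * b * m ∈ ZC Q r := by
    have := (h.ZC_conj (g := m⁻¹) (s := m * r * m⁻¹) (x := b)).2 hb
    simpa [mul_assoc] using this
  have h2 : m⁻¹ * b * m ∈ Q t := by
    have := h.Qc m⁻¹ _ _ hb'
    simpa [mul_assoc] using this
  rcases h.ZQ _ h1 h2 with h3 | h3
  · left
    have := (h.ZC_conj (g := m)).2 h3
    simpa [mul_assoc] using this
  · right
    have := (h.ZC_conj (g := m)).2 h3
    have e : m * (r * (m⁻¹ * b * m)) * m⁻¹ = m * r * m⁻¹ * b := by group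
    rwa [e] at this

/-- `C_V` centralises `Q (s s')` too -/
theorem Adj_CV {s s' : G} (a : Adj M r t s s') {b : G} (hb : b ∈ ZC Q s) (hb' : b ∈ ZC Q s') :
    b ∈ ZC Q (s * s') := by
  obtain ⟨q, hq, h1⟩ := h.Adj_q a
  have h2 := h.ZC_comm hb hq
  have h3 : q * b * q⁻¹ = b := by rw [← h2]; group
  have := (h.ZC_conj (g := q)).2 hb'
  rwa [h3, h1] at this

theorem Qs_le {s s' : G} (a : Adj M r t s s') : Q s' ≤ M := h.Q_le_M (h.Adj_right a)

/-! ### connectedness -/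

/-- the graph of points is connected -/
theorem conn {s : G} (hs : s ∈ Om M r) : Relation.ReflTransGen (Adj M r t) r s := by
  obtain ⟨m, hm, rfl⟩ := hs
  have cc : ∀ x ∈ M, ∀ a b, Relation.ReflTransGen (Adj M r t) a b →
      Relation.ReflTransGen (Adj M r t) (x * a * x⁻¹) (x * b * x⁻¹) := by
    intro x hx a b hab
    induction hab with
    | refl => exact Relation.ReflTransGen.refl
    | tail _ h1 ih => exact ih.tail (h1.conj hx)
  have sy : ∀ a b, Relation.ReflTransGen (Adj M r t) a b → Relation.ReflTransGen (Adj M r t) b a := by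
    intro a b hab
    induction hab with
    | refl => exact Relation.ReflTransGen.refl
    | tail _ h1 ih => exact Relation.ReflTransGen.head (h.Adj_symm h1) ih
  let T : Subgroup G :=
    { carrier := {x | x ∈ M ∧ Relation.ReflTransGen (Adj M r t) r (x * r * x⁻¹)}
      one_mem' := ⟨M.one_mem, by simpa using Relation.ReflTransGen.refl⟩
      mul_mem' := by
        rintro x y ⟨hx, hx'⟩ ⟨hy, hy'⟩
        refine ⟨M.mul_mem hx hy, hx'.trans ?_⟩
        have := cc x hx _ _ hy'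
        have e : x * y * r * (x * y)⁻¹ = x * (y * r * y⁻¹) * x⁻¹ := by group
        rwa [e]
      inv_mem' := by
        rintro x ⟨hx, hx'⟩
        refine ⟨M.inv_mem hx, ?_⟩
        have := sy _ _ (cc x⁻¹ (M.inv_mem hx) _ _ hx')
        have e : x⁻¹ * (x * r * x⁻¹) * x⁻¹⁻¹ = r := by group
        rw [e] at this
        simpa using this }
  have h1 : M ≤ T := by
    apply h.gen T
    · intro x hx hxr
      refine ⟨hx, ?_⟩
      have e : x * r * x⁻¹ = r := by rw [hxr]; group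
      rw [e]
    · intro x hx
      refine ⟨h.Q_le hx, ?_⟩
      have e : x * r * x⁻¹ = r := by
        have := h.ZC_comm (h.mem_ZC Om_base) hx
        rw [← this]; group
      rw [e]
    · intro x hx
      refine ⟨h.Qt_le hx, ?_⟩
      have ht : x * t * x⁻¹ = t := by
        have := h.ZC_comm (h.mem_ZC h.t_Om) hx
        rw [← this]; group
      have h2 : Adj M r t (x * t * x⁻¹) (x * r * x⁻¹) := h.Adj_swap.conj (h.Qt_le hx)
      rw [ht] at h2
      exact (Relation.ReflTransGen.single Adj_base).tail h2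
  exact (h1 hm).2

/-- induction along adjacency -/
theorem conn_ind {P : G → Prop} (h0 : P r) (h1 : ∀ s s', Adj M r t s s' → P s → P s') {s : G}
    (hs : s ∈ Om M r) : P s := by
  have := h.conn hs
  induction this with
  | refl => exact h0
  | tail hab hbc ih =>
    exact h1 _ _ hbc (ih hbc.left)

/-! ### (1), (2): the action of `N s'` -/

/-- `N s'` centralises `s` for `s ~ s'` -/
theorem N_comm {s s' : G} (a : Adj M r t s s') {n : G} (hn : n ∈ N s') : n * s = s * n :=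
  h.ZC_comm (h.N_le_ZC (h.Adj_right a) hn) (h.Adj_mem (h.Adj_symm a))

/-- `N s'` centralises `s'` -/
theorem N_self {s : G} (hs : s ∈ Om M r) {n : G} (hn : n ∈ N s) : n * s = s * n :=
  h.ZC_comm (h.N_le_ZC hs hn) (h.mem_Q hs)

/-- `N s'` acts on the lines on `s` -/
theorem Adj_N {s s' x : G} (a : Adj M r t s s') (b : Adj M r t s x) {n : G} (hn : n ∈ N s') :
    Adj M r t s (n * x * n⁻¹) := by
  have h1 := b.conj (h.N_le_M (h.Adj_right a) hn)
  have e : n * s * n⁻¹ = s := by rw [h.N_comm a hn]; group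
  rwa [e] at h1

/-- `[I_s, N s'] ≤ R_{s'} × C_L` -/
theorem comm_IN {s s' : G} (a : Adj M r t s s') {u n : G} (hu : u ∈ UU M r) (hus : u ∈ Q s)
    (hn : n ∈ N s') :
    u * n * u⁻¹ * n⁻¹ ∈ ZC Q s' ∧ u * n * u⁻¹ * n⁻¹ ∈ Q s ∧
    (u * n * u⁻¹ * n⁻¹ ∈ ZC Q s ∨ s' * (u * n * u⁻¹ * n⁻¹) ∈ ZC Q s) := by
  have hs' := h.Adj_right a
  have h1 : u * n * u⁻¹ * n⁻¹ ∈ ZC Q s' := by
    have hc : u * s' = s' * u := h.UU_comm hu (Om_le_UU hs')
    exact mul_mem ((h.ZC_fix hc).2 (h.N_le_ZC hs' hn)) (inv_mem (h.N_le_ZC hs' hn))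
  have h2 : u * n * u⁻¹ * n⁻¹ ∈ Q s := by
    have e : u * n * u⁻¹ * n⁻¹ = u * (n * u⁻¹ * n⁻¹) := by group
    rw [e]
    exact mul_mem hus ((h.Q_fix (h.N_comm a hn)).2 (inv_mem hus))
  exact ⟨h1, h2, h.Adj_ZQ (h.Adj_symm a) h1 h2⟩

/-- `[K_s, N s'] ≤ C_L` -/
theorem comm_KN {s s' : G} (a : Adj M r t s s') {u n : G} (hu : u ∈ UU M r) (hus : u ∈ ZC Q s)
    (hn : n ∈ N s') : u * n * u⁻¹ * n⁻¹ ∈ ZC Q s' ∧ u * n * u⁻¹ * n⁻¹ ∈ ZC Q s := by
  refine ⟨(h.comm_IN a hu (h.ZC_le_Q a.left hus) hn).1, ?_⟩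
  have e : u * n * u⁻¹ * n⁻¹ = u * (n * u⁻¹ * n⁻¹) := by group
  rw [e]
  exact mul_mem hus ((h.ZC_fix (h.N_comm a hn)).2 (inv_mem hus))

/-- `C_L` does not contain `s` -/
theorem not_both {s s' : G} (a : Adj M r t s s') : s ∉ ZC Q s' := h.Adj_not_mem (h.Adj_symm a)

end TvH0

namespace TvH

variable {M : Subgroup G} {r t : G} {Q N : G → Subgroup G} (h : TvH M r t Q N)
include h

theorem noPar_at {s a b : G} (ha : Adj M r t s a) (hb : Adj M r t s b) (hab : a * b ∈ ZC Q s) :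
    b = a ∨ b = s * a := by
  obtain ⟨m, hm, rfl, rfl⟩ := ha
  have h1 : Adj M r t r (m⁻¹ * b * m) := by
    have := hb.conj (M.inv_mem hm)
    simpa [mul_assoc] using this
  have h2 : t * (m⁻¹ * b * m) ∈ ZC Q r := by
    have := (h.ZC_conj (g := m⁻¹) (s := m * r * m⁻¹)).2 hab
    have e : m⁻¹ * (m * t * m⁻¹ * b) * m⁻¹⁻¹ = t * (m⁻¹ * b * m) := by group
    rw [e] at this
    simpa [mul_assoc] using this
  rcases h.noPar _ _ Adj_base h1 h2 with h3 | h3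
  · left
    have : b = m * (m⁻¹ * b * m) * m⁻¹ := by group
    rw [this, h3]
  · right
    have : b = m * (m⁻¹ * b * m) * m⁻¹ := by group
    rw [this, h3]; group

end TvH

end Cfsg.Agent.Omega.HOne.TvDef
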