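import Cfsg.Agent.Omega.HOne.QuadAbs
import Cfsg.Agent.Omega.FrameFF
import Cfsg.Agent.Omega.SQ1.FFOne
import Cfsg.Agent.Omega.BTwo.Conj
import Cfsg.Agent.ZN.CaseTwo

/-!
# Mutual pairs of one-factor parabolics, on the level of `P` (never `N_G(V)`)

* `QuadP M A w` : `A` induces on `V / D` exactly the transvections with axis `F w`, `C_V(A)` is the preimage of
  the line `F w`, and `|V : C_V(A)| = |A : C_A(V)| = |F|`;
* `quadP` : `A ≤ P` quadratic on `V`, `|V : C_V(A)| ≤ |A : C_A(V)|`, `C_A(V / D) = C_A(V)` imply `QuadP`;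
* `quadPar` : the same for `P ∈ P*(S)`, `V = V_P`, `D = C_V(O²(P))`, `A ≤ S`;
* `pairPar` : `(V, V')` mutual, `V' ≤ S`, `V ≤ S'`: `|F| = |F'|`, `QuadP` both ways.
-/

set_option autoImplicit false
set_option linter.unusedSectionVars false

namespace Cfsg.Agent.Omega.HOne

open Subgroup Cfsg Cfsg.Agent.ZN Cfsg.Agent.ZN.ChoiceSit Cfsg.Agent.Omega.MinPar
open Cfsg.Agent.Omega.FrameFF Cfsg.Agent.Lib.SL2Mat Cfsg.Agent.Omega.NatPair
open Cfsg.Agent.Omega.SQ1.FFOne (NatSec)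
open Cfsg.Agent.MinSimple.VModule (oddGen zl_comm zl_sq le_normalizer_zl le_normalizer_oddGen)
open Cfsg.Agent.MinSimple.MinParabolic (IsMinPar)
open Cfsg.Agent.MinSimple
open Cfsg.Agent.ZN.CaseTwo (syl_of_sylow)

universe u

variable {G : Type u} [Group G]

/-- The section of a `NatOver`. -/
def toSec {F : Type} [Field F] {P V D : Subgroup G} (M : NatOver F P V D) (hDV : D ≤ V)
    (hV : ∀ h ∈ P, ∀ v ∈ V, h * v * h⁻¹ ∈ V) (hD : ∀ h ∈ P, ∀ v ∈ D, h * v * h⁻¹ ∈ D) : NatSec F P V D where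
  π := M.e
  map_mul := M.mul
  V0V := hDV
  ker := M.ker
  surj := M.surj
  Vn := hV
  V0n := hD
  lift A := by
    obtain ⟨g, hg, h1, -⟩ := M.lift A
    exact ⟨g, hg, h1⟩
  norm := M.norm

/-- `A` induces on `V / D` exactly the transvections with axis `F w`; `C_V(A)` is the preimage of `F w`. -/
structure QuadP {F : Type} [Field F] {P V D : Subgroup G} (M : NatOver F P V D) (A : Subgroup G)
    (w : Fin 2 → F) : Prop where
  ne : w ≠ 0
  lin : ∀ a ∈ A, ∃ B, ap B w = w ∧ ∀ v ∈ V, M.e (a * v * a⁻¹) = ap B (M.e v)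
  full : ∀ B, ap B w = w → ∃ a ∈ A, ∀ v ∈ V, M.e (a * v * a⁻¹) = ap B (M.e v)
  cent : ∀ v ∈ V, (∀ a ∈ A, a * v = v * a) ↔ ∃ c : F, M.e v = c • w
  idxV : (centralizer (A : Set G)).relIndex V = Nat.card F
  idxA : (centralizer (V : Set G)).relIndex A = Nat.card F
  reg : ∀ a ∈ A, (¬ ∀ v ∈ V, a * v = v * a) → ∀ v ∈ V, a * v = v * a → ∃ c : F, M.e v = c • w

/-- **Quadratic offenders, one factor.** -/
theorem quadP [Finite G] {F : Type} [Field F] [Finite F] [CharP F 2] {P V D A : Subgroup G}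
    (M : NatOver F P V D) (hDV : D ≤ V)
    (hV : ∀ h ∈ P, ∀ v ∈ V, h * v * h⁻¹ ∈ V) (hD : ∀ h ∈ P, ∀ v ∈ D, h * v * h⁻¹ ∈ D) (hAP : A ≤ P)
    (hker : ∀ a ∈ A, (∀ v ∈ V, a * v * a⁻¹ * v⁻¹ ∈ D) → ∀ v ∈ V, a * v = v * a)
    (hne : ∃ a ∈ A, ∃ v ∈ V, a * v ≠ v * a)
    (hq : ∀ a ∈ A, ∀ b ∈ A, ∀ v ∈ V, b * (a * v * a⁻¹ * v⁻¹) = (a * v * a⁻¹ * v⁻¹) * b)
    (hoff : (centralizer (A : Set G)).relIndex V ≤ (centralizer (V : Set G)).relIndex A) :
    ∃ w, QuadP M A w := by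
  set N := toSec M hDV hV hD with hN
  have hπ : ∀ g, N.π g = M.e g := fun g => rfl
  -- the action of `A`
  let act : A → (Fin 2 → F) → (Fin 2 → F) := fun a x => N.act (a : G) x
  have hact : ∀ (a : A) (v : G), v ∈ V → act a (M.e v) = M.e ((a : G) * v * (a : G)⁻¹) := fun a v hv =>
    N.act_π (hAP a.2) hv
  have hA : QuadAbs.Act act :=
    { mul := fun a b x => N.act_mul (hAP a.2) (hAP b.2) x
      one := fun x => N.act_one x
      add := fun a x y => N.act_add (hAP a.2) x y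
      semi := fun a => N.exists_semi (hAP a.2) }
  have hkeriff : ∀ a : A, a ∈ hA.ker ↔ ∀ v ∈ V, (a : G) * v = v * a := by
    intro a
    rw [hA.mem_ker]
    constructor
    · intro h
      refine hker a a.2 fun v hv => ?_
      rw [← M.ker _ (mul_mem (hV a (hAP a.2) v hv) (inv_mem hv)), M.mul _ (hV a (hAP a.2) v hv) _ (inv_mem hv),
        ← hact a v hv, h]
      have h2 := M.mul v hv v⁻¹ (inv_mem hv)
      rw [mul_inv_cancel] at h2
      rw [← h2]
      exact N.map_one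
    · intro h x
      obtain ⟨v, hv, rfl⟩ := M.surj x
      rw [hact a v hv, h v hv, mul_inv_cancel_right]
  have hidx : hA.ker.index = (centralizer (V : Set G)).relIndex A := by
    rw [relIndex]
    congr 1
    ext a
    rw [hkeriff, mem_subgroupOf, mem_centralizer_iff]
    exact ⟨fun h v hv => (h v hv).symm, fun h v hv => (h v hv).symm⟩
  -- the fixed vectors
  let Cp : Subgroup G :=
    { carrier := {v | v ∈ V ∧ ∀ a : A, act a (M.e v) = M.e v}
      mul_mem' := by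
        rintro v w ⟨hv, hv'⟩ ⟨hw, hw'⟩
        refine ⟨mul_mem hv hw, fun a => ?_⟩
        rw [M.mul v hv w hw, hA.add, hv' a, hw' a]
      one_mem' := ⟨one_mem V, fun a => by
        have h0 : M.e 1 = 0 := N.map_one
        rw [h0, hA.zero]⟩
      inv_mem' := by
        rintro v ⟨hv, hv'⟩
        refine ⟨inv_mem hv, fun a => ?_⟩
        have h1 : M.e v⁻¹ = - M.e v := N.map_inv hv
        have h2 := hA.sub a 0 (M.e v)
        rw [zero_sub, hA.zero, zero_sub, hv' a] at h2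
        rw [h1, h2] }
  have hCp : ∀ v, v ∈ Cp ↔ v ∈ V ∧ ∀ a : A, act a (M.e v) = M.e v := fun v => Iff.rfl
  have hcVCp : V ⊓ centralizer (A : Set G) ≤ Cp := by
    rintro v ⟨hv, hv'⟩
    refine ⟨hv, fun a => ?_⟩
    rw [hact a v hv, mem_centralizer_iff.1 hv' a a.2, mul_inv_cancel_right]
  -- `|V : Cp| |Fix| = |F|²`
  have hfixcard : Cp.relIndex V * Nat.card {x : Fin 2 → F // ∀ a, act a x = x} = Nat.card F ^ 2 := by
    let φ : V →* Multiplicative (Fin 2 → F) :=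
      MonoidHom.mk' (fun v => Multiplicative.ofAdd (M.e v)) (fun v w => by
        rw [← ofAdd_add]
        exact congrArg Multiplicative.ofAdd (M.mul v v.2 w w.2))
    have hφs : Function.Surjective φ := by
      intro x
      obtain ⟨v, hv, hx⟩ := M.surj (Multiplicative.toAdd x)
      exact ⟨⟨v, hv⟩, by
        change Multiplicative.ofAdd (M.e v) = x
        rw [hx]; rfl⟩
    let Fx : Subgroup (Multiplicative (Fin 2 → F)) :=
      { carrier := {x | ∀ a, act a (Multiplicative.toAdd x) = Multiplicative.toAdd x}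
        mul_mem' := by
          intro x y hx hy a
          rw [toAdd_mul, hA.add, hx a, hy a]
        one_mem' := fun a => by rw [toAdd_one, hA.zero]
        inv_mem' := by
          intro x hx a
          have h2 := hA.sub a 0 (Multiplicative.toAdd x)
          rw [zero_sub, hA.zero, zero_sub, hx a] at h2
          rw [toAdd_inv, h2] }
    have h1 : Cp.subgroupOf V = Fx.comap φ := by
      ext v
      rw [mem_subgroupOf, mem_comap]
      exact ⟨fun h => h.2, fun h => ⟨v.2, h⟩⟩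
    have h2 : Cp.relIndex V = Fx.index := by
      rw [relIndex, h1]
      exact Subgroup.index_comap_of_surjective Fx hφs
    have h3 : Nat.card Fx = Nat.card {x : Fin 2 → F // ∀ a, act a x = x} := by
      refine Nat.card_congr ⟨fun x => ⟨Multiplicative.toAdd x.1, x.2⟩, fun x => ⟨Multiplicative.ofAdd x.1, x.2⟩,
        fun x => rfl, fun x => rfl⟩
    rw [h2, ← h3, mul_comm, Subgroup.card_mul_index]
    have h4 : Nat.card (Multiplicative (Fin 2 → F)) = Nat.card (Fin 2 → F) :=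
      Nat.card_congr Multiplicative.toAdd
    rw [h4, Nat.card_fun]
    simp
  have hCVeq : (V ⊓ centralizer (A : Set G)).relIndex V = (centralizer (A : Set G)).relIndex V := by
    rw [relIndex, relIndex, inf_comm, inf_subgroupOf_right]
  have hcle : Cp.relIndex V ≤ (centralizer (A : Set G)).relIndex V := by
    rw [← hCVeq]
    exact relIndex_le_of_le_left hcVCp (by
      rw [relIndex]; exact Subgroup.index_ne_zero_of_finite)
  have hne' : ∃ a x, act a x ≠ x := by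
    obtain ⟨a, ha, v, hv, hav⟩ := hne
    by_contra hcon
    push Not at hcon
    exact hav ((hkeriff ⟨a, ha⟩).1 (hA.mem_ker.2 (hcon ⟨a, ha⟩)) v hv)
  have hq' : ∀ a b x, act b (act a x - x) = act a x - x := by
    intro a b x
    obtain ⟨v, hv, rfl⟩ := M.surj x
    have h1 := hV a (hAP a.2) v hv
    have h2 : (a : G) * v * (a : G)⁻¹ * v⁻¹ ∈ V := mul_mem h1 (inv_mem hv)
    have h3 : act a (M.e v) - M.e v = M.e ((a : G) * v * (a : G)⁻¹ * v⁻¹) := by
      rw [hact a v hv]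
      exact (N.map_div h1 hv).symm
    rw [h3, hact b _ h2, hq a a.2 b b.2 v hv, mul_inv_cancel_right]
  obtain ⟨w, Q⟩ := QuadAbs.quad hA hne' hq' (by
    rw [← hfixcard, hidx]
    exact Nat.mul_le_mul_right _ (hcle.trans hoff))
  have hfc : Nat.card {x : Fin 2 → F // ∀ b, act b x = x} = Nat.card F := by
    refine (Nat.card_congr (Equiv.ofBijective (fun c : F => (⟨c • w, (Q.fix _).2 ⟨c, rfl⟩⟩ :
      {x : Fin 2 → F // ∀ b, act b x = x})) ⟨?_, ?_⟩)).symm
    · intro c d hcd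
      exact smul_left_injective F Q.ne (congrArg Subtype.val hcd)
    · rintro ⟨x, hx⟩
      obtain ⟨c, rfl⟩ := (Q.fix x).1 hx
      exact ⟨c, rfl⟩
  have hpos : 0 < Nat.card F := Nat.card_pos
  have hCpq : Cp.relIndex V = Nat.card F := by
    rw [hfc, pow_two] at hfixcard
    exact Nat.eq_of_mul_eq_mul_right hpos hfixcard
  have hidxA : (centralizer (V : Set G)).relIndex A = Nat.card F := by rw [← hidx, Q.index]
  have hidxV : (centralizer (A : Set G)).relIndex V = Nat.card F := by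
    apply le_antisymm
    · rw [← hidxA]; exact hoff
    · rw [← hCpq]; exact hcle
  -- `C_V(A) = Cp`
  have hCeq : V ⊓ centralizer (A : Set G) = Cp := by
    refine Subgroup.eq_of_le_of_card_ge hcVCp ?_
    have h1 : (V ⊓ centralizer (A : Set G)).relIndex V * Nat.card (V ⊓ centralizer (A : Set G) : Subgroup G) =
        Nat.card V := by
      rw [mul_comm, ← Nat.card_congr (Subgroup.subgroupOfEquivOfLe (inf_le_left : V ⊓ centralizer (A : Set G) ≤ V)).toEquiv,
        relIndex, Subgroup.card_mul_index]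
    have h2 : Cp.relIndex V * Nat.card Cp = Nat.card V := by
      have hle : Cp ≤ V := fun v hv => hv.1
      rw [mul_comm, ← Nat.card_congr (Subgroup.subgroupOfEquivOfLe hle).toEquiv,
        relIndex, Subgroup.card_mul_index]
    rw [hCVeq, hidxV] at h1
    rw [hCpq] at h2
    exact (Nat.eq_of_mul_eq_mul_left hpos (h2.trans h1.symm)).le
  refine ⟨w, Q.ne, ?_, ?_, ?_, hidxV, hidxA, ?_⟩
  · intro a ha
    obtain ⟨B, hB, hB'⟩ := Q.lin ⟨a, ha⟩
    exact ⟨B, hB, fun v hv => by rw [← hB', hact ⟨a, ha⟩ v hv]⟩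
  · intro B hB
    obtain ⟨a, ha⟩ := Q.full B hB
    exact ⟨a, a.2, fun v hv => by rw [← ha, hact a v hv]⟩
  · intro v hv
    rw [← Q.fix]
    constructor
    · intro h a
      rw [hact a v hv, h a a.2, mul_inv_cancel_right]
    · intro h a ha
      have h1 : v ∈ V ⊓ centralizer (A : Set G) := by rw [hCeq]; exact ⟨hv, h⟩
      exact mem_centralizer_iff.1 h1.2 a ha
  · intro a ha hna v hv hav
    refine Q.reg ⟨a, ha⟩ (fun h => hna ((hkeriff _).1 h)) _ ?_
    rw [hact ⟨a, ha⟩ v hv, hav, mul_inv_cancel_right]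

/-! ### `P ∈ P*(S)` -/

theorem cv_le (S P : Subgroup G) : cv S P ≤ zl S P := inf_le_left

theorem conj_mem_zl {S P : Subgroup G} {h v : G} (hh : h ∈ P) (hv : v ∈ zl S P) : h * v * h⁻¹ ∈ zl S P :=
  (mem_normalizer_iff.1 (le_normalizer_zl S P hh) v).1 hv

theorem le_normalizer_cv (S P : Subgroup G) : P ≤ normalizer (cv S P : Set G) := by
  refine le_trans (le_inf (le_normalizer_zl S P)
    ((le_normalizer_oddGen P).trans (BTwo.normalizer_le_normalizer_centralizer _))) ?_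
  exact inf_normalizer_le_normalizer_inf

theorem conj_mem_cv {S P : Subgroup G} {h v : G} (hh : h ∈ P) (hv : v ∈ cv S P) : h * v * h⁻¹ ∈ cv S P :=
  (mem_normalizer_iff.1 (le_normalizer_cv S P hh) v).1 hv

section par

variable [Finite G] (hG : IsCharacteristicTwoType G) (S : Sylow 2 G) {P : Subgroup G}
  (h : IsParS (S : Subgroup G) P)

include hG h in
/-- an element of `S` which centralises `V / D` centralises `V` -/
theorem comm_of_sec {F : Type} [Field F] [Finite F] [CharP F 2]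
    (M : NatOver F P (zl (S : Subgroup G) P) (cv (S : Subgroup G) P)) {a : G} (ha : a ∈ (S : Subgroup G))
    (hc : ∀ v ∈ zl (S : Subgroup G) P, a * v * a⁻¹ * v⁻¹ ∈ cv (S : Subgroup G) P) :
    ∀ v ∈ zl (S : Subgroup G) P, a * v = v * a := by
  have hP := h.toIsPar
  set N := toSec M (cv_le _ _) (fun _ hh _ hv => conj_mem_zl hh hv) (fun _ hh _ hv => conj_mem_cv hh hv)
  have hsyl : Syl (S : Subgroup G) P := syl_of_sylow S h.le
  have h1 : (S : Subgroup G) ⊓ N.kern ≤ o2 P := by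
    rcases hP.sup_eq_or_inf_le S N.kern_le (fun g hg => SQ1.FFOne.mem_norm_of fun k hk =>
      N.kern_norm hg hk) with h2 | h2
    · exact absurd h2 (N.kern_sup_ne hsyl)
    · exact h2
  have h2 : a ∈ o2 P := h1 ⟨ha, (N.mem_kern_iff (h.le ha)).2 hc⟩
  rw [← IsParS.inf_centralizer S hG h] at h2
  intro v hv
  exact (mem_centralizer_iff.1 h2.2 v hv).symm

include hG h in
/-- **Quadratic offenders in `S` on `V_P`.** -/
theorem quadPar {F : Type} [Field F] [Finite F] [CharP F 2]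
    (M : NatOver F P (zl (S : Subgroup G) P) (cv (S : Subgroup G) P)) {A : Subgroup G}
    (hAS : A ≤ (S : Subgroup G))
    (hne : ∃ a ∈ A, ∃ v ∈ zl (S : Subgroup G) P, a * v ≠ v * a)
    (hq : ∀ a ∈ A, ∀ b ∈ A, ∀ v ∈ zl (S : Subgroup G) P,
      b * (a * v * a⁻¹ * v⁻¹) = (a * v * a⁻¹ * v⁻¹) * b)
    (hoff : (centralizer (A : Set G)).relIndex (zl (S : Subgroup G) P) ≤
      (centralizer (zl (S : Subgroup G) P : Set G)).relIndex A) : ∃ w, QuadP M A w :=
  quadP M (cv_le _ _) (fun _ hh _ hv => conj_mem_zl hh hv) (fun _ hh _ hv => conj_mem_cv hh hv)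
    (hAS.trans h.le) (fun _ ha hc => comm_of_sec hG S h M (hAS ha) hc) hne hq hoff

include hG in
/-- **Mutual pairs of one-factor members**: `V' ≤ S`, `V ≤ S'`. -/
theorem pairPar (h : IsParS (S : Subgroup G) P) (S' : Sylow 2 G) {P' : Subgroup G}
    (h' : IsParS (S' : Subgroup G) P')
    {F F' : Type} [Field F] [Finite F] [CharP F 2] [Field F'] [Finite F'] [CharP F' 2]
    (M : NatOver F P (zl (S : Subgroup G) P) (cv (S : Subgroup G) P))
    (M' : NatOver F' P' (zl (S' : Subgroup G) P') (cv (S' : Subgroup G) P'))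
    (h1 : zl (S' : Subgroup G) P' ≤ (S : Subgroup G)) (h2 : zl (S : Subgroup G) P ≤ (S' : Subgroup G))
    (hne : ⁅zl (S : Subgroup G) P, zl (S' : Subgroup G) P'⁆ ≠ ⊥) :
    Nat.card F = Nat.card F' ∧ (∃ w, QuadP M (zl (S' : Subgroup G) P') w) ∧
      ∃ w, QuadP M' (zl (S : Subgroup G) P) w := by
  obtain ⟨V, hV⟩ : ∃ V, V = zl (S : Subgroup G) P := ⟨_, rfl⟩
  obtain ⟨V', hV'⟩ : ∃ V', V' = zl (S' : Subgroup G) P' := ⟨_, rfl⟩
  rw [← hV] at h2 hne
  rw [← hV'] at h1 hne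
  have n1 : V' ≤ normalizer (V : Set G) := by
    rw [hV]
    exact (h1.trans h.le).trans (le_normalizer_zl _ _)
  have n2 : V ≤ normalizer (V' : Set G) := by
    rw [hV']
    exact (h2.trans h'.le).trans (le_normalizer_zl _ _)
  have hcm : ∀ a ∈ V', ∀ v ∈ V, a * v * a⁻¹ * v⁻¹ ∈ V ⊓ V' := by
    intro a ha v hv
    refine mem_inf.2 ⟨mul_mem ((mem_normalizer_iff.1 (n1 ha) v).1 hv) (inv_mem hv), ?_⟩
    have h3 : v * a⁻¹ * v⁻¹ ∈ V' := (mem_normalizer_iff.1 (n2 hv) a⁻¹).1 (inv_mem ha)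
    have h4 : a * v * a⁻¹ * v⁻¹ = a * (v * a⁻¹ * v⁻¹) := by group
    rw [h4]
    exact mul_mem ha h3
  have hcm' : ∀ a ∈ V, ∀ v ∈ V', a * v * a⁻¹ * v⁻¹ ∈ V ⊓ V' := by
    intro a ha v hv
    have h3 := hcm v hv a ha
    have h4 : a * v * a⁻¹ * v⁻¹ = (v * a * v⁻¹ * a⁻¹)⁻¹ := by group
    rw [h4]
    exact inv_mem h3
  have hVc : ∀ a ∈ V, ∀ b ∈ V, a * b = b * a := fun a ha b hb =>
    VModule.zc_comm _ _ (h.isLoc.zl_le S hG (hV ▸ ha)) _ (h.isLoc.zl_le S hG (hV ▸ hb))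
  have hVc' : ∀ a ∈ V', ∀ b ∈ V', a * b = b * a := fun a ha b hb =>
    VModule.zc_comm _ _ (h'.isLoc.zl_le S' hG (hV' ▸ ha)) _ (h'.isLoc.zl_le S' hG (hV' ▸ hb))
  have hne1 : ∃ v ∈ V, ∃ a ∈ V', a * v ≠ v * a := by
    by_contra hcon
    push Not at hcon
    apply hne
    rw [commutator_eq_bot_iff_le_centralizer]
    intro v hv
    exact mem_centralizer_iff.2 fun a ha => hcon v hv a ha
  obtain ⟨v₀, hv₀, a₀, ha₀, hav⟩ := hne1
  have q1 : ∀ a ∈ V', ∀ b ∈ V', ∀ v ∈ V, b * (a * v * a⁻¹ * v⁻¹) = (a * v * a⁻¹ * v⁻¹) * b :=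
    fun a ha b hb v hv => hVc' b hb _ (hcm a ha v hv).2
  have q2 : ∀ a ∈ V, ∀ b ∈ V, ∀ v ∈ V', b * (a * v * a⁻¹ * v⁻¹) = (a * v * a⁻¹ * v⁻¹) * b :=
    fun a ha b hb v hv => hVc b hb _ (hcm' a ha v hv).1
  subst hV hV'
  rcases le_total ((centralizer (zl (S' : Subgroup G) P' : Set G)).relIndex (zl (S : Subgroup G) P))
    ((centralizer (zl (S : Subgroup G) P : Set G)).relIndex (zl (S' : Subgroup G) P')) with hle | hle
  · obtain ⟨w, hw⟩ := quadPar hG S h M h1 ⟨a₀, ha₀, v₀, hv₀, hav⟩ q1 hle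
    obtain ⟨w', hw'⟩ := quadPar hG S' h' M' h2 ⟨v₀, hv₀, a₀, ha₀, fun he => hav he.symm⟩ q2
      (by rw [hw.idxA, hw.idxV])
    exact ⟨by rw [← hw.idxV, hw'.idxA], ⟨w, hw⟩, w', hw'⟩
  · obtain ⟨w', hw'⟩ := quadPar hG S' h' M' h2 ⟨v₀, hv₀, a₀, ha₀, fun he => hav he.symm⟩ q2 hle
    obtain ⟨w, hw⟩ := quadPar hG S h M h1 ⟨a₀, ha₀, v₀, hv₀, hav⟩ q1
      (by rw [hw'.idxA, hw'.idxV])
    exact ⟨by rw [← hw.idxV, hw'.idxA], ⟨w, hw⟩, w', hw'⟩

end par

end Cfsg.Agent.Omega.HOne
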