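import Cfsg.Agent.Omega.HOne.NSMod
import Cfsg.Agent.Omega.HOne.NSClaim
import Cfsg.Agent.Omega.HOne.PairP

/-!
# II.0h1, nonsplit case: one side of the mutual pair

`SideS S P V D A π` : `V / D` natural (`Rig`), `A ≤ S` induces on `V` exactly the transvections `lo b`, `C_V(A)` is the
preimage of the line; `exists_sideS` : from `NatOver` and `QuadP` of `pairPar`, over a given field of the same order.
-/

set_option autoImplicit false
set_option linter.unusedSectionVars false

namespace Cfsg.Agent.Omega.HOne.NSSide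

open Subgroup Cfsg Cfsg.Agent.ZN Cfsg.Agent.Omega.MinPar Cfsg.Agent.Omega.FrameFF Cfsg.Agent.Lib.SL2Mat
open Cfsg.Agent.Omega.NatPair Cfsg.Agent.Omega.HOne.NSMod Cfsg.Agent.Omega.HOne.NSClaim
open Cfsg.Agent.MinSimple.VModule (oddGen zc_comm zc_sq zl_comm zl_sq le_normalizer_zl zc_le_zl zl_le zc_le_centralizer)
open Cfsg.Agent.MinSimple

universe u

variable {G : Type u} [Group G] {F : Type} [Field F]

/-- One side of the pair. -/
structure SideS (S P V D A : Subgroup G) (π : G → Fin 2 → F) : Prop where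
  r : Rig P V D π
  SP : S ≤ P
  AS : A ≤ S
  typ : ∀ a ∈ A, ∃ b, Is P V D π a (lo b)
  full : ∀ b, ∃ a ∈ A, Is P V D π a (lo b)
  cen : ∀ v ∈ V, (∀ a ∈ A, a * v = v * a) ↔ π v 0 = 0
  fz : ∀ y ∈ S, ∀ B, Is P V D π y B → ∃ b, B = lo b
  sec : ∀ a ∈ S, (∀ v ∈ V, π (a * v * a⁻¹) = π v) → ∀ v ∈ V, a * v = v * a
  lin : ∀ s ∈ S, (∀ v ∈ V, π v 0 = 0 → π (s * v * s⁻¹) = π v) → ∃ b, ∀ v ∈ V, π (s * v * s⁻¹) = ap (lo b) (π v)

/-- change of basis -/
def chg {P V D : Subgroup G} (M : NatOver F P V D) (C : Matrix.SpecialLinearGroup (Fin 2) F) : NatOver F P V D where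
  e := fun v => ap C⁻¹ (M.e v)
  mul v hv w hw := by rw [M.mul v hv w hw, ap_add]
  surj x := by
    obtain ⟨v, hv, e⟩ := M.surj (ap C x)
    exact ⟨v, hv, by rw [e, ap_inv_ap]⟩
  ker v hv := by
    rw [← M.ker v hv]
    constructor
    · intro h
      have h1 := ap_ap_inv C (M.e v)
      rw [h] at h1
      rw [← h1]
      apply ext2
      · rw [ap_zero']; simp
      · rw [ap_one']; simp
    · intro h
      rw [h]
      apply ext2
      · rw [ap_zero']; simp
      · rw [ap_one']; simp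
  lift A := by
    obtain ⟨g, hg, h1, h2⟩ := M.lift (C * A * C⁻¹)
    refine ⟨g, hg, fun v hv => ?_, h2⟩
    rw [h1 v hv, ap_mul, ap_mul, ap_inv_ap]
  norm g hg h hh A hA := by
    obtain ⟨B, hB⟩ := M.norm g hg h hh (C * A * C⁻¹) (fun v hv => by
      have h1 := congrArg (ap C) (hA v hv)
      rw [ap_ap_inv] at h1
      rw [h1, ap_mul, ap_mul])
    refine ⟨C⁻¹ * B * C, fun v hv => ?_⟩
    rw [hB v hv, ap_mul, ap_mul, ap_ap_inv]

/-- change of the field -/
def fld {F' : Type} [Field F'] (σ : F ≃+* F') {P V D : Subgroup G} (M : NatOver F P V D) : NatOver F' P V D :=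
  let m : Matrix.SpecialLinearGroup (Fin 2) F → Matrix.SpecialLinearGroup (Fin 2) F' := fun A =>
    mk (σ (ent A 0 0)) (σ (ent A 0 1)) (σ (ent A 1 0)) (σ (ent A 1 1)) (by
      rw [← map_mul, ← map_mul, ← map_sub, det_eq, map_one])
  let m' : Matrix.SpecialLinearGroup (Fin 2) F' → Matrix.SpecialLinearGroup (Fin 2) F := fun A =>
    mk (σ.symm (ent A 0 0)) (σ.symm (ent A 0 1)) (σ.symm (ent A 1 0)) (σ.symm (ent A 1 1)) (by
      rw [← map_mul, ← map_mul, ← map_sub, det_eq, map_one])
  have hm : ∀ A x, ap (m A) (fun i => σ (x i)) = fun i => σ (ap A x i) := fun A x => by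
    apply ext2
    · rw [ap_zero', ap_zero', map_add, map_mul, map_mul]; rfl
    · rw [ap_one', ap_one', map_add, map_mul, map_mul]; rfl
  have hm' : ∀ A x, (fun i => σ (ap (m' A) x i)) = ap A (fun i => σ (x i)) := fun A x => by
    apply ext2
    · rw [ap_zero', ap_zero', map_add, map_mul, map_mul]
      change σ (σ.symm _) * _ + σ (σ.symm _) * _ = _
      rw [σ.apply_symm_apply, σ.apply_symm_apply]
    · rw [ap_one', ap_one', map_add, map_mul, map_mul]
      change σ (σ.symm _) * _ + σ (σ.symm _) * _ = _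
      rw [σ.apply_symm_apply, σ.apply_symm_apply]
  { e := fun v i => σ (M.e v i)
    mul := fun v hv w hw => by
      funext i
      rw [M.mul v hv w hw]
      exact map_add σ _ _
    surj := fun x => by
      obtain ⟨v, hv, e⟩ := M.surj (fun i => σ.symm (x i))
      exact ⟨v, hv, by funext i; rw [e, σ.apply_symm_apply]⟩
    ker := fun v hv => by
      rw [← M.ker v hv]
      constructor
      · intro h
        funext i
        have h1 := congrFun h i
        exact σ.injective (by rw [h1]; simp)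
      · intro h
        funext i
        rw [h]
        exact map_zero σ
    lift := fun A => by
      obtain ⟨g, hg, h1, h2⟩ := M.lift (m' A)
      refine ⟨g, hg, fun v hv => ?_, h2⟩
      rw [h1 v hv, hm']
    norm := fun g hg h hh A hA => by
      obtain ⟨B, hB⟩ := M.norm g hg h hh (m' A) (fun v hv => by
        have h1 := hA v hv
        rw [← hm'] at h1
        funext i
        exact σ.injective (congrFun h1 i))
      refine ⟨m B, fun v hv => ?_⟩
      rw [hm, hB v hv] }

theorem exists_ap (w : Fin 2 → F) (hw : w ≠ 0) : ∃ C : Matrix.SpecialLinearGroup (Fin 2) F, ap C ![0, 1] = w := by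
  by_cases h1 : w 1 = 0
  · have h0 : w 0 ≠ 0 := fun h0 => hw (ext2 h0 h1)
    refine ⟨mk 0 (w 0) (-(w 0)⁻¹) 0 (by field_simp; ring), ?_⟩
    apply ext2
    · rw [ap_zero']; simp
    · rw [ap_one']; simp [h1]
  · refine ⟨mk (w 1)⁻¹ (w 0) 0 (w 1) (by field_simp; ring), ?_⟩
    apply ext2
    · rw [ap_zero']; simp
    · rw [ap_one']; simp

theorem eq_lo {B : Matrix.SpecialLinearGroup (Fin 2) F} (h : ap B ![0, 1] = ![0, 1]) : B = lo (ent B 1 0) := by
  have h0 := congrFun h 0
  have h1 := congrFun h 1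
  rw [ap_zero'] at h0
  rw [ap_one'] at h1
  simp only [Matrix.cons_val_zero, Matrix.cons_val_one, mul_one, mul_zero, zero_add] at h0 h1
  have hd := det_eq B
  rw [h0, h1] at hd
  refine ext_ent ?_ ?_ ?_ ?_
  · rw [lo_00]; linear_combination hd
  · rw [lo_01, h0]
  · rw [lo_10]
  · rw [lo_11, h1]

theorem ap_lo_e (b : F) : ap (lo b) ![0, 1] = ![0, 1] := by
  rw [ap_lo]
  apply ext2 <;> simp

theorem ap_smul_e {B : Matrix.SpecialLinearGroup (Fin 2) F} {c : F} (hc : c ≠ 0)
    (h : ap B ![0, c] = ![0, c]) : ap B ![0, 1] = ![0, 1] := by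
  have e : (![0, c] : Fin 2 → F) = c • ![0, 1] := by
    apply ext2 <;> simp
  rw [e, ap_smul] at h
  exact smul_right_injective _ hc h

theorem chg_quad {P V D A : Subgroup G} {M : NatOver F P V D} {w : Fin 2 → F} (Q : QuadP M A w)
    {C : Matrix.SpecialLinearGroup (Fin 2) F} (hC : ap C ![0, 1] = w) : QuadP (chg M C) A ![0, 1] where
  ne h := by
    have := congrFun h 1
    simp at this
  lin a ha := by
    obtain ⟨B, hB, hB'⟩ := Q.lin a ha
    refine ⟨C⁻¹ * B * C, ?_, fun v hv => ?_⟩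
    · rw [ap_mul, ap_mul, hC, hB, ← hC, ap_inv_ap]
    · change ap C⁻¹ _ = ap _ (ap C⁻¹ _)
      rw [hB' v hv, ap_mul, ap_mul, ap_ap_inv]
  full B hB := by
    obtain ⟨a, ha, h1⟩ := Q.full (C * B * C⁻¹) (by rw [ap_mul, ap_mul, ← hC, ap_inv_ap, hB])
    refine ⟨a, ha, fun v hv => ?_⟩
    change ap C⁻¹ _ = ap _ (ap C⁻¹ _)
    rw [h1 v hv, ap_mul, ap_mul, ap_inv_ap]
  cent v hv := by
    rw [Q.cent v hv]
    constructor
    · rintro ⟨c, h⟩
      refine ⟨c, ?_⟩
      change ap C⁻¹ _ = _
      rw [h, ap_smul, ← hC, ap_inv_ap]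
    · rintro ⟨c, h⟩
      refine ⟨c, ?_⟩
      change ap C⁻¹ _ = _ at h
      have h1 := congrArg (ap C) h
      rw [ap_ap_inv, ap_smul, hC] at h1
      exact h1
  idxV := Q.idxV
  idxA := Q.idxA
  reg a ha hna v hv hav := by
    obtain ⟨c, h⟩ := Q.reg a ha hna v hv hav
    refine ⟨c, ?_⟩
    change ap C⁻¹ _ = _
    rw [h, ap_smul, ← hC, ap_inv_ap]

section par

variable [Finite G] [Finite F] [CharP F 2] (hG : IsCharacteristicTwoType G) (S : Sylow 2 G) {P : Subgroup G}
  (h : IsParS (S : Subgroup G) P)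

include hG h in
theorem rig_of (M : NatOver F P (zl (S : Subgroup G) P) (cv (S : Subgroup G) P)) :
    Rig P (zl (S : Subgroup G) P) (cv (S : Subgroup G) P) M.e where
  DV := cv_le _ _
  Vn _ hp _ hv := conj_mem_zl hp hv
  Dn _ hp _ hv := conj_mem_cv hp hv
  Vc _ hv _ hw := zc_comm _ _ (h.isLoc.zl_le S hG hv) _ (h.isLoc.zl_le S hG hw)
  Vs _ hv := by
    rw [← pow_two]
    exact zc_sq _ _ (h.isLoc.zl_le S hG hv)
  mul := M.mul
  surj := M.surj
  ker := M.ker
  lift A := by
    obtain ⟨g, hg, h1, h2⟩ := M.lift A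
    exact ⟨g, hg, h1, h2⟩
  norm := M.norm
  rig g hg hD hV := by
    let V : Subgroup G := zl (S : Subgroup G) P
    let D : Subgroup G := cv (S : Subgroup G) P
    have hDn : ∀ p ∈ P, ∀ v ∈ D, p * v * p⁻¹ ∈ D := fun _ hp _ hv => conj_mem_cv hp hv
    have hVn : ∀ p ∈ P, ∀ v ∈ V, p * v * p⁻¹ ∈ V := fun _ hp _ hv => conj_mem_zl hp hv
    have hDV : D ≤ V := cv_le _ _
    have hm1 : M.e 1 = 0 := (M.ker 1 (one_mem V)).2 (one_mem D)
    have hinv : ∀ v ∈ V, M.e v⁻¹ = - M.e v := fun v hv => by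
      have := M.mul v hv v⁻¹ (inv_mem hv)
      rw [mul_inv_cancel, hm1] at this
      exact (neg_eq_of_add_eq_zero_right this.symm).symm
    let K : Subgroup G :=
      { carrier := {x | x ∈ P ∧ (∀ d ∈ D, x * d = d * x) ∧ ∀ v ∈ V, M.e (x * v * x⁻¹) = M.e v}
        one_mem' := ⟨one_mem _, fun d _ => by rw [one_mul, mul_one], fun v _ => by rw [one_mul, inv_one, mul_one]⟩
        mul_mem' := by
          rintro x y ⟨hx, hx1, hx2⟩ ⟨hy, hy1, hy2⟩
          refine ⟨mul_mem hx hy, fun d hd => ?_, fun v hv => ?_⟩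
          · rw [mul_assoc, hy1 d hd, ← mul_assoc, hx1 d hd, mul_assoc]
          · have e : x * y * v * (x * y)⁻¹ = x * (y * v * y⁻¹) * x⁻¹ := by group
            rw [e, hx2 _ (hVn y hy v hv), hy2 v hv]
        inv_mem' := by
          rintro x ⟨hx, hx1, hx2⟩
          refine ⟨inv_mem hx, fun d hd => ?_, fun v hv => ?_⟩
          · have h1 := hx1 d hd
            calc x⁻¹ * d = x⁻¹ * (d * x) * x⁻¹ := by group
              _ = x⁻¹ * (x * d) * x⁻¹ := by rw [h1]
              _ = _ := by group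
          · have h1 := hx2 _ (hVn x⁻¹ (inv_mem hx) v hv)
            have e : x * (x⁻¹ * v * x⁻¹⁻¹) * x⁻¹ = v := by group
            rw [e] at h1
            exact h1.symm }
    have hKP : K ≤ P := fun x hx => hx.1
    have hPK : P ≤ normalizer (K : Set G) := by
      intro p hp
      refine VModule.mem_normalizer_of_map_le ?_
      rintro _ ⟨x, ⟨hx, hx1, hx2⟩, rfl⟩
      change p * x * p⁻¹ ∈ K
      refine ⟨mul_mem (mul_mem hp hx) (inv_mem hp), fun d hd => ?_, fun v hv => ?_⟩
      · have h1 := hx1 _ (hDn p⁻¹ (inv_mem hp) d hd)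
        rw [inv_inv] at h1
        calc p * x * p⁻¹ * d = p * (x * (p⁻¹ * d * p)) * p⁻¹ := by group
          _ = p * (p⁻¹ * d * p * x) * p⁻¹ := by rw [h1]
          _ = _ := by group
      · have hpv : p⁻¹ * v * p ∈ V := by
          have := hVn p⁻¹ (inv_mem hp) v hv
          rwa [inv_inv] at this
        have h1 := hx2 _ hpv
        have hxv := hVn x hx _ hpv
        have h2 : x * (p⁻¹ * v * p) * x⁻¹ * (p⁻¹ * v * p)⁻¹ ∈ D :=
          (M.ker _ (mul_mem hxv (inv_mem hpv))).1 (by
            rw [M.mul _ hxv _ (inv_mem hpv), hinv _ hpv, h1, add_neg_cancel])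
        have h3 := hDn p hp _ h2
        have e : p * (x * (p⁻¹ * v * p) * x⁻¹ * (p⁻¹ * v * p)⁻¹) * p⁻¹ =
          p * x * p⁻¹ * v * (p * x * p⁻¹)⁻¹ * v⁻¹ := by group
        rw [e] at h3
        have hpx := hVn _ (mul_mem (mul_mem hp hx) (inv_mem hp)) v hv
        have h4 := (M.ker _ (mul_mem hpx (inv_mem hv))).2 h3
        rw [M.mul _ hpx _ (inv_mem hv), hinv _ hv] at h4
        exact add_neg_eq_zero.1 h4
    have hK2 : ∀ x ∈ K, ∃ k : ℕ, x ^ 2 ^ k ∈ centralizer (V : Set G) := by
      rintro x ⟨hx, hx1, hx2⟩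
      refine ⟨1, mem_centralizer_iff.2 fun v hv => ?_⟩
      have hxv := hVn x hx v hv
      have h2 : x * v * x⁻¹ * v⁻¹ ∈ D := (M.ker _ (mul_mem hxv (inv_mem hv))).1 (by
        rw [M.mul _ hxv _ (inv_mem hv), hinv _ hv, hx2 v hv, add_neg_cancel])
      obtain ⟨d, hd⟩ : ∃ d, d = x * v * x⁻¹ * v⁻¹ := ⟨_, rfl⟩
      rw [← hd] at h2
      have e1 : x * v * x⁻¹ = d * v := by rw [hd]; group
      have hdd : d * d = 1 := by
        rw [← pow_two]
        exact zc_sq _ _ (h.isLoc.zl_le S hG (hDV h2))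
      have e2 : x * (x * v * x⁻¹) * x⁻¹ = v := by
        calc x * (x * v * x⁻¹) * x⁻¹ = (x * d) * v * x⁻¹ := by rw [e1]; group
          _ = d * (x * v * x⁻¹) := by rw [hx1 d h2]; group
          _ = d * d * v := by rw [e1]; group
          _ = v := by rw [hdd, one_mul]
      rw [pow_one, pow_two]
      calc v * (x * x) = (x * (x * v * x⁻¹) * x⁻¹) * (x * x) := by rw [e2]
        _ = x * x * v := by group
    have h1 := le_centralizer_of_pow h.le S.isPGroup' (MinSimple.Basic.not_dvd_relIndex S h.le) hKP hPK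
      (zc_le_centralizer _) (zc_le_zl _ P) (le_normalizer_zl _ P) (fun W hW hPW => zl_le hW hPW) hK2
    have h2 : g ∈ K := ⟨hg, hD, hV⟩
    intro v hv
    exact (mem_centralizer_iff.1 (h1 h2) v hv).symm

include hG h in
/-- the central element of `S` in `V - D` -/
theorem exists_zc (M : NatOver F P (zl (S : Subgroup G) P) (cv (S : Subgroup G) P)) :
    ∃ z ∈ zl (S : Subgroup G) P, M.e z ≠ 0 ∧ ∀ s ∈ (S : Subgroup G), s * z = z * s := by
  by_contra hcon
  push Not at hcon
  have h1 : zc (S : Subgroup G) ≤ cv (S : Subgroup G) P := by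
    intro z hz
    rw [← M.ker z (zc_le_zl _ P hz)]
    by_contra hne
    obtain ⟨s, hs, hns⟩ := hcon z (zc_le_zl _ P hz) hne
    exact hns (mem_centralizer_iff.1 (zc_le_centralizer _ hz) s hs)
  have h2 : zl (S : Subgroup G) P ≤ cv (S : Subgroup G) P := zl_le h1 (le_normalizer_cv _ P)
  obtain ⟨v, hv, e⟩ := M.surj ![0, 1]
  rw [(M.ker v hv).2 (h2 hv)] at e
  have := congrFun e 1
  simp at this

include hG h in
theorem sideS_of (M : NatOver F P (zl (S : Subgroup G) P) (cv (S : Subgroup G) P)) {A : Subgroup G}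
    (hAS : A ≤ (S : Subgroup G)) (Q : QuadP M A ![0, 1]) :
    SideS (S : Subgroup G) P (zl (S : Subgroup G) P) (cv (S : Subgroup G) P) A M.e where
  r := rig_of hG S h M
  SP := h.le
  AS := hAS
  typ a ha := by
    obtain ⟨B, hB, h1⟩ := Q.lin a ha
    refine ⟨ent B 1 0, (hAS.trans h.le) ha, fun v hv => ?_, fun d hd => ?_⟩
    · rw [← eq_lo hB]; exact h1 v hv
    · have hdV := cv_le (S : Subgroup G) P hd
      exact (Q.cent d hdV).2 ⟨0, by rw [zero_smul]; exact (M.ker d hdV).2 hd⟩ a ha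
  full b := by
    obtain ⟨a, ha, h1⟩ := Q.full (lo b) (ap_lo_e b)
    refine ⟨a, ha, (hAS.trans h.le) ha, h1, fun d hd => ?_⟩
    have hdV := cv_le (S : Subgroup G) P hd
    exact (Q.cent d hdV).2 ⟨0, by rw [zero_smul]; exact (M.ker d hdV).2 hd⟩ a ha
  cen v hv := by
    rw [Q.cent v hv]
    constructor
    · rintro ⟨c, e⟩
      rw [e]; simp
    · intro h0
      refine ⟨M.e v 1, ?_⟩
      apply ext2
      · rw [h0]; simp
      · simp
  fz y hy B hB := by
    obtain ⟨z, hz, hz0, hzS⟩ := exists_zc hG S h M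
    have h1 := (Q.cent z hz).1 fun a ha => hzS a (hAS ha)
    obtain ⟨c, e⟩ := h1
    have hc : c ≠ 0 := by
      rintro rfl
      exact hz0 (by rw [e, zero_smul])
    have h2 := hB.act z hz
    rw [hzS y hy, mul_inv_cancel_right, e, ap_smul] at h2
    exact ⟨_, eq_lo (smul_right_injective _ hc h2.symm)⟩
  sec a ha h1 := by
    refine comm_of_sec hG S h M ha fun v hv => ?_
    have hv' : a * v * a⁻¹ ∈ zl (S : Subgroup G) P := conj_mem_zl (h.le ha) hv
    rw [← M.ker _ (mul_mem hv' (inv_mem hv)), M.mul _ hv' _ (inv_mem hv), (rig_of hG S h M).map_inv hv, h1 v hv,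
      add_neg_cancel]
  lin s hs h1 := by
    set N := toSec M (cv_le _ _) (fun _ hh _ hv => conj_mem_zl hh hv) (fun _ hh _ hv => conj_mem_cv hh hv) with hN
    have hsP : s ∈ P := h.le hs
    obtain ⟨σ, hσ⟩ := N.exists_semi hsP
    have hfix : ∀ c : F, N.act s ![0, c] = ![0, c] := by
      intro c
      obtain ⟨v, hv, e⟩ := M.surj ![0, c]
      have h2 := N.act_π hsP hv
      change N.act s (M.e v) = M.e _ at h2
      rw [e, h1 v hv (by rw [e]; simp), e] at h2
      exact h2
    have hσ1 : ∀ c, σ c = c := by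
      intro c
      have h2 := hσ c ![0, 1]
      have e1 : (c • ![0, 1] : Fin 2 → F) = ![0, c] := by apply ext2 <;> simp
      rw [e1, hfix, hfix] at h2
      have := congrFun h2 1
      simp at this
      exact this.symm
    have hsm : ∀ (c : F) x, N.act s (c • x) = c • N.act s x := fun c x => by rw [hσ, hσ1]
    obtain ⟨d, b, hdb⟩ : ∃ d b, N.act s ![1, 0] = ![d, b] := ⟨N.act s ![1, 0] 0, N.act s ![1, 0] 1, by
      apply ext2 <;> simp⟩
    have hform : ∀ x : Fin 2 → F, N.act s x = ![d * x 0, b * x 0 + x 1] := by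
      intro x
      have e1 : x = x 0 • ![1, 0] + ![0, x 1] := by apply ext2 <;> simp
      have h2 := N.act_add hsP (x 0 • ![1, 0]) ![0, x 1]
      rw [← e1, hsm, hfix, hdb] at h2
      rw [h2]
      apply ext2
      · simp [mul_comm]
      · simp [mul_comm]
    have hpow : ∀ k : ℕ, ∀ x, N.act (s ^ k) x 0 = d ^ k * x 0 := by
      intro k
      induction k with
      | zero => intro x; rw [pow_zero, N.act_one, pow_zero, one_mul]
      | succ k ih =>
        intro x
        rw [pow_succ', N.act_mul hsP (pow_mem hsP k), hform]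
        change d * N.act (s ^ k) x 0 = _
        rw [ih, pow_succ']; ring
    obtain ⟨k, hk⟩ := S.2 ⟨s, hs⟩
    have hk' : s ^ 2 ^ k = 1 := by simpa using congrArg Subtype.val hk
    have hd1 : d = 1 := by
      have h2 := hpow (2 ^ k) ![1, 0]
      rw [hk', N.act_one] at h2
      simp only [Matrix.cons_val_zero, mul_one] at h2
      have h4 : (d - 1) ^ 2 ^ k = 0 := by
        rw [sub_pow_char_pow, ← h2, one_pow, sub_self]
      exact sub_eq_zero.1 (pow_eq_zero_iff (pow_ne_zero k two_ne_zero) |>.1 h4)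
    refine ⟨b, fun v hv => ?_⟩
    have h2 := N.act_π hsP hv
    change N.act s (M.e v) = M.e _ at h2
    rw [← h2, hform, ap_lo, hd1, one_mul]

end par

/-- **One side over a given field.** -/
theorem exists_sideS [Finite G] (hG : IsCharacteristicTwoType G) (S : Sylow 2 G) {P : Subgroup G}
    (h : IsParS (S : Subgroup G) P) {F₁ : Type} [Field F₁] [Finite F₁] [CharP F₁ 2]
    [Finite F] [CharP F 2] (hc : Nat.card F₁ = Nat.card F)
    (M : NatOver F₁ P (zl (S : Subgroup G) P) (cv (S : Subgroup G) P)) {A : Subgroup G}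
    (hAS : A ≤ (S : Subgroup G)) {w : Fin 2 → F₁} (Q : QuadP M A w) :
    ∃ π : G → Fin 2 → F, SideS (S : Subgroup G) P (zl (S : Subgroup G) P) (cv (S : Subgroup G) P) A π := by
  have : Fintype F₁ := Fintype.ofFinite F₁
  have : Fintype F := Fintype.ofFinite F
  let σ : F₁ ≃+* F := FiniteField.ringEquivOfCardEq (by
    rw [← Nat.card_eq_fintype_card, ← Nat.card_eq_fintype_card, hc])
  obtain ⟨C, hC⟩ := exists_ap w Q.ne
  have Q1 := chg_quad Q hC
  set M1 := chg M C with hM1
  have Q2 : QuadP (fld σ M1) A ![0, 1] :=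
    { ne := fun h => by
        have := congrFun h 1
        simp at this
      lin := fun a ha => by
        obtain ⟨B, hB, hB'⟩ := Q1.lin a ha
        refine ⟨lo (σ (ent B 1 0)), ap_lo_e _, fun v hv => ?_⟩
        have h1 := hB' v hv
        rw [eq_lo hB, ap_lo] at h1
        rw [ap_lo]
        change (fun i => σ (M1.e (a * v * a⁻¹) i)) = _
        rw [h1]
        apply ext2
        · rfl
        · change σ (_ * _ + _) = _ * σ (M1.e v 0) + σ (M1.e v 1)
          rw [map_add, map_mul]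
      full := fun B hB => by
        obtain ⟨a, ha, h1⟩ := Q1.full (lo (σ.symm (ent B 1 0))) (ap_lo_e _)
        refine ⟨a, ha, fun v hv => ?_⟩
        rw [eq_lo hB, ap_lo]
        have h2 := h1 v hv
        rw [ap_lo] at h2
        change (fun i => σ (M1.e (a * v * a⁻¹) i)) = _
        rw [h2]
        apply ext2
        · rfl
        · change σ (_ * _ + _) = _ * σ (M1.e v 0) + σ (M1.e v 1)
          rw [map_add, map_mul, σ.apply_symm_apply]
      cent := fun v hv => by
        rw [Q1.cent v hv]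
        constructor
        · rintro ⟨c, e⟩
          refine ⟨σ c, ?_⟩
          change (fun i => σ (M1.e v i)) = _
          rw [e]
          apply ext2 <;> simp
        · rintro ⟨c, e⟩
          refine ⟨σ.symm c, ?_⟩
          change (fun i => σ (M1.e v i)) = _ at e
          apply ext2
          · have := congrFun e 0
            apply σ.injective
            rw [this]; simp
          · have := congrFun e 1
            apply σ.injective
            rw [this]; simp
      idxV := by rw [Q1.idxV, hc]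
      idxA := by rw [Q1.idxA, hc]
      reg := fun a ha hna v hv hav => by
        obtain ⟨c, e⟩ := Q1.reg a ha hna v hv hav
        refine ⟨σ c, ?_⟩
        change (fun i => σ (M1.e v i)) = _
        rw [e]
        apply ext2 <;> simp }
  exact ⟨_, sideS_of hG S h (fld σ M1) hAS Q2⟩

end Cfsg.Agent.Omega.HOne.NSSide
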