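import Cfsg.Agent.Omega.FrameFF
import Cfsg.Agent.Omega.BTwo.Split
import Cfsg.Agent.Omega.NatPair.Pair

/-!
# Leaf II.0h1: all mutual pairs have one natural factor and `C_V(O²(P)) ≠ 1` occurs

`FrameFF.LeafH1 K` is divided into

* `Nonsplit K` : a mutual pair with a member `V` with `[V, O²(P)] ∩ C_V(O²(P)) ≠ 1` (helper19);
* `Split4 K` : all members of mutual pairs are split, `C_V(O²(P)) ≠ 1` occurs with `|V / C_V(O²(P))| ≥ 16`
  (helper811, helper725, helper499);
* `Split2 K` : the same with `|V / C_V(O²(P))| = 4` (helper325, helper779, helper257).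

The split case is divided further. `NonFree S P₁ P₂ x`: a mutual pair, both members not `Free`.

* `Both K` : one member of a split mutual pair is `Free` if and only if the other is (`HOne/SplitP.lean`);
* `Mixed4 K`, `Mixed2 K` : `NonFree S P₁ P₂ x`, and there is no `NonFree S P P g`;
* `NormH K` : a pair `NonFree S P P g` with `|V_P|` minimal has the normal form `Same S P g M`:
  `M : NatMod F N`, `N = [V_P, O²(P)]`, `V_P = N × C_{V_P}(O²(P))`, `N ≤ O₂(N_G(N ∩ N^g))`;
* `Same4 K`, `Same2 K` : the normal form, `|F| ≥ 4`, `|F| = 2`.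

`leaf_of_sockets` : `Nonsplit K`, `Both K`, `Mixed4 K`, `Mixed2 K`, `NormH K`, `Same4 K`, `Same2 K` imply `LeafH1 K`.
-/

set_option autoImplicit false

namespace Cfsg.Agent.Omega.HOne.Main

open Subgroup Cfsg Cfsg.Agent.ZN Cfsg.Agent.Omega.MinPar Cfsg.Agent.Omega.Frame
open Cfsg.Agent.Omega.FrameFF
open Cfsg.Agent.Omega.FrameLE (AllIn)
open Cfsg.Agent.MinSimple.VModule (oddGen)
open Cfsg.Agent.Omega.NatPair (NatMod)
open Cfsg.Agent.Omega.BTwo (QQ)

universe u

section defs

variable {G : Type u} [Group G]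

/-- `[V_P, O²(P)]` -/
def vx (S P : Subgroup G) : Subgroup G := ⁅zl S P, oddGen P⁆

/-- `V_P = [V_P, O²(P)] × C_{V_P}(O²(P))` -/
def SplitPar (S P : Subgroup G) : Prop := vx S P ⊓ cv S P = ⊥

/-- All members of mutual pairs are split. -/
def AllSplit (S : Subgroup G) : Prop :=
  ∀ (P₁ P₂ : Subgroup G) (x : G), Mutual S P₁ P₂ x → SplitPar S P₁ ∧ SplitPar S P₂

/-- A mutual pair, both members with `C_V(O²(P)) ≠ 1`. -/
structure NonFree (S P₁ P₂ : Subgroup G) (x : G) : Prop where
  mp : Mutual S P₁ P₂ x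
  ne₁ : cv S P₁ ≠ ⊥
  ne₂ : cv S P₂ ≠ ⊥

/-- `V, V^g` is a mutual pair, `V = V_P = N × V₀`, `N = [V, O²(P)]`, `V₀ = C_V(O²(P)) ≠ 1`, `|V|` minimal, and `N` is
the natural module for a normal subgroup `SL₂(F)` of `N_G(N) / C_G(N)` which is induced by elements of `P`. -/
structure Same (S P : Subgroup G) (g : G) {F : Type} [Field F] {N : Subgroup G} (M : NatMod F N) : Prop where
  mp : Mutual S P P g
  N_eq : N = vx S P
  inf : N ⊓ cv S P = ⊥
  sup : N ⊔ cv S P = zl S P
  ne : cv S P ≠ ⊥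
  cen : P ≤ centralizer (cv S P : Set G)
  le : P ≤ normalizer (N : Set G)
  lift : ∀ A : Matrix.SpecialLinearGroup (Fin 2) F, ∃ h ∈ P, M.Ind h A
  pair : NatPair.Mutual N (NatPair.cj g N)
  VQ : N ≤ QQ (N ⊓ NatPair.cj g N)
  min : ∀ (P' : Subgroup G) (g' : G), NonFree S P' P' g' → Nat.card (zl S P) ≤ Nat.card (zl S P')

end defs

section props

variable (K : Cls.{u})

/-- A nonsplit member of a mutual pair. -/
def Nonsplit : Prop :=
  ∀ (G : Type u) [Group G] [Finite G], Ctx G → K G → ∀ (S : Sylow 2 G), Full (S : Subgroup G) →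
    AllIn (S : Subgroup G) → AllSingle (S : Subgroup G) →
    ∀ (P₁ P₂ : Subgroup G) (x : G), Mutual (S : Subgroup G) P₁ P₂ x → ¬ SplitPar (S : Subgroup G) P₁ →
      IsKnownSimple' G

/-- A nonsplit member of a mutual pair, `q ≥ 4` (`q = 2` is always split, `HOne/SplitP.lean`). -/
def Nonsplit4 : Prop :=
  ∀ (G : Type u) [Group G] [Finite G], Ctx G → K G → ∀ (S : Sylow 2 G), Full (S : Subgroup G) →
    AllIn (S : Subgroup G) → AllSingle (S : Subgroup G) →
    ∀ (P₁ P₂ : Subgroup G) (x : G), Mutual (S : Subgroup G) P₁ P₂ x → ¬ SplitPar (S : Subgroup G) P₁ →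
      ∀ (F : Type) [Field F] [Finite F] [CharP F 2],
        NatOver F P₁ (zl (S : Subgroup G) P₁) (cv (S : Subgroup G) P₁) → 4 ≤ Nat.card F → IsKnownSimple' G

/-- All members of mutual pairs are split, `q ≥ 4`. -/
def Split4 : Prop :=
  ∀ (G : Type u) [Group G] [Finite G], Ctx G → K G → ∀ (S : Sylow 2 G), Full (S : Subgroup G) →
    AllIn (S : Subgroup G) → AllSingle (S : Subgroup G) → AllSplit (S : Subgroup G) →
    ∀ (P₁ P₂ : Subgroup G) (x : G), Mutual (S : Subgroup G) P₁ P₂ x → ¬ Free (S : Subgroup G) P₁ →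
      ∀ (F : Type) [Field F] [Finite F] [CharP F 2],
        NatOver F P₁ (zl (S : Subgroup G) P₁) (cv (S : Subgroup G) P₁) → 4 ≤ Nat.card F → IsKnownSimple' G

/-- All members of mutual pairs are split, `q = 2`. -/
def Split2 : Prop :=
  ∀ (G : Type u) [Group G] [Finite G], Ctx G → K G → ∀ (S : Sylow 2 G), Full (S : Subgroup G) →
    AllIn (S : Subgroup G) → AllSingle (S : Subgroup G) → AllSplit (S : Subgroup G) →
    ∀ (P₁ P₂ : Subgroup G) (x : G), Mutual (S : Subgroup G) P₁ P₂ x → ¬ Free (S : Subgroup G) P₁ →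
      ∀ (F : Type) [Field F] [Finite F] [CharP F 2],
        NatOver F P₁ (zl (S : Subgroup G) P₁) (cv (S : Subgroup G) P₁) → Nat.card F = 2 → IsKnownSimple' G

variable {K}

/-- **Leaf II.0h1 from its three cases.** -/
theorem leaf_of (hN : Nonsplit K) (h4 : Split4 K) (h2 : Split2 K) : LeafH1 K := by
  intro G _ _ hG hK S hF hI hS P₁ P₂ x hm hfr
  by_cases hs : AllSplit (S : Subgroup G)
  · obtain ⟨F, _, _, _, ⟨M⟩⟩ := (hS P₁ P₂ x hm).1
    rcases two_le_card (F := F) with h | h
    · exact h2 G hG hK S hF hI hS hs P₁ P₂ x hm hfr F M h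
    · exact h4 G hG hK S hF hI hS hs P₁ P₂ x hm hfr F M h
  · unfold AllSplit at hs
    push Not at hs
    obtain ⟨P, P', y, h, hns⟩ := hs
    by_cases h1 : SplitPar (S : Subgroup G) P
    · exact hN G hG hK S hF hI hS P' P y⁻¹ h.symm (hns h1)
    · exact hN G hG hK S hF hI hS P P' y h h1

end props

/-! ### The division of the split case -/

section split

variable (K : Cls.{u})

/-- Split mutual pairs: one member is `Free` if the other is. -/
def Both : Prop :=
  ∀ (G : Type u) [Group G] [Finite G], Ctx G → K G → ∀ (S : Sylow 2 G), Full (S : Subgroup G) →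
    AllIn (S : Subgroup G) → AllSingle (S : Subgroup G) → AllSplit (S : Subgroup G) →
    ∀ (P₁ P₂ : Subgroup G) (x : G), Mutual (S : Subgroup G) P₁ P₂ x → Free (S : Subgroup G) P₂ →
      Free (S : Subgroup G) P₁

/-- Mixed pairs, `q ≥ 4`: no non-free mutual pair of one type. -/
def Mixed4 : Prop :=
  ∀ (G : Type u) [Group G] [Finite G], Ctx G → K G → ∀ (S : Sylow 2 G), Full (S : Subgroup G) →
    AllIn (S : Subgroup G) → AllSingle (S : Subgroup G) → AllSplit (S : Subgroup G) →
    (∀ (P : Subgroup G) (g : G), ¬ NonFree (S : Subgroup G) P P g) →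
    ∀ (P₁ P₂ : Subgroup G) (x : G), NonFree (S : Subgroup G) P₁ P₂ x →
      ∀ (F : Type) [Field F] [Finite F] [CharP F 2],
        NatOver F P₁ (zl (S : Subgroup G) P₁) (cv (S : Subgroup G) P₁) → 4 ≤ Nat.card F → IsKnownSimple' G

/-- Mixed pairs, `q = 2`: no non-free mutual pair of one type. -/
def Mixed2 : Prop :=
  ∀ (G : Type u) [Group G] [Finite G], Ctx G → K G → ∀ (S : Sylow 2 G), Full (S : Subgroup G) →
    AllIn (S : Subgroup G) → AllSingle (S : Subgroup G) → AllSplit (S : Subgroup G) →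
    (∀ (P : Subgroup G) (g : G), ¬ NonFree (S : Subgroup G) P P g) →
    ∀ (P₁ P₂ : Subgroup G) (x : G), NonFree (S : Subgroup G) P₁ P₂ x →
      ∀ (F : Type) [Field F] [Finite F] [CharP F 2],
        NatOver F P₁ (zl (S : Subgroup G) P₁) (cv (S : Subgroup G) P₁) → Nat.card F = 2 → IsKnownSimple' G

/-- The normal form of a minimal non-free mutual pair of one type. -/
def NormH : Prop :=
  ∀ (G : Type u) [Group G] [Finite G], Ctx G → K G → ∀ (S : Sylow 2 G), Full (S : Subgroup G) →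
    AllIn (S : Subgroup G) → AllSingle (S : Subgroup G) → AllSplit (S : Subgroup G) →
    ∀ (P : Subgroup G) (g : G), NonFree (S : Subgroup G) P P g →
      (∀ (P' : Subgroup G) (g' : G), NonFree (S : Subgroup G) P' P' g' →
        Nat.card (zl (S : Subgroup G) P) ≤ Nat.card (zl (S : Subgroup G) P')) →
      ∃ (g' : G) (F : Type) (_ : Field F) (_ : Finite F) (_ : CharP F 2) (N : Subgroup G) (M : NatMod F N),
        Same (S : Subgroup G) P g' M

/-- The normal form, `q ≥ 4`. -/
def Same4 : Prop :=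
  ∀ (G : Type u) [Group G] [Finite G], Ctx G → K G → ∀ (S : Sylow 2 G), Full (S : Subgroup G) →
    AllIn (S : Subgroup G) → AllSingle (S : Subgroup G) → AllSplit (S : Subgroup G) →
    ∀ (P : Subgroup G) (g : G) (F : Type) [Field F] [Finite F] [CharP F 2] (N : Subgroup G) (M : NatMod F N),
      Same (S : Subgroup G) P g M → 4 ≤ Nat.card F → IsKnownSimple' G

/-- The normal form, `q = 2`. -/
def Same2 : Prop :=
  ∀ (G : Type u) [Group G] [Finite G], Ctx G → K G → ∀ (S : Sylow 2 G), Full (S : Subgroup G) →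
    AllIn (S : Subgroup G) → AllSingle (S : Subgroup G) → AllSplit (S : Subgroup G) →
    ∀ (P : Subgroup G) (g : G) (F : Type) [Field F] [Finite F] [CharP F 2] (N : Subgroup G) (M : NatMod F N),
      Same (S : Subgroup G) P g M → Nat.card F = 2 → IsKnownSimple' G

variable {K}

/-- **The normal form of the split case.** -/
theorem exists_same (hN : NormH K) {G : Type u} [Group G] [Finite G] (hG : Ctx G) (hK : K G) (S : Sylow 2 G)
    (hF : Full (S : Subgroup G)) (hI : AllIn (S : Subgroup G)) (hS : AllSingle (S : Subgroup G))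
    (hs : AllSplit (S : Subgroup G)) {P₀ : Subgroup G} {g₀ : G} (h : NonFree (S : Subgroup G) P₀ P₀ g₀) :
    ∃ (P : Subgroup G) (g : G) (F : Type) (_ : Field F) (_ : Finite F) (_ : CharP F 2) (N : Subgroup G)
      (M : NatMod F N), Same (S : Subgroup G) P g M := by
  let s : Set (Subgroup G × G) := {q | NonFree (S : Subgroup G) q.1 q.1 q.2}
  obtain ⟨⟨P, g⟩, hm, hmin⟩ := Set.exists_min_image s
    (fun q => Nat.card (zl (S : Subgroup G) q.1)) (Set.toFinite s) ⟨(P₀, g₀), h⟩
  obtain ⟨g', F, _, _, _, N, M, hM⟩ := hN G hG hK S hF hI hS hs P g hm fun P' g' h' => hmin (P', g') h'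
  exact ⟨P, g', F, inferInstance, inferInstance, inferInstance, N, M, hM⟩

theorem split4_of (hB : Both K) (hX4 : Mixed4 K) (hN : NormH K) (h4 : Same4 K) (h2 : Same2 K) : Split4 K := by
  intro G _ _ hG hK S hF hI hS hs P₁ P₂ x hm hfr F _ _ _ M hq
  by_cases hsame : ∃ (P : Subgroup G) (g : G), NonFree (S : Subgroup G) P P g
  · obtain ⟨P₀, g₀, h⟩ := hsame
    obtain ⟨P, g, F', _, _, _, N, M', hM⟩ := exists_same hN hG hK S hF hI hS hs h
    rcases two_le_card (F := F') with h' | h'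
    · exact h2 G hG hK S hF hI hS hs P g F' N M' hM h'
    · exact h4 G hG hK S hF hI hS hs P g F' N M' hM h'
  · push Not at hsame
    exact hX4 G hG hK S hF hI hS hs hsame P₁ P₂ x
      ⟨hm, hfr, fun h => hfr (hB G hG hK S hF hI hS hs P₁ P₂ x hm h)⟩ F M hq

theorem split2_of (hB : Both K) (hX2 : Mixed2 K) (hN : NormH K) (h4 : Same4 K) (h2 : Same2 K) : Split2 K := by
  intro G _ _ hG hK S hF hI hS hs P₁ P₂ x hm hfr F _ _ _ M hq
  by_cases hsame : ∃ (P : Subgroup G) (g : G), NonFree (S : Subgroup G) P P g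
  · obtain ⟨P₀, g₀, h⟩ := hsame
    obtain ⟨P, g, F', _, _, _, N, M', hM⟩ := exists_same hN hG hK S hF hI hS hs h
    rcases two_le_card (F := F') with h' | h'
    · exact h2 G hG hK S hF hI hS hs P g F' N M' hM h'
    · exact h4 G hG hK S hF hI hS hs P g F' N M' hM h'
  · push Not at hsame
    exact hX2 G hG hK S hF hI hS hs hsame P₁ P₂ x
      ⟨hm, hfr, fun h => hfr (hB G hG hK S hF hI hS hs P₁ P₂ x hm h)⟩ F M hq

/-- **Leaf II.0h1 from its sockets.** -/
theorem leaf_of_sockets (hNS : Nonsplit K) (hB : Both K) (hX4 : Mixed4 K) (hX2 : Mixed2 K) (hN : NormH K)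
    (h4 : Same4 K) (h2 : Same2 K) : LeafH1 K :=
  leaf_of hNS (split4_of hB hX4 hN h4 h2) (split2_of hB hX2 hN h4 h2)

end split

end Cfsg.Agent.Omega.HOne.Main
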