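import Cfsg.Agent.Omega.HTwo.TCore

/-!
# II.0h1, `q = 2`, junction (#17185 (B)): the component of a point, all transvections

* `full_cls` : the transvections with centre `c` in the component induce all functionals vanishing at `c`;
* `Full`, `natC_full_of_sylow` : the group version;
* `irr_of_full` : a subgroup `K` normalised by the stabiliser of `r` and not trivial on `W / ⟨r⟩` is
  irreducible on `W / ⟨r⟩`.
-/

set_option autoImplicit false

namespace Cfsg.Agent.Omega.HOne.JunIrr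

open Subgroup Module Cfsg.Agent.Omega.TV Cfsg.Agent.Omega.HTwo.TComp Cfsg.Agent.Omega.HOneTwo

section lin

variable {H : Type*} [Group H] {V : Type*} [AddCommGroup V] [Module (ZMod 2) V]
  {ρ : H →* (V ≃ₗ[ZMod 2] V)} {Om : Set V}

/-- the functionals of the transvections with centre `c` -/
def fnSub (ρ : H →* (V ≃ₗ[ZMod 2] V)) (c : V) : Submodule (ZMod 2) (Dual (ZMod 2) V) where
  carrier := {φ | Fn ρ c φ}
  zero_mem' := Fn.zero c
  add_mem' := fun ha hb => ha.add hb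
  smul_mem' := by
    intro a φ h
    rcases z2 a with rfl | rfl
    · rw [zero_smul]; exact Fn.zero c
    · rw [one_smul]; exact h

/-- all functionals vanishing at `c` are induced by transvections with centre `c` -/
theorem full_cls [Finite V] (h : Sys ρ Om) (hb : Sys.Big ρ Om) (hc : Sys.Clo ρ Om) {r : V} (hr : r ∈ Om) {c : V}
    (hcc : c ∈ h.cls hc hr) (hc0 : c ≠ 0) {A : Submodule (ZMod 2) V} (hA : A ≤ h.cls hc hr) (hcA : c ∈ A)
    {d : V} (hd : d ∈ h.cls hc hr) (hdA : d ∉ A) :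
    ∃ φ, Fn ρ c φ ∧ (∀ a ∈ A, φ a = 0) ∧ φ d = 1 := by
  have hfin : FiniteDimensional (ZMod 2) V := Module.Finite.of_finite
  set F := fnSub ρ c with hF
  have hZ : ∀ x ∈ F.dualCoannihilator, x ∈ h.cls hc hr → x ∈ A := by
    intro x hx hxc
    by_cases hx0 : x = 0
    · rw [hx0]; exact A.zero_mem
    by_cases hxc' : c = x
    · rw [← hxc']; exact hcA
    obtain ⟨φ, f1, e⟩ := h.adj_cls hb hc hr hcc hc0 hxc hx0 hxc'
    rw [Submodule.mem_dualCoannihilator] at hx
    rw [hx φ f1] at e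
    exact absurd e zero_ne_one
  have hd' : d ∉ F.dualCoannihilator ⊔ A := by
    intro h1
    obtain ⟨x, hx, a, ha, e⟩ := Submodule.mem_sup.1 h1
    have h2 : x ∈ h.cls hc hr := by
      have : x = d + a := by rw [← e]; exact (add_add_self x a).symm
      rw [this]
      exact (h.cls hc hr).add_mem hd (hA ha)
    apply hdA
    rw [← e]
    exact A.add_mem (hZ x hx h2) ha
  obtain ⟨f, hf, hk⟩ := Submodule.exists_le_ker_of_notMem hd'
  have hfF : f ∈ F := by
    rw [← Subspace.dualCoannihilator_dualAnnihilator_eq (W := F), Submodule.mem_dualAnnihilator]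
    exact fun w hw => hk (Submodule.mem_sup_left hw)
  exact ⟨f, hfF, fun a ha => hk (Submodule.mem_sup_right ha), z2_ne_zero hf⟩

end lin

variable {G : Type*} [Group G]

/-- every transvection of `W` is induced by an element of `C` -/
def Full (C W : Subgroup G) : Prop :=
  ∀ c ∈ W, c ≠ 1 → ∀ A : Subgroup G, A ≤ W → c ∈ A → ∀ d ∈ W, d ∉ A →
    ∃ t ∈ C, (∀ a ∈ A, t * a * t⁻¹ = a) ∧ t * d * t⁻¹ = d * c

theorem full_of_natC [Finite G] {C N W : Subgroup G} {r : G} (h : GSys C N r) {a b : G} (ha : a ∈ C)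
    (hb : b ∈ C)
    (hta : ∀ n ∈ N, a * n * a⁻¹ = n ∨ a * n * a⁻¹ = n * r)
    (htb : ∀ n ∈ N, b * n * b⁻¹ = n ∨ b * n * b⁻¹ = n * r)
    (hna : ∃ n ∈ N, a * n * a⁻¹ ≠ n) (hnb : ∃ n ∈ N, b * n * b⁻¹ ≠ n)
    (hnab : ∃ n ∈ N, a * b * n * (a * b)⁻¹ ≠ n) (hW : NatC C N W r) : Full C W := by
  classical
  have hs := h.toSys ha hta hna
  have hrO := h.mem_pts_r
  set r₀ : EA N h.sq := EA.mk h.sq r h.mem with hr₀
  obtain ⟨φ, hφ, fφ⟩ := h.exists_fn h.mem h.ne ha hta
  obtain ⟨ψ, hψ, fψ⟩ := h.exists_fn h.mem h.ne hb htb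
  have hφ0 : φ ≠ 0 := by
    rintro rfl
    obtain ⟨n, hn, e⟩ := hna
    apply e
    have h1 := hφ (EA.mk h.sq n hn)
    rw [LinearMap.zero_apply, zero_smul, add_zero] at h1
    exact congrArg EA.val h1
  have hψ0 : ψ ≠ 0 := by
    rintro rfl
    obtain ⟨n, hn, e⟩ := hnb
    apply e
    have h1 := hψ (EA.mk h.sq n hn)
    rw [LinearMap.zero_apply, zero_smul, add_zero] at h1
    exact congrArg EA.val h1
  have hne : φ ≠ ψ := by
    rintro rfl
    obtain ⟨n, hn, e⟩ := hnab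
    apply e
    set v : EA N h.sq := EA.mk h.sq n hn
    have h1 : h.rep (⟨a, ha⟩ * ⟨b, hb⟩) v = v := by
      rw [rmul, hψ v, hφ (v + φ v • r₀), map_add, map_smul, fφ.1, smul_zero, add_zero, add_assoc,
        v_add_self, add_zero]
    have h2 := congrArg EA.val h1
    rw [h.val_rep] at h2
    exact h2
  have hB := hs.big_of hrO fφ fψ hφ0 hψ0 hne
  have hc := hs.clo_big hB
  set K := hs.cls hc hrO with hK
  have hv : ∀ x : EA N h.sq, x.val ∈ EA.toSub K ↔ x ∈ K := fun x => EA.val_mem_toSub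
  have hr0 : r₀ ≠ 0 := hs.ne_zero hrO
  have hrK : r₀ ∈ K := hs.self_mem_cls hc hrO
  -- the component is contained in `W`
  have hKW : EA.toSub K ≤ W := by
    rintro _ ⟨x, hx, rfl⟩
    by_cases hx0 : x = 0
    · rw [hx0]; exact W.one_mem
    by_cases hxr : r₀ = x
    · rw [← hxr]; exact hW.mem
    obtain ⟨χ, fχ, e⟩ := hs.adj_cls hB hc hrO hrK hr0 hx hx0 hxr
    obtain ⟨⟨c, hc', ec⟩, -⟩ := hs.pt_of_mem hc hrO hx hx0
    obtain ⟨-, ⟨g, hg⟩, hgx⟩ := fχ
    rw [ec]
    refine hW.adj r hW.mem h.ne g hg (fun n hn => ?_) c hc' ?_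
    · have h1 := hgx (EA.mk h.sq n hn)
      rcases z2 (χ (EA.mk h.sq n hn)) with e1 | e1
      · left
        rw [e1, zero_smul, add_zero] at h1
        exact congrArg EA.val h1
      · right
        rw [e1, one_smul] at h1
        exact congrArg EA.val h1
    · rw [← ec]
      intro h2
      have h1 := hgx x
      rw [e, one_smul] at h1
      have h3 : h.rep ⟨g, hg⟩ x = x := EA.ext h2
      rw [h3] at h1
      exact hr0 (by simpa using h1)
  have hWK : W ≤ EA.toSub K := by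
    rcases hW.irr r hW.mem h.ne (EA.toSub K) hKW ⟨r₀, hrK, rfl⟩ (by
      rintro c hcC hcr _ ⟨x, hx, rfl⟩
      have h1 : h.rep ⟨c, hcC⟩ r₀ ∈ K := by
        have : h.rep ⟨c, hcC⟩ r₀ = r₀ := EA.ext (by
          rw [h.val_rep]
          exact mul_inv_eq_iff_eq_mul.2 hcr)
        rw [this]; exact hrK
      exact ⟨_, hs.blk_cls hc hrO hrK hr0 h1 hx, rfl⟩) with h1 | h1
    · exfalso
      obtain ⟨c, hcK, c1, c2, -, -⟩ := hs.big_cls hc hrO fφ fψ hφ0 hψ0 hne r₀ r₀
      rcases h1 c.val ((hv c).2 hcK) with e | e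
      · exact c1 (EA.val_eq_one.1 e)
      · exact c2 (EA.ext e)
    · exact h1
  intro c hcW hc1 A hAW hcA d hdW hdA
  obtain ⟨c', hcK, rfl⟩ := hWK hcW
  obtain ⟨d', hdK, rfl⟩ := hWK hdW
  obtain ⟨χ, ⟨-, ⟨g, hg⟩, hgx⟩, χA, χd⟩ := full_cls hs hB hc hrO hcK (fun e => hc1 (EA.val_eq_one.2 e))
    (A := ofSub h.sq A) (fun x hx => by
      have h1 : x.val ∈ A := hx
      exact (hv x).1 (hWK (hAW h1))) hcA hdK hdA
  refine ⟨g, hg, fun a ha' => ?_, ?_⟩
  · obtain ⟨a', -, rfl⟩ := hWK (hAW ha')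
    have h1 := hgx a'
    rw [χA a' ha', zero_smul, add_zero] at h1
    exact congrArg EA.val h1
  · have h1 := hgx d'
    rw [χd, one_smul] at h1
    exact congrArg EA.val h1

/-- **LEMMA T**, with all transvections -/
theorem natC_full_of_sylow {G : Type*} [Group G] [Finite G] (T : Sylow 2 G) {C A : Subgroup G} {r : G}
    (hTC : (T : Subgroup G) ≤ C) (hT : ∀ t ∈ (T : Subgroup G), t * r = r * t)
    (hA : ∀ x, x ∈ A ↔ x = 1 ∨ x = r) (hr : r ≠ 1)
    (sq : ∀ x ∈ cl A C, x * x = 1) {a b : G} (ha : a ∈ C) (hb : b ∈ C)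
    (hta : ∀ n ∈ cl A C, a * n * a⁻¹ = n ∨ a * n * a⁻¹ = n * r)
    (htb : ∀ n ∈ cl A C, b * n * b⁻¹ = n ∨ b * n * b⁻¹ = n * r)
    (hna : ∃ n ∈ cl A C, a * n * a⁻¹ ≠ n) (hnb : ∃ n ∈ cl A C, b * n * b⁻¹ ≠ n)
    (hnab : ∃ n ∈ cl A C, a * b * n * (a * b)⁻¹ ≠ n) : ∃ W, NatC C (cl A C) W r ∧ Full C W := by
  obtain ⟨W, hW⟩ := natC_of_sylow T hTC hT hA hr sq ha hb hta htb hna hnb hnab
  exact ⟨W, hW, full_of_natC (gsys_of_sylow T hTC hT hA hr sq) ha hb hta htb hna hnb hnab hW⟩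

/-! ### a normal subgroup of the stabiliser -/

section irr

variable {C N W K : Subgroup G} {r : G}

/-- `D ∪ D c` for an involution `c` commuting with `D` -/
def ext (D : Subgroup G) (c : G) (hc : c * c = 1) (h : ∀ x ∈ D, x * c = c * x) : Subgroup G where
  carrier := {x | x ∈ D ∨ x * c ∈ D}
  one_mem' := Or.inl D.one_mem
  mul_mem' := by
    have key : ∀ x : G, x * c ∈ D → x * c = c * x := by
      intro x hx
      have h1 := h _ hx
      rw [mul_assoc, hc, mul_one, ← mul_assoc] at h1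
      -- `x = c x c`
      calc x * c = c * x * c * c := by rw [← h1]
        _ = c * x := by rw [mul_assoc, hc, mul_one]
    rintro x y (hx | hx) (hy | hy)
    · exact Or.inl (D.mul_mem hx hy)
    · right
      rw [mul_assoc]
      exact D.mul_mem hx hy
    · right
      rw [mul_assoc, h y hy, ← mul_assoc]
      exact D.mul_mem hx hy
    · left
      have h1 := D.mul_mem hx hy
      rw [key y hy, mul_assoc x, ← mul_assoc c c, hc, one_mul] at h1
      exact h1
  inv_mem' := by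
    rintro x (hx | hx)
    · exact Or.inl (D.inv_mem hx)
    · right
      have h1 := h _ hx
      rw [mul_assoc, hc, mul_one, ← mul_assoc] at h1
      have h2 : x * c = c * x := by
        calc x * c = c * x * c * c := by rw [← h1]
          _ = c * x := by rw [mul_assoc, hc, mul_one]
      have h3 : x⁻¹ * c = (x * c)⁻¹ := by
        rw [h2, mul_inv_rev, inv_eq_of_mul_eq_one_left hc]
      change x⁻¹ * c ∈ D
      rw [h3]
      exact D.inv_mem hx

theorem mem_ext {D : Subgroup G} {c : G} {hc : c * c = 1} {h : ∀ x ∈ D, x * c = c * x} {x : G} :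
    x ∈ ext D c hc h ↔ x ∈ D ∨ x * c ∈ D := Iff.rfl

theorem le_ext {D : Subgroup G} {c : G} {hc : c * c = 1} {h : ∀ x ∈ D, x * c = c * x} : D ≤ ext D c hc h :=
  fun _ hx => Or.inl hx

theorem self_mem_ext {D : Subgroup G} {c : G} {hc : c * c = 1} {h : ∀ x ∈ D, x * c = c * x} :
    c ∈ ext D c hc h := by
  right
  rw [hc]
  exact D.one_mem

theorem ext_le {D : Subgroup G} {c : G} {hc : c * c = 1} {h : ∀ x ∈ D, x * c = c * x} {B : Subgroup G}
    (hD : D ≤ B) (hcB : c ∈ B) : ext D c hc h ≤ B := by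
  rintro x (hx | hx)
  · exact hD hx
  · have : x = x * c * c := by rw [mul_assoc, hc, mul_one]
    rw [this]
    exact B.mul_mem (hD hx) hcB

/-- elements of a subgroup of exponent 2 commute -/
theorem comm_of_sq {W : Subgroup G} (h : ∀ x ∈ W, x * x = 1) {a c : G} (ha : a ∈ W) (hc : c ∈ W) :
    a * c = c * a := by
  have h1 := h _ (W.mul_mem ha hc)
  have h2 : a * c = (a * c)⁻¹ := eq_inv_of_mul_eq_one_left h1
  rw [mul_inv_rev, inv_eq_of_mul_eq_one_left (h a ha), inv_eq_of_mul_eq_one_left (h c hc)] at h2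
  exact h2

/-- step: a `K`-invariant `B ∋ w, r`, `B ≠ W` -/
theorem step (hW : NatC C N W r) (hf : Full C W)
    (hKn : ∀ t ∈ C, t * r = r * t → ∀ k ∈ K, t * k * t⁻¹ ∈ K) (hKr : ∀ k ∈ K, k * r = r * k)
    {B : Subgroup G} (hB : B ≤ W) (hrB : r ∈ B) (hKB : ∀ k ∈ K, ∀ x ∈ B, k * x * k⁻¹ ∈ B) {v w : G}
    (hv : v ∈ W) (hvB : v ∉ B) (hw : w ∈ B) {k : G} (hk : k ∈ K) : k * w * k⁻¹ = w ∨ k * w * k⁻¹ = w * r := by
  have sq := hW.sq
  have cm : ∀ a ∈ W, ∀ c ∈ W, a * c = c * a := fun a ha c hc => comm_of_sq sq ha hc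
  by_contra hcon
  push Not at hcon
  obtain ⟨h1, h2⟩ := hcon
  set d := k * w * k⁻¹ with hd
  have hwW := hB hw
  have hrW := hW.mem
  have hdB : d ∈ B := hKB k hk w hw
  have hdW := hB hdB
  have hw1 : w ≠ 1 := by
    intro e
    apply h1
    rw [hd, e]; group
  have hwr : w ≠ r := by
    intro e
    apply h1
    rw [hd, e, hKr k hk]; group
  have hd1 : d ≠ 1 := fun e => hw1 (conj_eq_one_iff.1 e)
  have hdr : d ≠ r := by
    intro e
    apply hwr
    have : w = k⁻¹ * d * k := by rw [hd]; group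
    rw [this, e]
    have h3 := hKr k hk
    calc k⁻¹ * r * k = k⁻¹ * (r * k) := by group
      _ = k⁻¹ * (k * r) := by rw [h3]
      _ = r := by group
  have hv1 : v ≠ 1 := by
    rintro rfl
    exact hvB B.one_mem
  -- the group `⟨r, w⟩`
  let D₁ : Subgroup G := ext ⊥ r (sq r hrW) (by
    intro x hx
    rw [mem_bot.1 hx, one_mul, mul_one])
  have hD₁W : D₁ ≤ W := ext_le bot_le hrW
  let D₂ : Subgroup G := ext D₁ w (sq w hwW) (fun x hx => cm x (hD₁W hx) w hwW)
  have hD₂B : D₂ ≤ B := ext_le (ext_le bot_le hrB) hw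
  have hD₂W : D₂ ≤ W := hD₂B.trans hB
  let A : Subgroup G := ext D₂ v (sq v hv) (fun x hx => cm x (hD₂W hx) v hv)
  have hAW : A ≤ W := ext_le hD₂W hv
  have hvA : v ∈ A := self_mem_ext
  have hwA : w ∈ A := le_ext self_mem_ext
  have hrA : r ∈ A := le_ext (le_ext self_mem_ext)
  have hdA : d ∉ A := by
    rintro (h3 | h3)
    · rcases h3 with (h3 | h3) | (h3 | h3)
      · exact hd1 (mem_bot.1 h3)
      · apply hdr
        have h4 := mem_bot.1 h3
        calc d = d * r * r := by rw [mul_assoc, sq r hrW, mul_one]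
          _ = r := by rw [h4, one_mul]
      · apply h1
        have h4 := mem_bot.1 h3
        calc d = d * w * w := by rw [mul_assoc, sq w hwW, mul_one]
          _ = w := by rw [h4, one_mul]
      · apply h2
        have h4 := mem_bot.1 h3
        calc d = d * w * r * r * w := by
              rw [mul_assoc (d * w), sq r hrW, mul_one, mul_assoc, sq w hwW, mul_one]
          _ = r * w := by rw [h4, one_mul]
          _ = w * r := cm r hrW w hwW
    · apply hvB
      have h4 := hD₂B h3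
      have : v = d⁻¹ * (d * v) := by group
      rw [this]
      exact B.mul_mem (B.inv_mem hdB) h4
  obtain ⟨t, ht, htA, htd⟩ := hf v hv hv1 A hAW hvA d hdW hdA
  have htr := htA r hrA
  have htw := htA w hwA
  have hk' : t * k * t⁻¹ ∈ K := hKn t ht (mul_inv_eq_iff_eq_mul.1 htr) k hk
  have h5 := hKB _ hk' w hw
  have htw' : t⁻¹ * w * t = w := by
    calc t⁻¹ * w * t = t⁻¹ * (t * w * t⁻¹) * t := by rw [htw]
      _ = w := by group
  have h6 : t * k * t⁻¹ * w * (t * k * t⁻¹)⁻¹ = d * v := by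
    calc t * k * t⁻¹ * w * (t * k * t⁻¹)⁻¹ = t * (k * (t⁻¹ * w * t) * k⁻¹) * t⁻¹ := by group
      _ = t * d * t⁻¹ := by rw [htw']
      _ = d * v := htd
  rw [h6] at h5
  apply hvB
  have : v = d⁻¹ * (d * v) := by group
  rw [this]
  exact B.mul_mem (B.inv_mem hdB) h5

/-- a subgroup `K` normalised by the stabiliser of `r` is trivial or irreducible on `W / ⟨r⟩` -/
theorem irr_of_full (hW : NatC C N W r) (hf : Full C W)
    (hKn : ∀ t ∈ C, t * r = r * t → ∀ k ∈ K, t * k * t⁻¹ ∈ K) (hKr : ∀ k ∈ K, k * r = r * k)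
    {B : Subgroup G} (hB : B ≤ W) (hrB : r ∈ B) (hKB : ∀ k ∈ K, ∀ x ∈ B, k * x * k⁻¹ ∈ B) :
    (∀ k ∈ K, ∀ w ∈ W, k * w * k⁻¹ = w ∨ k * w * k⁻¹ = w * r) ∨ (∀ x ∈ B, x = 1 ∨ x = r) ∨ W ≤ B := by
  have sq := hW.sq
  have cm : ∀ a ∈ W, ∀ c ∈ W, a * c = c * a := fun a ha c hc => comm_of_sq sq ha hc
  have hrW := hW.mem
  by_contra hcon
  push Not at hcon
  obtain ⟨⟨k, hk, w, hw, h1, h2⟩, ⟨b, hb, hb1, hbr⟩, hx⟩ := hcon
  obtain ⟨v, hv, hvB⟩ := Set.not_subset.1 hx
  have hv : v ∈ W := hv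
  have hvB : v ∉ B := hvB
  by_cases hwB : w ∈ B
  · rcases step hW hf hKn hKr hB hrB hKB hv hvB hwB hk with e | e
    · exact h1 e
    · exact h2 e
  -- an element of the stabiliser of `r` mapping `b` to `w`
  have hbW := hB hb
  set c := b * w with hc
  have hcW : c ∈ W := W.mul_mem hbW hw
  have hc1 : c ≠ 1 := by
    intro e
    apply hwB
    have : w = b⁻¹ * c := by rw [hc]; group
    rw [this, e, mul_one]
    exact B.inv_mem hb
  let D₁ : Subgroup G := ext ⊥ r (sq r hrW) (by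
    intro x hx
    rw [mem_bot.1 hx, one_mul, mul_one])
  have hD₁B : D₁ ≤ B := ext_le bot_le hrB
  let A : Subgroup G := ext D₁ c (sq c hcW) (fun x hx => cm x (hB (hD₁B hx)) c hcW)
  have hAW : A ≤ W := ext_le (hD₁B.trans hB) hcW
  have hbA : b ∉ A := by
    rintro (h3 | h3)
    · rcases h3 with h3 | h3
      · exact hb1 (mem_bot.1 h3)
      · apply hbr
        have h4 := mem_bot.1 h3
        calc b = b * r * r := by rw [mul_assoc, sq r hrW, mul_one]
          _ = r := by rw [h4, one_mul]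
    · apply hwB
      have h4 := hD₁B h3
      have h5 : b * c = w := by rw [hc, ← mul_assoc, sq b hbW, one_mul]
      rwa [h5] at h4
  obtain ⟨t, ht, htA, htb⟩ := hf c hcW hc1 A hAW self_mem_ext b hbW hbA
  have htr : t * r * t⁻¹ = r := htA r (le_ext self_mem_ext)
  have htb' : t * b * t⁻¹ = w := by rw [htb, hc, ← mul_assoc, sq b hbW, one_mul]
  have htr' : t * r = r * t := mul_inv_eq_iff_eq_mul.1 htr
  have hti : t⁻¹ * r = r * t⁻¹ := by
    rw [inv_mul_eq_iff_eq_mul, ← mul_assoc, htr', mul_inv_cancel_right]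
  have htW : ∀ x ∈ W, t * x * t⁻¹ ∈ W :=
    hW.blk t ht r hrW hW.ne (by rw [htr]; exact hrW)
  -- the conjugate of `B`
  let B' : Subgroup G := B.map (MulAut.conj t).toMonoidHom
  have hmem : ∀ x : G, x ∈ B' ↔ t⁻¹ * x * t ∈ B := by
    intro x
    constructor
    · rintro ⟨y, hy, rfl⟩
      change t⁻¹ * (t * y * t⁻¹) * t ∈ B
      have : t⁻¹ * (t * y * t⁻¹) * t = y := by group
      rw [this]; exact hy
    · intro hx
      refine ⟨_, hx, ?_⟩
      change t * (t⁻¹ * x * t) * t⁻¹ = x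
      group
  have hB' : B' ≤ W := by
    rintro _ ⟨y, hy, rfl⟩
    exact htW y (hB hy)
  have hrB' : r ∈ B' := by
    rw [hmem, hti, mul_assoc, inv_mul_cancel, mul_one]
    exact hrB
  have hKB' : ∀ k ∈ K, ∀ x ∈ B', k * x * k⁻¹ ∈ B' := by
    intro k hk x hx
    rw [hmem] at hx ⊢
    have h3 : t⁻¹ * k * t⁻¹⁻¹ ∈ K := hKn t⁻¹ (C.inv_mem ht) hti k hk
    have h4 := hKB _ h3 _ hx
    have e : t⁻¹ * (k * x * k⁻¹) * t = t⁻¹ * k * t⁻¹⁻¹ * (t⁻¹ * x * t) * (t⁻¹ * k * t⁻¹⁻¹)⁻¹ := by group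
    rw [e]; exact h4
  have hv' : t * v * t⁻¹ ∉ B' := by
    rw [hmem]
    have : t⁻¹ * (t * v * t⁻¹) * t = v := by group
    rw [this]; exact hvB
  have hw' : w ∈ B' := by
    rw [← htb']
    exact ⟨b, hb, rfl⟩
  rcases step hW hf hKn hKr hB' hrB' hKB' (htW v hv) hv' hw' hk with e | e
  · exact h1 e
  · exact h2 e

end irr

end Cfsg.Agent.Omega.HOne.JunIrr
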