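import Cfsg.Agent.Omega.HTwo.AlphaP
import Cfsg.Agent.Omega.HOne.JunIrr
import Cfsg.Agent.Omega.HOne.TvDef

/-!
# II.0h1, `q = 2`, JUNCTION (A), (B) (#17185)

`Z = Ω₁(Z(S)) = zc S`, `Z₀ = zc S ⊓ C(P)`, `Z(Q o) = ZQ R o`, `M₀ = ⟨C(Z), X⟩`.

* `exists_avg` (A) : `c ∈ Z(Q o)` with `r₂ c R o` fixed by the stabiliser of `V Z(Q o)` in `N(R o)`;
* `mem_of_alpha` (B) : if `⟨V^{M₀}⟩ ≤ Q o` then `c ∈ R o × C_X`;
* `exists_z` : if `⟨V^{M₀}⟩ ≤ Q o` then there is `z ∈ Z₀`, `z ≠ 1`, such that `a ∈ N(R o) ∩ C(z)`,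
  `V^a ≤ V Z(Q o)` implies `V^a = V`;
* `noPar` : the field `noPar` of `TvH`.
-/

set_option autoImplicit false
set_option linter.unusedSectionVars false

namespace Cfsg.Agent.Omega.HOne.JunAB

open Subgroup Cfsg Cfsg.Agent.MinSimple.VModule Cfsg.Agent.Omega.BTwo
open Cfsg.Agent.Omega.HOneTwo Cfsg.Agent.Omega.HTwo Cfsg.Agent.Omega.HTwo.ThmA Cfsg.Agent.Omega.HTwo.Par
open Cfsg.Agent.Omega.HTwo.Hat Cfsg.Agent.Omega.HTwo.TComp Cfsg.Agent.Omega.MinPar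
open Cfsg.Agent.ZN (zc o2 le_normalizer_o2)
open Cfsg.Agent.Omega.HTwo.AlphaFive (mem_C r_ne r_mem r_sq mem_N_iff cj_V_le exists_h exists_mv cl_le_zc)
open Cfsg.Agent.Omega.HTwo.AlphaOne (comm_mem_R)
open Cfsg.Agent.Omega.HTwo.AlphaP (le_Q_of_comm exists_conj_X)
open Cfsg.Agent.Omega.HOne.JunIrr

universe u

variable {G : Type u} [Group G] [Finite G] {ι : Type*} {S : Sylow 2 G} {P V : Subgroup G}
  {R : ι → Subgroup G} {o : ι} (b : HT S P V R o) {r : G} (hr : ∀ x, x ∈ R o ↔ x = 1 ∨ x = r)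
include b hr

section basic

variable {j : ι} (hj : j ≠ o) {r₂ : G} (h2 : r₂ ∈ R j) (h21 : r₂ ≠ 1)
include hj h2 h21

/-- `V = R o ∪ r₂ R o` -/
theorem mem_V {v : G} (hv : v ∈ V) : v ∈ R o ∨ r₂⁻¹ * v ∈ R o := by
  have _ := hr
  obtain ⟨a, ha, c, hc, rfl⟩ := b.exists_mul (Ne.symm hj) hv
  by_cases hc1 : c = 1
  · left
    rw [hc1, mul_one]; exact ha
  · right
    rw [eq_of_card_two (b.card_R j) h2 h21 hc hc1, b.V_comm a (b.R_le o ha) r₂ (b.R_le j h2),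
      inv_mul_cancel_left]
    exact ha

/-- `V Z(Q o) = Z(Q o) ∪ r₂ Z(Q o)` -/
theorem mem_VZ {x : G} (hx : x ∈ V ⊔ ZQ R o) : x ∈ ZQ R o ∨ r₂⁻¹ * x ∈ ZQ R o := by
  have hle : ZQ R o ≤ normalizer (V : Set G) := (ZQ_le o).trans (b.Q_le_NV o)
  rw [← SetLike.mem_coe, coe_mul_of_right_le_normalizer_left _ _ hle] at hx
  obtain ⟨v, hv, n, hn, rfl⟩ := hx
  change v * n ∈ ZQ R o ∨ r₂⁻¹ * (v * n) ∈ ZQ R o
  rcases mem_V b hr hj h2 h21 hv with h | h
  · exact Or.inl (mul_mem (R_le_ZQ b.toBT o h) hn)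
  · right
    rw [← mul_assoc]
    exact mul_mem (R_le_ZQ b.toBT o h) hn

theorem not_mem_ZQ : r₂ ∉ ZQ R o := by
  intro h
  obtain ⟨t, ht, v, hv, hne⟩ := exists_mv b hr
  apply hne
  have hvZ : v ∈ ZQ R o := by
    rcases mem_V b hr hj h2 h21 hv with h3 | h3
    · exact R_le_ZQ b.toBT o h3
    · have : v = r₂ * (r₂⁻¹ * v) := by group
      rw [this]
      exact mul_mem h (R_le_ZQ b.toBT o h3)
  exact ZQ_comm hvZ ht

/-- the averaging lemma -/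
theorem avg {A D : Subgroup G} (hSA : (S : Subgroup G) ≤ A) (hA : A ≤ normalizer (R o : Set G))
    (hRD : R o ≤ D) (hDZ : D ≤ ZQ R o) (hAD : ∀ a ∈ A, ∀ d ∈ D, a * d * a⁻¹ ∈ D)
    (h : ∀ a ∈ A, r₂⁻¹ * a * r₂ * a⁻¹ ∈ D) :
    ∃ d ∈ D, ∀ a ∈ A, (r₂ * d)⁻¹ * a * (r₂ * d) * a⁻¹ ∈ R o := by
  have hLE := Alpha.HT.le_all b
  have h2V := b.R_le j h2
  refine Avg.avg (X := A) (P := (S : Subgroup G)) (Y := D) (D := R o) (c := r₂) hSA
    (ThmD.odd_relIndex S hSA) hRD hAD (fun a ha x hx => conj_mem_of_normalizer (hA ha) hx)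
    (fun x hx y hy => conj_mem_of_normalizer (b.Q_le o (ZQ_le o (hDZ hx))) hy)
    (fun x hx => Q_sq b.toBTS (hLE o) (ZQ_le o (hDZ hx))) h (fun s hs => ?_)
  have h3 := comm_mem_R b (b.S_V hs) (b.S_R hs) h2V
  have h4 : r₂ ∈ normalizer (R o : Set G) := b.Q_le o (b.V_Q o h2V)
  have h5 := conj_inv_mem_of_normalizer h4 h3
  have e : r₂⁻¹ * (s * r₂ * s⁻¹ * r₂⁻¹) * r₂ = r₂⁻¹ * s * r₂ * s⁻¹ := by group
  rwa [e] at h5

/-- **(A)** -/
theorem exists_avg : ∃ c ∈ ZQ R o, ∀ a ∈ normalizer (R o : Set G), (∀ v ∈ V, a * v * a⁻¹ ∈ V ⊔ ZQ R o) →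
    (r₂ * c)⁻¹ * a * (r₂ * c) * a⁻¹ ∈ R o := by
  have hnZ : normalizer (R o : Set G) ≤ normalizer (ZQ R o : Set G) := N_le_NZQ o
  obtain ⟨c, hc, H⟩ := avg b hr hj h2 h21 (A := normalizer (R o : Set G) ⊓ normalizer ((V ⊔ ZQ R o : Subgroup G) : Set G))
    (D := ZQ R o) (by
      refine le_inf b.S_R fun s hs => ?_
      rw [← cj_eq_self_iff, cj_sup, cj_eq_self_iff.2 (b.S_V hs), cj_eq_self_iff.2 (hnZ (b.S_R hs))])
    inf_le_left (R_le_ZQ b.toBT o) le_rfl (fun a ha d hd => conj_mem_of_normalizer (hnZ ha.1) hd) (by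
      intro a ha
      have h3 : a * r₂ * a⁻¹ ∈ V ⊔ ZQ R o :=
        conj_mem_of_normalizer ha.2 (mem_sup_left (b.R_le j h2))
      rcases mem_VZ b hr hj h2 h21 h3 with h4 | h4
      · exfalso
        have h5 := conj_inv_mem_of_normalizer (hnZ ha.1) h4
        have e : a⁻¹ * (a * r₂ * a⁻¹) * a = r₂ := by group
        rw [e] at h5
        exact not_mem_ZQ b hr hj h2 h21 h5
      · have e : r₂⁻¹ * (a * r₂ * a⁻¹) = r₂⁻¹ * a * r₂ * a⁻¹ := by group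
        rwa [e] at h4)
  refine ⟨c, hc, fun a ha hav => H a ⟨ha, mem_normalizer_of_conj fun x hx => ?_⟩⟩
  have hle : ZQ R o ≤ normalizer (V : Set G) := (ZQ_le o).trans (b.Q_le_NV o)
  rw [← SetLike.mem_coe, coe_mul_of_right_le_normalizer_left _ _ hle] at hx
  obtain ⟨v, hv, n, hn, rfl⟩ := hx
  change a * (v * n) * a⁻¹ ∈ V ⊔ ZQ R o
  have e : a * (v * n) * a⁻¹ = (a * v * a⁻¹) * (a * n * a⁻¹) := by group
  rw [e]
  exact mul_mem (hav v hv) (mem_sup_right (conj_mem_of_normalizer (hnZ ha) hn))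

/-- `N(V) ∩ N(R o)` fixes `c R o` -/
theorem fix_c {c a : G} (hc : c ∈ ZQ R o) (haV : a ∈ normalizer (V : Set G))
    (haR : a ∈ normalizer (R o : Set G)) (H : (r₂ * c)⁻¹ * a * (r₂ * c) * a⁻¹ ∈ R o) :
    a * c * a⁻¹ * c⁻¹ ∈ R o := by
  have h2V := b.R_le j h2
  have h3 := comm_mem_R b haV haR h2V
  have h4 : r₂ ∈ normalizer (R o : Set G) := b.Q_le o (b.V_Q o h2V)
  have h5 := conj_inv_mem_of_normalizer h4 h3
  have e : r₂⁻¹ * (a * r₂ * a⁻¹ * r₂⁻¹) * r₂ = r₂⁻¹ * a * r₂ * a⁻¹ := by group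
  rw [e] at h5
  have hcN : c ∈ normalizer (R o : Set G) := b.Q_le o (ZQ_le o hc)
  have h6 := conj_mem_of_normalizer hcN H
  have e2 : c * ((r₂ * c)⁻¹ * a * (r₂ * c) * a⁻¹) * c⁻¹ =
      (r₂⁻¹ * a * r₂ * a⁻¹) * (a * c * a⁻¹ * c⁻¹) := by group
  rw [e2] at h6
  have := mul_mem (inv_mem h5) h6
  rwa [inv_mul_cancel_left] at this

end basic

/-! ### (B) -/

/-- a product in `Z(Q i) ∩ Q j` -/
theorem of_conj {c x : G} {i j : ι} (hx : x ∈ XX V R) (e : cj x (R o) = R i) (hij : i ≠ j)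
    (hc : c ∈ ZQ R o) (h : x * c * x⁻¹ ∈ QQ (R j)) : ∃ a ∈ R o, a * c ∈ CenX V R := by
  have _ := hr
  have h1 : x * c * x⁻¹ ∈ ZQ R i := by
    rw [← cj_ZQ b.toBT e]; exact conj_mem_cj hc
  obtain ⟨a, ha, h2⟩ := ZQ_Q b.toBTS hij h1 h
  refine ⟨x⁻¹ * a * x, ?_, ?_⟩
  · rw [← e, mem_cj] at ha
    exact ha
  · have h3 := conj_inv_mem_of_normalizer (b.NV_le_NCenX (b.X_le_NV hx)) h2
    have e2 : x⁻¹ * (a * (x * c * x⁻¹)) * x = x⁻¹ * a * x * c := by group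
    rwa [e2] at h3

/-- (i): if the normal closure of `n` normalises `V`, then `n ∈ Q o` -/
theorem mem_Q_of_norm {n : G} (hn : n ∈ normalizer (R o : Set G))
    (h : cl (zpowers n) (normalizer (R o : Set G)) ≤ normalizer (V : Set G)) : n ∈ QQ (R o) := by
  have _ := hr
  rw [← b.toBTS.K_eq o]
  refine ⟨hn, ?_⟩
  let T : Subgroup G :=
    { carrier := {d | d ∈ normalizer (R o : Set G) ∧ n * d * n⁻¹ * d⁻¹ ∈ R o}
      one_mem' := ⟨one_mem _, by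
        have : n * 1 * n⁻¹ * 1⁻¹ = 1 := by group
        rw [this]; exact one_mem _⟩
      mul_mem' := by
        rintro x y ⟨hx, hx'⟩ ⟨hy, hy'⟩
        refine ⟨mul_mem hx hy, ?_⟩
        have e : n * (x * y) * n⁻¹ * (x * y)⁻¹ = (n * x * n⁻¹ * x⁻¹) * (x * (n * y * n⁻¹ * y⁻¹) * x⁻¹) := by
          group
        rw [e]
        exact mul_mem hx' (conj_mem_of_normalizer hx hy')
      inv_mem' := by
        rintro x ⟨hx, hx'⟩
        refine ⟨inv_mem hx, ?_⟩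
        have e : n * x⁻¹ * n⁻¹ * x⁻¹⁻¹ = x⁻¹ * (n * x * n⁻¹ * x⁻¹)⁻¹ * x := by group
        rw [e]
        exact conj_inv_mem_of_normalizer hx (inv_mem hx') }
  have hT : WW V (R o) ≤ T := by
    refine iSup_le fun h' => ?_
    rintro _ ⟨v, hv, rfl⟩
    change (h' : G) * v * (h' : G)⁻¹ ∈ T
    refine ⟨b.W_le_N o (cj_le_WW h'.2 (conj_mem_cj hv)), ?_⟩
    have h1 : (h' : G)⁻¹ * n * (h' : G)⁻¹⁻¹ ∈ cl (zpowers n) (normalizer (R o : Set G)) :=
      cj_le_cl (inv_mem h'.2) (conj_mem_cj (mem_zpowers n))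
    rw [inv_inv] at h1
    have h3 : (h' : G)⁻¹ * n * (h' : G) ∈ normalizer (R o : Set G) := mul_mem (mul_mem (inv_mem h'.2) hn) h'.2
    have h4 := conj_mem_of_normalizer h'.2 (comm_mem_R b (h h1) h3 hv)
    have e : (h' : G) * ((h' : G)⁻¹ * n * h' * v * ((h' : G)⁻¹ * n * h')⁻¹ * v⁻¹) * (h' : G)⁻¹ =
        n * (h' * v * (h' : G)⁻¹) * n⁻¹ * (h' * v * (h' : G)⁻¹)⁻¹ := by group
    rwa [e] at h4
  exact fun d hd => (hT hd).2

/-- `Z ≤ Z(Q o)` -/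
theorem zc_le_ZQ : zc (S : Subgroup G) ≤ ZQ R o := by
  have _ := hr
  intro z hz
  have h1 := b.zc_le_zc_Q hz
  refine ⟨zc_le _ h1, mem_centralizer_iff.2 fun q hq => ?_⟩
  exact (mem_zc.1 h1).2.1 q hq

/-- an element of `C_X` fixed by `S` modulo `R o` is in `Z` -/
theorem mem_zc_of {c : G} (hc : c ∈ CenX V R) (h : ∀ s ∈ (S : Subgroup G), s * c * s⁻¹ * c⁻¹ ∈ R o) :
    c ∈ zc (S : Subgroup G) ⊓ centralizer (P : Set G) := by
  have _ := hr
  have hLE := Alpha.HT.le_all b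
  rw [b.cz_eq]
  refine ⟨mem_zc.2 ⟨b.Q_le_S (mem_iInf.1 (b.toBTS.CenX_le_C hc) o), fun s hs => ?_, ?_⟩, hc⟩
  · have h1 : s * c * s⁻¹ * c⁻¹ ∈ CenX V R :=
      mul_mem (conj_mem_of_normalizer (b.NV_le_NCenX (b.S_V hs)) hc) (inv_mem hc)
    have h2 := b.toBTS.cen_VX (b.R_le o (h s hs)) h1
    exact mul_inv_eq_iff_eq_mul.1 (mul_inv_eq_one.1 h2)
  · rw [pow_two]; exact cenX_sq b.toBTS (hLE o) hc

/-- `M₀ = ⟨C(Z), X⟩` -/
def MZ (S : Sylow 2 G) (V : Subgroup G) (R : ι → Subgroup G) : Subgroup G :=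
  centralizer (zc (S : Subgroup G) : Set G) ⊔ XX V R

omit hr in
theorem MZ_le {z : G} (hz : z ∈ zc (S : Subgroup G) ⊓ centralizer (P : Set G)) :
    MZ S V R ≤ centralizer ({z} : Set G) := by
  refine sup_le (centralizer_le ?_) (b.X_le_cen hz)
  rintro _ rfl
  exact hz.1

/-- **(B)** -/
theorem mem_of_alpha {z₀ : G} (hz₀ : z₀ ∈ zc (S : Subgroup G) ⊓ centralizer (P : Set G)) (hz₀1 : z₀ ≠ 1)
    (hα : UM V (MZ S V R) ≤ QQ (R o)) {c : G} (hc : c ∈ ZQ R o)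
    (hcN : ∀ a ∈ normalizer (V : Set G), a ∈ normalizer (R o : Set G) → a * c * a⁻¹ * c⁻¹ ∈ R o) :
    ∃ a ∈ R o, a * c ∈ CenX V R := by
  classical
  have hLE := Alpha.HT.le_all b
  have bs := b.toBTS
  have hr1 := r_ne b hr
  have hr2 := r_sq b hr
  have hrR := r_mem b hr
  have hNr := fun g => @mem_N_iff G _ ι _ S P V R o b r hr g
  have hnZ : normalizer (R o : Set G) ≤ normalizer (ZQ R o : Set G) := N_le_NZQ o
  by_contra hcon
  obtain ⟨j, k, hj, hk, hjk⟩ := b.one_lt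
  obtain ⟨r₂, h21, h22, h2⟩ := b.exists_gen j
  have h2j : r₂ ∈ R j := (h2 _).2 (Or.inr rfl)
  have h2V := b.R_le j h2j
  -- `x` interchanges `o` and `j`
  obtain ⟨x, hx, ex, ex'⟩ := b.trans_X (Ne.symm hj) hj
  have hxV := b.X_le_NV hx
  -- (1) `c` commutes with `Z(Q j)`
  have h1 : ∀ m ∈ ZQ R j, m * c = c * m := by
    intro m hm
    have hmV := ZQ_le_cen b.toBT j hm
    have h3 := hcN m (cen_le_NV V hmV) (b.cen_le_N o hmV)
    have h4 : m * c * m⁻¹ * c⁻¹ ∈ CenX V R := by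
      rw [← ZQ_inf bs hLE (Ne.symm hj)]
      refine ⟨(ZQ R o).mul_mem (conj_mem_of_normalizer (hnZ (b.cen_le_N o hmV)) hc) ((ZQ R o).inv_mem hc), ?_⟩
      exact comm_mem_of' hm (N_le_NZQ j (b.cen_le_N j (ZQ_le_cen b.toBT o hc)))
    have h5 := bs.cen_VX (b.R_le o h3) h4
    exact mul_inv_eq_iff_eq_mul.1 (mul_inv_eq_one.1 h5)
  -- (2) `n₂` commutes with `Z(Q o)`
  obtain ⟨n, hn⟩ : ∃ n, n = x * c * x⁻¹ := ⟨_, rfl⟩
  have hnj : n ∈ ZQ R j := by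
    rw [hn, ← cj_ZQ b.toBT ex]; exact conj_mem_cj hc
  have hnV := ZQ_le_cen b.toBT j hnj
  have hnN : n ∈ normalizer (R o : Set G) := b.cen_le_N o hnV
  have hno : ∀ m ∈ ZQ R o, n * m = m * n := by
    intro m hm
    rw [← cj_ZQ b.toBT ex', mem_cj] at hm
    have h3 := h1 _ hm
    rw [hn]
    calc x * c * x⁻¹ * m = x * (c * (x⁻¹ * m * x)) * x⁻¹ := by group
      _ = x * ((x⁻¹ * m * x) * c) * x⁻¹ := by rw [h3]
      _ = m * (x * c * x⁻¹) := by group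
  have hnot : ∀ i, i ≠ j → n ∉ QQ (R i) := by
    intro i hi h
    apply hcon
    rw [hn] at h
    exact of_conj b hr hx ex (Ne.symm hi) hc h
  -- (3) the normal closure
  set K := cl (zpowers n) (normalizer (R o : Set G)) with hK
  have hKN : K ≤ normalizer (R o : Set G) := cl_le (by rw [zpowers_le]; exact hnN) le_normalizer
  have hKc : K ≤ centralizer (ZQ R o : Set G) := by
    refine cl_le ?_ (hnZ.trans (normalizer_le_normalizer_centralizer _))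
    rw [zpowers_le, mem_centralizer_iff]
    exact fun m hm => (hno m hm).symm
  have hKZ : K ≤ centralizer (zc (S : Subgroup G) : Set G) := hKc.trans (centralizer_le (zc_le_ZQ b hr))
  have hnK : n ∈ K := le_cl _ _ (mem_zpowers n)
  have hKn : normalizer (R o : Set G) ≤ normalizer (K : Set G) := le_normalizer_cl _ _
  have hKV : ¬ K ≤ normalizer (V : Set G) := fun h => hnot o (Ne.symm hj) (mem_Q_of_norm b hr hnN h)
  -- `M₀`, `U`
  obtain ⟨M, hM⟩ : ∃ M, M = MZ S V R := ⟨_, rfl⟩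
  rw [← hM] at hα
  have hZM : centralizer (zc (S : Subgroup G) : Set G) ≤ M := by rw [hM]; exact le_sup_left
  have hXM : XX V R ≤ M := by rw [hM]; exact le_sup_right
  have hMz₀ : M ≤ centralizer ({z₀} : Set G) := by rw [hM]; exact MZ_le b hz₀
  have hKM : K ≤ M := hKZ.trans hZM
  have hSM : (S : Subgroup G) ≤ M := fun s hs => hZM (mem_centralizer_iff.2 fun z hz => ((mem_zc.1 hz).2.1 s hs).symm)
  have hSr : ∀ s ∈ (S : Subgroup G), s * r = r * s := fun s hs => (hNr s).1 (b.S_R hs)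
  have hz2 : z₀ * z₀ = 1 := by rw [← pow_two]; exact (mem_zc.1 hz₀.1).2.2
  have hSz : ∀ s ∈ (S : Subgroup G), s * z₀ = z₀ * s := (mem_zc.1 hz₀.1).2.1
  have hUeq : cl (R o) M = UM V M := b.cl_R_eq (b.trans_of_X hXM)
  rw [← hUeq] at hα
  set U := cl (R o) M with hU
  have hUz := cl_le_zc b hr hz₀1 hz2 hSz
  have hUle : U ≤ cl (R o) (centralizer ({z₀} : Set G)) := iSup_le fun m => cj_le_cl (hMz₀ m.2)
  have hUcm : ∀ x ∈ U, ∀ y ∈ U, x * y = y * x := fun x hx y hy =>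
    (mem_zc.1 (hUz (hUle hy))).2.1 x (zc_le _ (hUz (hUle hx)))
  have hUsq : ∀ x ∈ U, x * x = 1 := fun x hx => by
    rw [← pow_two]; exact (mem_zc.1 (hUz (hUle hx))).2.2
  have hMU : M ≤ normalizer (U : Set G) := le_normalizer_cl _ _
  have hVU : V ≤ U := by rw [hUeq]; exact le_cl _ _
  -- `U ≤ Q i` for all `i`
  have hUQ : ∀ i, U ≤ QQ (R i) := by
    intro i
    obtain ⟨y, hy, e⟩ := b.trans_X_one o i
    have h3 := cj_mono (g := y) hα
    rwa [b.cj_QQ e, cj_eq_self_iff.2 (hMU (hXM hy))] at h3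
  have hZU : ∀ i, ∀ m ∈ ZQ R i, ∀ u ∈ U, m * u = u * m := fun i m hm u hu => (ZQ_comm hm (hUQ i hu)).symm
  -- `Q o` acts on `U` as transvections
  have hQU : ∀ q ∈ QQ (R o), ∀ n ∈ U, q * n * q⁻¹ = n ∨ q * n * q⁻¹ = n * r := by
    intro q hq n hn
    have h5 := Q_comm bs (hLE o) hq (hα hn)
    rcases (hr _).1 h5 with h6 | h6
    · left; exact mul_inv_eq_one.1 h6
    · right
      rw [mul_inv_eq_iff_eq_mul] at h6
      rw [h6]
      exact (b.QR o n (hα hn) r hrR).symm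
  have hmv : ∀ q : G, q ∉ centralizer (U : Set G) → ∃ n ∈ U, q * n * q⁻¹ ≠ n := by
    intro q hq
    by_contra hcon
    push Not at hcon
    exact hq (mem_centralizer_iff.2 fun n hn => (mul_inv_eq_iff_eq_mul.1 (hcon n hn)).symm)
  have hCZN : centralizer (zc (S : Subgroup G) : Set G) ≤ normalizer (R o : Set G) := by
    intro g hg
    rw [hNr]
    exact (mem_centralizer_iff.1 hg r (b.R_le_zc hrR)).symm
  by_cases hcase : ∃ a ∈ QQ (R o), ∃ c ∈ QQ (R o), a ∉ centralizer (U : Set G) ∧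
      c ∉ centralizer (U : Set G) ∧ a * c ∉ centralizer (U : Set G)
  · -- the component
    obtain ⟨a, ha, c', hc', hna, hnc, hnac⟩ := hcase
    have hQM : ∀ q ∈ QQ (R o), q ∈ M := fun q hq => hSM (b.Q_le_S hq)
    obtain ⟨W, hW, hF⟩ := natC_full_of_sylow S hSM hSr hr hr1 hUsq (hQM a ha)
      (hQM c' hc') (hQU a ha) (hQU c' hc') (hmv a hna) (hmv c' hnc) (hmv _ hnac)
    rw [← hU] at hW
    have hWU : W ≤ U := hW.W_le
    -- `V ≤ W`
    have hVW : V ≤ W := by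
      obtain ⟨t, ht, v, hv, hne⟩ := exists_mv b hr
      have hv1 : v ≠ 1 := by
        rintro rfl
        exact hne (by rw [mul_one, one_mul])
      obtain ⟨c, hc, e⟩ := exists_conj_X b hr hv hv1
      have h1 := hW.adj r hW.mem hr1 t (hQM t ht) (hQU t ht) c (hXM hc) (by
        rw [e]
        intro h
        exact hne (mul_inv_eq_iff_eq_mul.1 h))
      rw [e] at h1
      have h2 := cj_V_le b hr (k := 1) (one_mem _) hW.mem (v := v) (by rw [cj_one]; exact hv) (by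
        intro hvo
        apply hne
        have h3 := ((hr v).1 hvo).resolve_left hv1
        rw [h3]
        exact b.QR o t ht r hrR) h1
      rwa [cj_one] at h2
    have hKr : ∀ k ∈ K, k * r = r * k := fun k hk => (hNr k).1 (hKN hk)
    have hKW : ∀ k ∈ K, ∀ w ∈ W, k * w * k⁻¹ ∈ W := by
      intro k hk
      refine hW.blk k (hKM hk) r hW.mem hr1 ?_
      rw [hKr k hk, mul_inv_cancel_right]
      exact hW.mem
    have hKn' : ∀ t ∈ M, t * r = r * t → ∀ k ∈ K, t * k * t⁻¹ ∈ K := fun t _ htr k hk =>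
      conj_mem_of_normalizer (hKn ((hNr t).2 htr)) hk
    -- `h`
    obtain ⟨h, hh, v₀, hv₀, w, hw, hne⟩ := exists_h b hr
    have hhr : h * r = r * h := (hNr h).1 hh
    have hhi : h⁻¹ ∈ normalizer (R o : Set G) := inv_mem hh
    have hcjK : ∀ k ∈ K, ∀ y ∈ cj h W, k * y * k⁻¹ ∈ cj h W := by
      rintro k hk _ ⟨y, hy, rfl⟩
      change k * (h * y * h⁻¹) * k⁻¹ ∈ cj h W
      have h3 := hKW _ (conj_inv_mem_of_normalizer (hKn hh) hk) y hy
      have e : k * (h * y * h⁻¹) * k⁻¹ = h * (h⁻¹ * k * h * y * (h⁻¹ * k * h)⁻¹) * h⁻¹ := by group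
      rw [e]
      exact conj_mem_cj h3
    -- `C_W(W^{h⁻¹}) ≤ R o`
    have hcen : ∀ y ∈ cj h W, (∀ u ∈ W, y * u = u * y) → y ∈ R o := by
      rcases irr_of_full hW hF hKn' hKr (B := W ⊓ centralizer (cj h⁻¹ W : Set G)) inf_le_left
        ⟨hW.mem, mem_centralizer_iff.2 (by
          rintro _ ⟨y, hy, rfl⟩
          change h⁻¹ * y * h⁻¹⁻¹ * r = r * (h⁻¹ * y * h⁻¹⁻¹)
          have h3 := hUcm y (hWU hy) r (hWU hW.mem)
          rw [inv_inv]
          calc h⁻¹ * y * h * r = h⁻¹ * y * (h * r) := by group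
            _ = h⁻¹ * (y * r) * h := by rw [hhr]; group
            _ = (h⁻¹ * r * h) * (h⁻¹ * y * h) := by rw [h3]; group
            _ = (h⁻¹ * (r * h)) * (h⁻¹ * y * h) := by group
            _ = r * (h⁻¹ * y * h) := by rw [← hhr]; group)⟩ (by
          rintro k hk y ⟨hy, hy'⟩
          refine ⟨hKW k hk y hy, mem_centralizer_iff.2 ?_⟩
          rintro _ ⟨u, hu, rfl⟩
          change h⁻¹ * u * h⁻¹⁻¹ * (k * y * k⁻¹) = k * y * k⁻¹ * (h⁻¹ * u * h⁻¹⁻¹)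
          rw [inv_inv]
          have h3 : h * k⁻¹ * h⁻¹ ∈ K := conj_mem_of_normalizer (hKn hh) (K.inv_mem hk)
          have h4 := hKW _ h3 u hu
          have h5 := mem_centralizer_iff.1 hy' _ (conj_mem_cj (g := h⁻¹) h4)
          have e1 : h⁻¹ * (h * k⁻¹ * h⁻¹ * u * (h * k⁻¹ * h⁻¹)⁻¹) * h⁻¹⁻¹ = k⁻¹ * (h⁻¹ * u * h) * k := by
            group
          rw [e1] at h5
          calc h⁻¹ * u * h * (k * y * k⁻¹) = k * (k⁻¹ * (h⁻¹ * u * h) * k * y) * k⁻¹ := by group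
            _ = k * (y * (k⁻¹ * (h⁻¹ * u * h) * k)) * k⁻¹ := by rw [h5]
            _ = k * y * k⁻¹ * (h⁻¹ * u * h) := by group) with h3 | h3 | h3
      · exfalso
        apply hKV
        intro k hk
        refine mem_normalizer_of_conj fun v hv => ?_
        rcases h3 k hk v (hVW hv) with h4 | h4
        · rw [h4]; exact hv
        · rw [h4]; exact mul_mem hv (b.R_le o hrR)
      · intro y hy hy'
        have h4 : h⁻¹ * y * h ∈ W := mem_cj.1 hy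
        have h5 : h⁻¹ * y * h ∈ centralizer (cj h⁻¹ W : Set G) := by
          rw [mem_centralizer_iff]
          rintro _ ⟨u, hu, rfl⟩
          change h⁻¹ * u * h⁻¹⁻¹ * (h⁻¹ * y * h) = h⁻¹ * y * h * (h⁻¹ * u * h⁻¹⁻¹)
          have h6 := hy' u hu
          calc h⁻¹ * u * h⁻¹⁻¹ * (h⁻¹ * y * h) = h⁻¹ * (u * y) * h := by group
            _ = h⁻¹ * (y * u) * h := by rw [h6]
            _ = _ := by group
        have h6 := (hr _).2 (h3 _ ⟨h4, h5⟩)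
        have h7 := conj_mem_of_normalizer hh h6
        have e : h * (h⁻¹ * y * h) * h⁻¹ = y := by group
        rwa [e] at h7
      · exfalso
        obtain ⟨w', hw', rfl⟩ := hw
        change v₀ * (h * w' * h⁻¹) ≠ h * w' * h⁻¹ * v₀ at hne
        apply hne
        have h4 := (h3 (hVW hw')).2
        have h5 := mem_centralizer_iff.1 h4 _ (conj_mem_cj (g := h⁻¹) (hVW hv₀))
        rw [inv_inv] at h5
        calc v₀ * (h * w' * h⁻¹) = h * (h⁻¹ * v₀ * h * w') * h⁻¹ := by group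
          _ = h * (w' * (h⁻¹ * v₀ * h)) * h⁻¹ := by rw [h5]
          _ = h * w' * h⁻¹ * v₀ := by group
    -- `w` moves the point `j` to another point
    have hwW : w ∈ cj h W := cj_mono hVW hw
    have hwQ : w ∈ QQ (R o) := b.W_le_Q o (cj_le_WW hh hw)
    have hwV : w ∉ centralizer (V : Set G) := fun h3 => hne (mem_centralizer_iff.1 h3 v₀ hv₀)
    obtain ⟨l, hlj, hlo, hl⟩ := movesQ b.toBT hj hwQ hwV
    have hwn : w * n * w⁻¹ ∈ ZQ R l := by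
      rw [← cj_ZQ b.toBT hl]; exact conj_mem_cj hnj
    have h3 : w * n * w⁻¹ * n⁻¹ ∈ R o := by
      refine hcen _ ?_ ?_
      · have h4 := hcjK n hnK _ (inv_mem hwW)
        have e : w * n * w⁻¹ * n⁻¹ = w * (n * w⁻¹ * n⁻¹) := by group
        rw [e]
        exact mul_mem hwW h4
      · intro u hu
        have h4 := hZU l _ hwn u (hWU hu)
        have h5 := hZU j n hnj u (hWU hu)
        have h6 : n⁻¹ * u = u * n⁻¹ := by
          rw [inv_mul_eq_iff_eq_mul, ← mul_assoc, h5, mul_inv_cancel_right]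
        rw [mul_assoc, h6, ← mul_assoc, h4, mul_assoc]
    apply hnot l hlj
    have e : n = (w * n * w⁻¹ * n⁻¹)⁻¹ * (w * n * w⁻¹) := by group
    rw [e]
    exact mul_mem (inv_mem (b.V_Q l (b.R_le o h3))) (ZQ_le l hwn)
  · -- `|Q o : C(U)| = 2`
    push Not at hcase
    obtain ⟨t, ht, v, hv, hne⟩ := exists_mv b hr
    have htU : t ∉ centralizer (U : Set G) := fun h3 => hne (mem_centralizer_iff.1 h3 v (hVU hv)).symm
    have htr : t * r = r * t := b.QR o t ht r hrR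
    have htr₂ : t * r₂ * t⁻¹ = r₂ * r := by
      refine (hQU t ht r₂ (hVU h2V)).resolve_left fun h3 => hne ?_
      have h3' : t * r₂ = r₂ * t := mul_inv_eq_iff_eq_mul.1 h3
      rcases mem_V b hr hj h2j h21 hv with h4 | h4
      · exact b.QR o t ht v h4
      · have h5 := b.QR o t ht _ h4
        calc t * v = t * r₂ * (r₂⁻¹ * v) := by group
          _ = r₂ * (t * (r₂⁻¹ * v)) := by rw [h3']; group
          _ = v * t := by rw [h5]; group
    have key : ∀ u ∈ U, t * u * t⁻¹ = u → u ∈ ZQ R o := by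
      intro u hu h3
      refine ⟨hα hu, mem_centralizer_iff.2 fun q hq => ?_⟩
      by_cases hqU : q ∈ centralizer (U : Set G)
      · exact (mem_centralizer_iff.1 hqU u hu).symm
      · have h4 := hcase t ht q hq htU hqU
        have h5 := mem_centralizer_iff.1 h4 u hu
        have h6 : t * u = u * t := mul_inv_eq_iff_eq_mul.1 h3
        apply mul_left_cancel (a := t)
        rw [← mul_assoc, ← h5, ← mul_assoc, ← h6, mul_assoc]
    have hdec : ∀ u ∈ U, u ∈ ZQ R o ∨ r₂⁻¹ * u ∈ ZQ R o := by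
      intro u hu
      rcases hQU t ht u hu with h3 | h3
      · exact Or.inl (key u hu h3)
      · right
        have h4 : r₂⁻¹ * u ∈ U := mul_mem (inv_mem (hVU h2V)) hu
        refine key _ h4 ?_
        have h5 := hUcm r (hVU (b.R_le o hrR)) _ h4
        calc t * (r₂⁻¹ * u) * t⁻¹ = (t * r₂ * t⁻¹)⁻¹ * (t * u * t⁻¹) := by group
          _ = r⁻¹ * ((r₂⁻¹ * u) * r) := by rw [htr₂, h3]; group
          _ = r₂⁻¹ * u := by rw [← h5]; group
    have hCZM : ∀ a ∈ centralizer (zc (S : Subgroup G) : Set G), ∀ u ∈ U, a * u * a⁻¹ ∈ U := fun a ha u hu =>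
      conj_mem_of_normalizer (hMU (hZM ha)) hu
    obtain ⟨d, hd, H⟩ := avg b hr hj h2j h21 (A := centralizer (zc (S : Subgroup G) : Set G))
      (D := U ⊓ ZQ R o)
      (fun s hs => mem_centralizer_iff.2 fun z hz => ((mem_zc.1 hz).2.1 s hs).symm) hCZN
      (le_inf ((b.R_le o).trans hVU) (R_le_ZQ b.toBT o)) inf_le_right
      (fun a ha d hd => ⟨hCZM a ha d hd.1, conj_mem_of_normalizer (hnZ (hCZN ha)) hd.2⟩)
      (by
        intro a ha
        have h3 := hCZM a ha r₂ (hVU h2V)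
        have e : r₂⁻¹ * a * r₂ * a⁻¹ = r₂⁻¹ * (a * r₂ * a⁻¹) := by group
        rw [e]
        refine ⟨U.mul_mem (U.inv_mem (hVU h2V)) h3, ?_⟩
        refine (hdec _ h3).resolve_left fun h4 => ?_
        have h5 := conj_inv_mem_of_normalizer (hnZ (hCZN ha)) h4
        have e : a⁻¹ * (a * r₂ * a⁻¹) * a = r₂ := by group
        rw [e] at h5
        exact not_mem_ZQ b hr hj h2j h21 h5)
    obtain ⟨a, ha, had⟩ := ZQ_Q bs (Ne.symm hj) hd.2 (hUQ j hd.1)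
    have hadZ := mem_zc_of b hr had (by
      intro s hs
      have h3 := fix_c b hr hj h2j h21 hd.2 (b.S_V hs) (b.S_R hs)
        (H s (mem_centralizer_iff.2 fun z hz => ((mem_zc.1 hz).2.1 s hs).symm))
      have e : s * (a * d) * s⁻¹ * (a * d)⁻¹ = (s * a * s⁻¹) * (s * d * s⁻¹ * d⁻¹) * a⁻¹ := by group
      rw [e]
      exact mul_mem (mul_mem (conj_mem_of_normalizer (b.S_R hs) ha) h3) (inv_mem ha))
    apply hKV
    refine hKZ.trans fun m hm => mem_normalizer_of_conj fun v hv => ?_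
    have hmN := hCZN hm
    have h3 : a * d * m = m * (a * d) := mem_centralizer_iff.1 hm _ hadZ.1
    have h4 : a * m = m * a := by
      rcases (hr a).1 ha with rfl | rfl
      · rw [one_mul, mul_one]
      · exact ((hNr m).1 hmN).symm
    have h5 : d * m = m * d := by
      apply mul_left_cancel (a := a)
      rw [← mul_assoc, h3, ← mul_assoc, ← h4, mul_assoc]
    have h6 := H m hm
    have e1 : (r₂ * d)⁻¹ * m * (r₂ * d) * m⁻¹ = d⁻¹ * (r₂⁻¹ * m * r₂ * m⁻¹) * d := by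
      have e2 : d * m⁻¹ = m⁻¹ * d := by
        rw [eq_inv_mul_iff_mul_eq, ← mul_assoc, ← h5, mul_inv_cancel_right]
      calc (r₂ * d)⁻¹ * m * (r₂ * d) * m⁻¹ = d⁻¹ * r₂⁻¹ * m * r₂ * (d * m⁻¹) := by group
        _ = _ := by rw [e2]; group
    rw [e1] at h6
    have hdN : d ∈ normalizer (R o : Set G) := b.Q_le o (ZQ_le o hd.2)
    have h7 := conj_mem_of_normalizer hdN h6
    have e2 : d * (d⁻¹ * (r₂⁻¹ * m * r₂ * m⁻¹) * d) * d⁻¹ = r₂⁻¹ * m * r₂ * m⁻¹ := by group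
    rw [e2] at h7
    have h8 : m * r₂ * m⁻¹ ∈ V := by
      have e : m * r₂ * m⁻¹ = r₂ * (r₂⁻¹ * m * r₂ * m⁻¹) := by group
      rw [e]
      exact mul_mem h2V (b.R_le o h7)
    rcases mem_V b hr hj h2j h21 hv with h9 | h9
    · exact b.R_le o (conj_mem_of_normalizer hmN h9)
    · have e : m * v * m⁻¹ = (m * r₂ * m⁻¹) * (m * (r₂⁻¹ * v) * m⁻¹) := by group
      rw [e]
      exact mul_mem h8 (b.R_le o (conj_mem_of_normalizer hmN h9))

/-- **(A), (B)** : the choice of `z` -/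
theorem exists_z_aux {z₀ : G} (hz₀ : z₀ ∈ zc (S : Subgroup G) ⊓ centralizer (P : Set G)) (hz₀1 : z₀ ≠ 1)
    (hα : UM V (MZ S V R) ≤ QQ (R o)) :
    ∃ z ∈ zc (S : Subgroup G) ⊓ centralizer (P : Set G), z ≠ 1 ∧
      ∀ a ∈ normalizer (R o : Set G), a * z = z * a → (∀ v ∈ V, a * v * a⁻¹ ∈ V ⊔ ZQ R o) →
        a ∈ normalizer (V : Set G) := by
  have hNr := fun g => @mem_N_iff G _ ι _ S P V R o b r hr g
  obtain ⟨j, k, hj, hk, hjk⟩ := b.one_lt
  obtain ⟨r₂, h21, h22, h2⟩ := b.exists_gen j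
  have h2j : r₂ ∈ R j := (h2 _).2 (Or.inr rfl)
  have h2V := b.R_le j h2j
  obtain ⟨c, hc, H⟩ := exists_avg b hr hj h2j h21
  have hVn : ∀ a ∈ normalizer (V : Set G), ∀ v ∈ V, a * v * a⁻¹ ∈ V ⊔ ZQ R o := fun a ha v hv =>
    mem_sup_left (conj_mem_of_normalizer ha hv)
  obtain ⟨a, ha, hac⟩ := mem_of_alpha b hr hz₀ hz₀1 hα hc fun g hgV hgR =>
    fix_c b hr hj h2j h21 hc hgV hgR (H g hgR (hVn g hgV))
  have hZ := mem_zc_of b hr hac (by
    intro s hs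
    have h3 := fix_c b hr hj h2j h21 hc (b.S_V hs) (b.S_R hs) (H s (b.S_R hs) (hVn s (b.S_V hs)))
    have e : s * (a * c) * s⁻¹ * (a * c)⁻¹ = (s * a * s⁻¹) * (s * c * s⁻¹ * c⁻¹) * a⁻¹ := by group
    rw [e]
    exact mul_mem (mul_mem (conj_mem_of_normalizer (b.S_R hs) ha) h3) (inv_mem ha))
  have main : ∀ g ∈ normalizer (R o : Set G), g * (a * c) = a * c * g →
      (∀ v ∈ V, g * v * g⁻¹ ∈ V ⊔ ZQ R o) → g ∈ normalizer (V : Set G) := by
    intro g hg hgc hgV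
    refine mem_normalizer_of_conj fun v hv => ?_
    have h4 : g * a = a * g := by
      rcases (hr a).1 ha with rfl | rfl
      · rw [one_mul, mul_one]
      · exact (hNr g).1 hg
    have h5 : g * c = c * g := by
      apply mul_left_cancel (a := a)
      rw [← mul_assoc, ← h4, mul_assoc, hgc, mul_assoc]
    have h6 := H g hg hgV
    have e1 : (r₂ * c)⁻¹ * g * (r₂ * c) * g⁻¹ = c⁻¹ * (r₂⁻¹ * g * r₂ * g⁻¹) * c := by
      have e2 : c * g⁻¹ = g⁻¹ * c := by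
        rw [eq_inv_mul_iff_mul_eq, ← mul_assoc, h5, mul_inv_cancel_right]
      calc (r₂ * c)⁻¹ * g * (r₂ * c) * g⁻¹ = c⁻¹ * r₂⁻¹ * g * r₂ * (c * g⁻¹) := by group
        _ = _ := by rw [e2]; group
    rw [e1] at h6
    have hdN : c ∈ normalizer (R o : Set G) := b.Q_le o (ZQ_le o hc)
    have h7 := conj_mem_of_normalizer hdN h6
    have e2 : c * (c⁻¹ * (r₂⁻¹ * g * r₂ * g⁻¹) * c) * c⁻¹ = r₂⁻¹ * g * r₂ * g⁻¹ := by group
    rw [e2] at h7
    have h8 : g * r₂ * g⁻¹ ∈ V := by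
      have e : g * r₂ * g⁻¹ = r₂ * (r₂⁻¹ * g * r₂ * g⁻¹) := by group
      rw [e]
      exact mul_mem h2V (b.R_le o h7)
    rcases mem_V b hr hj h2j h21 hv with h9 | h9
    · exact b.R_le o (conj_mem_of_normalizer hg h9)
    · have e : g * v * g⁻¹ = (g * r₂ * g⁻¹) * (g * (r₂⁻¹ * v) * g⁻¹) := by group
      rw [e]
      exact mul_mem h8 (b.R_le o (conj_mem_of_normalizer hg h9))
  by_cases hz1 : a * c = 1
  · refine ⟨z₀, hz₀, hz₀1, fun g hg _ hgV => main g hg ?_ hgV⟩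
    rw [hz1, mul_one, one_mul]
  · exact ⟨a * c, hZ, hz1, fun g hg hgz hgV => main g hg hgz hgV⟩

omit hr in
/-- **(A), (B)** : the choice of `z` -/
theorem exists_z {z₀ : G} (hz₀ : z₀ ∈ zc (S : Subgroup G) ⊓ centralizer (P : Set G)) (hz₀1 : z₀ ≠ 1)
    (hα : UM V (MZ S V R) ≤ QQ (R o)) :
    ∃ z ∈ zc (S : Subgroup G) ⊓ centralizer (P : Set G), z ≠ 1 ∧
      ∀ a ∈ normalizer (R o : Set G), a * z = z * a → (∀ v ∈ V, a * v * a⁻¹ ∈ V ⊔ ZQ R o) →
        a ∈ normalizer (V : Set G) := by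
  obtain ⟨r, -, -, hr⟩ := b.exists_gen o
  exact exists_z_aux b hr hz₀ hz₀1 hα

/-- the field `noPar` of `TvH`, general form -/
theorem noPar' {M : Subgroup G}
    (H : ∀ a ∈ M, a ∈ normalizer (R o : Set G) → (∀ v ∈ V, a * v * a⁻¹ ∈ V ⊔ ZQ R o) →
      a ∈ normalizer (V : Set G)) {j : ι} (hj : j ≠ o) {t : G} (ht : t ∈ R j) (ht1 : t ≠ 1)
    {Q : G → Subgroup G} (hQ : Q r = QQ (R o)) :
    ∀ a a', TvDef.Adj M r t r a → TvDef.Adj M r t r a' → a * a' ∈ TvDef.ZC Q r → a' = a ∨ a' = r * a := by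
  rintro _ _ ⟨m, hm, hmr, rfl⟩ ⟨m', hm', hmr', rfl⟩ hZ
  have hNr := fun g => @mem_N_iff G _ ι _ S P V R o b r hr g
  have hnZ : normalizer (R o : Set G) ≤ normalizer (ZQ R o : Set G) := N_le_NZQ o
  have htV := b.R_le j ht
  have hmN : m ∈ normalizer (R o : Set G) := (hNr m).2 (mul_inv_eq_iff_eq_mul.1 hmr)
  have hmN' : m' ∈ normalizer (R o : Set G) := (hNr m').2 (mul_inv_eq_iff_eq_mul.1 hmr')
  have hQN : normalizer (R o : Set G) ≤ normalizer (QQ (R o) : Set G) := le_normalizer_O2 _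
  have htQ : t ∈ QQ (R o) := b.V_Q o htV
  have h1 : m * t * m⁻¹ * (m' * t * m'⁻¹) ∈ ZQ R o := by
    refine ⟨(QQ (R o)).mul_mem (conj_mem_of_normalizer (hQN hmN) htQ)
      (conj_mem_of_normalizer (hQN hmN') htQ), ?_⟩
    have h3 := hZ
    unfold TvDef.ZC at h3
    rwa [hQ] at h3
  obtain ⟨g, hg⟩ : ∃ g, g = m⁻¹ * m' := ⟨_, rfl⟩
  have hgN : g ∈ normalizer (R o : Set G) := by rw [hg]; exact mul_mem (inv_mem hmN) hmN'
  have hgM : g ∈ M := by rw [hg]; exact mul_mem (inv_mem hm) hm'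
  have h2 : t * (g * t * g⁻¹) ∈ ZQ R o := by
    have h3 := conj_inv_mem_of_normalizer (hnZ hmN) h1
    have e : m⁻¹ * (m * t * m⁻¹ * (m' * t * m'⁻¹)) * m = t * (g * t * g⁻¹) := by rw [hg]; group
    rwa [e] at h3
  have h3 : g * t * g⁻¹ ∈ V ⊔ ZQ R o := by
    have e : g * t * g⁻¹ = t⁻¹ * (t * (g * t * g⁻¹)) := by group
    rw [e]
    exact mul_mem (mem_sup_left (inv_mem htV)) (mem_sup_right h2)
  have h4 : g ∈ normalizer (V : Set G) := by
    refine H g hgM hgN fun v hv => ?_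
    rcases mem_V b hr hj ht ht1 hv with h9 | h9
    · exact mem_sup_left (b.R_le o (conj_mem_of_normalizer hgN h9))
    · have e : g * v * g⁻¹ = (g * t * g⁻¹) * (g * (t⁻¹ * v) * g⁻¹) := by group
      rw [e]
      exact mul_mem h3 (mem_sup_left (b.R_le o (conj_mem_of_normalizer hgN h9)))
  have h5 := comm_mem_R b h4 hgN htV
  have e : m' * t * m'⁻¹ = m * (g * t * g⁻¹ * t⁻¹) * m⁻¹ * (m * t * m⁻¹) := by rw [hg]; group
  rcases (hr _).1 h5 with h6 | h6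
  · left
    rw [e, h6, mul_one, mul_inv_cancel, one_mul]
  · right
    rw [e, h6, hmr]

/-- the field `noPar` of `TvH` -/
theorem noPar {z : G} {M : Subgroup G} (hMz : M ≤ centralizer ({z} : Set G))
    (H : ∀ a ∈ normalizer (R o : Set G), a * z = z * a → (∀ v ∈ V, a * v * a⁻¹ ∈ V ⊔ ZQ R o) →
      a ∈ normalizer (V : Set G)) {j : ι} (hj : j ≠ o) {t : G} (ht : t ∈ R j) (ht1 : t ≠ 1)
    {Q : G → Subgroup G} (hQ : Q r = QQ (R o)) :
    ∀ a a', TvDef.Adj M r t r a → TvDef.Adj M r t r a' → a * a' ∈ TvDef.ZC Q r → a' = a ∨ a' = r * a :=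
  noPar' b hr (fun a ha haN haV => H a haN (mem_C.1 (hMz ha)) haV) hj ht ht1 hQ

/-- **(3) of #15959** for `M ≥ S, X, Z(Q o)` centralising `Z₀` : no parallels -/
theorem norm_of_par {z₀ : G} (hz₀ : z₀ ∈ zc (S : Subgroup G) ⊓ centralizer (P : Set G)) (hz₀1 : z₀ ≠ 1)
    {M : Subgroup G} (hSM : (S : Subgroup G) ≤ M) (hXM : XX V R ≤ M) (hZM : ZQ R o ≤ M)
    (hMz : ∀ y ∈ zc (S : Subgroup G) ⊓ centralizer (P : Set G), M ≤ centralizer ({y} : Set G)) :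
    ∀ g ∈ M, g ∈ normalizer (R o : Set G) → (∀ v ∈ V, g * v * g⁻¹ ∈ V ⊔ ZQ R o) →
      g ∈ normalizer (V : Set G) := by
  have hLE := Alpha.HT.le_all b
  have bs := b.toBTS
  have hrR := r_mem b hr
  have hNr := fun g => @mem_N_iff G _ ι _ S P V R o b r hr g
  have hnZ : normalizer (R o : Set G) ≤ normalizer (ZQ R o : Set G) := N_le_NZQ o
  obtain ⟨j, k, hj, hk, hjk⟩ := b.one_lt
  obtain ⟨r₂, h21, h22, h2⟩ := b.exists_gen j
  have h2j : r₂ ∈ R j := (h2 _).2 (Or.inr rfl)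
  have h2V := b.R_le j h2j
  obtain ⟨x, hx, ex, ex'⟩ := b.trans_X (Ne.symm hj) hj
  have hxM := hXM hx
  -- `U`
  set U := UM V M with hU
  have hMU : M ≤ normalizer (U : Set G) := le_normalizer_cl _ _
  have hVU : V ≤ U := le_cl _ _
  have d := b.dt hz₀ hz₀1
  have hUle : U ≤ UM V (centralizer ({z₀} : Set G)) := iSup_le fun m => cj_le_cl (hMz z₀ hz₀ m.2)
  have hZjM : ZQ R j ≤ M := by
    rw [← cj_ZQ b.toBT ex, cj_le_iff]
    exact fun y hy => mul_mem (mul_mem hxM (hZM hy)) (inv_mem hxM)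
  have hDn : ∀ g ∈ M, g ∈ normalizer (R o : Set G) → ∀ y ∈ U ⊓ ZQ R o, g * y * g⁻¹ ∈ U ⊓ ZQ R o :=
    fun g hg hgN y hy => ⟨conj_mem_of_normalizer (hMU hg) hy.1, conj_mem_of_normalizer (hnZ hgN) hy.2⟩
  have hD : ∀ g ∈ M, g ∈ normalizer (R o : Set G) → g * r₂ * g⁻¹ ∈ V ⊔ ZQ R o →
      r₂⁻¹ * (g * r₂ * g⁻¹) ∈ U ⊓ ZQ R o := by
    intro g hg hgN h3
    refine ⟨U.mul_mem (U.inv_mem (hVU h2V)) (conj_mem_of_normalizer (hMU hg) (hVU h2V)), ?_⟩
    refine (mem_VZ b hr hj h2j h21 h3).resolve_left fun h4 => ?_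
    have h5 := conj_inv_mem_of_normalizer (hnZ hgN) h4
    have e : g⁻¹ * (g * r₂ * g⁻¹) * g = r₂ := by group
    rw [e] at h5
    exact not_mem_ZQ b hr hj h2j h21 h5
  obtain ⟨c, hc, H⟩ := avg b hr hj h2j h21
    (A := (M ⊓ normalizer (R o : Set G)) ⊓ normalizer ((V ⊔ ZQ R o : Subgroup G) : Set G))
    (D := U ⊓ ZQ R o) (by
      refine le_inf (le_inf hSM b.S_R) fun s hs => ?_
      rw [← cj_eq_self_iff, cj_sup, cj_eq_self_iff.2 (b.S_V hs), cj_eq_self_iff.2 (hnZ (b.S_R hs))])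
    (inf_le_left.trans inf_le_right) (le_inf ((b.R_le o).trans hVU) (R_le_ZQ b.toBT o)) inf_le_right
    (fun a ha d hd => hDn a ha.1.1 ha.1.2 d hd) (by
      intro a ha
      have h3 : a * r₂ * a⁻¹ ∈ V ⊔ ZQ R o :=
        conj_mem_of_normalizer ha.2 (mem_sup_left (b.R_le j h2j))
      have h4 := hD a ha.1.1 ha.1.2 h3
      have e : r₂⁻¹ * (a * r₂ * a⁻¹) = r₂⁻¹ * a * r₂ * a⁻¹ := by group
      rwa [e] at h4)
  have hA : ∀ a ∈ M, a ∈ normalizer (R o : Set G) → (∀ v ∈ V, a * v * a⁻¹ ∈ V ⊔ ZQ R o) →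
      a ∈ (M ⊓ normalizer (R o : Set G)) ⊓ normalizer ((V ⊔ ZQ R o : Subgroup G) : Set G) := by
    intro a haM haN haV
    refine ⟨⟨haM, haN⟩, mem_normalizer_of_conj fun y hy => ?_⟩
    have hle : ZQ R o ≤ normalizer (V : Set G) := (ZQ_le o).trans (b.Q_le_NV o)
    rw [← SetLike.mem_coe, coe_mul_of_right_le_normalizer_left _ _ hle] at hy
    obtain ⟨v, hv, n, hn, rfl⟩ := hy
    change a * (v * n) * a⁻¹ ∈ V ⊔ ZQ R o
    have e : a * (v * n) * a⁻¹ = (a * v * a⁻¹) * (a * n * a⁻¹) := by group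
    rw [e]
    exact mul_mem (haV v hv) (mem_sup_right (conj_mem_of_normalizer (hnZ haN) hn))
  have hVn : ∀ a ∈ normalizer (V : Set G), ∀ v ∈ V, a * v * a⁻¹ ∈ V ⊔ ZQ R o := fun a ha v hv =>
    mem_sup_left (conj_mem_of_normalizer ha hv)
  have hfix : ∀ a ∈ M, a ∈ normalizer (V : Set G) → a ∈ normalizer (R o : Set G) → a * c * a⁻¹ * c⁻¹ ∈ R o :=
    fun a haM haV haR => fix_c b hr hj h2j h21 hc.2 haV haR (H a (hA a haM haR (hVn a haV)))
  -- `c` commutes with `Z(Q j)`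
  have h1 : ∀ m ∈ ZQ R j, m * c = c * m := by
    intro m hm
    have hmV := ZQ_le_cen b.toBT j hm
    have h3 := hfix m (hZjM hm) (cen_le_NV V hmV) (b.cen_le_N o hmV)
    have h4 : m * c * m⁻¹ * c⁻¹ ∈ CenX V R := by
      rw [← ZQ_inf bs hLE (Ne.symm hj)]
      refine ⟨(ZQ R o).mul_mem (conj_mem_of_normalizer (hnZ (b.cen_le_N o hmV)) hc.2)
        ((ZQ R o).inv_mem hc.2), ?_⟩
      exact comm_mem_of' hm (N_le_NZQ j (b.cen_le_N j (ZQ_le_cen b.toBT o hc.2)))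
    have h5 := bs.cen_VX (b.R_le o h3) h4
    exact mul_inv_eq_iff_eq_mul.1 (mul_inv_eq_one.1 h5)
  have h3 : x * c * x⁻¹ ∈ QQ (R o) := by
    have h4 : x * c * x⁻¹ ∈ UM V (centralizer ({z₀} : Set G)) ⊓ QQ (R o) := by
      rw [← d.U_cen_N b.toBT o]
      refine ⟨hUle (conj_mem_of_normalizer (hMU hxM) hc.1), mem_centralizer_iff.2 fun m hm => ?_⟩
      have h6 := d.N_le o hm
      have hm' : m ∈ ZQ R o :=
        ⟨MinSimple.VModule.zc_le _ h6, mem_centralizer_iff.2 fun q hq => (mem_zc.1 h6).2.1 q hq⟩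
      rw [← cj_ZQ b.toBT ex', mem_cj] at hm'
      have h7 := h1 _ hm'
      calc m * (x * c * x⁻¹) = x * ((x⁻¹ * m * x) * c) * x⁻¹ := by group
        _ = x * (c * (x⁻¹ * m * x)) * x⁻¹ := by rw [h7]
        _ = x * c * x⁻¹ * m := by group
    exact h4.2
  obtain ⟨a, ha, hac⟩ := of_conj b hr hx ex hj hc.2 h3
  have hZ := mem_zc_of b hr hac (by
    intro s hs
    have h3 := hfix s (hSM hs) (b.S_V hs) (b.S_R hs)
    have e : s * (a * c) * s⁻¹ * (a * c)⁻¹ = (s * a * s⁻¹) * (s * c * s⁻¹ * c⁻¹) * a⁻¹ := by group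
    rw [e]
    exact mul_mem (mul_mem (conj_mem_of_normalizer (b.S_R hs) ha) h3) (inv_mem ha))
  intro g hgM hg hgV
  refine mem_normalizer_of_conj fun v hv => ?_
  have hgc : g * (a * c) = a * c * g := mem_C.1 (hMz _ hZ hgM)
  have h4 : g * a = a * g := by
    rcases (hr a).1 ha with rfl | rfl
    · rw [one_mul, mul_one]
    · exact (hNr g).1 hg
  have h5 : g * c = c * g := by
    apply mul_left_cancel (a := a)
    rw [← mul_assoc, ← h4, mul_assoc, hgc, mul_assoc]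
  have h6 := H g (hA g hgM hg hgV)
  have e1 : (r₂ * c)⁻¹ * g * (r₂ * c) * g⁻¹ = c⁻¹ * (r₂⁻¹ * g * r₂ * g⁻¹) * c := by
    have e2 : c * g⁻¹ = g⁻¹ * c := by
      rw [eq_inv_mul_iff_mul_eq, ← mul_assoc, h5, mul_inv_cancel_right]
    calc (r₂ * c)⁻¹ * g * (r₂ * c) * g⁻¹ = c⁻¹ * r₂⁻¹ * g * r₂ * (c * g⁻¹) := by group
      _ = _ := by rw [e2]; group
  rw [e1] at h6
  have hdN : c ∈ normalizer (R o : Set G) := b.Q_le o (ZQ_le o hc.2)
  have h7 := conj_mem_of_normalizer hdN h6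
  have e2 : c * (c⁻¹ * (r₂⁻¹ * g * r₂ * g⁻¹) * c) * c⁻¹ = r₂⁻¹ * g * r₂ * g⁻¹ := by group
  rw [e2] at h7
  have h8 : g * r₂ * g⁻¹ ∈ V := by
    have e : g * r₂ * g⁻¹ = r₂ * (r₂⁻¹ * g * r₂ * g⁻¹) := by group
    rw [e]
    exact mul_mem h2V (b.R_le o h7)
  rcases mem_V b hr hj h2j h21 hv with h9 | h9
  · exact b.R_le o (conj_mem_of_normalizer hg h9)
  · have e : g * v * g⁻¹ = (g * r₂ * g⁻¹) * (g * (r₂⁻¹ * v) * g⁻¹) := by group
    rw [e]
    exact mul_mem h8 (b.R_le o (conj_mem_of_normalizer hg h9))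

/-- **(3) of #15959** for `M₀ = ⟨C(Z), X⟩` -/
theorem norm_of_par_MZ {z₀ : G} (hz₀ : z₀ ∈ zc (S : Subgroup G) ⊓ centralizer (P : Set G)) (hz₀1 : z₀ ≠ 1) :
    ∀ g ∈ MZ S V R, g ∈ normalizer (R o : Set G) → (∀ v ∈ V, g * v * g⁻¹ ∈ V ⊔ ZQ R o) →
      g ∈ normalizer (V : Set G) := by
  have hCM : centralizer (zc (S : Subgroup G) : Set G) ≤ MZ S V R := le_sup_left
  refine norm_of_par b hr hz₀ hz₀1 (fun s hs => hCM ?_) le_sup_right (fun y hy => hCM ?_)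
    (fun y hy => MZ_le b hy)
  · exact mem_centralizer_iff.2 fun z hz => ((mem_zc.1 hz).2.1 s hs).symm
  · refine mem_centralizer_iff.2 fun z hz => ?_
    have h3 := zc_le_ZQ b hr hz
    exact ZQ_comm hy h3.1

end Cfsg.Agent.Omega.HOne.JunAB
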