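import Cfsg.Agent.Omega.HOne.NSDat

/-!
# II.0h1, nonsplit case: two members of `P*(S)` over the same `S` with noncommuting `V_P`

`common` : a mutual pair, one natural factor on both sides, `|F| ≥ 4`, `[V, O²(P)] ∩ C_V(O²(P)) ≠ 1` imply that there is
`P₃ ∈ P*(S)` with `[V_P, V_{P₃}] ≠ 1`.
-/

set_option autoImplicit false
set_option linter.unusedSectionVars false

namespace Cfsg.Agent.Omega.HOne.NSMain

open Subgroup Cfsg Cfsg.Agent.ZN Cfsg.Agent.Omega.MinPar Cfsg.Agent.Omega.FrameFF Cfsg.Agent.Lib.SL2Mat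
open Cfsg.Agent.Omega.NatPair (ap ap_add ap_inv_ap ext2)
open Cfsg.Agent.Omega.BTwo (cj mem_cj conj_mem_cj cj_one cj_mul cj_inv_cj cj_cj_inv cj_mono card_cj isPGroup_cj)
open Cfsg.Agent.Omega.HOne.NSMod Cfsg.Agent.Omega.HOne.NSSide Cfsg.Agent.Omega.HOne.NSPair
open Cfsg.Agent.Omega.HOne.NSPar Cfsg.Agent.Omega.HOne.NSDat Cfsg.Agent.Omega.HOne.NSClaim
open Cfsg.Agent.MinSimple.VModule
open Cfsg.Agent.MinSimple

universe u

variable {G : Type u} [Group G]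

/-! ### Conjugation -/

theorem exists_conj_le [Finite G] (S : Sylow 2 G) {N T : Subgroup G} (hS : (S : Subgroup G) ≤ N) (hT : IsPGroup 2 T)
    (hTN : T ≤ N) : ∃ n ∈ N, ∀ x ∈ T, n * x * n⁻¹ ∈ (S : Subgroup G) := by
  let S' : Sylow 2 N := S.subtype hS
  have hT' : IsPGroup 2 (T.subgroupOf N) := hT.comap_of_injective _ (subtype_injective N)
  obtain ⟨R, hR⟩ := hT'.exists_le_sylow
  obtain ⟨g, hg⟩ := MulAction.exists_smul_eq N R S'
  refine ⟨g, g.2, fun x hx => ?_⟩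
  have h1 : (⟨x, hTN hx⟩ : N) ∈ (R : Subgroup N) := hR (mem_subgroupOf.2 hx)
  have h2 : g * ⟨x, hTN hx⟩ * g⁻¹ ∈ ((g • R : Sylow 2 N) : Subgroup N) := by
    rw [Sylow.coe_subgroup_smul, mem_pointwise_smul_iff_inv_smul_mem]
    have e3 : (MulAut.conj g)⁻¹ • (g * ⟨x, hTN hx⟩ * g⁻¹) = ⟨x, hTN hx⟩ := by
      rw [← map_inv, MulAut.smul_def, MulAut.conj_apply]
      group
    rw [e3]
    exact h1
  rw [hg] at h2
  exact h2

theorem oddGen_cj (g : G) (X : Subgroup G) : oddGen (cj g X) = cj g (oddGen X) := by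
  unfold cj oddGen
  rw [MonoidHom.map_closure]
  congr 1
  ext x
  constructor
  · rintro ⟨⟨y, hy, rfl⟩, hy'⟩
    refine ⟨y, ⟨hy, ?_⟩, rfl⟩
    have : orderOf ((MulAut.conj g).toMonoidHom y) = orderOf y := orderOf_injective _ (MulAut.conj g).injective y
    rwa [this] at hy'
  · rintro ⟨y, ⟨hy, hy'⟩, rfl⟩
    refine ⟨⟨y, hy, rfl⟩, ?_⟩
    have : orderOf ((MulAut.conj g).toMonoidHom y) = orderOf y := orderOf_injective _ (MulAut.conj g).injective y
    rwa [this]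

theorem zl_cj (g : G) (B L : Subgroup G) : zl (cj g B) (cj g L) = cj g (zl B L) := MinSimple.CosetFam.zl_conj g B L

theorem cv_cj (g : G) (S P : Subgroup G) : cv (cj g S) (cj g P) = cj g (cv S P) := by
  unfold cv
  rw [zl_cj, oddGen_cj, BTwo.centralizer_cj, BTwo.cj_inf]

theorem isParS_cj {S P : Subgroup G} (h : IsParS S P) (g : G) : IsParS (cj g S) (cj g P) := h.map (MulAut.conj g)

/-- conjugates of `NatOver` -/
def natOver_cj {F : Type} [Field F] {P V D : Subgroup G} (M : NatOver F P V D) (g : G) :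
    NatOver F (cj g P) (cj g V) (cj g D) where
  e := fun x => M.e (g⁻¹ * x * g)
  mul v hv w hw := by
    rw [mem_cj] at hv hw
    have e1 : g⁻¹ * (v * w) * g = (g⁻¹ * v * g) * (g⁻¹ * w * g) := by group
    rw [e1, M.mul _ hv _ hw]
  surj x := by
    obtain ⟨v, hv, e⟩ := M.surj x
    refine ⟨g * v * g⁻¹, conj_mem_cj hv, ?_⟩
    have e1 : g⁻¹ * (g * v * g⁻¹) * g = v := by group
    rw [e1, e]
  ker v hv := by
    rw [mem_cj] at hv ⊢
    exact M.ker _ hv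
  lift A := by
    obtain ⟨h, hh, h1, h2⟩ := M.lift A
    refine ⟨g * h * g⁻¹, conj_mem_cj hh, fun v hv => ?_, fun d hd => ?_⟩
    · rw [mem_cj] at hv
      have e1 : g⁻¹ * (g * h * g⁻¹ * v * (g * h * g⁻¹)⁻¹) * g = h * (g⁻¹ * v * g) * h⁻¹ := by group
      rw [e1, h1 _ hv]
    · rw [mem_cj] at hd
      have e1 := h2 _ hd
      calc g * h * g⁻¹ * d = g * (h * (g⁻¹ * d * g)) * g⁻¹ := by group
        _ = g * (g⁻¹ * d * g * h) * g⁻¹ := by rw [e1]
        _ = _ := by group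
  norm x hx h hh A hA := by
    rw [mem_cj] at hx hh
    obtain ⟨B, hB⟩ := M.norm _ hx _ hh A (fun v hv => by
      have h1 := hA _ (conj_mem_cj hv)
      have e1 : g⁻¹ * (h * (g * v * g⁻¹) * h⁻¹) * g = (g⁻¹ * h * g) * v * (g⁻¹ * h * g)⁻¹ := by group
      have e2 : g⁻¹ * (g * v * g⁻¹) * g = v := by group
      rw [e1, e2] at h1
      exact h1)
    refine ⟨B, fun v hv => ?_⟩
    rw [mem_cj] at hv
    have h1 := hB _ hv
    have e1 : g⁻¹ * (x * h * x⁻¹ * v * (x * h * x⁻¹)⁻¹) * g = g⁻¹ * x * g * (g⁻¹ * h * g) * (g⁻¹ * x * g)⁻¹ *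
      (g⁻¹ * v * g) * (g⁻¹ * x * g * (g⁻¹ * h * g) * (g⁻¹ * x * g)⁻¹)⁻¹ := by group
    rw [e1, h1]

/-! ### The main argument, `V' ≤ S`, `V ≤ S'` -/

section main

variable [Finite G] (hG : IsCharacteristicTwoType G) (S S' : Sylow 2 G) {P P' : Subgroup G}
  (h : IsParS (S : Subgroup G) P) (h' : IsParS (S' : Subgroup G) P')
  {F : Type} [Field F] [Finite F]
  {π π' : G → Fin 2 → F} {e f g e' f' g' : F → G} {N N' : Subgroup G}

include hG h h' in
/-- `g(F) = g'(F) ≠ 1` is impossible. -/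
theorem kill (p : PairF (S : Subgroup G) (S' : Subgroup G) P P' (zl (S : Subgroup G) P) (zl (S' : Subgroup G) P')
      (cv (S : Subgroup G) P) (cv (S' : Subgroup G) P') π π' e f g e' f' g' N N')
    (hne : ¬ Com (zl (S : Subgroup G) P) (zl (S' : Subgroup G) P'))
    (h1 : ∀ y, ∃ y', g y = g' y') (h2 : ∀ y, ∃ y', g' y = g y') : ∀ y, g y = 1 := by
  by_contra hcon
  push Not at hcon
  obtain ⟨y, hy⟩ := hcon
  set U := p.φ.U with hU
  have hUV : U ≤ zl (S : Subgroup G) P := by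
    rintro _ ⟨y, rfl⟩
    exact p.φ.gV p.s.r y
  have hU2 : IsPGroup 2 U := S.isPGroup'.to_le (hUV.trans (((h.isLoc.zl_le S hG).trans (zc_le _)).trans
    ((o2_le_of_sylow S.isPGroup' (MinSimple.Basic.not_dvd_relIndex S h.le)))))
  have hU1 : U ≠ ⊥ := by
    intro h0
    have : g y ∈ U := ⟨y, rfl⟩
    rw [h0, mem_bot] at this
    exact hy this
  have hPU : P ≤ normalizer (U : Set G) := by
    intro x hx
    refine mem_normalizer_of_map_le ?_
    rintro _ ⟨_, ⟨y, rfl⟩, rfl⟩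
    obtain ⟨y', e1⟩ := p.φ.gP x hx y
    exact ⟨y', e1⟩
  have hP'U : P' ≤ normalizer (U : Set G) := by
    intro x hx
    refine mem_normalizer_of_map_le ?_
    rintro _ ⟨_, ⟨y, rfl⟩, rfl⟩
    obtain ⟨y₁, e0⟩ := h1 y
    obtain ⟨y₂, e1⟩ := p.φ'.gP x hx y₁
    obtain ⟨y₃, e2⟩ := h2 y₂
    refine ⟨y₃, ?_⟩
    change x * g y * x⁻¹ = _
    rw [e0, e1, e2]
  have hL : IsLoc (S : Subgroup G) (normalizer (U : Set G)) := isLoc_normalizer S hU2 hU1 (h.le.trans hPU)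
  have hL' : IsLoc (S' : Subgroup G) (normalizer (U : Set G)) := isLoc_normalizer S' hU2 hU1 (h'.le.trans hP'U)
  have h3 : zl (S : Subgroup G) P ≤ zc (o2 (normalizer (U : Set G))) :=
    (zl_le (zc_le_zl _ _) (hPU.trans (le_normalizer_zl _ _))).trans (hL.zl_le S hG)
  have h4 : zl (S' : Subgroup G) P' ≤ zc (o2 (normalizer (U : Set G))) :=
    (zl_le (zc_le_zl _ _) (hP'U.trans (le_normalizer_zl _ _))).trans (hL'.zl_le S' hG)
  exact hne fun x hx y hy => zc_comm _ _ (h3 hx) _ (h4 hy)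

include hG h in
/-- `g = 1` implies that `V` splits -/
theorem split_of (p : PairF (S : Subgroup G) (S' : Subgroup G) P P' (zl (S : Subgroup G) P) (zl (S' : Subgroup G) P')
      (cv (S : Subgroup G) P) (cv (S' : Subgroup G) P') π π' e f g e' f' g' N N')
    (hg : ∀ y, g y = 1) : ⁅zl (S : Subgroup G) P, oddGen P⁆ ⊓ cv (S : Subgroup G) P = ⊥ := by
  let V : Subgroup G := zl (S : Subgroup G) P
  let D : Subgroup G := cv (S : Subgroup G) P
  let L : Subgroup G :=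
    { carrier := {x | ∃ B, Is P V D π x B}
      one_mem' := ⟨1, p.s.r.is_one⟩
      mul_mem' := by
        rintro x y ⟨A, hA⟩ ⟨B, hB⟩
        exact ⟨_, p.s.r.is_mul hA hB⟩
      inv_mem' := by
        rintro x ⟨A, hA⟩
        exact ⟨_, p.s.r.is_inv hA⟩ }
  have hLP : L ≤ P := fun x ⟨_, hx⟩ => hx.mem
  have hPL : P ≤ normalizer (L : Set G) := by
    intro x hx
    refine mem_normalizer_of_map_le ?_
    rintro _ ⟨l, ⟨B, hB⟩, rfl⟩
    exact p.s.r.is_conj hx hB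
  have hodd : oddGen P ≤ L := by
    rcases IsPar.sup_eq_or_inf_le S h.toIsPar hLP hPL with h1 | h1
    · exact oddGen_le_of_sup hPL h1.ge h.le hLP S.isPGroup'
    · exfalso
      obtain ⟨a, ha, hal⟩ := p.s.full 1
      have h2 : a ∈ o2 P := h1 ⟨p.s.AS ha, _, hal⟩
      have h3 := o2_le_centralizer_zl h.le S.isPGroup' (MinSimple.Basic.not_dvd_relIndex S h.le)
        (h.isLoc.char2 S hG) h2
      have h4 := hal.act (f 1) (p.φ.fV 1)
      rw [← mem_centralizer_iff.1 h3 _ (p.φ.fV 1), mul_inv_cancel_right, p.φ.fπ, ap_lo] at h4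
      have := congrFun h4 1
      simp at this
  have hcm : ⁅V, oddGen P⁆ ≤ N := by
    rw [commutator_le]
    intro v hv x hx
    obtain ⟨B, hB⟩ := hodd hx
    have h1 := p.φ.cN x B hB v hv
    rw [commutatorElement_def]
    have e1 : v * x * v⁻¹ * x⁻¹ = (x * v * x⁻¹ * v⁻¹)⁻¹ := by group
    rw [e1]
    exact inv_mem h1
  rw [eq_bot_iff]
  rintro z ⟨hz, hzD⟩
  obtain ⟨y, rfl⟩ := p.φ.ND z (hcm hz) hzD
  rw [hg, mem_bot]

include hG h h' in
/-- the good case -/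
theorem main (p : PairF (S : Subgroup G) (S' : Subgroup G) P P' (zl (S : Subgroup G) P) (zl (S' : Subgroup G) P')
      (cv (S : Subgroup G) P) (cv (S' : Subgroup G) P') π π' e f g e' f' g' N N')
    (hne : ¬ Com (zl (S : Subgroup G) P) (zl (S' : Subgroup G) P'))
    (h1 : ∀ z, ∃ y', e z = g' y') (h2 : ∀ z, ∃ y', e' z = g y') (hg : ∀ y, g y = 1 → y = 0)
    (hg' : ∀ y, g' y = 1 → y = 0) :
    ∃ k : G, cj k (S' : Subgroup G) = S ∧ ¬ Com (zl (S : Subgroup G) P) (cj k (zl (S' : Subgroup G) P')) := by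
  -- `e(F) = g'(F)`, `e'(F) = g(F)`
  have hsurj : ∀ (a b : F → G), (∀ x y, a x = a y → x = y) → (∀ z, ∃ y, a z = b y) → ∀ y, ∃ z, b y = a z := by
    intro a b hai hab
    choose θ hθ using hab
    have hθi : Function.Injective θ := fun x y hxy => hai _ _ (by rw [hθ, hθ, hxy])
    intro y
    obtain ⟨z, rfl⟩ := Finite.surjective_of_injective hθi y
    exact ⟨z, (hθ z).symm⟩
  have h1' := hsurj e g' (fun _ _ hxy => p.φ.e_inj p.s.r hxy) h1
  have h2' := hsurj e' g (fun _ _ hxy => p.φ'.e_inj p.s'.r hxy) h2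
  obtain ⟨V, hV⟩ : ∃ V, V = zl (S : Subgroup G) P := ⟨_, rfl⟩
  obtain ⟨V', hV'⟩ : ∃ V', V' = zl (S' : Subgroup G) P' := ⟨_, rfl⟩
  obtain ⟨U, hU⟩ : ∃ U, U = p.φ.U := ⟨_, rfl⟩
  obtain ⟨U', hU'⟩ : ∃ U', U' = p.φ'.U := ⟨_, rfl⟩
  have mU : ∀ x, x ∈ U ↔ ∃ y, x = g y := fun x => by rw [hU]; rfl
  have mU' : ∀ x, x ∈ U' ↔ ∃ y, x = g' y := fun x => by rw [hU']; rfl
  have mUe : ∀ x, x ∈ U ↔ ∃ y, x = e' y := fun x => by
    rw [mU]
    constructor
    · rintro ⟨y, rfl⟩; exact h2' y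
    · rintro ⟨y, rfl⟩; exact h2 y
  have mUe' : ∀ x, x ∈ U' ↔ ∃ y, x = e y := fun x => by
    rw [mU']
    constructor
    · rintro ⟨y, rfl⟩; exact h1' y
    · rintro ⟨y, rfl⟩; exact h1 y
  have hVS : zl (S : Subgroup G) P ≤ (S : Subgroup G) := ((h.isLoc.zl_le S hG).trans (zc_le _)).trans
    (o2_le_of_sylow S.isPGroup' (MinSimple.Basic.not_dvd_relIndex S h.le))
  have hVS' : zl (S' : Subgroup G) P' ≤ (S' : Subgroup G) := ((h'.isLoc.zl_le S' hG).trans (zc_le _)).trans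
    (o2_le_of_sylow S'.isPGroup' (MinSimple.Basic.not_dvd_relIndex S' h'.le))
  have hUV : U ≤ zl (S : Subgroup G) P := fun x hx => by
    obtain ⟨y, rfl⟩ := (mU x).1 hx
    exact p.φ.gV p.s.r y
  have hUV' : U ≤ zl (S' : Subgroup G) P' := fun x hx => by
    obtain ⟨y, rfl⟩ := (mUe x).1 hx
    exact p.φ'.eV y
  have hU'V : U' ≤ zl (S : Subgroup G) P := fun x hx => by
    obtain ⟨y, rfl⟩ := (mUe' x).1 hx
    exact p.φ.eV y
  have hU'V' : U' ≤ zl (S' : Subgroup G) P' := fun x hx => by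
    obtain ⟨y, rfl⟩ := (mU' x).1 hx
    exact p.φ'.gV p.s'.r y
  have hU1 : U ≠ ⊥ := by
    intro h0
    have h3 : g 1 ∈ U := (mU _).2 ⟨1, rfl⟩
    rw [h0, mem_bot] at h3
    exact one_ne_zero (hg _ h3)
  have hU1' : U' ≠ ⊥ := by
    intro h0
    have h3 : g' 1 ∈ U' := (mU' _).2 ⟨1, rfl⟩
    rw [h0, mem_bot] at h3
    exact one_ne_zero (hg' _ h3)
  have hU2 : IsPGroup 2 U := S.isPGroup'.to_le (hUV.trans hVS)
  have hU2' : IsPGroup 2 U' := S'.isPGroup'.to_le (hU'V'.trans hVS')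
  have hPU : P ≤ normalizer (U : Set G) := by
    intro x hx
    refine mem_normalizer_of_map_le ?_
    rintro _ ⟨u, hu, rfl⟩
    obtain ⟨y, rfl⟩ := (mU u).1 hu
    exact (mU _).2 (p.φ.gP x hx y)
  have hPU' : P' ≤ normalizer (U' : Set G) := by
    intro x hx
    refine mem_normalizer_of_map_le ?_
    rintro _ ⟨u, hu, rfl⟩
    obtain ⟨y, rfl⟩ := (mU' u).1 hu
    exact (mU' _).2 (p.φ'.gP x hx y)
  have hSU' : (S : Subgroup G) ≤ normalizer (U' : Set G) := by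
    intro x hx
    refine mem_normalizer_of_map_le ?_
    rintro _ ⟨u, hu, rfl⟩
    obtain ⟨y, rfl⟩ := (mUe' u).1 hu
    exact (mUe' _).2 (p.norm_e hg hx y)
  have hSU : (S' : Subgroup G) ≤ normalizer (U : Set G) := by
    intro x hx
    refine mem_normalizer_of_map_le ?_
    rintro _ ⟨u, hu, rfl⟩
    obtain ⟨y, rfl⟩ := (mUe u).1 hu
    exact (mUe _).2 (p.symm.norm_e hg' hx y)
  let H : Subgroup G := normalizer (U : Set G) ⊓ normalizer (U' : Set G)
  let M : Subgroup G := normalizer (U' : Set G)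
  let M₁ : Subgroup G := normalizer (U : Set G)
  have hSH : (S : Subgroup G) ≤ H := le_inf (h.le.trans hPU) hSU'
  have hSH' : (S' : Subgroup G) ≤ H := le_inf hSU (h'.le.trans hPU')
  have hL₁ : IsLoc (S : Subgroup G) M₁ := isLoc_normalizer S hU2 hU1 (h.le.trans hPU)
  have hL : IsLoc (S' : Subgroup G) M := isLoc_normalizer S' hU2' hU1' (h'.le.trans hPU')
  let W : Subgroup G := zl (S' : Subgroup G) M
  let W₁ : Subgroup G := zl (S : Subgroup G) M₁
  have hWz : W ≤ zc (o2 M) := hL.zl_le S' hG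
  have hW₁z : W₁ ≤ zc (o2 M₁) := hL₁.zl_le S hG
  have hVW : zl (S' : Subgroup G) P' ≤ W := zl_le (zc_le_zl _ _) (hPU'.trans (le_normalizer_zl _ _))
  have hVW₁ : zl (S : Subgroup G) P ≤ W₁ := zl_le (zc_le_zl _ _) (hPU.trans (le_normalizer_zl _ _))
  have hWM : W ≤ M := (hWz.trans (zc_le _)).trans (o2_le _)
  have hW₁M : W₁ ≤ M₁ := (hW₁z.trans (zc_le _)).trans (o2_le _)
  have hWc : ∀ x ∈ W, ∀ y ∈ W, x * y = y * x := fun x hx y hy => zc_comm _ _ (hWz hx) _ (hWz hy)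
  have hW₁c : ∀ x ∈ W₁, ∀ y ∈ W₁, x * y = y * x := fun x hx y hy => zc_comm _ _ (hW₁z hx) _ (hW₁z hy)
  have hcn : ∀ (X Y : Subgroup G), (∀ x ∈ X, ∀ y ∈ Y, x * y = y * x) → X ≤ normalizer (Y : Set G) := by
    intro X Y hXY x hx
    rw [mem_normalizer_iff]
    intro y
    constructor
    · intro hy
      rw [hXY x hx y hy, mul_inv_cancel_right]
      exact hy
    · intro hy
      have h3 := hXY x hx _ hy
      have h4 : x * y * x⁻¹ = y := by
        have h5 : x * (x * y * x⁻¹) * x⁻¹ = x * y * x⁻¹ := by rw [h3, mul_inv_cancel_right]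
        have h6 : x * y * x⁻¹ = y := by
          have h7 := congrArg (fun z => x⁻¹ * z * x) h5
          calc x * y * x⁻¹ = x⁻¹ * (x * (x * y * x⁻¹) * x⁻¹) * x := by group
            _ = x⁻¹ * (x * y * x⁻¹) * x := h7
            _ = y := by group
        exact h6
      rwa [h4] at hy
  have hWH : W ≤ H := le_inf (hcn W U fun x hx y hy => hWc x hx y (hVW (hUV' hy))) hWM
  have hW₁H : W₁ ≤ H := le_inf hW₁M (hcn W₁ U' fun x hx y hy => hW₁c x hx y (hVW₁ (hU'V hy)))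
  have hW2 : IsPGroup 2 W := (o2_isPGroup M).to_le (hWz.trans (zc_le _))
  have hW₁2 : IsPGroup 2 W₁ := (o2_isPGroup M₁).to_le (hW₁z.trans (zc_le _))
  have hHM : H ≤ M := inf_le_right
  have hHM₁ : H ≤ M₁ := inf_le_left
  have hWO : W ≤ o2 H := le_o2 hWH hW2 (hHM.trans (le_normalizer_zl _ _))
  have hW₁O : W₁ ≤ o2 H := le_o2 hW₁H hW₁2 (hHM₁.trans (le_normalizer_zl _ _))
  have hOS : o2 H ≤ (S : Subgroup G) := o2_le_of_sylow S.isPGroup' (MinSimple.Basic.not_dvd_relIndex S hSH)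
  have hOS' : o2 H ≤ (S' : Subgroup G) := o2_le_of_sylow S'.isPGroup' (MinSimple.Basic.not_dvd_relIndex S' hSH')
  -- `cor`
  have hcor : ∀ y ∈ M, (∀ w ∈ W, y * w * y⁻¹ * w⁻¹ ∈ p.φ'.U) → (∀ u ∈ p.φ'.U, y * u = u * y) →
      ∀ w ∈ W, y * w = w * y := by
    rw [← hU']
    have hMU : ∀ m ∈ M, ∀ u ∈ U', m * u * m⁻¹ ∈ U' := fun m hm u hu => (mem_normalizer_iff.1 hm u).1 hu
    have hMW : ∀ m ∈ M, ∀ u ∈ W, m * u * m⁻¹ ∈ W := fun m hm u hu =>
      (mem_normalizer_iff.1 (le_normalizer_zl _ _ hm) u).1 hu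
    let K : Subgroup G :=
      { carrier := {y | y ∈ M ∧ (∀ w ∈ W, y * w * y⁻¹ * w⁻¹ ∈ U') ∧ ∀ u ∈ U', y * u = u * y}
        one_mem' := ⟨one_mem _, fun w _ => by simp, fun u _ => by simp⟩
        mul_mem' := by
          rintro x y ⟨hx, hx1, hx2⟩ ⟨hy, hy1, hy2⟩
          refine ⟨mul_mem hx hy, fun w hw => ?_, fun u hu => ?_⟩
          · have e1 : x * y * w * (x * y)⁻¹ * w⁻¹ = (x * (y * w * y⁻¹ * w⁻¹)) * x⁻¹ * (x * w * x⁻¹ * w⁻¹) := by group
            rw [e1, hx2 _ (hy1 w hw), mul_inv_cancel_right]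
            exact mul_mem (hy1 w hw) (hx1 w hw)
          · rw [mul_assoc, hy2 u hu, ← mul_assoc, hx2 u hu, mul_assoc]
        inv_mem' := by
          rintro x ⟨hx, hx1, hx2⟩
          have hx2' : ∀ u ∈ U', x⁻¹ * u = u * x⁻¹ := fun u hu => by
            have h3 := hx2 u hu
            calc x⁻¹ * u = x⁻¹ * (u * x) * x⁻¹ := by group
              _ = x⁻¹ * (x * u) * x⁻¹ := by rw [h3]
              _ = _ := by group
          refine ⟨inv_mem hx, fun w hw => ?_, hx2'⟩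
          have h3 := hx1 _ (hMW x⁻¹ (inv_mem hx) w hw)
          rw [inv_inv] at h3
          have e1 : x⁻¹ * w * x⁻¹⁻¹ * w⁻¹ = (x * (x⁻¹ * w * x) * x⁻¹ * (x⁻¹ * w * x)⁻¹)⁻¹ := by group
          rw [e1]
          exact inv_mem h3 }
    have hKM : K ≤ M := fun x hx => hx.1
    have hMK : M ≤ normalizer (K : Set G) := by
      intro m hm
      refine mem_normalizer_of_map_le ?_
      rintro _ ⟨x, ⟨hx, hx1, hx2⟩, rfl⟩
      change m * x * m⁻¹ ∈ K
      refine ⟨mul_mem (mul_mem hm hx) (inv_mem hm), fun w hw => ?_, fun u hu => ?_⟩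
      · have h3 := hMW m⁻¹ (inv_mem hm) w hw
        rw [inv_inv] at h3
        have h4 := hMU m hm _ (hx1 _ h3)
        have e1 : m * (x * (m⁻¹ * w * m) * x⁻¹ * (m⁻¹ * w * m)⁻¹) * m⁻¹ =
          m * x * m⁻¹ * w * (m * x * m⁻¹)⁻¹ * w⁻¹ := by group
        rwa [e1] at h4
      · have h3 := hMU m⁻¹ (inv_mem hm) u hu
        rw [inv_inv] at h3
        have h4 := hx2 _ h3
        calc m * x * m⁻¹ * u = m * (x * (m⁻¹ * u * m)) * m⁻¹ := by group
          _ = m * (m⁻¹ * u * m * x) * m⁻¹ := by rw [h4]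
          _ = _ := by group
    have hK2 : ∀ x ∈ K, ∃ k : ℕ, x ^ 2 ^ k ∈ centralizer (W : Set G) := by
      rintro x ⟨hx, hx1, hx2⟩
      refine ⟨1, mem_centralizer_iff.2 fun w hw => ?_⟩
      obtain ⟨u, hu⟩ : ∃ u, u = x * w * x⁻¹ * w⁻¹ := ⟨_, rfl⟩
      have huU : u ∈ U' := by rw [hu]; exact hx1 w hw
      have huu : u * u = 1 := by
        rw [← pow_two]
        exact zc_sq _ _ (hWz (hVW (hU'V' huU)))
      have e1 : x * w * x⁻¹ = u * w := by rw [hu]; group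
      have e2 : x * (x * w * x⁻¹) * x⁻¹ = w := by
        calc x * (x * w * x⁻¹) * x⁻¹ = (x * u) * w * x⁻¹ := by rw [e1]; group
          _ = u * (x * w * x⁻¹) := by rw [hx2 u huU]; group
          _ = u * u * w := by rw [e1]; group
          _ = w := by rw [huu, one_mul]
      rw [pow_one, pow_two]
      calc w * (x * x) = (x * (x * w * x⁻¹) * x⁻¹) * (x * x) := by rw [e2]
        _ = x * x * w := by group
    have h3 := le_centralizer_of_pow hL.le S'.isPGroup' (MinSimple.Basic.not_dvd_relIndex S' hL.le) hKM hMK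
      (zc_le_centralizer _) (zc_le_zl _ M) (le_normalizer_zl _ M) (fun W hW hPW => zl_le hW hPW) hK2
    intro y hy hy1 hy2 w hw
    exact (mem_centralizer_iff.1 (h3 (show y ∈ K from ⟨hy, hy1, hy2⟩)) w hw).symm
  obtain ⟨β, κ, d⟩ := exists_dat p hg' hHM (hVW₁.trans hW₁O) hWO hOS hOS' (o2_le H)
    (fun x hx y hy => (mem_normalizer_iff.1 (le_normalizer_o2 H hx) y).1 hy)
    (fun x hx y hy => (mem_normalizer_iff.1 (le_normalizer_zl _ M hx) y).1 hy) hWc hVW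
    (fun x hx z => (mUe _).1 ((mem_normalizer_iff.1 (hHM₁ hx) _).1 ((mUe _).2 ⟨z, rfl⟩))) hPU' hcor
  obtain ⟨k, -, hk, hk'⟩ := d.common S S' hSH (h.le.trans (le_normalizer_zl _ _)) hSH'
    (h'.le.trans (le_normalizer_zl _ _)) hne
  exact ⟨k, hk, hk'⟩

end main

/-! ### Fields -/

theorem exists_omega {F : Type} [Field F] [Finite F] (h : 4 ≤ Nat.card F) : ∃ ω : F, ω ≠ 0 ∧ ω ≠ 1 := by
  by_contra hcon
  push Not at hcon
  have h1 : Function.Surjective (fun b : Bool => if b then (1 : F) else 0) := by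
    intro a
    by_cases ha : a = 0
    · exact ⟨false, by simp [ha]⟩
    · exact ⟨true, by simp [hcon a ha]⟩
  have h2 := Nat.card_le_card_of_surjective _ h1
  have h3 : Nat.card Bool = 2 := by rw [Nat.card_eq_fintype_card, Fintype.card_bool]
  omega

theorem exists_sq {F : Type} [Field F] [Finite F] [CharP F 2] (b : F) : ∃ t, b = t ^ 2 := by
  obtain ⟨t, ht⟩ := Finite.injective_iff_surjective.1 (frobenius_inj F 2) b
  exact ⟨t, ht.symm⟩

/-! ### The result -/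

/-- transport of `NatOver` to the conjugate parabolic -/
theorem natOver_par {F : Type} [Field F] {S P S' P' : Subgroup G} (M : NatOver F P (zl S P) (cv S P)) {x : G}
    (hS : S' = cj x S) (hP : P' = cj x P) : Nonempty (NatOver F P' (zl S' P') (cv S' P')) := by
  subst hS hP
  rw [zl_cj, cv_cj]
  exact ⟨natOver_cj M x⟩

/-- A mutual pair may be chosen with `V' ≤ S`, `V ≤ S'`. -/
theorem normalise [Finite G] (hG : IsCharacteristicTwoType G) (S : Sylow 2 G) {P₁ P₂ : Subgroup G} {x : G}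
    (m : Mutual (S : Subgroup G) P₁ P₂ x) : ∃ x₂ : G, cj x₂ (zl (S : Subgroup G) P₂) ≤ S ∧
      zl (S : Subgroup G) P₁ ≤ cj x₂ S ∧ ⁅zl (S : Subgroup G) P₁, cj x₂ (zl (S : Subgroup G) P₂)⁆ ≠ ⊥ := by
  have h₁ := m.star₁
  have h₂ := m.star₂
  obtain ⟨V, hV⟩ : ∃ V, V = zl (S : Subgroup G) P₁ := ⟨_, rfl⟩
  obtain ⟨V₂, hV₂⟩ : ∃ V, V = zl (S : Subgroup G) P₂ := ⟨_, rfl⟩
  have hle₁ : V ≤ normalizer ((cj x V₂ : Subgroup G) : Set G) := by rw [hV, hV₂]; exact m.le₁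
  have hle₂ : cj x V₂ ≤ normalizer (V : Set G) := by rw [hV, hV₂]; exact m.le₂
  have hne : ⁅V, cj x V₂⁆ ≠ ⊥ := by rw [hV, hV₂]; exact m.ne
  have hV2 : IsPGroup 2 V := by
    rw [hV]
    exact (o2_isPGroup P₁).to_le ((h₁.isLoc.zl_le S hG).trans (zc_le _))
  have hV₂2 : IsPGroup 2 V₂ := by
    rw [hV₂]
    exact (o2_isPGroup P₂).to_le ((h₂.isLoc.zl_le S hG).trans (zc_le _))
  have hSV : (S : Subgroup G) ≤ normalizer (V : Set G) := by
    rw [hV]
    exact h₁.le.trans (le_normalizer_zl _ _)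
  have hSV₂ : (S : Subgroup G) ≤ normalizer (V₂ : Set G) := by
    rw [hV₂]
    exact h₂.le.trans (le_normalizer_zl _ _)
  rw [← hV, ← hV₂]
  -- `V' ≤ S`
  obtain ⟨n, hn, hnS⟩ := exists_conj_le S hSV (hV₂2.map _) hle₂
  have e1 : cj n V = V := BTwo.cj_eq_self_iff.2 hn
  obtain ⟨V', hV'⟩ : ∃ V', V' = cj (n * x) V₂ := ⟨_, rfl⟩
  have hV'S : V' ≤ S := by
    rw [hV', cj_mul]
    exact BTwo.cj_le_iff.2 hnS
  have hle₃ : V ≤ normalizer (V' : Set G) := by
    rw [← e1, hV', cj_mul]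
    intro y hy
    rw [← BTwo.cj_eq_self_iff]
    rw [mem_cj] at hy
    have h3 := BTwo.cj_eq_self_iff.2 (hle₁ hy)
    have h4 : y * n = n * (n⁻¹ * y * n) := by group
    rw [← cj_mul, h4, cj_mul, h3]
  have hne' : ⁅V, V'⁆ ≠ ⊥ := by
    intro h0
    rw [← e1, hV', cj_mul] at h0
    have h0 : cj n ⁅V, cj x V₂⁆ = ⊥ := (map_commutator _ _ _).trans h0
    exact hne (BTwo.cj_injective (h0.trans (BTwo.cj_bot n).symm))
  -- `V ≤ S'`
  have hSV' : ((((n * x) • S : Sylow 2 G)) : Subgroup G) ≤ normalizer (V' : Set G) := by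
    rw [hV']
    intro y hy
    rw [Sylow.coe_subgroup_smul] at hy
    change y ∈ cj (n * x) S at hy
    rw [mem_cj] at hy
    rw [← BTwo.cj_eq_self_iff]
    have h3 := BTwo.cj_eq_self_iff.2 (hSV₂ hy)
    have h4 : y * (n * x) = n * x * ((n * x)⁻¹ * y * (n * x)) := by group
    rw [← cj_mul, h4, cj_mul, h3]
  obtain ⟨n', hn', hnS'⟩ := exists_conj_le ((n * x) • S) hSV' hV2 hle₃
  have e2 : cj (n'⁻¹ * (n * x)) V₂ = V' := by
    rw [cj_mul, ← hV']
    exact BTwo.cj_eq_self_iff.2 (inv_mem hn')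
  refine ⟨n'⁻¹ * (n * x), by rw [e2]; exact hV'S, ?_, by rw [e2]; exact hne'⟩
  intro y hy
  have h3 := hnS' y hy
  rw [Sylow.coe_subgroup_smul] at h3
  change _ ∈ cj (n * x) S at h3
  rw [mem_cj] at h3 ⊢
  have h4 : (n'⁻¹ * (n * x))⁻¹ * y * (n'⁻¹ * (n * x)) = (n * x)⁻¹ * (n' * y * n'⁻¹) * (n * x) := by group
  rw [h4]
  exact h3

/-- **Two noncommuting members over one Sylow subgroup.** -/
theorem common [Finite G] (hG : IsCharacteristicTwoType G) (S : Sylow 2 G) {P₁ P₂ : Subgroup G} {x : G}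
    (m : Mutual (S : Subgroup G) P₁ P₂ x)
    {F₁ F₂ : Type} [Field F₁] [Finite F₁] [CharP F₁ 2] [Field F₂] [Finite F₂] [CharP F₂ 2]
    (M₁ : NatOver F₁ P₁ (zl (S : Subgroup G) P₁) (cv (S : Subgroup G) P₁))
    (M₂ : NatOver F₂ P₂ (zl (S : Subgroup G) P₂) (cv (S : Subgroup G) P₂)) (hF : 4 ≤ Nat.card F₁)
    (hns : ⁅zl (S : Subgroup G) P₁, oddGen P₁⁆ ⊓ cv (S : Subgroup G) P₁ ≠ ⊥) :
    ∃ P₃, IsParS (S : Subgroup G) P₃ ∧ Nonempty (NatOver F₂ P₃ (zl (S : Subgroup G) P₃) (cv (S : Subgroup G) P₃)) ∧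
      ⁅zl (S : Subgroup G) P₁, zl (S : Subgroup G) P₃⁆ ≠ ⊥ := by
  obtain ⟨x₂, a1, a2, a3⟩ := normalise hG S m
  obtain ⟨S', hS'⟩ : ∃ S' : Sylow 2 G, (S' : Subgroup G) = cj x₂ S := ⟨x₂ • S, Sylow.coe_subgroup_smul⟩
  obtain ⟨P', hP'⟩ : ∃ P', P' = cj x₂ P₂ := ⟨_, rfl⟩
  have h₁ := m.star₁
  have h' : IsParS (S' : Subgroup G) P' := by
    rw [hS', hP']
    exact isParS_cj m.star₂ x₂
  have hz : zl (S' : Subgroup G) P' = cj x₂ (zl (S : Subgroup G) P₂) := by rw [hS', hP', zl_cj]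
  obtain ⟨M'⟩ := natOver_par M₂ hS' hP'
  rw [← hz] at a1 a3
  rw [← hS'] at a2
  obtain ⟨hc, ⟨w, Q⟩, w', Q'⟩ := pairPar hG S h₁ S' h' M₁ M' a1 a2 a3
  obtain ⟨π, s⟩ := exists_sideS (F := F₁) hG S h₁ rfl M₁ a1 Q
  obtain ⟨π', s'⟩ := exists_sideS (F := F₁) hG S' h' hc.symm M' a2 Q'
  have hω := exists_omega hF
  obtain ⟨e, f, g, N, φ⟩ := s.exists_form exists_sq hω
  obtain ⟨e', f', g', N', φ'⟩ := s'.exists_form exists_sq hω
  have p : PairF (S : Subgroup G) (S' : Subgroup G) P₁ P' (zl (S : Subgroup G) P₁) (zl (S' : Subgroup G) P')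
      (cv (S : Subgroup G) P₁) (cv (S' : Subgroup G) P') π π' e f g e' f' g' N N' := ⟨s, s', φ, φ', exists_sq, hω⟩
  have hcom : ¬ Com (zl (S : Subgroup G) P₁) (zl (S' : Subgroup G) P') := by
    intro h0
    apply a3
    rw [commutator_eq_bot_iff_le_centralizer]
    intro v hv
    exact mem_centralizer_iff.2 fun a ha => (h0 v hv a ha).symm
  rcases p.dich with ⟨b1, b2⟩ | ⟨b1, b2, b3, b4⟩
  · exact absurd (split_of hG S S' h₁ p (kill hG S S' h₁ h' p hcom b1 b2)) hns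
  · obtain ⟨k, hk, hk'⟩ := main hG S S' h₁ h' p hcom b1 b2 b3 b4
    have e1 : (S : Subgroup G) = cj (k * x₂) S := by rw [cj_mul, ← hS', hk]
    have e2 : cj k P' = cj (k * x₂) P₂ := by rw [cj_mul, ← hP']
    have e3 : zl (S : Subgroup G) (cj k P') = cj k (zl (S' : Subgroup G) P') := by
      rw [← zl_cj, hk]
    refine ⟨cj k P', ?_, natOver_par M₂ e1 e2, ?_⟩
    · have h3 := isParS_cj h' k
      rwa [hk] at h3
    · rw [e3]
      intro h0
      apply hk'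
      rw [commutator_eq_bot_iff_le_centralizer] at h0
      intro v hv a ha
      exact (mem_centralizer_iff.1 (h0 hv) a ha).symm

end Cfsg.Agent.Omega.HOne.NSMain
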