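import Mathlib

/-!
# The functional equation of the nonsplit case

`φ, ψ` additive and injective, `l, m` additive maps of a finite field of characteristic 2 of order at least 4,
`φ z * ψ t = l (z * t ^ 2) + m (z * t)`: then `m = 0`, or `l = 0` and `m` is bijective (and all maps are monomial).
-/

set_option autoImplicit false
set_option linter.unusedSectionVars false

namespace Cfsg.Agent.Omega.HOne.AddEq

open Module

variable {F : Type*} [Field F]

section expand

variable [Finite F] [Algebra (ZMod 2) F]

/-- the automorphisms form a basis of the additive maps -/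
theorem expand [Fintype (F →ₐ[ZMod 2] F)] (f : F →+ F) :
    ∃ a : (F →ₐ[ZMod 2] F) → F, ∀ x, f x = ∑ σ, a σ * σ x := by
  classical
  have hli := linearIndependent_toLinearMap (ZMod 2) F F
  have hcard : Fintype.card (F →ₐ[ZMod 2] F) = finrank F (F →ₗ[ZMod 2] F) := by
    rw [finrank_linearMap, finrank_self, mul_one, ← IsGalois.card_aut_eq_finrank (ZMod 2) F,
      ← Nat.card_eq_fintype_card]
    exact (Nat.card_congr (Algebra.IsAlgebraic.algEquivEquivAlgHom (ZMod 2) F).toEquiv).symm
  have hspan := hli.span_eq_top_of_card_eq_finrank' hcard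
  have hmem : f.toZModLinearMap 2 ∈ Submodule.span F (Set.range
      (AlgHom.toLinearMap : (F →ₐ[ZMod 2] F) → F →ₗ[ZMod 2] F)) := by
    rw [hspan]; exact Submodule.mem_top
  obtain ⟨c, hc⟩ := (Submodule.mem_span_range_iff_exists_fun F).mp hmem
  refine ⟨c, fun x => ?_⟩
  have h1 : (f.toZModLinearMap 2) x = (∑ i, c i • (AlgHom.toLinearMap i)) x := by rw [hc]
  rw [LinearMap.sum_apply] at h1
  exact h1

/-- uniqueness of the coefficients -/
theorem coeff_eq_zero [Fintype (F →ₐ[ZMod 2] F)] {a : (F →ₐ[ZMod 2] F) → F}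
    (h : ∀ x, ∑ σ, a σ * σ x = 0) (σ : F →ₐ[ZMod 2] F) : a σ = 0 := by
  have hli := linearIndependent_toLinearMap (ZMod 2) F F
  rw [Fintype.linearIndependent_iff] at hli
  refine hli a ?_ σ
  ext x
  rw [LinearMap.sum_apply]
  exact h x

end expand

section main

variable [Finite F] [Algebra (ZMod 2) F]

theorem add_self (x : F) : x + x = 0 := by
  have : CharP F 2 := charP_of_injective_algebraMap (algebraMap (ZMod 2) F).injective 2
  exact CharTwo.add_self_eq_zero x

theorem surj (σ : F →ₐ[ZMod 2] F) : Function.Surjective σ :=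
  Finite.surjective_of_injective σ.toRingHom.injective

theorem sq_inj {x y : F} (h : x ^ 2 = y ^ 2) : x = y := by
  have h1 : (x + y) ^ 2 = 0 := by
    have : (x + y) ^ 2 = x ^ 2 + y ^ 2 + (x * y + x * y) := by ring
    rw [this, h, add_self, add_self, add_zero]
  have h2 : x + y = 0 := pow_eq_zero_iff (two_ne_zero) |>.mp h1
  have h3 : x + y = y + y := by rw [h2, add_self]
  exact add_right_cancel h3

/-- **The functional equation.** -/
theorem main (h4 : 4 ≤ Nat.card F) (φ ψ l m : F →+ F) (hφ : Function.Injective φ)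
    (hψ : Function.Injective ψ) (h : ∀ z t, φ z * ψ t = l (z * t ^ 2) + m (z * t)) :
    m = 0 ∨ (l = 0 ∧ Function.Bijective m) := by
  classical
  have : Fintype (F →ₐ[ZMod 2] F) := Fintype.ofFinite _
  obtain ⟨d, hd⟩ := expand φ
  obtain ⟨a, ha⟩ := expand l
  obtain ⟨b, hb⟩ := expand m
  have ψ1 : ∀ t, t ≠ 0 → ψ t ≠ 0 := fun t ht h0 => ht (hψ (by rw [h0, map_zero]))
  -- coefficients
  have H : ∀ σ t, d σ * ψ t = a σ * σ t ^ 2 + b σ * σ t := by
    intro σ t
    have h1 : ∀ z, ∑ σ, (d σ * ψ t - (a σ * σ t ^ 2 + b σ * σ t)) * σ z = 0 := by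
      intro z
      have h2 := h z t
      rw [hd, ha, hb, Finset.sum_mul] at h2
      have h3 : ∑ σ, (d σ * ψ t - (a σ * σ t ^ 2 + b σ * σ t)) * σ z =
          ∑ σ, d σ * σ z * ψ t - (∑ σ, a σ * σ (z * t ^ 2) + ∑ σ, b σ * σ (z * t)) := by
        rw [← Finset.sum_add_distrib, ← Finset.sum_sub_distrib]
        refine Finset.sum_congr rfl fun σ _ => ?_
        rw [map_mul, map_mul, map_pow]; ring
      rw [h3, h2, sub_self]
    exact sub_eq_zero.mp (coeff_eq_zero h1 σ)
  -- an element different from 0 and 1
  obtain ⟨s, hs0, hs1⟩ : ∃ s : F, s ≠ 0 ∧ s ≠ 1 := by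
    by_contra hcon
    push Not at hcon
    have : Nat.card F ≤ 2 := by
      have hsub : (Set.univ : Set F) ⊆ {0, 1} := by
        intro x _
        by_cases hx : x = 0
        · exact Or.inl hx
        · exact Or.inr (hcon x hx)
      calc Nat.card F = (Set.univ : Set F).ncard := (Set.ncard_univ F).symm
        _ ≤ ({0, 1} : Set F).ncard := Set.ncard_le_ncard hsub (Set.toFinite _)
        _ ≤ 2 := Set.ncard_insert_le _ _ |>.trans (by rw [Set.ncard_singleton])
    omega
  have hzero : ∀ σ, d σ = 0 → a σ = 0 ∧ b σ = 0 := by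
    intro σ h0
    have e1 := H σ 1
    rw [h0, zero_mul, map_one, one_pow, mul_one, mul_one] at e1
    obtain ⟨t, ht⟩ := surj σ s
    have e2 := H σ t
    rw [h0, zero_mul, ht] at e2
    have e3 : s * (a σ * (s - 1)) = 0 := by
      have : s * (a σ * (s - 1)) = (a σ * s ^ 2 + b σ * s) - s * (a σ + b σ) := by ring
      rw [this, ← e2, ← e1]; ring
    have e4 : a σ = 0 := by
      rcases mul_eq_zero.mp e3 with h5 | h5
      · exact absurd h5 hs0
      · rcases mul_eq_zero.mp h5 with h6 | h6
        · exact h6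
        · exact absurd (sub_eq_zero.mp h6) hs1
    refine ⟨e4, ?_⟩
    rw [e4, zero_add] at e1
    exact e1.symm
  have hone : ∀ σ, d σ ≠ 0 → a σ = 0 ∨ b σ = 0 := by
    intro σ h0
    by_contra hcon
    push Not at hcon
    obtain ⟨ha0, hb0⟩ := hcon
    obtain ⟨t, ht⟩ := surj σ (b σ / a σ)
    have e1 := H σ t
    rw [ht] at e1
    have e2 : a σ * (b σ / a σ) ^ 2 + b σ * (b σ / a σ) = b σ ^ 2 / a σ + b σ ^ 2 / a σ := by
      field_simp
    rw [e2, add_self] at e1
    have ht0 : t ≠ 0 := by
      intro ht0
      rw [ht0, map_zero] at ht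
      exact (div_ne_zero hb0 ha0) ht.symm
    rcases mul_eq_zero.mp e1 with h5 | h5
    · exact h0 h5
    · exact ψ1 t ht0 h5
  obtain ⟨σ₀, hσ₀⟩ : ∃ σ, d σ ≠ 0 := by
    by_contra hcon
    push Not at hcon
    have : φ 1 = 0 := by
      rw [hd]
      exact Finset.sum_eq_zero fun σ _ => by rw [hcon σ, zero_mul]
    exact one_ne_zero (hφ (by rw [this, map_zero]))
  by_cases hA : ∃ σ, d σ ≠ 0 ∧ b σ = 0
  · left
    obtain ⟨σ, hdσ, hbσ⟩ := hA
    -- `ψ t = c (σ t)²`
    have hψσ : ∀ t, ψ t = a σ / d σ * σ t ^ 2 := by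
      intro t
      have e1 := H σ t
      rw [hbσ, zero_mul, add_zero] at e1
      field_simp
      rw [← e1]; ring
    have hc : a σ / d σ ≠ 0 := by
      intro h0
      have := hψσ 1
      rw [h0, zero_mul] at this
      exact ψ1 1 one_ne_zero this
    -- all others vanish
    have hcases : ∀ τ, d τ ≠ 0 → τ = σ ∨ ∀ t, τ t = σ t ^ 2 := by
      intro τ hdτ
      rcases hone τ hdτ with h0 | h0
      · right
        have e1 : ∀ t, ψ t = b τ / d τ * τ t := by
          intro t
          have e1 := H τ t
          rw [h0, zero_mul, zero_add] at e1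
          field_simp
          rw [← e1]; ring
        have e2 : a σ / d σ = b τ / d τ := by
          have h1 := hψσ 1
          have h2 := e1 1
          rw [map_one σ, one_pow, mul_one] at h1
          rw [map_one τ, mul_one] at h2
          rw [← h1, h2]
        intro t
        have h1 := hψσ t
        rw [e1 t, ← e2] at h1
        exact mul_left_cancel₀ hc h1
      · left
        have e1 : ∀ t, ψ t = a τ / d τ * τ t ^ 2 := by
          intro t
          have e1 := H τ t
          rw [h0, zero_mul, add_zero] at e1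
          field_simp
          rw [← e1]; ring
        have e2 : a σ / d σ = a τ / d τ := by
          have h1 := hψσ 1
          have h2 := e1 1
          rw [map_one σ, one_pow, mul_one] at h1
          rw [map_one τ, one_pow, mul_one] at h2
          rw [← h1, h2]
        ext t
        have h1 := hψσ t
        rw [e1 t, ← e2] at h1
        exact sq_inj (mul_left_cancel₀ hc h1)
    have huniq : ∀ τ, τ ≠ σ → d τ = 0 := by
      intro τ hτ
      by_contra hdτ
      rcases hcases τ hdτ with h1 | h1
      · exact hτ h1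
      -- `φ z = d σ * σ z + d τ * (σ z)²`
      have e1 : ∀ z, φ z = d σ * σ z + d τ * σ z ^ 2 := by
        intro z
        rw [hd, ← Finset.sum_subset (Finset.subset_univ {σ, τ})]
        · rw [Finset.sum_pair (Ne.symm hτ), h1]
        · intro ρ _ hρ
          have h2 : d ρ = 0 := by
            by_contra hdρ
            apply hρ
            rcases hcases ρ hdρ with h3 | h3
            · rw [h3]; exact Finset.mem_insert_self _ _
            · have : ρ = τ := by ext t; rw [h3 t, h1 t]
              rw [this]; exact Finset.mem_insert_of_mem (Finset.mem_singleton_self _)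
          rw [h2, zero_mul]
      obtain ⟨z, hz⟩ := surj σ (d σ / d τ)
      have e2 := e1 z
      rw [hz] at e2
      have e3 : d σ * (d σ / d τ) + d τ * (d σ / d τ) ^ 2 = d σ ^ 2 / d τ + d σ ^ 2 / d τ := by
        field_simp
      rw [e3, add_self] at e2
      have hz0 : z = 0 := hφ (by rw [e2, map_zero])
      rw [hz0, map_zero] at hz
      exact (div_ne_zero hdσ hdτ) hz.symm
    ext z
    rw [hb, AddMonoidHom.zero_apply]
    refine Finset.sum_eq_zero fun τ _ => ?_
    by_cases hτ : τ = σ
    · rw [hτ, hbσ, zero_mul]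
    · rw [(hzero τ (huniq τ hτ)).2, zero_mul]
  · right
    push Not at hA
    have ha0 : ∀ σ, a σ = 0 := by
      intro σ
      by_cases h0 : d σ = 0
      · exact (hzero σ h0).1
      · rcases hone σ h0 with h1 | h1
        · exact h1
        · exact absurd h1 (hA σ h0)
    refine ⟨?_, ?_⟩
    · ext z
      rw [ha, AddMonoidHom.zero_apply]
      exact Finset.sum_eq_zero fun τ _ => by rw [ha0 τ, zero_mul]
    · have hψσ : ∀ τ, d τ ≠ 0 → ∀ t, ψ t = b τ / d τ * τ t := by
        intro τ hdτ t
        have e1 := H τ t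
        rw [ha0 τ, zero_mul, zero_add] at e1
        field_simp
        rw [← e1]; ring
      have huniq : ∀ τ, d τ ≠ 0 → τ = σ₀ := by
        intro τ hdτ
        have h1 := hψσ τ hdτ 1
        have h2 := hψσ σ₀ hσ₀ 1
        rw [map_one τ, mul_one] at h1
        rw [map_one σ₀, mul_one] at h2
        have hc : b σ₀ / d σ₀ ≠ 0 := by
          rw [← h2]; exact ψ1 1 one_ne_zero
        ext t
        have h3 := hψσ τ hdτ t
        rw [hψσ σ₀ hσ₀ t, ← h1, h2] at h3
        exact (mul_left_cancel₀ hc h3).symm
      have hm : ∀ z, m z = b σ₀ * σ₀ z := by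
        intro z
        rw [hb, Finset.sum_eq_single σ₀]
        · intro τ _ hτ
          have : d τ = 0 := by
            by_contra h0
            exact hτ (huniq τ h0)
          rw [(hzero τ this).2, zero_mul]
        · intro h0; exact absurd (Finset.mem_univ _) h0
      have hb0 : b σ₀ ≠ 0 := hA σ₀ hσ₀
      refine (Finite.injective_iff_bijective).mp fun x y hxy => ?_
      rw [hm, hm] at hxy
      exact σ₀.toRingHom.injective (mul_left_cancel₀ hb0 hxy)

end main

end Cfsg.Agent.Omega.HOne.AddEq
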