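import Mathlib

/-!
# A functional equation for additive maps of a finite field of characteristic 2 (helper322)

Step (2) of THEOREM NS (helper19, bb OMEGA #13174).

`exists_coeff`: every additive map `f` of `F` is `f z = ∑ σ, c σ * σ z`, `σ` running through `Aut F`; `coeff_zero`: the
coefficients are unique.

`main`: if `φ z * ψ t = l (z t²) + m (z t)` with `φ`, `ψ`, `l`, `m` additive, `φ`, `ψ` injective and `|F| > 2`, then
`m = 0`, or `l = 0` and `m` is bijective.
-/

set_option autoImplicit false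

namespace Cfsg.Agent.Omega.HOne.AddFun

open Function

variable {F : Type*} [Field F] [Finite F] [CharP F 2]

attribute [local instance] Fintype.ofFinite

section Coeff

variable [Algebra (ZMod 2) F]

omit [Finite F] [CharP F 2] in
theorem linearIndependent_aut :
    LinearIndependent F (fun σ : F ≃ₐ[ZMod 2] F => (σ : F →ₐ[ZMod 2] F).toLinearMap) := by
  have h1 := linearIndependent_toLinearMap (ZMod 2) F F
  exact h1.comp (fun σ : F ≃ₐ[ZMod 2] F => (σ : F →ₐ[ZMod 2] F)) AlgEquiv.coe_toAlgHom_injective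

omit [CharP F 2] in
theorem exists_coeff (f : F →+ F) : ∃ c : (F ≃ₐ[ZMod 2] F) → F, ∀ z, f z = ∑ σ, c σ * σ z := by
  have : Module.Finite (ZMod 2) F := Module.Finite.of_finite
  have : Fintype (F ≃ₐ[ZMod 2] F) := Fintype.ofFinite _
  have hcard : Fintype.card (F ≃ₐ[ZMod 2] F) = Module.finrank F (F →ₗ[ZMod 2] F) := by
    rw [Module.finrank_linearMap_self, ← IsGalois.card_aut_eq_finrank, Nat.card_eq_fintype_card]
  let B := basisOfLinearIndependentOfCardEqFinrank linearIndependent_aut hcard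
  have hB : ∀ σ, B σ = (σ : F →ₐ[ZMod 2] F).toLinearMap := fun σ => by
    simp [B]
  refine ⟨fun σ => B.repr (AddMonoidHom.toZModLinearMap 2 f) σ, fun z => ?_⟩
  have h1 := congrArg (fun g : F →ₗ[ZMod 2] F => g z) (B.sum_repr (AddMonoidHom.toZModLinearMap 2 f))
  simp only [LinearMap.sum_apply, LinearMap.smul_apply, hB] at h1
  have h2 : (AddMonoidHom.toZModLinearMap 2 f) z = f z := rfl
  rw [← h2, ← h1]
  apply Finset.sum_congr
  · ext σ; simp
  · intro σ _
    rfl

omit [CharP F 2] in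
theorem coeff_zero (c : (F ≃ₐ[ZMod 2] F) → F) (h : ∀ z, ∑ σ, c σ * σ z = 0) (σ : F ≃ₐ[ZMod 2] F) : c σ = 0 := by
  have h1 := Fintype.linearIndependent_iff.1 (linearIndependent_aut (F := F)) c
  apply h1
  ext z
  rw [LinearMap.sum_apply, LinearMap.zero_apply]
  exact h z

end Coeff

/-- **The functional equation** -/
theorem main (hq : ∃ w : F, w ≠ 0 ∧ w ≠ 1) (φ ψ l m : F →+ F) (hφ : Injective φ) (hψ : Injective ψ)
    (h : ∀ z t, φ z * ψ t = l (z * t ^ 2) + m (z * t)) : m = 0 ∨ (l = 0 ∧ Bijective m) := by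
  classical
  let _ : Algebra (ZMod 2) F := ZMod.algebra F 2
  obtain ⟨w, hw0, hw1⟩ := hq
  obtain ⟨d, hd⟩ := exists_coeff φ
  obtain ⟨a, ha⟩ := exists_coeff l
  obtain ⟨b, hb⟩ := exists_coeff m
  have hψ0 : ∀ t, ψ t = 0 → t = 0 := fun t ht => hψ (by rw [ht, map_zero])
  have hφ0 : ∀ t, φ t = 0 → t = 0 := fun t ht => hφ (by rw [ht, map_zero])
  have key : ∀ (σ : F ≃ₐ[ZMod 2] F) (t : F), d σ * ψ t = a σ * σ t ^ 2 + b σ * σ t := by
    intro σ t
    have h1 := coeff_zero (fun σ => d σ * ψ t - (a σ * σ t ^ 2 + b σ * σ t)) (fun z => ?_) σ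
    · exact sub_eq_zero.1 h1
    · have h2 : ∀ σ : F ≃ₐ[ZMod 2] F, (d σ * ψ t - (a σ * σ t ^ 2 + b σ * σ t)) * σ z =
          d σ * σ z * ψ t - (a σ * σ (z * t ^ 2) + b σ * σ (z * t)) := by
        intro σ
        rw [map_mul, map_mul, map_pow]
        ring
      rw [Finset.sum_congr rfl fun σ _ => h2 σ, Finset.sum_sub_distrib, Finset.sum_add_distrib, ← ha, ← hb,
        ← Finset.sum_mul, ← hd, h, sub_self]
  -- the support
  have hAB : ∀ σ, d σ ≠ 0 → (b σ = 0 ∧ a σ ≠ 0) ∨ (a σ = 0 ∧ b σ ≠ 0) := by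
    intro σ hσ
    by_cases h1 : a σ = 0
    · right
      refine ⟨h1, fun h2 => ?_⟩
      have h3 := key σ 1
      rw [h1, h2, zero_mul, zero_mul, add_zero] at h3
      exact one_ne_zero (hψ0 1 ((mul_eq_zero.1 h3).resolve_left hσ))
    · left
      refine ⟨?_, h1⟩
      by_contra h2
      have h3 := key σ (σ.symm (b σ / a σ))
      rw [AlgEquiv.apply_symm_apply] at h3
      have h4 : a σ * (b σ / a σ) ^ 2 + b σ * (b σ / a σ) = 0 := by
        have h5 : a σ * (b σ / a σ) ^ 2 = b σ * (b σ / a σ) := by field_simp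
        rw [h5]
        exact CharTwo.add_self_eq_zero _
      rw [h4] at h3
      have h5 := hψ0 _ ((mul_eq_zero.1 h3).resolve_left hσ)
      have h6 : b σ / a σ = 0 := by
        have := congrArg σ h5
        rwa [AlgEquiv.apply_symm_apply, map_zero] at this
      exact (div_ne_zero h2 h1) h6
  -- two elements of the support
  have hone : ∀ {σ τ : F ≃ₐ[ZMod 2] F} {i j : ℕ} {x y : F}, (∀ t, x * ψ t = σ t ^ i) → (∀ t, y * ψ t = τ t ^ j) →
      ∀ t, σ t ^ i = τ t ^ j := by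
    intro σ τ i j x y hx hy t
    have h1 := hx 1
    have h2 := hy 1
    rw [map_one σ, one_pow] at h1
    rw [map_one τ, one_pow] at h2
    have h3 : ψ 1 ≠ 0 := fun h => one_ne_zero (hψ0 1 h)
    have h4 : x = y := mul_right_cancel₀ h3 (h1.trans h2.symm)
    rw [← hx, ← hy, h4]
  have hA : ∀ σ, b σ = 0 → a σ ≠ 0 → ∀ t, d σ / a σ * ψ t = σ t ^ 2 := by
    intro σ h1 h2 t
    rw [div_mul_eq_mul_div, key, h1, zero_mul, add_zero]
    field_simp
  have hB : ∀ σ, a σ = 0 → b σ ≠ 0 → ∀ t, d σ / b σ * ψ t = σ t ^ 1 := by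
    intro σ h1 h2 t
    rw [div_mul_eq_mul_div, key, h1, zero_mul, zero_add, pow_one]
    field_simp
  have hAA : ∀ σ τ, b σ = 0 → a σ ≠ 0 → b τ = 0 → a τ ≠ 0 → σ = τ := by
    intro σ τ h1 h2 h3 h4
    ext t
    have h5 := hone (hA σ h1 h2) (hA τ h3 h4) t
    exact (sq_eq_sq_iff_eq_or_eq_neg.1 h5).elim id fun h6 => by rw [h6, CharTwo.neg_eq]
  have hBB : ∀ σ τ, a σ = 0 → b σ ≠ 0 → a τ = 0 → b τ ≠ 0 → σ = τ := by
    intro σ τ h1 h2 h3 h4
    ext t
    have h5 := hone (hB σ h1 h2) (hB τ h3 h4) t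
    rwa [pow_one, pow_one] at h5
  -- no mixed support
  have hmix : ∀ σ τ, d σ ≠ 0 → d τ ≠ 0 → b σ = 0 → a σ ≠ 0 → a τ = 0 → b τ ≠ 0 → False := by
    intro σ τ hσ hτ h1 h2 h3 h4
    have h5 := hone (hA σ h1 h2) (hB τ h3 h4)
    have hne : σ ≠ τ := by
      rintro rfl
      exact h2 h3
    have h6 : ∀ z, φ z = d σ * σ z + d τ * σ z ^ 2 := by
      intro z
      rw [hd, Finset.sum_eq_add σ τ hne, h5 z, pow_one]
      · rintro ρ - ⟨hρσ, hρτ⟩
        by_cases hρ : d ρ = 0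
        · rw [hρ, zero_mul]
        · exfalso
          rcases hAB ρ hρ with h6 | h6
          · exact hρσ (hAA ρ σ h6.1 h6.2 h1 h2)
          · exact hρτ (hBB ρ τ h6.1 h6.2 h3 h4)
      · intro h; exact absurd (Finset.mem_univ _) h
      · intro h; exact absurd (Finset.mem_univ _) h
    have h7 := h6 (σ.symm (d σ / d τ))
    rw [AlgEquiv.apply_symm_apply] at h7
    have h8 : d σ * (d σ / d τ) + d τ * (d σ / d τ) ^ 2 = 0 := by
      have h9 : d τ * (d σ / d τ) ^ 2 = d σ * (d σ / d τ) := by field_simp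
      rw [h9]
      exact CharTwo.add_self_eq_zero _
    rw [h8] at h7
    have h9 := congrArg σ (hφ0 _ h7)
    rw [AlgEquiv.apply_symm_apply, map_zero] at h9
    exact (div_ne_zero hσ hτ) h9
  -- two independent terms
  have hind : ∀ (σ : F ≃ₐ[ZMod 2] F), d σ = 0 → a σ = 0 ∧ b σ = 0 := by
    intro σ hσ
    have h1 : ∀ t, a σ * σ t ^ 2 + b σ * σ t = 0 := fun t => by rw [← key, hσ, zero_mul]
    have h2 := h1 1
    rw [map_one, one_pow, mul_one, mul_one] at h2
    have h3 := h1 (σ.symm w)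
    rw [AlgEquiv.apply_symm_apply] at h3
    have h4 : b σ = a σ := by
      rw [add_comm] at h2
      rw [eq_neg_of_add_eq_zero_left h2, CharTwo.neg_eq]
    rw [h4] at h3 ⊢
    have h5 : a σ * (w * (w - 1)) = 0 := by
      rw [← h3, CharTwo.sub_eq_add]; ring
    have h6 := (mul_eq_zero.1 h5).resolve_right (mul_ne_zero hw0 (sub_ne_zero.2 hw1))
    exact ⟨h6, h6⟩
  -- the end
  by_cases hex : ∃ σ, d σ ≠ 0 ∧ b σ = 0 ∧ a σ ≠ 0
  · obtain ⟨σ, h1, h2, h3⟩ := hex
    left
    ext z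
    rw [hb, AddMonoidHom.zero_apply]
    apply Finset.sum_eq_zero
    intro τ _
    by_cases hτ : d τ = 0
    · rw [(hind τ hτ).2, zero_mul]
    · rcases hAB τ hτ with h4 | h4
      · rw [h4.1, zero_mul]
      · exact (hmix σ τ h1 hτ h2 h3 h4.1 h4.2).elim
  · right
    push Not at hex
    have hall : ∀ σ, d σ ≠ 0 → a σ = 0 ∧ b σ ≠ 0 := by
      intro σ hσ
      rcases hAB σ hσ with h1 | h1
      · exact absurd (hex σ hσ h1.1) h1.2
      · exact h1
    have hl : l = 0 := by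
      ext z
      rw [ha, AddMonoidHom.zero_apply]
      apply Finset.sum_eq_zero
      intro τ _
      by_cases hτ : d τ = 0
      · rw [(hind τ hτ).1, zero_mul]
      · rw [(hall τ hτ).1, zero_mul]
    refine ⟨hl, Finite.injective_iff_bijective.1 ?_⟩
    rw [injective_iff_map_eq_zero]
    intro z hz
    have h1 := h z 1
    rw [hl, AddMonoidHom.zero_apply, mul_one, hz, zero_add] at h1
    rcases mul_eq_zero.1 h1 with h2 | h2
    · exact hφ0 z h2
    · exact absurd (hψ0 1 h2) one_ne_zero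

end Cfsg.Agent.Omega.HOne.AddFun
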