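import Cfsg.Agent.Omega.HOne.EndRes0
import Cfsg.Agent.Omega.HOneQ.ResW
import Cfsg.Agent.Omega.Lie.End.RSNode

/-!
# The residue `(0, k)` of type alpha from the node of `HOneQ`

* `nd_of` : a moved panel `P` with at least five chambers gives `Nd V R i j (P ⊓ C(R i))`;
* `alpha_of` : a line `≠ V` inside `D` gives `Alpha V R i B U P (WN V (P ⊓ C(R i)))`;
* `res0_alpha_nd'`, `res0_alpha_nd` : the residue.
-/

set_option autoImplicit false
set_option linter.unusedSectionVars false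

namespace Cfsg.Agent.Omega.HOne.End

open Subgroup Cfsg Cfsg.Agent.ParSys Cfsg.Agent.Omega.BTwo Cfsg.Agent.Omega.HOneQ
open Cfsg.Agent.Omega.Lie.Zero (Dat P0)
open Cfsg.Agent.Omega.Lie.End (Pre PPo Res0)

universe u v w

variable {G : Type u} [Group G] {ι : Type w} {V : Subgroup G} {R : ι → Subgroup G} {i j : ι} {F : Type v} [Field F]
  {v : F → F → G} {w1 w2 : F → G} {B U P : Subgroup G}

/-- every element of `P` is an element of `P ⊓ C(R i)` modulo `B` -/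
theorem exists_fact (hle : B ≤ P) (hPR : P ≤ normalizer (R i : Set G))
    (hC : P ≤ (P ⊓ centralizer (R i : Set G)) ⊔ B) {x : G} (hx : x ∈ P) :
    ∃ p ∈ P ⊓ centralizer (R i : Set G), ∃ b ∈ B, x = p * b := by
  have hn : P ≤ normalizer ((P ⊓ centralizer (R i : Set G) : Subgroup G) : Set G) := by
    intro g hg
    have key : ∀ g ∈ P, ∀ y ∈ P ⊓ centralizer (R i : Set G), g * y * g⁻¹ ∈ P ⊓ centralizer (R i : Set G) := by
      rintro g hg y ⟨hy, hyc⟩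
      refine mem_inf.2 ⟨mul_mem (mul_mem hg hy) (inv_mem hg), ?_⟩
      rw [mem_centralizer_iff]
      intro r hr
      have h1 : g⁻¹ * r * g ∈ R i := BTwo.conj_inv_mem_of_normalizer (hPR hg) hr
      have h2 := mem_centralizer_iff.1 hyc _ h1
      calc r * (g * y * g⁻¹) = g * (g⁻¹ * r * g * y) * g⁻¹ := by group
        _ = g * (y * (g⁻¹ * r * g)) * g⁻¹ := by rw [h2]
        _ = g * y * g⁻¹ * r := by group
    rw [mem_normalizer_iff]
    refine fun y => ⟨fun hy => key g hg y hy, fun hy => ?_⟩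
    have h1 := key g⁻¹ (inv_mem hg) _ hy
    have e : g⁻¹ * (g * y * g⁻¹) * g⁻¹⁻¹ = y := by group
    rwa [e] at h1
  have h1 : x ∈ (((P ⊓ centralizer (R i : Set G)) ⊔ B : Subgroup G) : Set G) := hC hx
  rw [coe_mul_of_right_le_normalizer_left _ _ (hle.trans hn)] at h1
  obtain ⟨p, hp, y, hy, e⟩ := h1
  exact ⟨p, hp, y, hy, e.symm⟩

/-- four chambers -/
theorem four_of_relIndex {H : Type*} [Group H] {B P : Subgroup H} (h : 4 ≤ B.relIndex P) :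
    ∃ x ∈ P, ∃ y ∈ P, ∃ z ∈ P, x ∉ B ∧ y ∉ B ∧ z ∉ B ∧ x⁻¹ * y ∉ B ∧ x⁻¹ * z ∉ B ∧ y⁻¹ * z ∉ B := by
  classical
  have hc : 4 ≤ Nat.card (P ⧸ B.subgroupOf P) := by
    rw [← Subgroup.index_eq_card]; exact h
  have hfin : Finite (P ⧸ B.subgroupOf P) := Nat.finite_of_card_ne_zero (by omega)
  have := Fintype.ofFinite (P ⧸ B.subgroupOf P)
  rw [Nat.card_eq_fintype_card] at hc
  have h6 : 2 < Fintype.card {x : P ⧸ B.subgroupOf P // x ≠ ((1 : P) : P ⧸ B.subgroupOf P)} := by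
    rw [Fintype.card_subtype_compl, Fintype.card_subtype_eq]
    omega
  obtain ⟨⟨x, hx⟩, ⟨y, hy⟩, ⟨z, hz⟩, hxy, hxz, hyz⟩ := Fintype.two_lt_card_iff.1 h6
  obtain ⟨x, rfl⟩ := QuotientGroup.mk_surjective x
  obtain ⟨y, rfl⟩ := QuotientGroup.mk_surjective y
  obtain ⟨z, rfl⟩ := QuotientGroup.mk_surjective z
  have h1 : ∀ a : P, (a : P ⧸ B.subgroupOf P) ≠ ((1 : P) : P ⧸ B.subgroupOf P) → (a : H) ∉ B := by
    intro a ha h
    apply ha
    symm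
    rw [QuotientGroup.eq, mem_subgroupOf]
    simpa using h
  have h2 : ∀ a c : P, (a : P ⧸ B.subgroupOf P) ≠ (c : P ⧸ B.subgroupOf P) → (a : H)⁻¹ * c ∉ B := by
    intro a c hac h
    apply hac
    rw [QuotientGroup.eq, mem_subgroupOf]
    exact h
  exact ⟨x, x.2, y, y.2, z, z.2, h1 x hx, h1 y hy, h1 z hz, h2 x y fun h => hxy (Subtype.ext h),
    h2 x z fun h => hxz (Subtype.ext h), h2 y z fun h => hyz (Subtype.ext h)⟩

/-- **a moved panel with at least four chambers** -/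
theorem nd_of (b : BT V R) (hij : i ≠ j) (hle : B ≤ P) (hUB : U ≤ B)
    (hBV : B ≤ normalizer (V : Set G)) (hPR : P ≤ normalizer (R i : Set G)) (hptr : Hall.HallData.PTr B U P)
    (h4 : ∃ x ∈ P, ∃ y ∈ P, ∃ z ∈ P, x ∉ B ∧ y ∉ B ∧ z ∉ B ∧ x⁻¹ * y ∉ B ∧ x⁻¹ * z ∉ B ∧ y⁻¹ * z ∉ B)
    (hNV : P ⊓ normalizer (V : Set G) ≤ B) (hUU : UU V R j ≤ U) (hQ : QQ (R i) ≤ P)
    (cov : ∀ u ∈ U, ∃ x ∈ UU V R j, x⁻¹ * u ∈ Qk B P) (hC : P ≤ (P ⊓ centralizer (R i : Set G)) ⊔ B) :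
    Nd V R i j (P ⊓ centralizer (R i : Set G)) where
  hij := hij
  PR := inf_le_right
  UP := le_inf (hUU.trans (hUB.trans hle)) (le_centralizer_iff.1 ((b.R_le i).trans (le_centralizer_iff.1 (UU_le_cen j))))
  QP := le_inf hQ fun q hq => mem_centralizer_iff.2 fun a ha => (b.QR i q hq a ha).symm
  trans := by
    rintro p ⟨hp, -⟩ hpV p' ⟨hp', -⟩ hpV'
    have h1 : p ∉ B := fun h => hpV (cj_eq_self_iff.2 (hBV h))
    have h2 : p' ∉ B := fun h => hpV' (cj_eq_self_iff.2 (hBV h))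
    obtain ⟨u, hu, z, hz, e⟩ := hptr p hp h1 p' hp' h2
    obtain ⟨x, hx, h3⟩ := cov u hu
    refine ⟨x, hx, ?_⟩
    have h4 := mem_Qk.1 h3 p hp
    have e2 : p' = x * p * ((p⁻¹ * (x⁻¹ * u) * p) * z) := by rw [e]; group
    rw [e2, cj_mul, cj_eq_self_iff.2 (hBV (mul_mem h4 hz)), cj_mul]
  four := by
    have key : ∀ x ∈ P, ∃ p ∈ P ⊓ centralizer (R i : Set G), cj p V = cj x V := by
      intro x hx
      obtain ⟨p, hp, z, hz, rfl⟩ := exists_fact hle hPR hC hx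
      exact ⟨p, hp, by rw [cj_mul, cj_eq_self_iff.2 (hBV hz)]⟩
    have key2 : ∀ x ∈ P, ∀ y ∈ P, x⁻¹ * y ∉ B → cj x V ≠ cj y V := by
      intro x hx y hy h h1
      apply h
      refine hNV (mem_inf.2 ⟨mul_mem (inv_mem hx) hy, ?_⟩)
      rw [← cj_eq_self_iff, cj_mul, ← h1, cj_inv_cj]
    have key3 : ∀ x ∈ P, x ∉ B → cj x V ≠ V := fun x hx h h1 => h (hNV (mem_inf.2 ⟨hx, cj_eq_self_iff.1 h1⟩))
    obtain ⟨x, hx, y, hy, z, hz, h1, h2, h3, h12, h13, h23⟩ := h4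
    obtain ⟨x', hx', ex⟩ := key x hx
    obtain ⟨y', hy', ey⟩ := key y hy
    obtain ⟨z', hz', ez⟩ := key z hz
    refine ⟨x', hx', y', hy', z', hz', ?_, ?_, ?_, ?_, ?_, ?_⟩
    · rw [ex]; exact key3 x hx h1
    · rw [ey]; exact key3 y hy h2
    · rw [ez]; exact key3 z hz h3
    · rw [ex, ey]; exact key2 x hx y hy h12
    · rw [ex, ez]; exact key2 x hx z hz h13
    · rw [ey, ez]; exact key2 y hy z hz h23

/-- **`Alpha` from a line `≠ V` inside `D`** -/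
theorem alpha_of (b : BTS V R) (n : Nd V R i j (P ⊓ centralizer (R i : Set G))) (hle : B ≤ P)
    (hBV : B ≤ normalizer (V : Set G)) (hPR : P ≤ normalizer (R i : Set G))
    (hNV : P ⊓ normalizer (V : Set G) ≤ B) (hC : P ≤ (P ⊓ centralizer (R i : Set G)) ⊔ B)
    (cov : ∀ u ∈ U, ∃ x ∈ UU V R j, x⁻¹ * u ∈ Qk B P) {p : G} (hp : p ∈ P ⊓ centralizer (R i : Set G))
    (hpV : cj p V ≠ V) (hpD : cj p V ≤ DD V R) :
    Alpha V R i B U P (WN V (P ⊓ centralizer (R i : Set G))) := by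
  have hD := n.alpha_le b hp hpV hpD
  have hx' : ∀ x ∈ P, x ∉ B → ∃ p ∈ P ⊓ centralizer (R i : Set G), cj p V = cj x V ∧ cj p V ≠ V := by
    intro x hx hxB
    obtain ⟨q, hq, z, hz, rfl⟩ := exists_fact hle hPR hC hx
    have e : cj q V = cj (q * z) V := by rw [cj_mul, cj_eq_self_iff.2 (hBV hz)]
    refine ⟨q, hq, e, fun h => hxB ?_⟩
    exact hNV (mem_inf.2 ⟨hx, by rw [← cj_eq_self_iff, ← e, h]⟩)
  refine ⟨V_le_WN _ _, hD, ?_, hPR, ?_, ?_, ?_, fun u hu => ?_⟩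
  · refine hC.trans (sup_le P_norm_WN fun z hz => norm_WN ?_ (hBV hz))
    have hzP := hle hz
    have key : ∀ g ∈ P, ∀ y ∈ P ⊓ centralizer (R i : Set G), g * y * g⁻¹ ∈ P ⊓ centralizer (R i : Set G) := by
      rintro g hg y ⟨hy, hyc⟩
      refine mem_inf.2 ⟨mul_mem (mul_mem hg hy) (inv_mem hg), ?_⟩
      rw [mem_centralizer_iff]
      intro r hr
      have h1 : g⁻¹ * r * g ∈ R i := BTwo.conj_inv_mem_of_normalizer (hPR hg) hr
      have h2 := mem_centralizer_iff.1 hyc _ h1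
      calc r * (g * y * g⁻¹) = g * (g⁻¹ * r * g * y) * g⁻¹ := by group
        _ = g * (y * (g⁻¹ * r * g)) * g⁻¹ := by rw [h2]
        _ = g * y * g⁻¹ * r := by group
    rw [mem_normalizer_iff]
    refine fun y => ⟨fun hy => key z hzP y hy, fun hy => ?_⟩
    have h1 := key z⁻¹ (inv_mem hzP) _ hy
    have e : z⁻¹ * (z * y * z⁻¹) * z⁻¹⁻¹ = y := by group
    rwa [e] at h1
  · intro x hx hxB
    obtain ⟨q, hq, e, hqV⟩ := hx' x hx hxB
    rw [← e]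
    exact (n.alpha_eq b hq hqV ((line_le_WN hq).trans hD)).le
  · intro x hx hxB
    obtain ⟨q, hq, e, hqV⟩ := hx' x hx hxB
    rw [← e]
    exact (n.alpha_inf b hq hqV).le
  · intro hcen
    apply hpV
    have h1 : cj p V ≤ cj 1 V ⊔ ZZ V R i := by
      rw [cj_one]
      intro y hy
      have hyW : y ∈ WW V (R i) := n.line_le hp hy
      obtain ⟨v, hv, h5⟩ := b.cen_U (b.W_le_Q i hyW) (fun u hu => by
        have h2 := mem_centralizer_iff.1 (hcen hu) y (line_le_WN hp hy)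
        exact h2)
      have h6 : v⁻¹ * y ∈ ZZ V R i := mem_inf.2 ⟨mul_mem (inv_mem (V_le_WW V (R i) hv)) hyW, h5⟩
      have e : y = v * (v⁻¹ * y) := by group
      rw [e]
      exact mul_mem (mem_sup_left hv) (mem_sup_right h6)
    have h2 := n.inj b hp (one_mem _) h1
    rwa [cj_one] at h2
  · obtain ⟨x, hx, h⟩ := cov u hu
    exact ⟨x, UU_le_YY j hx, h⟩

/-! ### for `RS` -/

open Cfsg.Agent.Omega.Lie.End Cfsg.Agent.Omega.Lie Cfsg.Agent.Omega.Lie.Quot Cfsg.Agent.Omega.IIa4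
open Cfsg.Agent.Omega.Lie.End.OfLay

section rs

variable {T S : Subgroup (HQ (R i))} {α : Type} {K : α → Subgroup (HQ (R i))} {J : α → Type}
  {P : ∀ a, J a → Subgroup (K a)} {m : ∀ a, J a → J a → ℕ}

/-- the panels of `RS` have at least four chambers -/
theorem rs_four [Finite G] (D : RS V R i j T S K J P m) (x : Σ a, J a) : ∃ y₁ ∈ PG K T S P x, ∃ y₂ ∈ PG K T S P x,
    ∃ y₃ ∈ PG K T S P x, y₁ ∉ BG K T S ∧ y₂ ∉ BG K T S ∧ y₃ ∉ BG K T S ∧ y₁⁻¹ * y₂ ∉ BG K T S ∧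
      y₁⁻¹ * y₃ ∉ BG K T S ∧ y₂⁻¹ * y₃ ∉ BG K T S := by
  obtain ⟨a, k⟩ := x
  obtain ⟨x, hx, y, hy, z, hz, h1, h2, h3, h12, h13, h23⟩ :=
    four_of_relIndex (le_trans (by norm_num) ((D.sys a).five k))
  have E := D.psit.enl a
  have lift : ∀ x ∈ P a k, ∃ g, ∃ hg : g ∈ normalizer (R i : Set G), pr (R i) ⟨g, hg⟩ = (x : HQ (R i)) ∧
      g ∈ PG K T S P ⟨a, k⟩ := by
    intro x hx
    obtain ⟨g, hg, e⟩ := exists_pr (x : HQ (R i))
    exact ⟨g, hg, e, mem_up.2 ⟨hg, by rw [e]; exact mem_sup_left ⟨x, hx, rfl⟩⟩⟩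
  obtain ⟨x', hx', ex, hxP⟩ := lift x hx
  obtain ⟨y', hy', ey, hyP⟩ := lift y hy
  obtain ⟨z', hz', ez, hzP⟩ := lift z hz
  have k1 : ∀ (x : K a) (x' : G) (hx' : x' ∈ normalizer (R i : Set G)), pr (R i) ⟨x', hx'⟩ = (x : HQ (R i)) →
      x ∉ normalizer (S.subgroupOf (K a) : Set (K a)) → x' ∉ BG K T S := by
    intro x x' hx' ex h h'
    obtain ⟨h4, h5⟩ := mem_up.1 h'
    rw [ex] at h5
    exact h (E.of_C _ h5)
  have k2 : ∀ (x y : K a) (x' y' : G) (hx' : x' ∈ normalizer (R i : Set G)) (hy' : y' ∈ normalizer (R i : Set G)),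
      pr (R i) ⟨x', hx'⟩ = (x : HQ (R i)) → pr (R i) ⟨y', hy'⟩ = (y : HQ (R i)) →
      x⁻¹ * y ∉ normalizer (S.subgroupOf (K a) : Set (K a)) → x'⁻¹ * y' ∉ BG K T S := by
    intro x y x' y' hx' hy' ex ey h
    refine k1 (x⁻¹ * y) _ (mul_mem (inv_mem hx') hy') ?_ h
    rw [coe_mul, coe_inv, ← ex, ← ey, ← map_inv, ← map_mul]
    rfl
  exact ⟨x', hxP, y', hyP, z', hzP, k1 x x' hx' ex h1, k1 y y' hy' ey h2, k1 z z' hz' ez h3,
    k2 x y x' y' hx' hy' ex ey h12, k2 x z x' z' hx' hz' ex ez h13, k2 y z y' z' hy' hz' ey ez h23⟩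

/-- **`Nd` at a moved node of `RS`** -/
theorem rs_nd [Finite G] [Finite α] (b : BT V R) (D : RS V R i j T S K J P m) (hij : i ≠ j)
    (hBV : BG K T S ≤ normalizer (V : Set G)) {a : α} {k : J a}
    (hm : Moved (S.subgroupOf (K a)) (Tact T (K a)) (P a k)) :
    Nd V R i j (PG K T S P ⟨a, k⟩ ⊓ centralizer (R i : Set G)) :=
  nd_of b hij (D.preG.le ⟨a, k⟩) D.preG.U_le hBV up_le (D.preG.ptr ⟨a, k⟩) (rs_four D ⟨a, k⟩)
    (inf_NV_le (D.preG.ptr ⟨a, k⟩) D.preG.U_le hBV (D.not_le_of_moved b hij hm)) (D.A_le_UG b hij) QQ_le_up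
    (fun _ hu => D.cov b hm hu) (D.PG_le b ⟨a, k⟩)

/-- **`Alpha` at a moved node of `RS` with a line `≠ V` inside `D`** -/
theorem rs_alpha [Finite G] [Finite α] (b : BTS V R) (D : RS V R i j T S K J P m) (hij : i ≠ j)
    (hBV : BG K T S ≤ normalizer (V : Set G)) {a : α} {k : J a}
    (hm : Moved (S.subgroupOf (K a)) (Tact T (K a)) (P a k)) {p : G}
    (hp : p ∈ PG K T S P ⟨a, k⟩ ⊓ centralizer (R i : Set G)) (hpV : cj p V ≠ V) (hpD : cj p V ≤ DD V R) :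
    Alpha V R i (BG K T S) (UG K S) (PG K T S P ⟨a, k⟩) (WN V (PG K T S P ⟨a, k⟩ ⊓ centralizer (R i : Set G))) :=
  alpha_of b (rs_nd b.toBT D hij hBV hm) (D.preG.le ⟨a, k⟩) hBV up_le
    (inf_NV_le (D.preG.ptr ⟨a, k⟩) D.preG.U_le hBV (D.not_le_of_moved b.toBT hij hm)) (D.PG_le b.toBT ⟨a, k⟩)
    (fun _ hu => D.cov b.toBT hm hu) hp hpV hpD

/-- **The residue `(0, k)` of type alpha**, `SepG` given -/
theorem rs_res0_alpha' [Finite G] [Finite F] [CharP F 2] [Finite α] (b : BTS V R) (c : Coord V R i j v w1 w2)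
    (hF : ∃ a : F, a ≠ 0 ∧ a ≠ 1) (D : RS V R i j T S K J P m) (hd : Dat V R i (BG K T S) (UG K S)) {a : α} {k : J a}
    (hm : Moved (S.subgroupOf (K a)) (Tact T (K a)) (P a k)) {p : G}
    (hp : p ∈ PG K T S P ⟨a, k⟩ ⊓ centralizer (R i : Set G)) (hpV : cj p V ≠ V) (hpD : cj p V ≤ DD V R)
    (sep : SepG 2 (BG K T S) (UG K S) (PG K T S P ⟨a, k⟩) (P0 V R (BG K T S)) ∨
      SepG 2 (BG K T S) (UG K S) (P0 V R (BG K T S)) (PG K T S P ⟨a, k⟩)) :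
    ∃ n, 3 ≤ n ∧ Res0 V R (BG K T S) (UG K S) (PG K T S P) ⟨a, k⟩ n :=
  res0_alpha' b.toBT hd c hF D.preG (D.A_le_UG b.toBT c.ne) (rs_alpha b D c.ne hd.BV hm hp hpV hpD) sep

/-- **The residue `(0, k)` of type alpha**, `|F| ≥ 8` -/
theorem rs_res0_alpha [Finite G] [Finite F] [CharP F 2] [Finite α] (b : BTS V R) (c : Coord V R i j v w1 w2)
    (hF : ∃ a : F, a ≠ 0 ∧ a ^ 3 ≠ 1) (D : RS V R i j T S K J P m) (hd : Dat V R i (BG K T S) (UG K S)) {a : α}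
    {k : J a} (hm : Moved (S.subgroupOf (K a)) (Tact T (K a)) (P a k)) {p : G}
    (hp : p ∈ PG K T S P ⟨a, k⟩ ⊓ centralizer (R i : Set G)) (hpV : cj p V ≠ V) (hpD : cj p V ≤ DD V R) :
    ∃ n, 3 ≤ n ∧ Res0 V R (BG K T S) (UG K S) (PG K T S P) ⟨a, k⟩ n :=
  res0_alpha b.toBT hd c hF D.preG (D.A_le_UG b.toBT c.ne) (rs_alpha b D c.ne hd.BV hm hp hpV hpD) (D.PG_le b.toBT _)

end rs

end Cfsg.Agent.Omega.HOne.End
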