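import Cfsg.Agent.Omega.HOne.SplitVQ
import Cfsg.Agent.Omega.MixOne.Frame4

/-!
# Split mutual pairs: `|C_V(O²(P))| = |C_{V'}(O²(P'))|` (socket `Both`)

`T ≤ P` a Sylow 2-subgroup of `G` which normalises the line `R`: `Ω₁(Z(T)) = C_R(T) × D`.
-/

set_option autoImplicit false
set_option linter.unusedSectionVars false

namespace Cfsg.Agent.Omega.HOne

open Subgroup Cfsg Cfsg.Agent.ZN Cfsg.Agent.Omega.MinPar Cfsg.Agent.Omega.Frame
open Cfsg.Agent.Omega.FrameFF Cfsg.Agent.Lib.SL2Mat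
open Cfsg.Agent.MinSimple.VModule (mem_zc)
open Cfsg.Agent.MinSimple
open Cfsg.Agent.Omega.HOne.Main (vx SplitPar Both)
open Cfsg.Agent.Omega.Mix (RMod RMutual)
open Cfsg.Agent.Omega.MixOne (Spl exists_spl exists_move)
open Cfsg.Agent.Omega.BTwo (cj mem_cj conj_mem_cj cj_mono)

universe u

variable {G : Type u} [Group G] [Finite G]

theorem card_zc {F : Type*} [Field F] [Finite F] [CharP F 2] {P V D N K : Subgroup G} {M : RMod F N K}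
    (s : Spl P V D M) (T : Sylow 2 G) (hT : (T : Subgroup G) ≤ P) {w : Fin 2 → F} (hw : w ≠ 0)
    (hTR : (T : Subgroup G) ≤ normalizer ((M.line w : Subgroup G) : Set G))
    (hzV : zc (T : Subgroup G) ≤ V) (hD : D ≤ zc (T : Subgroup G)) :
    Nat.card (zc (T : Subgroup G)) = Nat.card ↥(zc (T : Subgroup G) ⊓ M.line w) * Nat.card D := by
  rw [← Nat.card_prod]
  refine (Nat.card_congr (Equiv.ofBijective (fun p : ↥(zc (T : Subgroup G) ⊓ M.line w) × D =>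
    (⟨(p.1 : G) * p.2, mul_mem p.1.2.1 (hD p.2.2)⟩ : zc (T : Subgroup G))) ⟨?_, ?_⟩)).symm
  · rintro ⟨⟨r, hr⟩, ⟨d, hd⟩⟩ ⟨⟨r', hr'⟩, ⟨d', hd'⟩⟩ h
    have h1 : r * d = r' * d' := congrArg Subtype.val h
    have h2 : r'⁻¹ * r = d' * d⁻¹ := by
      rw [inv_mul_eq_iff_eq_mul, ← mul_assoc, ← h1, mul_inv_cancel_right]
    have h3 : r'⁻¹ * r ∈ N ⊓ D := mem_inf.2
      ⟨mul_mem (inv_mem (M.line_le w (mem_inf.1 hr').2)) (M.line_le w (mem_inf.1 hr).2), by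
        rw [h2]; exact mul_mem hd' (inv_mem hd)⟩
    rw [s.inf, mem_bot, inv_mul_eq_one] at h3
    subst h3
    have h4 := mul_left_cancel h1
    subst h4
    rfl
  · rintro ⟨z, hz⟩
    obtain ⟨n, hn, d, hd, rfl⟩ := s.dec z (hzV hz)
    have hn' : n ∈ zc (T : Subgroup G) := by
      have := mul_mem hz (inv_mem (hD hd))
      rwa [mul_inv_cancel_right] at this
    have h1 : n ∈ M.line w := M.cent_le_of_sylow T (hT.trans s.PK) hw hTR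
      (mem_inf.2 ⟨mem_centralizer_iff.2 fun t ht => (mem_zc.1 hn').2.1 t ht, hn⟩)
    exact ⟨⟨⟨n, mem_inf.2 ⟨hn', h1⟩⟩, ⟨d, hd⟩⟩, rfl⟩

/-- **the socket `Both`** -/
theorem both (K : Cls.{u}) : Both K := by
  intro G _ _ hG _ S _ _ hS hs P₁ P₂ x hm hfree
  obtain ⟨⟨F₁, _, _, _, ⟨o₁⟩⟩, F₂, _, _, _, ⟨o₂⟩⟩ := hS P₁ P₂ x hm
  obtain ⟨hs₁, hs₂⟩ := hs P₁ P₂ x hm
  obtain ⟨K₁, M₁, s₁⟩ := exists_spl hG.char2 hm.star₁ o₁ hs₁
  obtain ⟨K₂, M₂, s₂⟩ := exists_spl hG.char2 hm.star₂ o₂ hs₂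
  obtain ⟨y, hy1, hy2, v, hv, w, hw, hvw⟩ := exists_move S hG.char2 hm
  have s₂' := s₂.conj y
  have hS₁P : (S : Subgroup G) ≤ P₁ := hm.star₁.le
  have hS₂P : ((y • S : Sylow 2 G) : Subgroup G) ≤ cj y P₂ := by
    rw [Mix.coe_smul_eq]; exact cj_mono hm.star₂.le
  -- `N₁`, `N₂` do not commute
  obtain ⟨n, hn, d, hd, rfl⟩ := s₁.dec v hv
  obtain ⟨n', hn', d', hd', rfl⟩ := s₂'.dec w hw
  have c1 : ∀ z ∈ cj y (zl (S : Subgroup G) P₂), ∀ d ∈ cv (S : Subgroup G) P₁, d * z = z * d := fun z hz d hd =>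
    mem_centralizer_iff.1 (s₁.cen (hS₁P (hy1 hz))) d hd
  have c2 : ∀ z ∈ zl (S : Subgroup G) P₁, ∀ d ∈ cj y (cv (S : Subgroup G) P₂), d * z = z * d := fun z hz d hd => by
    refine mem_centralizer_iff.1 (s₂'.cen (hS₂P ?_)) d hd
    rw [Mix.coe_smul_eq]; exact hy2 hz
  have hnn : n * n' ≠ n' * n := by
    intro h
    apply hvw
    have e1 := c1 _ hw d hd
    have e2 := c2 n (s₁.NV hn) d' hd'
    calc n * d * (n' * d') = n * (d * (n' * d')) := by group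
      _ = n * (n' * d' * d) := by rw [e1]
      _ = n * n' * d' * d := by group
      _ = n' * (n * d') * d := by rw [h]; group
      _ = n' * (d' * n) * d := by rw [e2]
      _ = n' * d' * (n * d) := by group
  have hmut : RMutual (vx (S : Subgroup G) P₁) (cj y (vx (S : Subgroup G) P₂)) K₁ (cj y K₂) :=
    ⟨(s₂'.NV.trans hy1).trans (hS₁P.trans s₁.PK), (s₁.NV.trans hy2).trans (by
      have := hS₂P.trans s₂'.PK
      rwa [Mix.coe_smul_eq] at this), n, hn, n', hn', hnn⟩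
  obtain ⟨-, u, u', hu, hu', hl, hl'⟩ := Mix.pair M₁ (M₂.conj y) hmut
  obtain ⟨T₁, hT₁P, hT₁R⟩ := s₁.exists_sylow S hS₁P hu.ne
  obtain ⟨T₂, hT₂P, hT₂R⟩ := s₂'.exists_sylow (y • S) hS₂P hu'.ne
  have hz₁ : zc (T₁ : Subgroup G) ≤ zl (S : Subgroup G) P₁ := zc_le_of S T₁ hS₁P hT₁P
  have hD₁ : cv (S : Subgroup G) P₁ ≤ zc (T₁ : Subgroup G) := cv_le_zc_of S T₁ hG.char2 hm.star₁ o₁ hs₁ hT₁P
  -- the same for `P₂^y`
  have ecj : ∀ X : Subgroup G, cj y X = ChoiceBase.cj y X := fun X => rfl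
  have hsy : ((y • S : Sylow 2 G) : Subgroup G) = ChoiceBase.cj y (S : Subgroup G) := Mix.coe_smul_eq y S
  have hz₂ : zc (T₂ : Subgroup G) ≤ cj y (zl (S : Subgroup G) P₂) := by
    have h1 := zc_le_of (y • S) T₂ hS₂P hT₂P
    rw [hsy, ecj P₂, IId.zl_cj] at h1
    exact h1
  have hD₂ : cj y (cv (S : Subgroup G) P₂) ≤ zc (T₂ : Subgroup G) := by
    -- move `T₂` into `P₂`
    have h2 : (((y⁻¹ • T₂ : Sylow 2 G)) : Subgroup G) ≤ P₂ := by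
      rw [Mix.coe_smul_eq]
      have := cj_mono (g := y⁻¹) hT₂P
      rwa [BTwo.cj_inv_cj] at this
    have h3 := cv_le_zc_of S (y⁻¹ • T₂) hG.char2 hm.star₂ o₂ hs₂ h2
    have h4 : (((y⁻¹ • T₂ : Sylow 2 G)) : Subgroup G) = ChoiceBase.cj y⁻¹ (T₂ : Subgroup G) := Mix.coe_smul_eq _ _
    rw [h4, zc_cj] at h3
    have h5 := ChoiceBase.cj_mono y h3
    rw [ChoiceBase.cj_cj_inv] at h5
    exact h5
  have k₁ := card_zc s₁ T₁ hT₁P hu.ne hT₁R hz₁ hD₁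
  have k₂ := card_zc s₂' T₂ hT₂P hu'.ne hT₂R hz₂ hD₂
  obtain ⟨R, hR⟩ : ∃ R, R = vx (S : Subgroup G) P₁ ⊓ cj y (vx (S : Subgroup G) P₂) := ⟨_, rfl⟩
  have hl₁ : R = M₁.line u := hR.trans hl
  have hl₂ : R = (M₂.conj y).line u' := hR.trans hl'
  rw [← hl₁] at k₁ hT₁R
  rw [← hl₂] at k₂ hT₂R
  obtain ⟨k, hk, hkT⟩ := Mix.exists_conj_eq T₂ T₁ hT₂R hT₁R
  have e1 : zc (T₁ : Subgroup G) = cj k (zc (T₂ : Subgroup G)) := by
    rw [hkT]; exact zc_cj k _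
  have e2 : zc (T₁ : Subgroup G) ⊓ R = cj k (zc (T₂ : Subgroup G) ⊓ R) := by
    rw [BTwo.cj_inf, ← e1, BTwo.cj_eq_self_iff.2 hk]
  have hcard : ∀ X : Subgroup G, Nat.card (cj k X) = Nat.card X := fun X => BTwo.card_cj k X
  rw [e2, hcard] at k₁
  rw [e1, hcard, k₂] at k₁
  have hpos : 0 < Nat.card ↥(zc (T₂ : Subgroup G) ⊓ R) := Nat.card_pos
  have h5 := Nat.eq_of_mul_eq_mul_left hpos k₁
  rw [BTwo.card_cj, show cv (S : Subgroup G) P₂ = ⊥ from hfree, card_bot] at h5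
  exact Subgroup.card_eq_one.1 h5.symm

end Cfsg.Agent.Omega.HOne
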