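import Cfsg.Agent.Omega.BTwo.Cen
import Cfsg.Agent.Omega.BTwo.SemiBasic
import Cfsg.Agent.Omega.BTwo.Rad

/-!
# (h1), split case: the structure `b = 2` with `D₁ = C_D(X) ≠ 1` allowed (#11929 (1) - (5), #12377)

`BTH` = `BT` with `nonloc` and `cenQ` (no `meet`).
-/

set_option autoImplicit false

namespace Cfsg.Agent.Omega.BTwo.RadAbs

open Subgroup

variable {G : Type*} [Group G]

/-- **(8.4), the case `q ≥ 4`**, product form: if a `p`-element `τ` (`p` odd) normalises `W` and is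
fixed-point-free on `U / D`, then `C(W) = (C(W) ∩ E) Z(W)`. Here `C = C(W)` is a 2-group, `U = W ∩ C(V)`,
`E = Q_i ∩ Q_j`, and every `c ∈ C` is `ε y⁻¹` with `ε ∈ E`, `y ∈ U`. -/
theorem cent_mul [Finite G] {p : ℕ} (hp : p.Prime) (hp2 : p ≠ 2) {W U V D E C : Subgroup G} {τ : G} {k : ℕ}
    (hC : ∀ c, c ∈ C ↔ ∀ w ∈ W, c * w = w * c) (hC2 : IsPGroup 2 C)
    (hUW : U ≤ W) (hVD : V ≤ D) (hDW : D ≤ W) (hDE : D ≤ E)
    (hEV : ∀ e ∈ E, ∀ v ∈ V, e * v = v * e) (hEW : ∀ e ∈ E, ∀ w ∈ W, e * w * e⁻¹ ∈ W)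
    (hτ : τ ^ p ^ k = 1) (hτW : ∀ w ∈ W, τ * w * τ⁻¹ ∈ W)
    (hτE : ∀ e ∈ E, τ * e * τ⁻¹ * e⁻¹ ∈ V) (hfpf : ∀ u ∈ U, τ * u * τ⁻¹ * u⁻¹ ∈ D → u ∈ D)
    (hy : ∀ c ∈ C, ∃ y ∈ U, c * y ∈ E) : ∀ c ∈ C, ∃ m ∈ C ⊓ W, c * m ∈ E := by
  -- `τ⁻¹` also normalises `W`
  have hτC : ∀ c ∈ C, τ * c * τ⁻¹ ∈ C := by
    intro c hc
    rw [hC] at hc ⊢
    -- `W` is `τ`-invariant, so every `w` is `τ w' τ⁻¹`
    intro w hw
    have hmap : (W.map (MulAut.conj τ).toMonoidHom) = W := by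
      refine eq_of_le_of_card_ge ?_
        (Nat.card_congr (W.equivMapOfInjective _ (MulAut.conj τ).injective).toEquiv.symm).ge
      rintro _ ⟨m, hm, rfl⟩
      exact hτW m hm
    rw [← hmap] at hw
    obtain ⟨w', hw', rfl⟩ := hw
    change τ * c * τ⁻¹ * (τ * w' * τ⁻¹) = τ * w' * τ⁻¹ * (τ * c * τ⁻¹)
    calc τ * c * τ⁻¹ * (τ * w' * τ⁻¹) = τ * (c * w') * τ⁻¹ := by group
      _ = τ * (w' * c) * τ⁻¹ := by rw [hc w' hw']
      _ = _ := by group
  have hcomp : ∀ c ∈ C, ∀ y ∈ U, c * y ∈ E →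
      ∃ v ∈ V, τ * c * τ⁻¹ * c⁻¹ = v * ((c * y) * (τ * y⁻¹ * τ⁻¹ * y⁻¹⁻¹) * (c * y)⁻¹) := by
    intro c hc y hy hE
    refine ⟨_, hτE _ hE, ?_⟩
    group
  have h1 : ∀ c ∈ C, τ * c * τ⁻¹ * c⁻¹ ∈ C ⊓ W := by
    intro c hc
    obtain ⟨y, hyU, hyE⟩ := hy c hc
    obtain ⟨v, hv, e⟩ := hcomp c hc y hyU hyE
    refine ⟨C.mul_mem (hτC c hc) (C.inv_mem hc), ?_⟩
    rw [e]
    refine mul_mem (hDW (hVD hv)) (hEW _ hyE _ ?_)
    exact W.mul_mem (hτW _ (W.inv_mem (hUW hyU))) (W.inv_mem (W.inv_mem (hUW hyU)))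
  intro c hc
  -- `c⁻¹ τ c ∈ (C ∩ W) τ`
  have h2 : c⁻¹ * τ * c * τ⁻¹ ∈ C ⊓ W := by
    -- direct: `c⁻¹ τ c τ⁻¹ = c⁻¹ (τ c τ⁻¹ c⁻¹) c`
    have e2 : c⁻¹ * τ * c * τ⁻¹ = c⁻¹ * (τ * c * τ⁻¹ * c⁻¹) * c := by group
    rw [e2]
    have h4 := h1 c hc
    refine ⟨C.mul_mem (C.mul_mem (C.inv_mem hc) h4.1) hc, ?_⟩
    have h5 := (hC c).1 hc _ h4.2
    have e3 : c⁻¹ * (τ * c * τ⁻¹ * c⁻¹) * c = τ * c * τ⁻¹ * c⁻¹ := by
      rw [mul_assoc, ← h5]; group
    rw [e3]; exact h4.2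
  have hτM : ∀ m ∈ C ⊓ W, τ * m * τ⁻¹ ∈ C ⊓ W := fun m hm => ⟨hτC m hm.1, hτW m hm.2⟩
  have hy' : (c⁻¹ * τ * c) ^ p ^ k = 1 := by
    have e : c⁻¹ * τ * c = c⁻¹ * τ * c⁻¹⁻¹ := by rw [inv_inv]
    rw [e, conj_pow, hτ]; group
  obtain ⟨m, hm, hmτ⟩ := conj_of_same_coset hp hp2 (hC2.to_le inf_le_left) hτ hτM hy' h2
  -- `c m` commutes with `τ`
  have hcm : τ * (c * m) * τ⁻¹ * (c * m)⁻¹ = 1 := by
    have e1 : m * τ = c⁻¹ * τ * c * m := by rw [← hmτ]; group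
    have e2 : (c * m) * τ = τ * (c * m) := by
      calc (c * m) * τ = c * (m * τ) := by group
        _ = c * (c⁻¹ * τ * c * m) := by rw [e1]
        _ = _ := by group
    rw [← e2]; group
  have hcmC : c * m ∈ C := mul_mem hc hm.1
  obtain ⟨y, hyU, hyE⟩ := hy _ hcmC
  obtain ⟨v, hv, e⟩ := hcomp _ hcmC y hyU hyE
  rw [hcm] at e
  -- `τ y⁻¹ τ⁻¹ y ∈ V`
  have h6 : τ * y⁻¹ * τ⁻¹ * y⁻¹⁻¹ ∈ D := by
    have h7 : τ * y⁻¹ * τ⁻¹ * y⁻¹⁻¹ = (c * m * y)⁻¹ * v⁻¹ * (c * m * y) := by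
      have h8 : (c * m * y) * (τ * y⁻¹ * τ⁻¹ * y⁻¹⁻¹) * (c * m * y)⁻¹ = v⁻¹ := by
        rw [eq_inv_iff_mul_eq_one]
        have := congrArg (fun w => v⁻¹ * w * v) e
        simp only [mul_one, inv_mul_cancel] at this
        rw [this]; group
      rw [← h8]; group
    have h9 := hEV _ hyE _ (inv_mem hv)
    rw [h7, mul_assoc, ← h9]
    have e4 : (c * m * y)⁻¹ * (c * m * y * v⁻¹) = v⁻¹ := by group
    rw [e4]
    exact hVD (inv_mem hv)
  have hyD : y ∈ D := by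
    have := hfpf y⁻¹ (inv_mem hyU) h6
    simpa using inv_mem this
  have hcmE : c * m ∈ E := by
    have e5 : c * m = (c * m * y) * y⁻¹ := by group
    rw [e5]
    exact mul_mem hyE (inv_mem (hDE hyD))
  exact ⟨m, hm, hcmE⟩

end Cfsg.Agent.Omega.BTwo.RadAbs

namespace Cfsg.Agent.Omega.BTwo

open Subgroup
open scoped commutatorElement

variable {G : Type*} [Group G] {ι : Type*}

/-- `b = 2` together with: no 2-subgroup `≠ 1` is normalised by `N(V)` and `N(R i)`; `C(Q i) ≤ Q i`. -/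
structure BTH (V : Subgroup G) (R : ι → Subgroup G) : Prop extends BT V R where
  nonloc : ∀ i, ∀ T : Subgroup G, IsPGroup 2 T → T ≤ normalizer (V : Set G) → T ≤ normalizer (R i : Set G) →
    normalizer (V : Set G) ≤ normalizer (T : Set G) →
    normalizer (R i : Set G) ≤ normalizer (T : Set G) → T = ⊥
  cenQ : ∀ i, normalizer (R i : Set G) ⊓ centralizer (QQ (R i) : Set G) ≤ QQ (R i)

theorem BTC.toBTH {V : Subgroup G} {R : ι → Subgroup G} (b : BTC V R) : BTH V R :=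
  { b.toBT with nonloc := b.nonloc, cenQ := b.cenQ }

/-- `C_X = C(X)` -/
def CenXh (V : Subgroup G) (R : ι → Subgroup G) : Subgroup G := centralizer (XX V R : Set G)

/-- `D₁ = C_D(X)` -/
def D1 (V : Subgroup G) (R : ι → Subgroup G) : Subgroup G := DD V R ⊓ CenXh V R

section

variable {V : Subgroup G} {R : ι → Subgroup G}

theorem D1_le_D : D1 V R ≤ DD V R := inf_le_left

theorem D1_le_CX : D1 V R ≤ CenXh V R := inf_le_right

theorem CX_le_cen (i : ι) : CenXh V R ≤ centralizer (WW V (R i) : Set G) := cen_X_le i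

theorem comm_CX {x y : G} (hx : x ∈ XX V R) (hy : y ∈ CenXh V R) : x * y = y * x :=
  mem_centralizer_iff.1 hy x hx

variable (b : BT V R)
include b

theorem BT.CX_inf_V : CenXh V R ⊓ V = ⊥ := by
  rw [eq_bot_iff_forall]
  rintro x ⟨h1, h2⟩
  exact b.cen_VX h2 h1

theorem BT.NV_le_NCX : normalizer (V : Set G) ≤ normalizer (CenXh V R : Set G) :=
  b.NV_le_NX.trans (normalizer_le_normalizer_centralizer _)

theorem BT.NV_le_ND1 : normalizer (V : Set G) ≤ normalizer (D1 V R : Set G) := by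
  intro g hg
  rw [← cj_eq_self_iff, D1, cj_inf, cj_eq_self_iff.2 (b.NV_le_ND hg), cj_eq_self_iff.2 (b.NV_le_NCX hg)]

/-- the swap argument, with centraliser of `X` allowed -/
theorem BT.swap' {i j : ι} (hij : i ≠ j) {c : G} (hc : c ∈ centralizer (WW V (R i) : Set G))
    (hX : ∀ x ∈ XX V R, x * c * x⁻¹ * c⁻¹ ∈ V) : ∃ a ∈ R i, a * c ∈ CenXh V R := by
  obtain ⟨n, hn, e1, -⟩ := b.trans_X hij (Ne.symm hij)
  obtain ⟨a, ha, a', ha', e⟩ := b.exists_mul hij (hX n hn)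
  have h1 : n * c * n⁻¹ ∈ centralizer (WW V (R j) : Set G) := by
    rw [← b.cj_WW e1, centralizer_cj]
    exact conj_mem_cj hc
  have h2 : a * c ∈ centralizer (WW V (R i) : Set G) := mul_mem (b.R_cen_W i ha) hc
  have h3 : a * c ∈ centralizer (WW V (R j) : Set G) := by
    have h4 : a * c = a'⁻¹ * (n * c * n⁻¹) := by
      have h5 := b.V_comm a (b.R_le i ha) a' (b.R_le j ha')
      calc a * c = a'⁻¹ * (a' * a) * c := by group
        _ = a'⁻¹ * (n * c * n⁻¹ * c⁻¹) * c := by rw [← h5, ← e]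
        _ = a'⁻¹ * (n * c * n⁻¹) := by group
    rw [h4]
    exact mul_mem (inv_mem (b.R_cen_W j ha')) h1
  exact ⟨a, ha, b.mem_cen_X hij h2 h3⟩

/-- **(1)** `C_D(W i) = R i D₁` -/
theorem BT.cen_DW' {i : ι} {d : G} (hd : d ∈ DD V R) (h : d ∈ centralizer (WW V (R i) : Set G)) :
    ∃ a ∈ R i, a * d ∈ D1 V R := by
  obtain ⟨j, hj, -⟩ := b.third i i
  obtain ⟨a, ha, h1⟩ := b.swap' (Ne.symm hj) h fun x hx => b.XD hx hd
  exact ⟨a, ha, mul_mem (V_le_D V R (b.R_le i ha)) hd, h1⟩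

/-- `C_D(U i) = V D₁` -/
theorem BT.cen_DU' {i : ι} {d : G} (hd : d ∈ DD V R) (hU : ∀ u ∈ UU V R i, d * u = u * d) :
    ∃ v ∈ V, v * d ∈ D1 V R := by
  obtain ⟨v, hv, hc⟩ := b.cen_U (b.W_le_Q i (D_le_W V R i hd)) hU
  obtain ⟨a, ha, h1⟩ := b.cen_DW' (mul_mem (inv_mem (V_le_D V R hv)) hd) hc
  exact ⟨a * v⁻¹, mul_mem (b.R_le i ha) (inv_mem hv), by rwa [mul_assoc]⟩

/-- `[C(W i), U j] ≤ R i D₁` -/
theorem BT.cen_W_U' {i j : ι} (hij : i ≠ j) {c u : G} (hc : c ∈ centralizer (WW V (R i) : Set G))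
    (hu : u ∈ UU V R j) : ∃ a ∈ R i, a * (c * u * c⁻¹ * u⁻¹) ∈ D1 V R := by
  have hcV := cen_W_le V (R i) hc
  have huV := UU_le_cen j hu
  have hc2 := conj_mem_of_normalizer (normalizer_le_normalizer_centralizer _ (b.cen_le_NW i huV)) (inv_mem hc)
  have e : c * u * c⁻¹ * u⁻¹ = c * (u * c⁻¹ * u⁻¹) := by group
  have h1 : c * u * c⁻¹ * u⁻¹ ∈ centralizer (WW V (R i) : Set G) := by
    rw [e]
    exact mul_mem hc hc2
  have h2 : c * u * c⁻¹ * u⁻¹ ∈ UU V R j :=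
    mul_mem (conj_mem_of_normalizer (b.cen_le_NU j hcV) hu) (inv_mem hu)
  refine b.cen_DW' ?_ h1
  rw [← b.UK hij]
  exact mem_inf.2 ⟨h2, b.cen_W_le_K i h1⟩

/-- elements of `C(W i)` centralise `[C(W i), U j]` -/
theorem BT.cen_W_U_comm {i j : ι} (hij : i ≠ j) {c u c' : G} (hc : c ∈ centralizer (WW V (R i) : Set G))
    (hu : u ∈ UU V R j) (hc' : c' ∈ centralizer (WW V (R i) : Set G)) :
    c' * (c * u * c⁻¹ * u⁻¹) = c * u * c⁻¹ * u⁻¹ * c' := by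
  obtain ⟨a, ha, h⟩ := b.cen_W_U' hij hc hu
  have h1 : c * u * c⁻¹ * u⁻¹ ∈ WW V (R i) := by
    have h2 := mul_mem (inv_mem (V_le_WW V (R i) (b.R_le i ha))) (D_le_W V R i h.1)
    rwa [inv_mul_cancel_left] at h2
  exact (mem_centralizer_iff.1 hc' _ h1).symm

/-- odd order elements of `C(W i)` centralise `W j` -/
theorem BT.odd_cen' {i j : ι} (hij : i ≠ j) {c : G} (hc : c ∈ centralizer (WW V (R i) : Set G))
    (ho : Odd (orderOf c)) : c ∈ centralizer (WW V (R j) : Set G) := by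
  have h1 : ∀ u ∈ UU V R j, c * u = u * c := by
    intro u hu
    obtain ⟨a, ha, h⟩ := b.cen_W_U' hij hc hu
    have h2 : c * u * c⁻¹ * u⁻¹ ∈ WW V (R i) := by
      have h2 := mul_mem (inv_mem (V_le_WW V (R i) (b.R_le i ha))) (D_le_W V R i h.1)
      rwa [inv_mul_cancel_left] at h2
    exact comm_of_odd ho (b.W_isPGroup i) h2 (b.cen_W_U_comm hij hc hu hc)
  rw [mem_centralizer_iff]
  intro w hw
  have h := b.cen_W_W hc hw
  exact (comm_of_odd ho (b.U_isPGroup j) h (h1 _ h)).symm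

theorem BT.LL_eq' (i j : ι) : LL V R i = LL V R j := by
  have key : ∀ i j : ι, i ≠ j → LL V R i ≤ LL V R j := fun i j hij =>
    closure_mono fun c hc => ⟨b.odd_cen' hij hc.1 hc.2, hc.2⟩
  by_cases h : i = j
  · rw [h]
  · exact le_antisymm (key i j h) (key j i (Ne.symm h))

theorem BT.cj_LL' {g : G} {i j : ι} (h : cj g (R i) = R j) : cj g (LL V R i) = LL V R j := by
  have key : ∀ (g : G) (i j : ι), cj g (R i) = R j → cj g (LL V R i) ≤ LL V R j := by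
    intro g i j h
    rw [cj, map_le_iff_le_comap, LL, closure_le]
    rintro c ⟨hc, ho⟩
    refine subset_closure ⟨?_, ?_⟩
    · rw [← b.cj_WW h, centralizer_cj]
      exact conj_mem_cj hc
    · exact ((orderOf_injective (MulAut.conj g).toMonoidHom (MulAut.conj g).injective c).symm ▸ ho :)
  apply le_antisymm (key g i j h)
  have h' : cj g⁻¹ (R j) = R i := by rw [← h, cj_inv_cj]
  have h3 := cj_mono (g := g) (key g⁻¹ j i h')
  rwa [cj_cj_inv] at h3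

end

section

variable {V : Subgroup G} {R : ι → Subgroup G} (b : BTH V R)
include b

/-- **(2)** `C(W i)` is a 2-group -/
theorem BTH.cen_W_isPGroup [Finite G] (i : ι) : IsPGroup 2 (centralizer (WW V (R i) : Set G)) := by
  have hLV : LL V R i ≤ centralizer (V : Set G) := (LL_le i).trans (cen_W_le V (R i))
  have hLN : LL V R i ≤ normalizer (R i : Set G) := hLV.trans (b.cen_le_N i)
  have h1 : normalizer (V : Set G) ≤ normalizer (LL V R i : Set G) := by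
    intro g hg
    obtain ⟨j, hj⟩ := b.perm g hg i
    rw [← cj_eq_self_iff, b.cj_LL' hj, b.LL_eq']
  have h2 : normalizer (R i : Set G) ≤ normalizer (LL V R i : Set G) := by
    intro g hg
    rw [← cj_eq_self_iff, b.cj_LL' (cj_eq_self_iff.2 hg)]
  have h3 : normalizer (LL V R i : Set G) ≤ normalizer (O2 (LL V R i) : Set G) := by
    intro g hg
    rw [← cj_eq_self_iff] at hg ⊢
    rw [cj_O2, hg]
  have h4 : O2 (LL V R i) = ⊥ := b.nonloc i _ (O2_isPGroup _) ((O2_le _).trans (hLV.trans (cen_le_NV V)))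
    ((O2_le _).trans hLN) (h1.trans h3) (h2.trans h3)
  have hQ := le_normalizer_O2 (normalizer (R i : Set G))
  have h5 : LL V R i ≤ centralizer (QQ (R i) : Set G) := by
    intro l hl
    rw [mem_centralizer_iff]
    intro q hq
    have k1 : q * l * q⁻¹ * l⁻¹ ∈ LL V R i :=
      mul_mem (conj_mem_of_normalizer (h2 (b.Q_le i hq)) hl) (inv_mem hl)
    have k2 : q * l * q⁻¹ * l⁻¹ ∈ QQ (R i) := by
      have e : q * l * q⁻¹ * l⁻¹ = q * (l * q⁻¹ * l⁻¹) := by group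
      rw [e]
      exact mul_mem hq (conj_mem_of_normalizer (hQ (hLN hl)) (inv_mem hq))
    have k3 : LL V R i ⊓ QQ (R i) ≤ O2 (LL V R i) := by
      refine le_O2_of_normal inf_le_left ((O2_isPGroup _).to_le inf_le_right) ?_
      intro g hg a ha
      exact mem_inf.2 ⟨mul_mem (mul_mem hg ha.1) (inv_mem hg), conj_mem_of_normalizer (hQ (hLN hg)) ha.2⟩
    have k4 : q * l * q⁻¹ * l⁻¹ ∈ O2 (LL V R i) := k3 (mem_inf.2 ⟨k1, k2⟩)
    rw [h4, mem_bot, mul_inv_eq_one, mul_inv_eq_iff_eq_mul] at k4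
    exact k4
  have h6 : LL V R i ≤ QQ (R i) := fun l hl => b.cenQ i (mem_inf.2 ⟨hLN hl, h5 hl⟩)
  refine isPGroup_of_odd fun c hc ho => ?_
  have h7 : c ∈ QQ (R i) := h6 (subset_closure ⟨hc, ho⟩)
  obtain ⟨n, hn⟩ := O2_isPGroup _ (⟨c, h7⟩ : QQ (R i))
  have hn' : c ^ 2 ^ n = 1 := congrArg Subtype.val hn
  have hd := Nat.dvd_gcd (dvd_refl (orderOf c)) (orderOf_dvd_of_pow_eq_one hn')
  have hco : Nat.gcd (orderOf c) (2 ^ n) = 1 := (Nat.coprime_two_right.2 ho).pow_right n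
  rw [hco, Nat.dvd_one, orderOf_eq_one_iff] at hd
  exact hd

/-- **(2)** `K i` is a 2-group, `= Q i` -/
theorem BTH.K_eq [Finite G] (i : ι) : KK V R i = QQ (R i) := by
  apply le_antisymm _ (b.Q_le_K i)
  refine le_O2_of_normal (KK_le_N i) ?_ fun g hg c hc => conj_mem_of_normalizer (b.N_le_NK i hg) hc
  refine isPGroup_of_odd fun c hc ho => ?_
  have h1 : c ∈ centralizer (WW V (R i) : Set G) := by
    rw [mem_centralizer_iff]
    intro w hw
    have h := hc.2 w hw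
    have h2 := b.KR i hc h
    rw [mul_inv_eq_iff_eq_mul] at h2
    exact (comm_of_odd ho ((b.W_isPGroup i).to_le ((b.R_le i).trans (V_le_WW V (R i)))) h h2).symm
  obtain ⟨n, hn⟩ := b.cen_W_isPGroup i ⟨c, h1⟩
  have hn' : c ^ 2 ^ n = 1 := congrArg Subtype.val hn
  have hd := Nat.dvd_gcd (dvd_refl (orderOf c)) (orderOf_dvd_of_pow_eq_one hn')
  have hco : Nat.gcd (orderOf c) (2 ^ n) = 1 := (Nat.coprime_two_right.2 ho).pow_right n
  rw [hco, Nat.dvd_one, orderOf_eq_one_iff] at hd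
  exact hd

theorem BTH.cen_W_le_Q [Finite G] (i : ι) : centralizer (WW V (R i) : Set G) ≤ QQ (R i) := by
  rw [← b.K_eq i]
  exact b.cen_W_le_K i

/-- **(2)** `C_X ≤ Q_1 ∩ Q_2` -/
theorem BTH.CX_le_C [Finite G] : CenXh V R ≤ CC R := le_iInf fun i => (cen_X_le i).trans (b.cen_W_le_Q i)

theorem BTH.CX_isPGroup [Finite G] : IsPGroup 2 (CenXh V R) := by
  obtain ⟨i⟩ := b.nonempty
  exact (b.cen_W_isPGroup i).to_le (cen_X_le i)

/-- **(3)** squares of elements of `Q_1 ∩ Q_2` are in `C_X` -/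
theorem BTH.C_sq {x : G} (hx : x ∈ CC R) : x * x ∈ CenXh V R := by
  obtain ⟨i, j, hij⟩ := b.exists_pair
  have key : ∀ k, x * x ∈ centralizer (WW V (R k) : Set G) := by
    intro k
    rw [mem_centralizer_iff]
    intro w hw
    have hxk : x ∈ QQ (R k) := (mem_iInf.1 hx) k
    have h1 := b.WQ k hxk hw
    have h2 := b.conj_R hxk h1
    have e : x * x * w * (x * x)⁻¹ * w⁻¹ =
        x * (x * w * x⁻¹ * w⁻¹) * x⁻¹ * (x * w * x⁻¹ * w⁻¹) := by group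
    rw [h2, b.V_sq _ (b.R_le k h1), mul_inv_eq_one, mul_inv_eq_iff_eq_mul] at e
    exact e.symm
  exact b.mem_cen_X hij (key i) (key j)

/-- **(3)** `C_{Q_1 ∩ Q_2}(W i) = R i C_X` -/
theorem BTH.cen_CW {i : ι} {x : G} (hx : x ∈ CC R) (h : x ∈ centralizer (WW V (R i) : Set G)) :
    ∃ a ∈ R i, a * x ∈ CenXh V R := by
  obtain ⟨j, hj, -⟩ := b.third i i
  exact b.swap' (Ne.symm hj) h fun y hy => b.CX hy hx

/-- `C(W i) ∩ Q j ≤ R i C_X` -/
theorem BTH.cen_W_Q [Finite G] {i j : ι} (hij : i ≠ j) {c : G}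
    (hc : c ∈ centralizer (WW V (R i) : Set G)) (hj : c ∈ QQ (R j)) : ∃ a ∈ R i, a * c ∈ CenXh V R := by
  refine b.cen_CW ?_ hc
  rw [b.C_eq hij]
  exact mem_inf.2 ⟨b.cen_W_le_Q i hc, hj⟩

/-- **(3)** `C_{Q_1 ∩ Q_2}(U i) = V C_X` -/
theorem BTH.cen_CU {i : ι} {x : G} (hx : x ∈ CC R) (hU : ∀ u ∈ UU V R i, x * u = u * x) :
    ∃ v ∈ V, v * x ∈ CenXh V R := by
  obtain ⟨v, hv, hc⟩ := b.cen_U (mem_iInf.1 hx i) hU
  obtain ⟨a, ha, h1⟩ := b.cen_CW (mul_mem (inv_mem (b.V_le_C hv)) hx) hc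
  exact ⟨a * v⁻¹, mul_mem (b.R_le i ha) (inv_mem hv), by rwa [mul_assoc]⟩

/-- `[C(W i), C(W j)] ≤ C_X` -/
theorem BTH.cen_comm {i j : ι} (hij : i ≠ j) {c c' : G}
    (hc : c ∈ centralizer (WW V (R i) : Set G)) (hc' : c' ∈ centralizer (WW V (R j) : Set G)) :
    c * c' * c⁻¹ * c'⁻¹ ∈ CenXh V R := by
  have n1 := normalizer_le_normalizer_centralizer _ (b.cen_le_NW j (cen_W_le V (R i) hc))
  have n2 := normalizer_le_normalizer_centralizer _ (b.cen_le_NW i (cen_W_le V (R j) hc'))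
  have h1 : c * c' * c⁻¹ * c'⁻¹ ∈ centralizer (WW V (R j) : Set G) :=
    mul_mem (conj_mem_of_normalizer n1 hc') (inv_mem hc')
  have h2 : c * c' * c⁻¹ * c'⁻¹ ∈ centralizer (WW V (R i) : Set G) := by
    have e : c * c' * c⁻¹ * c'⁻¹ = c * (c' * c⁻¹ * c'⁻¹) := by group
    rw [e]
    exact mul_mem hc (conj_mem_of_normalizer n2 (inv_mem hc))
  exact b.mem_cen_X hij h2 h1

/-- `Z(W i) C_X` contains `C(W i)`: **(4)**, the case `q ≥ 4` -/
theorem BTH.cen_W_eq [Finite G] {p : ℕ} (hp : p.Prime) (hp2 : p ≠ 2) {i : ι} {τ : G} {k : ℕ}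
    (hτX : τ ∈ XX V R) (hτR : τ ∈ normalizer (R i : Set G)) (hτ : τ ^ p ^ k = 1)
    (hfpf : ∀ u ∈ UU V R i, τ * u * τ⁻¹ * u⁻¹ ∈ DD V R → u ∈ DD V R) :
    centralizer (WW V (R i) : Set G) = ZW V R i ⊔ CenXh V R := by
  apply le_antisymm
  · intro c hc
    obtain ⟨m, hm, h1⟩ := RadAbs.cent_mul (U := UU V R i) (V := V) (D := DD V R) (E := CC R) hp hp2
      (C := centralizer (WW V (R i) : Set G)) (W := WW V (R i)) (τ := τ) (k := k) (fun c => by
        rw [mem_centralizer_iff]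
        exact ⟨fun h w hw => (h w hw).symm, fun h w hw => (h w hw).symm⟩)
      (b.cen_W_isPGroup i) (UU_le_WW i) (V_le_D V R) (D_le_W V R i) b.D_le_C
      (fun e he v hv => (mem_centralizer_iff.1 (b.C_le_cen he) v hv).symm)
      (fun e he w hw =>
        conj_mem_of_normalizer (normalizer_le_WW V (R i) (b.Q_le i (mem_iInf.1 he i))) hw)
      hτ (fun w hw => conj_mem_of_normalizer (normalizer_le_WW V (R i) hτR) hw)
      (fun e he => b.CX hτX he) hfpf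
      (fun c hc => b.exists_eps (b.cen_W_le_Q i hc) (cen_W_le V (R i) hc)) c hc
    obtain ⟨a, ha, h2⟩ := b.cen_CW h1 (mul_mem hc hm.1)
    have e : c = (a⁻¹ * (a * (c * m))) * m⁻¹ := by group
    rw [e]
    exact mul_mem (mul_mem (mem_sup_left (inv_mem (b.R_le_ZW i ha))) (mem_sup_right h2))
      (mem_sup_left (inv_mem (mem_inf.2 ⟨hm.2, hm.1⟩)))
  · exact sup_le (ZW_le_C i) (cen_X_le i)

/-- **(5)** `C_X` is abelian -/
theorem BTH.CX_comm [Finite G] {i : ι} (h : centralizer (WW V (R i) : Set G) = ZW V R i ⊔ CenXh V R)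
    {x y : G} (hx : x ∈ CenXh V R) (hy : y ∈ CenXh V R) : x * y = y * x := by
  -- `[C(W i), C(W i)] = [C_X, C_X]`
  set C := centralizer (WW V (R i) : Set G) with hC
  have hZC : ∀ z ∈ ZW V R i, ∀ c ∈ C, z * c = c * z := fun z hz c hc => mem_centralizer_iff.1 hc z hz.1
  have hcomm : ⁅C, C⁆ ≤ ⁅CenXh V R, CenXh V R⁆ := by
    rw [commutator_le]
    intro g hg g' hg'
    rw [h] at hg hg'
    have hn : ZW V R i ≤ normalizer (CenXh V R : Set G) := fun z hz =>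
      b.NV_le_NCX (b.W_le_NV i hz.1)
    obtain ⟨z, hz, c, hc, rfl⟩ := exists_mul_of_mem_sup hn hg
    obtain ⟨z', hz', c', hc', rfl⟩ := exists_mul_of_mem_sup hn hg'
    have k1 := hZC z hz c' (cen_X_le i hc')
    have k2 := hZC z' hz' c (cen_X_le i hc)
    have k3 := hZC z hz z' hz'.2
    have e : ⁅z * c, z' * c'⁆ = ⁅c, c'⁆ := by
      have c1 : Commute z c' := k1
      have c2 : Commute z' c := k2
      have c3 : Commute z z' := k3
      have c4 : Commute z c := hZC z hz c (cen_X_le i hc)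
      have c5 : Commute z' c' := hZC z' hz' c' (cen_X_le i hc')
      have h1 : z * c * (z' * c') * (z * c)⁻¹ * (z' * c')⁻¹ = c * c' * c⁻¹ * c'⁻¹ := by
        have hz1 : Commute z (c * (z' * c') * c⁻¹) :=
          (c4.mul_right (c3.mul_right c1)).mul_right c4.inv_right
        calc z * c * (z' * c') * (z * c)⁻¹ * (z' * c')⁻¹
            = z * (c * (z' * c') * c⁻¹) * z⁻¹ * (z' * c')⁻¹ := by group
          _ = (c * (z' * c') * c⁻¹) * (z' * c')⁻¹ := by rw [hz1.eq]; group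
          _ = z' * (c * c' * c⁻¹) * (z' * c')⁻¹ := by
              rw [show c * (z' * c') * c⁻¹ = (c * z') * c' * c⁻¹ by group, ← c2.eq]; group
          _ = z' * (c * c' * c⁻¹ * c'⁻¹) * z'⁻¹ := by group
          _ = c * c' * c⁻¹ * c'⁻¹ := by
              have : Commute z' (c * c' * c⁻¹ * c'⁻¹) :=
                ((c2.mul_right c5).mul_right c2.inv_right).mul_right c5.inv_right
              rw [this.eq]; group
      simpa only [commutatorElement_def] using h1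
    rw [e]
    exact commutator_mem_commutator hc hc'
  have hcomm' : ⁅CenXh V R, CenXh V R⁆ = ⁅C, C⁆ :=
    le_antisymm (commutator_mono (cen_X_le i) (cen_X_le i)) hcomm
  have hcen : ⁅CenXh V R, CenXh V R⁆ ≤ CenXh V R := by
    rw [commutator_le]
    intro g hg g' hg'
    rw [commutatorElement_def]
    exact mul_mem (mul_mem (mul_mem hg hg') (inv_mem hg)) (inv_mem hg')
  have hnorm : ∀ A : Subgroup G, normalizer (A : Set G) ≤ normalizer ((⁅A, A⁆ : Subgroup G) : Set G) := by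
    intro A g hg
    rw [← cj_eq_self_iff] at hg ⊢
    rw [cj, map_commutator]
    change ⁅cj g A, cj g A⁆ = _
    rw [hg]
  have h0 : ⁅CenXh V R, CenXh V R⁆ = ⊥ := by
    refine b.nonloc i _ (b.CX_isPGroup.to_le hcen)
      (hcen.trans ((cen_X_le i).trans ((cen_W_le V (R i)).trans (cen_le_NV V))))
      (hcen.trans ((cen_X_le i).trans (b.cen_W_le_N i i))) (b.NV_le_NCX.trans (hnorm _)) ?_
    rw [hcomm']
    exact (N_le_NC i).trans (hnorm _)
  have h1 : ⁅x, y⁆ ∈ ⁅CenXh V R, CenXh V R⁆ := commutator_mem_commutator hx hy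
  rw [h0, mem_bot, commutatorElement_eq_one_iff_mul_comm] at h1
  exact h1

/-- **(5)** `C(W i)` is abelian -/
theorem BTH.cen_W_comm [Finite G] {i : ι} (h : centralizer (WW V (R i) : Set G) = ZW V R i ⊔ CenXh V R)
    {x y : G} (hx : x ∈ centralizer (WW V (R i) : Set G)) (hy : y ∈ centralizer (WW V (R i) : Set G)) :
    x * y = y * x := by
  have hn : ZW V R i ≤ normalizer (CenXh V R : Set G) := fun z hz =>
    b.NV_le_NCX (b.W_le_NV i hz.1)
  have hx' := hx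
  rw [h] at hx'
  obtain ⟨z, hz, c, hc, rfl⟩ := exists_mul_of_mem_sup hn hx'
  have k1 : z * y = y * z := mem_centralizer_iff.1 hy z hz.1
  have hy' := hy
  rw [h] at hy'
  obtain ⟨z', hz', c', hc', rfl⟩ := exists_mul_of_mem_sup hn hy'
  have k2 : c * z' = z' * c := (mem_centralizer_iff.1 (cen_X_le i hc) z' hz'.1).symm
  have k3 := b.CX_comm h hc hc'
  have k4 : c * (z' * c') = (z' * c') * c := by
    rw [← mul_assoc, k2, mul_assoc, k3, mul_assoc]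
  rw [mul_assoc, k4, ← mul_assoc, k1, mul_assoc]

omit b in
/-- `Z(W i) ∩ Z(W j) = D₁` -/
theorem BT.ZW_inf {V : Subgroup G} {R : ι → Subgroup G} (b : BT V R) {i j : ι} (hij : i ≠ j) :
    ZW V R i ⊓ ZW V R j = D1 V R := by
  apply le_antisymm
  · rintro x ⟨⟨h1, h2⟩, h3, h4⟩
    refine mem_inf.2 ⟨?_, b.mem_cen_X hij h2 h4⟩
    rw [b.D_eq' hij]
    exact ⟨h1, h3⟩
  · rintro x ⟨h1, h2⟩
    exact ⟨⟨D_le_W V R i h1, cen_X_le i h2⟩, D_le_W V R j h1, cen_X_le j h2⟩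

omit b in
/-- **(6)** `[Z i, Z j] ≤ D₁` -/
theorem BT.ZZ {V : Subgroup G} {R : ι → Subgroup G} (b : BT V R) {i j : ι} (hij : i ≠ j) {z z' : G}
    (hz : z ∈ ZW V R i) (hz' : z' ∈ ZW V R j) : z * z' * z⁻¹ * z'⁻¹ ∈ D1 V R := by
  have n1 := N_le_NZW (V := V) j (b.cen_le_N j (cen_W_le V (R i) hz.2))
  have n2 := N_le_NZW (V := V) i (b.cen_le_N i (cen_W_le V (R j) hz'.2))
  rw [← b.ZW_inf hij]
  refine mem_inf.2 ⟨?_, mul_mem (conj_mem_of_normalizer n1 hz') (inv_mem hz')⟩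
  have e : z * z' * z⁻¹ * z'⁻¹ = z * (z' * z⁻¹ * z'⁻¹) := by group
  rw [e]
  exact mul_mem hz (conj_mem_of_normalizer n2 (inv_mem hz))

end

end Cfsg.Agent.Omega.BTwo
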