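import Cfsg.Agent.Omega.HOne.SitT
import Cfsg.Agent.Omega.HOne.SameCut
import Cfsg.Agent.Omega.IId.M4.Graph

/-!
# The split chain, `q ≥ 4`, over a 2-group `T`: the cut (II.0h1 `Same4` and II.d `WrMain4`)

Sockets over `SitT T M` (no class `K`, no Sylow group of `G`):
* `FrT` : `N(R i) = E (N(R i) ∩ N(V))`;
* `DT` : `D ∩ C(X) ≠ 1`;
* `RsT` : the enumeration of the moved components with their parabolic systems;
* `NVT` : `pr g ∈ N(A)` implies `g ∈ N(V)`;
* `ResT` : the residues `(0, k)` of the moved nodes;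
* `GaT` : no node of type `(γ)`.

* `endT` : `EndIn T (X E) U (R i) v` at a point `R i` with `TSyl N (pt M) i T`, `O₂(N(R i)) ≤ G₀`, `X ≤ G₀`,
  `N(V), N(R i) ≤ N(G₀)`;
* `stFour` : `Cut.StFour K`; `Ent.endIn` : for `WrMain4` (with `IId.M4.Chain`).
-/

set_option autoImplicit false
set_option linter.unusedSectionVars false

namespace Cfsg.Agent.Omega.HOne.TLift

open Subgroup Cfsg Cfsg.Agent.ZN Cfsg.Agent.Omega.MinPar Cfsg.Agent.Omega.Frame
open Cfsg.Agent.Omega.NatPair (NatMod)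
open Cfsg.Agent.Omega.BTwo Cfsg.Agent.Omega.Lie Cfsg.Agent.Omega.Lie.Quot Cfsg.Agent.Omega.Lie.End
open Cfsg.Agent.Omega.IIa4 (Lay LayAll)
open Cfsg.Agent.Omega.IIa4.Moved (EE NR_le_NEE EE_le_cen Y_le_EE)
open Cfsg.Agent.Omega.HOneEnd (EndIn)
open Cfsg.Agent.Omega.HOne.SameOf (Sit4 norm_G0)
open Cfsg.Agent.Omega.HOneQ.SylIOf (TSyl)
open Cfsg.Agent.Omega.HOneQ.ECen (SylI)
open Cfsg.Agent.Omega.Lie.LayerMain (KRows)

universe u

/-! ### The statements at the level of `V`, `R` -/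

section defs

variable {G : Type u} [Group G] {ι : Type*} (V : Subgroup G) (R : ι → Subgroup G)

/-- LAYER for every `SylI` -/
def LayS (F : Type) [Field F] : Prop :=
  ∀ (i j : ι) (v : F → F → G) (w1 w2 t : F → G), Coord V R i j v w1 w2 → ∀ τ : TorD V R i j v t,
    ∀ S : Subgroup (HQ (R i)), SylI τ S → Lay V R i j (TT τ) S

/-- `N(R i) = E (N(R i) ∩ N(V))` -/
def Frt : Prop :=
  ∀ i j : ι, i ≠ j → ∀ x ∈ normalizer (R i : Set G), ∃ e ∈ EE V R i j, e * x ∈ normalizer (V : Set G)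

/-- `pr g ∈ N(A)` implies `g ∈ N(V)` -/
def NVp : Prop :=
  ∀ i j : ι, i ≠ j → ∀ (x : G) (hx : x ∈ normalizer (R i : Set G)),
    pr (R i) ⟨x, hx⟩ ∈ normalizer (AA V R i j : Set (HQ (R i))) → x ∈ normalizer (V : Set G)

end defs

theorem SitT.layS {G : Type u} [Group G] [Finite G] {T : Subgroup G} {F : Type} [Field F] [Finite F] [CharP F 2]
    {N : Subgroup G} {M : NatMod F N} (h : SitT T M) (KR : KRows.{u}) : LayS N (pt M) F :=
  fun _ _ _ _ _ _ c τ _ I => h.lay KR c τ I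

/-- LAYER of `IIa4` from `LayS` -/
theorem LayS.layAll {G : Type u} [Group G] [Finite G] {ι : Type*} {V : Subgroup G} {R : ι → Subgroup G} {F : Type}
    [Field F] (l : LayS V R F) (b : BT V R) : LayAll V R F :=
  fun i j hij v w1 w2 t c τ S₁ hV hR =>
    l i j v w1 w2 t c τ _ ((TSyl.of_sylow S₁ hV hR).sylI b τ (CrdOf.crd c) hij)

/-! ### The sockets -/

section sockets

/-- **`N(R i) = E (N(R i) ∩ N(V))`** -/
def FrT : Prop :=
  ∀ (G : Type u) [Group G] [Finite G] (T : Subgroup G) (F : Type) [Field F] [Finite F] [CharP F 2] (N : Subgroup G)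
    (M : NatMod F N), SitT T M → LayS N (pt M) F → Frt N (pt M)

/-- **`D ∩ C(X) ≠ 1`** -/
def DT : Prop :=
  ∀ (G : Type u) [Group G] [Finite G] (T : Subgroup G) (F : Type) [Field F] [Finite F] [CharP F 2] (N : Subgroup G)
    (M : NatMod F N), SitT T M → LayS N (pt M) F → DD N (pt M) ⊓ CenX N (pt M) ≠ ⊥

/-- **`N_H(A) ≤ N(V)`** -/
def NVT : Prop :=
  ∀ (G : Type u) [Group G] [Finite G] (T : Subgroup G) (F : Type) [Field F] [Finite F] [CharP F 2] (N : Subgroup G)
    (M : NatMod F N), SitT T M → LayS N (pt M) F → Frt N (pt M) → NVp N (pt M)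

/-- **The moved components with their systems** -/
def RsT : Prop :=
  ∀ (G : Type u) [Group G] [Finite G] (T : Subgroup G) (F : Type) [Field F] [Finite F] [CharP F 2] (N : Subgroup G)
    (M : NatMod F N), SitT T M → LayS N (pt M) F → Frt N (pt M) →
      ∀ (i j : Pt M) (v : F → F → G) (w1 w2 t : F → G), Coord N (pt M) i j v w1 w2 →
        ∀ τ : Lie.TorD N (pt M) i j v t, TSyl N (pt M) i T →
          ∃ (n : ℕ) (C : Fin n → Subgroup (HQ (pt M i))) (J : Fin n → Type) (Q : ∀ a, J a → Subgroup (C a))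
            (m : ∀ a, J a → J a → ℕ), (∀ a, Finite (J a)) ∧ Nonempty (Fin n) ∧
              RS N (pt M) i j (TT τ) (SS (pt M) i T) C J Q m ∧ ∀ a, OneL (C a) (J a)

/-- **The residues `(0, k)` of the moved nodes** -/
def ResT : Prop :=
  ∀ (G : Type u) [Group G] [Finite G] (T : Subgroup G) (F : Type) [Field F] [Finite F] [CharP F 2] (N : Subgroup G)
    (M : NatMod F N), SitT T M → LayS N (pt M) F → Frt N (pt M) → NVp N (pt M) →
      ∀ (i j : Pt M) (v : F → F → G) (w1 w2 t : F → G), Coord N (pt M) i j v w1 w2 →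
        ∀ τ : Lie.TorD N (pt M) i j v t, TSyl N (pt M) i T →
          ∀ (n : ℕ) (C : Fin n → Subgroup (HQ (pt M i))) (J : Fin n → Type) (Q : ∀ a, J a → Subgroup (C a))
            (m : ∀ a, J a → J a → ℕ), (∀ a, Finite (J a)) → Nonempty (Fin n) →
              RS N (pt M) i j (TT τ) (SS (pt M) i T) C J Q m → (∀ a, OneL (C a) (J a)) →
                ∀ x : Σ a, J a,
                  ¬ PG C (TT τ) (SS (pt M) i T) Q x ≤ normalizer (N : Set G) →
                  ¬ GamT N (PG C (TT τ) (SS (pt M) i T) Q x) →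
                    ∃ m0, 3 ≤ m0 ∧ Res0 N (pt M) (BG C (TT τ) (SS (pt M) i T)) (UG C (SS (pt M) i T))
                      (PG C (TT τ) (SS (pt M) i T) Q) x m0

/-- **No node of type `(γ)`** -/
def GaT : Prop :=
  ∀ (G : Type u) [Group G] [Finite G] (T : Subgroup G) (F : Type) [Field F] [Finite F] [CharP F 2] (N : Subgroup G)
    (M : NatMod F N), SitT T M → LayS N (pt M) F → Frt N (pt M) → NVp N (pt M) →
      ∀ (i j : Pt M) (v : F → F → G) (w1 w2 t : F → G), Coord N (pt M) i j v w1 w2 →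
        ∀ τ : Lie.TorD N (pt M) i j v t, TSyl N (pt M) i T →
          ∀ (n : ℕ) (C : Fin n → Subgroup (HQ (pt M i))) (J : Fin n → Type) (Q : ∀ a, J a → Subgroup (C a))
            (m : ∀ a, J a → J a → ℕ), (∀ a, Finite (J a)) → Nonempty (Fin n) →
              RS N (pt M) i j (TT τ) (SS (pt M) i T) C J Q m → (∀ a, OneL (C a) (J a)) →
                ∀ x : Σ a, J a, ¬ GamT N (PG C (TT τ) (SS (pt M) i T) Q x)

end sockets

/-- the preimage of `im T` lies in `T` -/
theorem up_SS_le {G : Type u} [Group G] [Finite G] {ι : Type*} {V : Subgroup G} {R : ι → Subgroup G} {i : ι}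
    {T : Subgroup G} (h : TSyl V R i T) : up (R i) (SS R i T) ≤ T := by
  intro g hg
  obtain ⟨a, ha, -, h1⟩ := mem_up_im.1 hg
  have e : g = a * (a⁻¹ * g) := by group
  rw [e]
  exact mul_mem (mem_inf.1 ha).1 (h.QQ_le h1)

/-- The output of the chain over `T`. -/
structure OutT {G : Type u} [Group G] (T : Subgroup G) {F : Type} [Field F] {N : Subgroup G} (M : NatMod F N) (i : Pt M)
    (G₀ U : Subgroup G) (x : G) : Prop where
  endIn : EndIn T G₀ U (pt M i) x
  X_le : XX N (pt M) ≤ G₀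
  Q_le : QQ (pt M i) ≤ G₀
  NV : normalizer (N : Set G) ≤ normalizer (G₀ : Set G)

/-- **The chain over `T`** -/
theorem SitT.out {G : Type u} [Group G] [Finite G] {T : Subgroup G} {F : Type} [Field F] [Finite F] [CharP F 2]
    {N : Subgroup G} {M : NatMod F N} (h : SitT T M) (hL : LayS N (pt M) F) (hF : FrT.{u}) (hD : DT.{u})
    (hRs : RsT.{u}) (hNV : NVT.{u}) (hRes : ResT.{u}) (hGa : GaT.{u}) {i : Pt M} (hi : TSyl N (pt M) i T) :
    ∃ (G₀ U : Subgroup G) (x : G), OutT T M i G₀ U x := by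
  have hfr := hF G T F N M h hL
  have hnv := hNV G T F N M h hL hfr
  obtain ⟨j, hji, -⟩ := h.bt.third i i
  have hij : i ≠ j := Ne.symm hji
  obtain ⟨v, w1, w2, c⟩ := h.exists_coord hij
  obtain ⟨t, τ⟩ := h.exists_torD c
  obtain ⟨n, C, J, Q, m, hfin, hne, D, hone⟩ := hRs G T F N M h hL hfr i j v w1 w2 t c τ hi
  have hfinJ : Finite (Σ a, J a) := inferInstance
  have hreal := RealOf.realSysS D h.exists_ne h.bts c τ hij rfl (hnv i j hij)
  have hga := hGa G T F N M h hL hfr hnv i j v w1 w2 t c τ hi n C J Q m hfin hne D hone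
  have hres := hRes G T F N M h hL hfr hnv i j v w1 w2 t c τ hi n C J Q m hfin hne D hone
  obtain ⟨y, m', hin⟩ := SameCut.exists_preIn h.bts c h.exists_ne hij (hfr i j hij) hreal hga
    (fun k => RealOf.PG_le_NR D k) (fun k hk => hres k hk (hga k)) (hD G T F N M h hL) hi.p2 hi.leV hi.leR
    ((IIa4.Moved.up_mono D.UE_le_S).trans (up_SS_le hi))
  have hfinO : Finite (Option (Σ a, J a)) := inferInstance
  have hQE : QQ (pt M i) ≤ EE N (pt M) i j := IIa4.Moved.QQ_le_up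
  exact ⟨_, _, y, hin.endIn, le_sup_left, hQE.trans le_sup_right, (norm_G0 h.bt (hfr i j hij)).1⟩

/-! ### The two instances -/

/-- **`Cut.StFour K`** (II.0h1, same type, `q ≥ 4`) -/
theorem stFour {K : Cls.{u}} (KR : KRows.{u}) (hF : FrT.{u}) (hD : DT.{u}) (hRs : RsT.{u}) (hNV : NVT.{u})
    (hRes : ResT.{u}) (hGa : GaT.{u}) : Cut.StFour K := by
  intro G _ _ hG hK S hFu hI hSi hs P g F _ _ _ N M hM h4
  have h4' : Sit4 S P g M := ⟨hG, hFu, hI, hSi, hs, hM, h4⟩
  have h := SitT.of_sit4 h4'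
  obtain ⟨i, hi⟩ := HOneQ.exists_pt M S h4'.le_N
  obtain ⟨G₀, U, x, o⟩ := h.out (h.layS KR) hF hD hRs hNV hRes hGa (TSyl.of_sylow S h4'.le_N hi)
  refine ⟨i, hi, G₀, U, x, o.endIn, ?_, o.NV⟩
  have h1 : N ≤ WW N (pt M i) := V_le_WW N (pt M i)
  exact (h1.trans (W_le_X N (pt M) i)).trans o.X_le

open Cfsg.Agent.Omega.IId.FourSide Cfsg.Agent.Omega.IId.M4 in
/-- **`EndIn` and `Chain` for `WrMain4`** -/
theorem ent_out {K : Cls.{u}} {G : Type u} [Group G] [Finite G] {S : Sylow 2 G} {P : Subgroup G} {F : Type}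
    [Field F] [Finite F] [CharP F 2] {M : FFThm.NatK F (S : Subgroup G) P (zl (S : Subgroup G) P) ⊥ 2} {i j : Fin 2}
    {N : NatMod F (IId.fac M i)} (h : Ent K S P M i j N) (KR : KRows.{u}) (hF : FrT.{u}) (hD : DT.{u})
    (hRs : RsT.{u}) (hNV : NVT.{u}) (hRes : ResT.{u}) (hGa : GaT.{u}) :
    ∃ (G₀ U : Subgroup G) (x : G), EndIn (IId.stab M i) G₀ U (IId.line M i) x ∧ Chain M i N G₀ ∧
      normalizer (IId.fac M i : Set G) ≤ normalizer (G₀ : Set G) := by
  obtain ⟨k, hk⟩ := h.exists_pt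
  have h' := SitT.of_ent h
  have hi : TSyl (IId.fac M i) (pt N) k (IId.stab M i) := by
    refine ⟨h'.two, h'.le_N, ?_, ?_⟩
    · rw [hk]
      exact IId.stab_normalizes_line M h.four.le i
    · rw [hk, ← Nat.not_even_iff_odd, even_iff_two_dvd]
      exact h.four.syl
  obtain ⟨G₀, U, x, o⟩ := h'.out (h'.layS KR) hF hD hRs hNV hRes hGa hi
  have h1 := o.endIn
  have h2 := o.Q_le
  rw [hk] at h1 h2
  exact ⟨G₀, U, x, h1, ⟨h1.simple, o.X_le, h2, h1.N_R⟩, o.NV⟩

end Cfsg.Agent.Omega.HOne.TLift
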