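import Mathlib

/-!
# The eigenspaces of the torus and the action of `A` on `M = W / Z(W)`, `rad` allowed (abstract form, II.a and II.0h1)

`Pre`: `e ≤ D ≤ P = ker ω`, `π : P / D ≅ N / N₀`, `Λ : D / e → (N / N₀)*`, `A k = a_k - 1`, `T` with eigenvalues
`a⁻¹, 1, a, a²`.  `Pre.exists_eig`: `P = e ⊕ M₀ ⊕ n(N)`, `[n_g, a_k] = s(g, k) + k#(g) e`, `T(g, k, h) = f(s(g, k), n_h)`
alternating.  (II.a: `N₀ = 0`, #14331; here `n` has the kernel `N₀`.)
-/

set_option autoImplicit false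

namespace Cfsg.Agent.Omega.HOne.EigAbs

variable {F : Type*} [Field F] {M : Type*} [AddCommGroup M] [Module F M] {N : Type*} [AddCommGroup N] [Module F N]

/-- the data -/
structure Pre (f : M →ₗ[F] M →ₗ[F] F) (e : F →ₗ[F] M) (ω : M →ₗ[F] F) (T : Fˣ → M →ₗ[F] M) (D : Submodule F M)
    (N0 : Submodule F N) (π : LinearMap.ker ω →ₗ[F] N ⧸ N0) (Λ : D →ₗ[F] N →ₗ[F] F) (A : N → M →ₗ[F] M) :
    Prop where
  four : ∃ a : Fˣ, (a : F) ≠ 1
  two : (2 : F) = 0
  alt : ∀ x, f x x = 0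
  symm : ∀ x y, f x y = f y x
  fe : ∀ x γ, f x (e γ) = ω x * γ
  e_inj : ∀ γ, e γ = 0 → γ = 0
  ω1 : ∃ x, ω x = 1
  Te : ∀ a γ, T a (e γ) = (a : F)⁻¹ • e γ
  Tf : ∀ a x y, f (T a x) (T a y) = a * f x y
  Tω : ∀ a x, ω (T a x) = (a : F) ^ 2 * ω x
  TT : ∀ a b x, T a (T b x) = T b (T a x)
  Dω : ∀ x ∈ D, ω x = 0
  eD : ∀ γ, e γ ∈ D
  TD : ∀ a, ∀ x ∈ D, ∃ γ, T a x - x = e γ
  DT : ∀ a : Fˣ, (a : F) ≠ 1 → ∀ x, ω x = 0 → (∃ γ, T a x - x = e γ) → x ∈ D
  fDD : ∀ x ∈ D, ∀ y ∈ D, f x y = 0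
  πs : Function.Surjective π
  πk : ∀ x, π x = 0 ↔ (x : M) ∈ D
  πT : ∀ a (x : LinearMap.ker ω) (h : ω (T a (x : M)) = 0), π ⟨_, h⟩ = (a : F) • π x
  Λ0 : ∀ x, ∀ k ∈ N0, Λ x k = 0
  Λe : ∀ x : D, Λ x = 0 → ∃ γ, (x : M) = e γ
  fΛ : ∀ (x : D) (y : LinearMap.ker ω) k, π y = N0.mkQ k → f x y = Λ x k
  Aω : ∀ k x, ω (A k x) = 0
  Aπ : ∀ k x, π ⟨A k x, Aω k x⟩ = ω x • N0.mkQ k
  AΛ : ∀ k (x : D), A k x = e (Λ x k)
  Ae : ∀ k γ, A k (e γ) = 0
  Af : ∀ k x y, f (x + A k x) (y + A k y) = f x y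
  Aadd : ∀ k k' x, A (k + k') x = A k x + A k' x + A k (A k' x)
  AT : ∀ a k x, T a (A k x) = A ((a : F)⁻¹ • k) (T a x)

/-- the eigenspaces and the formulas -/
structure Eig (f : M →ₗ[F] M →ₗ[F] F) (e : F →ₗ[F] M) (ω : M →ₗ[F] F) (T : Fˣ → M →ₗ[F] M) (D : Submodule F M)
    (N0 : Submodule F N) (π : LinearMap.ker ω →ₗ[F] N ⧸ N0) (A : N → M →ₗ[F] M)
    (M0 : Submodule F M) (n : N →ₗ[F] M) (s : N →ₗ[F] N →ₗ[F] M) (sh : N → N →ₗ[F] F) : Prop where
  mem_M0 : ∀ x, x ∈ M0 ↔ ∀ a, T a x = x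
  n_T : ∀ a g, T a (n g) = (a : F) • n g
  n_surj : ∀ a : Fˣ, (a : F) ≠ 1 → ∀ x, T a x = (a : F) • x → ω x = 0 → ∃ g, n g = x
  n_ker : ∀ g, n g = 0 ↔ g ∈ N0
  mem_D : ∀ x, x ∈ D ↔ ∃ c : F, ∃ d ∈ M0, x = e c + d
  mem_P : ∀ x, ω x = 0 ↔ ∃ c : F, ∃ d ∈ M0, ∃ g, x = e c + d + n g
  indep : ∀ (c : F), ∀ d ∈ M0, ∀ g, e c + d + n g = 0 → c = 0 ∧ d = 0 ∧ n g = 0
  n_π : ∀ g (h : ω (n g) = 0), π ⟨n g, h⟩ = N0.mkQ g
  s_mem : ∀ g k, s g k ∈ M0
  A_e : ∀ k γ, A k (e γ) = 0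
  A_0 : ∀ k, ∀ d ∈ M0, A k d = e (f d (n k))
  A_1 : ∀ k g, A k (n g) = s g k + e (sh k g)
  A_top : ∀ k x, A k x - ω x • n k ∈ D
  f_00 : ∀ d ∈ M0, ∀ d' ∈ M0, f d d' = 0
  f_11 : ∀ g g', f (n g) (n g') = 0
  ω_0 : ∀ d ∈ M0, ω d = 0
  ω_1 : ∀ g, ω (n g) = 0
  inj : ∀ d ∈ M0, (∀ g, f d (n g) = 0) → d = 0
  s_alt : ∀ g, s g g = 0
  T_23 : ∀ g a b, f (s g a) (n b) = f (s g b) (n a)
  T_13 : ∀ g a b, f (s g a) (n b) = f (s b a) (n g)
  T_alt : ∀ g a, f (s g a) (n a) = 0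
  s_N0 : ∀ g, ∀ k ∈ N0, s g k = 0
  sh_add : ∀ a b g, sh (a + b) g = sh a g + sh b g + f (s g b) (n a)
  sh_smul : ∀ (l : F) a g, sh (l • a) g = l ^ 2 * sh a g

namespace Pre

variable {f : M →ₗ[F] M →ₗ[F] F} {e : F →ₗ[F] M} {ω : M →ₗ[F] F} {T : Fˣ → M →ₗ[F] M} {D : Submodule F M}
  {N0 : Submodule F N} {π : LinearMap.ker ω →ₗ[F] N ⧸ N0} {Λ : D →ₗ[F] N →ₗ[F] F} {A : N → M →ₗ[F] M}
  (h : Pre f e ω T D N0 π Λ A)
include h

theorem aa (x : F) : x + x = 0 := by linear_combination x * h.two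

theorem sub_inv_ne {a : F} (h0 : a ≠ 0) (h1 : a ≠ 1) : a - a⁻¹ ≠ 0 := by
  intro hc
  have h2 : a * a = 1 := by
    rw [sub_eq_zero] at hc
    nth_rewrite 2 [hc]
    exact mul_inv_cancel₀ h0
  have h3 : (a - 1) * (a - 1) = 0 := by
    linear_combination h2 + (1 - a) * h.two
  exact h1 (sub_eq_zero.1 (mul_self_eq_zero.1 h3))

theorem inv_sub_ne {a : F} (h1 : a ≠ 1) : a⁻¹ - 1 ≠ 0 := by
  have _ := h
  intro hc
  apply h1
  rw [← inv_inv a, sub_eq_zero.1 hc, inv_one]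

/-- `D = e ⊕ C_D(T)` -/
theorem exists_M0 {x : M} (hx : x ∈ D) : ∃ γ : F, ∀ a, T a (x - e γ) = x - e γ := by
  choose δ hδ using fun a => h.TD a x hx
  obtain ⟨b, hb⟩ := h.four
  have hb' := h.inv_sub_ne hb
  have hT : ∀ a, T a x = x + e (δ a) := fun a => by rw [← hδ a]; abel
  have key : ∀ a : Fˣ, δ a * ((b : F)⁻¹ - 1) = δ b * ((a : F)⁻¹ - 1) := by
    intro a
    have h1 := h.TT a b x
    rw [hT b, hT a, map_add, map_add, hT a, hT b, h.Te, h.Te, ← LinearMap.map_smul e, ← LinearMap.map_smul e] at h1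
    have h2 : e (δ a + (a : F)⁻¹ • δ b - (δ b + (b : F)⁻¹ • δ a)) = 0 := by
      rw [map_sub, map_add, map_add]
      have h3 : x + (e (δ a) + e ((a : F)⁻¹ • δ b)) = x + (e (δ b) + e ((b : F)⁻¹ • δ a)) := by
        rw [← add_assoc, h1, add_assoc]
      rw [add_left_cancel h3, sub_self]
    have h3 := h.e_inj _ h2
    rw [smul_eq_mul, smul_eq_mul] at h3
    linear_combination -h3
  refine ⟨δ b * ((b : F)⁻¹ - 1)⁻¹, fun a => ?_⟩
  have h1 : δ a = δ b * ((b : F)⁻¹ - 1)⁻¹ * ((a : F)⁻¹ - 1) := by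
    have h2 := key a
    field_simp at h2 ⊢
    linear_combination h2
  rw [map_sub, hT a, h.Te, ← LinearMap.map_smul e, h1, add_sub_assoc, ← map_sub]
  rw [sub_eq_add_neg x, ← map_neg]
  congr 2
  rw [smul_eq_mul]
  ring

theorem e_M0 {γ : F} (hγ : ∀ a, T a (e γ) = e γ) : γ = 0 := by
  obtain ⟨a, ha⟩ := h.four
  have h1 := hγ a
  rw [h.Te, ← LinearMap.map_smul e, ← sub_eq_zero, ← map_sub] at h1
  have h2 := h.e_inj _ h1
  rw [smul_eq_mul] at h2
  have h3 : ((a : F)⁻¹ - 1) * γ = 0 := by linear_combination h2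
  exact (mul_eq_zero.1 h3).resolve_left (h.inv_sub_ne ha)

/-- `C_M(T) ≤ D` -/
theorem M0_le {x : M} (hx : ∀ a, T a x = x) : x ∈ D := by
  obtain ⟨a, ha⟩ := h.four
  have h1 := h.Tω a x
  rw [hx a] at h1
  have h2 : ω x = 0 := by
    have h3 : (a : F) * (((a : F) - (a : F)⁻¹) * ω x) = 0 := by
      have h4 : (a : F) * (a : F)⁻¹ = 1 := mul_inv_cancel₀ a.ne_zero
      linear_combination -h1 - ω x * h4
    have h4 := (mul_eq_zero.1 h3).resolve_left a.ne_zero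
    exact (mul_eq_zero.1 h4).resolve_left (h.sub_inv_ne a.ne_zero ha)
  exact h.DT a ha x h2 ⟨0, by rw [hx a, sub_self, map_zero]⟩

/-- the operator `(T - a⁻¹)(T - 1)` -/
theorem exists_n : ∃ n : N →ₗ[F] M, (∀ a g, T a (n g) = (a : F) • n g) ∧ (∀ g, ω (n g) = 0) ∧
    (∀ g (hg : ω (n g) = 0), π ⟨n g, hg⟩ = N0.mkQ g) ∧ (∀ g ∈ N0, n g = 0) := by
  obtain ⟨a, ha⟩ := h.four
  set k : F := ((a : F) - (a : F)⁻¹) * ((a : F) - 1) with hk
  have hk0 : k ≠ 0 := mul_ne_zero (h.sub_inv_ne a.ne_zero ha) (sub_ne_zero.2 ha)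
  let L : M →ₗ[F] M := k⁻¹ • ((T a - (a : F)⁻¹ • LinearMap.id).comp (T a - LinearMap.id))
  have hL : ∀ x, L x = k⁻¹ • (T a (T a x - x) - (a : F)⁻¹ • (T a x - x)) := fun x => rfl
  have hLD : ∀ x ∈ D, L x = 0 := by
    intro x hx
    obtain ⟨γ, hγ⟩ := h.TD a x hx
    rw [hL, hγ, h.Te, sub_self, smul_zero]
  have hLω : ∀ x, ω x = 0 → ω (L x) = 0 := by
    intro x hx
    rw [hL]
    simp only [map_smul, map_sub, h.Tω, hx, mul_zero, sub_self, smul_zero]
  have hTω0 : ∀ b x, ω x = 0 → ω (T b x) = 0 := fun b x hx => by rw [h.Tω, hx, mul_zero]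
  -- `(T b - b) P ≤ D`
  have hTD : ∀ b x, ω x = 0 → T b x - (b : F) • x ∈ D := by
    intro b x hx
    have h0 : ω (T b x - (b : F) • x) = 0 := by rw [map_sub, map_smul, hTω0 b x hx, hx, smul_zero, sub_zero]
    have h1 : π ⟨T b x - (b : F) • x, h0⟩ = 0 := by
      have e1 : (⟨T b x - (b : F) • x, h0⟩ : LinearMap.ker ω) =
          ⟨T b x, hTω0 b x hx⟩ - (b : F) • ⟨x, hx⟩ := rfl
      rw [e1, map_sub, map_smul]
      have h2 := h.πT b ⟨x, hx⟩ (hTω0 b x hx)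
      rw [h2, sub_self]
    exact (h.πk _).1 h1
  have hLT : ∀ b x, ω x = 0 → T b (L x) = (b : F) • L x := by
    intro b x hx
    have h1 := hLD _ (hTD b x hx)
    have h2 : L (T b x) = T b (L x) := by
      simp only [hL, map_smul, map_sub, h.TT b a]
    rw [map_sub, map_smul, h2, sub_eq_zero] at h1
    exact h1
  have hLπ : ∀ x (hx : ω x = 0), π ⟨L x, hLω x hx⟩ = π ⟨x, hx⟩ := by
    intro x hx
    -- `L x - x ∈ D`
    have h1 := hTD a x hx
    set d := T a x - (a : F) • x with hd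
    have e1 : T a x = (a : F) • x + d := by rw [hd]; abel
    obtain ⟨γ, hγ⟩ := h.TD a d h1
    have e2 : T a d = d + e γ := by rw [← hγ]; abel
    have e3 : T a (T a x - x) - (a : F)⁻¹ • (T a x - x) =
        k • x + ((a : F) • d + d + e γ - d - (a : F)⁻¹ • d) := by
      rw [e1]
      simp only [map_sub, map_add, map_smul]
      rw [e1, e2, hk]
      module
    have e4 : L x - x = k⁻¹ • ((a : F) • d + d + e γ - d - (a : F)⁻¹ • d) := by
      rw [hL, e3, smul_add, smul_smul, inv_mul_cancel₀ hk0, one_smul, add_sub_cancel_left]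
    have h2 : L x - x ∈ D := by
      rw [e4]
      exact D.smul_mem _ (D.sub_mem (D.sub_mem (D.add_mem (D.add_mem (D.smul_mem _ h1) h1) (h.eD γ)) h1)
        (D.smul_mem _ h1))
    have h3 : π (⟨L x, hLω x hx⟩ - ⟨x, hx⟩) = 0 := (h.πk _).2 h2
    rw [map_sub, sub_eq_zero] at h3
    exact h3
  obtain ⟨g, hg⟩ := LinearMap.exists_rightInverse_of_surjective π (LinearMap.range_eq_top.2 h.πs)
  have hg' : ∀ z, π (g z) = z := fun z => LinearMap.congr_fun hg z
  let n : N →ₗ[F] M := L.comp ((LinearMap.ker ω).subtype.comp (g.comp N0.mkQ))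
  have hn : ∀ z, n z = L (g (N0.mkQ z) : M) := fun z => rfl
  refine ⟨n, fun b z => hLT b _ (g _).2, fun z => hLω _ (g _).2, fun z hz => ?_, fun z hz => ?_⟩
  · exact (hLπ _ (g (N0.mkQ z)).2).trans (hg' _)
  · rw [hn]
    have h1 : N0.mkQ z = 0 := by rw [Submodule.mkQ_apply, Submodule.Quotient.mk_eq_zero]; exact hz
    rw [h1, map_zero]
    exact map_zero L

/-- **existence of the frame** -/
theorem exists_eig : ∃ (M0 : Submodule F M) (n : N →ₗ[F] M) (s : N →ₗ[F] N →ₗ[F] M) (sh : N → N →ₗ[F] F),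
    Eig f e ω T D N0 π A M0 n s sh := by
  obtain ⟨a, ha⟩ := h.four
  obtain ⟨n, hnT, hnω, hnπ, hn0⟩ := h.exists_n
  obtain ⟨m0, hm0⟩ := h.ω1
  let M0 : Submodule F M :=
    { carrier := {x | ∀ a, T a x = x}
      zero_mem' := fun a => map_zero _
      add_mem' := fun {x z} hx hz a => by rw [map_add, hx a, hz a]
      smul_mem' := fun l x hx a => by rw [map_smul, hx a] }
  have hM0 : ∀ x, x ∈ M0 ↔ ∀ a, T a x = x := fun x => Iff.rfl
  have hM0D : ∀ d ∈ M0, d ∈ D := fun d hd => h.M0_le hd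
  have hai := h.inv_sub_ne ha
  have hfm : ∀ γ, f m0 (e γ) = γ := fun γ => by rw [h.fe, hm0, one_mul]
  -- the `e`-coordinate on `D`
  let ce : M →ₗ[F] F := ((a : F)⁻¹ - 1)⁻¹ • ((f m0).comp (T a - LinearMap.id))
  have hce : ∀ x, ce x = ((a : F)⁻¹ - 1)⁻¹ * f m0 (T a x - x) := fun x => rfl
  have hce1 : ∀ γ, ce (e γ) = γ := by
    intro γ
    rw [hce, h.Te, ← LinearMap.map_smul e, ← map_sub, hfm, smul_eq_mul]
    field_simp
  have hce0 : ∀ d ∈ M0, ce d = 0 := fun d hd => by rw [hce, hd a, sub_self, map_zero, mul_zero]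
  have hdec : ∀ x ∈ D, x - e (ce x) ∈ M0 := by
    intro x hx
    obtain ⟨γ, hγ⟩ := h.exists_M0 hx
    have hx' : x = (x - e γ) + e γ := by abel
    have h1 : ce x = γ := by
      rw [hx', map_add, hce1, hce0 _ hγ, zero_add]
    rw [h1]
    exact hγ
  have memD : ∀ x, x ∈ D ↔ ∃ c : F, ∃ d ∈ M0, x = e c + d := by
    intro x
    constructor
    · intro hx
      exact ⟨ce x, _, hdec x hx, by abel⟩
    · rintro ⟨c, d, hd, rfl⟩
      exact D.add_mem (h.eD c) (hM0D d hd)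
  have ω0 : ∀ d ∈ M0, ω d = 0 := fun d hd => h.Dω d (hM0D d hd)
  have hωe : ∀ γ, ω (e γ) = 0 := fun γ => h.Dω _ (h.eD γ)
  have he0 : ∀ d ∈ M0, ∀ γ, f d (e γ) = 0 := fun d hd γ => by rw [h.fe, ω0 d hd, zero_mul]
  have he1 : ∀ g γ, f (n g) (e γ) = 0 := fun g γ => by rw [h.fe, hnω, zero_mul]
  -- independence
  have hker : ∀ g, n g = 0 ↔ g ∈ N0 := by
    intro g
    refine ⟨fun h0 => ?_, hn0 g⟩
    have h1 := hnπ g (hnω g)
    have h2 : (⟨n g, hnω g⟩ : LinearMap.ker ω) = 0 := Subtype.ext h0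
    rw [h2, map_zero, eq_comm, Submodule.mkQ_apply, Submodule.Quotient.mk_eq_zero] at h1
    exact h1
  have hindep : ∀ (c : F), ∀ d ∈ M0, ∀ g, e c + d + n g = 0 → c = 0 ∧ d = 0 ∧ n g = 0 := by
    intro c d hd g h0
    have h1 : n g ∈ D := by
      have : n g = -(e c + d) := (neg_eq_of_add_eq_zero_right h0).symm
      rw [this]
      exact D.neg_mem (D.add_mem (h.eD c) (hM0D d hd))
    have h2 : n g = 0 := by
      have h3 := (h.πk ⟨n g, hnω g⟩).2 h1
      rw [hnπ, Submodule.mkQ_apply, Submodule.Quotient.mk_eq_zero] at h3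
      exact hn0 g h3
    rw [h2, add_zero] at h0
    have h3 : c = 0 := by
      have h4 := congrArg ce h0
      rw [map_add, hce1, hce0 d hd, add_zero, map_zero] at h4
      exact h4
    rw [h3, map_zero, zero_add] at h0
    exact ⟨h3, h0, h2⟩
  -- `P = e ⊕ M0 ⊕ n N`
  have hP : ∀ x, ω x = 0 ↔ ∃ c : F, ∃ d ∈ M0, ∃ g, x = e c + d + n g := by
    intro x
    constructor
    · intro hx
      obtain ⟨g, hg⟩ := N0.mkQ_surjective (π ⟨x, hx⟩)
      have h1 : x - n g ∈ D := by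
        have h2 : π (⟨x, hx⟩ - ⟨n g, hnω g⟩) = 0 := by rw [map_sub, hnπ, hg, sub_self]
        exact (h.πk _).1 h2
      obtain ⟨c, d, hd, h2⟩ := (memD _).1 h1
      exact ⟨c, d, hd, g, by rw [← h2]; abel⟩
    · rintro ⟨c, d, hd, g, rfl⟩
      rw [map_add, map_add, hωe, ω0 d hd, hnω, add_zero, add_zero]
  -- `A` on `D`
  have hAD : ∀ d ∈ D, ∀ k, A k d = e (f d (n k)) := by
    intro d hd k
    rw [h.AΛ k ⟨d, hd⟩, ← h.fΛ ⟨d, hd⟩ ⟨n k, hnω k⟩ k (hnπ k _)]
  have hAtop : ∀ k x, A k x - ω x • n k ∈ D := by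
    intro k x
    have h0 : ω (A k x - ω x • n k) = 0 := by rw [map_sub, map_smul, h.Aω, hnω, smul_zero, sub_zero]
    have h1 : π ⟨_, h0⟩ = 0 := by
      have e1 : (⟨A k x - ω x • n k, h0⟩ : LinearMap.ker ω) = ⟨A k x, h.Aω k x⟩ - ω x • ⟨n k, hnω k⟩ := rfl
      rw [e1, map_sub, map_smul, h.Aπ, hnπ, sub_self]
    exact (h.πk _).1 h1
  have hA1D : ∀ k g, A k (n g) ∈ D := by
    intro k g
    have := hAtop k (n g)
    rwa [hnω, zero_smul, sub_zero] at this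
  let sfn : N → N → M := fun g b => A b (n g) - e (ce (A b (n g)))
  have hsf0 : ∀ g b, sfn g b ∈ M0 := fun g b => hdec _ (hA1D b g)
  have hdecA : ∀ b g, A b (n g) = sfn g b + e (ce (A b (n g))) := fun b g => (sub_add_cancel _ _).symm
  have hAA : ∀ b b' g, A b (A b' (n g)) = e (f (sfn g b') (n b)) := by
    intro b b' g
    rw [hdecA b' g, map_add, h.Ae, add_zero, hAD _ (hM0D _ (hsf0 g b'))]
  have hqadd : ∀ b b' g, ce (A (b + b') (n g)) = ce (A b (n g)) + ce (A b' (n g)) + f (sfn g b') (n b) := by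
    intro b b' g
    rw [h.Aadd, map_add, map_add, hAA, hce1]
  have hsadd : ∀ b b' g, sfn g (b + b') = sfn g b + sfn g b' := by
    intro b b' g
    change A (b + b') (n g) - e (ce (A (b + b') (n g))) = _
    rw [hqadd, h.Aadd, hAA, map_add, map_add]
    change _ = A b (n g) - e (ce (A b (n g))) + (A b' (n g) - e (ce (A b' (n g))))
    abel
  have hTs : ∀ (c : Fˣ) b g, (c : F) • sfn g ((c : F)⁻¹ • b) = sfn g b ∧
      (c : F) ^ 2 * ce (A ((c : F)⁻¹ • b) (n g)) = ce (A b (n g)) := by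
    intro c b g
    have h1 := h.AT c b (n g)
    rw [hnT c, map_smul] at h1
    have k1 : T c (A b (n g)) = sfn g b + (c : F)⁻¹ • e (ce (A b (n g))) := by
      have k := congrArg (T c) (hdecA b g)
      rw [map_add, hsf0 g b c, h.Te] at k
      exact k
    rw [k1, hdecA ((c : F)⁻¹ • b) g] at h1
    set β := ce (A b (n g))
    set β' := ce (A ((c : F)⁻¹ • b) (n g))
    set x := sfn g b
    set x' := sfn g ((c : F)⁻¹ • b)
    have h2 : e ((c : F)⁻¹ * β - c * β') + (x - (c : F) • x') + n 0 = 0 := by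
      rw [map_zero, add_zero, map_sub, ← smul_eq_mul, ← smul_eq_mul, LinearMap.map_smul, LinearMap.map_smul]
      have h3 : x + (c : F)⁻¹ • e β - (c : F) • (x' + e β') = 0 := sub_eq_zero.2 h1
      rw [smul_add] at h3
      rw [← h3]
      abel
    obtain ⟨h3, h4, -⟩ := hindep _ _ (M0.sub_mem (hsf0 _ _) (M0.smul_mem _ (hsf0 _ _))) _ h2
    refine ⟨(sub_eq_zero.1 h4).symm, ?_⟩
    have hc : (c : F) * (c : F)⁻¹ = 1 := mul_inv_cancel₀ c.ne_zero
    linear_combination (-(c : F)) * h3 + β * hc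
  have hssm : ∀ (l : F) g b, sfn g (l • b) = l • sfn g b := by
    intro l g b
    by_cases hl : l = 0
    · rw [hl, zero_smul, zero_smul]
      have h1 := hsadd 0 0 g
      rw [add_zero] at h1
      exact left_eq_add.1 h1
    · have h1 := (hTs (Units.mk0 l hl) (l • b) g).1
      change l • sfn g (l⁻¹ • l • b) = _ at h1
      rw [smul_smul, inv_mul_cancel₀ hl, one_smul] at h1
      exact h1.symm
  have hqsm : ∀ (l : F) b g, ce (A (l • b) (n g)) = l ^ 2 * ce (A b (n g)) := by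
    intro l b g
    by_cases hl : l = 0
    · have h1 := hqadd 0 0 g
      have h2 : sfn g 0 = 0 := by
        have h3 := hssm 0 g 0
        rw [smul_zero, zero_smul] at h3
        exact h3
      rw [add_zero, h2, map_zero, LinearMap.zero_apply, add_zero] at h1
      rw [hl, zero_smul, left_eq_add.1 h1]
      ring
    · have h1 := (hTs (Units.mk0 l hl) (l • b) g).2
      change l ^ 2 * ce (A (l⁻¹ • l • b) (n g)) = _ at h1
      rw [smul_smul, inv_mul_cancel₀ hl, one_smul] at h1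
      exact h1.symm
  let s : N →ₗ[F] N →ₗ[F] M := LinearMap.mk₂ F sfn
    (fun g g' b => by
      change A b (n (g + g')) - e (ce (A b (n (g + g')))) =
        (A b (n g) - e (ce (A b (n g)))) + (A b (n g') - e (ce (A b (n g'))))
      rw [map_add, map_add, map_add, map_add]
      abel)
    (fun l g b => by
      change A b (n (l • g)) - e (ce (A b (n (l • g)))) = l • (A b (n g) - e (ce (A b (n g))))
      rw [map_smul, map_smul, map_smul, map_smul, smul_sub])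
    (fun g b b' => hsadd b b' g) (fun l g b => hssm l g b)
  have hsf : ∀ g b, s g b = sfn g b := fun g b => rfl
  let sh : N → N →ₗ[F] F := fun b => ce.comp ((A b).comp n)
  have hsh : ∀ b g, sh b g = ce (A b (n g)) := fun b g => rfl
  have hinj : ∀ d ∈ M0, (∀ g, f d (n g) = 0) → d = 0 := by
    intro d hd hd0
    have h1 : Λ ⟨d, hM0D d hd⟩ = 0 := by
      ext k
      rw [← h.fΛ ⟨d, hM0D d hd⟩ ⟨n k, hnω k⟩ k (hnπ k _)]
      exact hd0 k
    obtain ⟨γ, hγ⟩ := h.Λe _ h1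
    have h2 : γ = 0 := h.e_M0 (fun b => by
      have := hd b
      rw [show d = e γ from hγ] at this
      exact this)
    rw [show d = e γ from hγ, h2, map_zero]
  have h00 : ∀ d ∈ M0, ∀ d' ∈ M0, f d d' = 0 := fun d hd d' hd' => h.fDD d (hM0D d hd) d' (hM0D d' hd')
  have h11 : ∀ g g', f (n g) (n g') = 0 := by
    intro g g'
    have h1 := h.Tf a (n g) (n g')
    rw [hnT, hnT, map_smul, map_smul, LinearMap.smul_apply, smul_eq_mul, smul_eq_mul] at h1
    have h2 := mul_left_cancel₀ a.ne_zero h1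
    have h3 : ((a : F) - 1) * f (n g) (n g') = 0 := by linear_combination h2
    exact (mul_eq_zero.1 h3).resolve_left (sub_ne_zero.2 ha)
  have hT23 : ∀ g b b', f (s g b) (n b') = f (s g b') (n b) := by
    intro g b b'
    have h1 := hqadd b' b g
    have h2 := hqadd b b' g
    rw [add_comm b' b, h2] at h1
    have h3 : f (sfn g b) (n b') = f (sfn g b') (n b) := by linear_combination -h1
    exact h3
  have hT13 : ∀ g b b', f (s g b) (n b') = f (s b' b) (n g) := by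
    intro g b b'
    have h1 := h.Af b (n g) (n b')
    rw [hdecA b g, hdecA b b', h11] at h1
    simp only [map_add, LinearMap.add_apply] at h1
    rw [h11, he1, h00 _ (hsf0 g b) _ (hsf0 b' b), he0 _ (hsf0 g b), h.symm (e _) (n b'), he1,
      h.symm (e _) (sfn b' b), he0 _ (hsf0 b' b), h.fe, hωe, zero_mul] at h1
    rw [hsf, hsf, h.symm (sfn b' b) (n g)]
    have h2 : f (n g) (sfn b' b) + f (sfn g b) (n b') = 0 := by linear_combination h1
    have h3 := h.aa (f (n g) (sfn b' b))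
    linear_combination h2 - h3
  have hTalt : ∀ g b, f (s g b) (n b) = 0 := by
    intro g b
    have h1 := hqadd b b g
    have h2 : b + b = (0 : F) • b := by
      rw [← two_smul F, h.two]
    rw [h2, hqsm, h.aa, zero_add] at h1
    rw [hsf, ← h1]
    ring
  have hsalt : ∀ g, s g g = 0 := by
    intro g
    refine hinj _ (hsf0 g g) fun b => ?_
    rw [hT13]
    exact hTalt b g
  refine ⟨M0, n, s, sh, ?_⟩
  exact
    { mem_M0 := hM0
      n_T := hnT
      n_surj := by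
        intro b hb x hx hω
        obtain ⟨c, d, hd, g, rfl⟩ := (hP x).1 hω
        rw [map_add, map_add, h.Te, hd b, hnT, smul_add, smul_add] at hx
        have h1 : e (((b : F)⁻¹ - b) * c) + (1 - (b : F)) • d + n 0 = 0 := by
          rw [map_zero, add_zero, ← smul_eq_mul, LinearMap.map_smul, sub_smul, sub_smul, one_smul]
          have h2 := sub_eq_zero.2 hx
          rw [← h2]
          abel
        obtain ⟨h2, h3, -⟩ := hindep _ _ (M0.smul_mem _ hd) _ h1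
        have h4 : c = 0 := (mul_eq_zero.1 h2).resolve_left (fun h5 => h.sub_inv_ne b.ne_zero hb (by
          linear_combination -h5))
        have h5 : d = 0 := (smul_eq_zero.1 h3).resolve_left (sub_ne_zero.2 (Ne.symm hb))
        exact ⟨g, by rw [h4, h5, map_zero, zero_add, zero_add]⟩
      n_ker := hker
      mem_D := memD
      mem_P := hP
      indep := hindep
      n_π := hnπ
      s_mem := hsf0
      A_e := h.Ae
      A_0 := fun k d hd => hAD d (hM0D d hd) k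
      A_1 := fun k g => hdecA k g
      A_top := hAtop
      f_00 := h00
      f_11 := h11
      ω_0 := ω0
      ω_1 := hnω
      inj := hinj
      s_alt := hsalt
      T_23 := hT23
      T_13 := hT13
      T_alt := hTalt
      s_N0 := fun g k hk => by
        refine hinj _ (hsf0 g k) fun b => ?_
        rw [hT23, hn0 k hk, map_zero]
      sh_add := fun a b g => hqadd a b g
      sh_smul := fun l a g => hqsm l a g }

end Pre

end Cfsg.Agent.Omega.HOne.EigAbs
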