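import Cfsg.Agent.Omega.HOne.FqFacts
import Cfsg.Agent.Omega.HOne.EigAbs

/-!
# The frame of `M = W i / Z(W i)` (II.0h1; II.a): instance of `EigAbs`

`al`: `N ≅ A`, `k ↦ a_k` (`a_k` the image of `u ∈ U j` with `P2 u = k`); `exists_frame`.
-/

set_option autoImplicit false
set_option linter.unusedSectionVars false

namespace Cfsg.Agent.Omega.HOne.ModZ

open Subgroup Cfsg.Agent.Omega.BTwo Cfsg.Agent.Omega.Lie Cfsg.Agent.Omega.Lie.Quot

universe u v w

variable {G : Type u} [Group G] {ι : Type w} {V : Subgroup G} {R : ι → Subgroup G} {i j : ι}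
  {F : Type v} [Field F] {v : F → F → G} {w1 w2 t : F → G}

section al

variable {N : Type u} [AddCommGroup N] [Module F N] {P1 P2 : G → N}
variable (b : BT V R) (c : Coord V R i j v w1 w2) (y : YPair V R i j w1 w2 N P1 P2)

include b in
theorem D_le_QQ (i : ι) : DD V R ≤ QQ (R i) := (D_le_W V R i).trans (b.W_le_Q i)

include y in
theorem exists_u (k : N) : ∃ u ∈ UU V R j, P2 u = k := by
  obtain ⟨u, hu, h1, h2⟩ := y.surj 0 k
  exact ⟨u, (y.mem_U2 u hu).2 h1, h2⟩

/-- `a_k` -/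
noncomputable def al (k : N) : HQ (R i) :=
  pr (R i) ⟨(exists_u y k).choose, b.cen_le_N i (UU_le_cen j (exists_u y k).choose_spec.1)⟩

theorem pr_U {u : G} (hu : u ∈ UU V R j) (hN : u ∈ normalizer (R i : Set G)) :
    pr (R i) ⟨u, hN⟩ = al b y (P2 u) := by
  unfold al
  rw [pr_eq_pr]
  obtain ⟨h1, h2⟩ := (exists_u y (P2 u)).choose_spec
  set u' := (exists_u y (P2 u)).choose
  apply D_le_QQ b i
  have hY := UU_le_YY j hu
  have hY' := UU_le_YY j h1
  rw [y.eq_iff hY' hY]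
  exact ⟨((y.mem_U2 _ hY').1 h1).trans ((y.mem_U2 _ hY).1 hu).symm, h2⟩

theorem al_add (k k' : N) : al b y (k + k') = al b y k * al b y k' := by
  obtain ⟨u, hu, rfl⟩ := exists_u y k
  obtain ⟨u', hu', rfl⟩ := exists_u y k'
  have hN := b.cen_le_N i (UU_le_cen j hu)
  have hN' := b.cen_le_N i (UU_le_cen j hu')
  rw [← y.mul2 _ (UU_le_YY j hu) _ (UU_le_YY j hu'), ← pr_U b y (mul_mem hu hu') (mul_mem hN hN'),
    ← pr_U b y hu hN, ← pr_U b y hu' hN', ← map_mul]
  rfl

theorem al_zero : al b y (0 : N) = 1 := by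
  have h := al_add b y (0 : N) 0
  rw [add_zero] at h
  exact left_eq_mul.1 h

theorem al_mem (k : N) : al b y k ∈ AA V R i j := by
  obtain ⟨h1, h2⟩ := (exists_u y k).choose_spec
  exact pr_mem_im _ h1

theorem mem_AA {h : HQ (R i)} : h ∈ AA V R i j ↔ ∃ k, al b y k = h := by
  constructor
  · intro hh
    obtain ⟨u, hN, hu, rfl⟩ := mem_im.1 hh
    exact ⟨P2 u, (pr_U b y hu hN).symm⟩
  · rintro ⟨k, rfl⟩
    exact al_mem b y k

include b y in
theorem al_T [Finite F] [CharP F 2] (c : Coord V R i j v w1 w2) (τ : TorD V R i j v t) (a : Fˣ) (k : N) :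
    pr (R i) ⟨t a, τ.normR a.ne_zero⟩ * al b y k * (pr (R i) ⟨t a, τ.normR a.ne_zero⟩)⁻¹ =
      al b y ((a : F)⁻¹ • k) := by
  obtain ⟨u, hu, rfl⟩ := exists_u y k
  have hN := b.cen_le_N i (UU_le_cen j hu)
  have h1 : t a * u * (t a)⁻¹ ∈ UU V R j := by
    rw [← b.cj_UU (b.X_le_NV (τ.memX _ a.ne_zero)) (cj_eq_self_iff.2 (τ.normR' a.ne_zero))]
    exact conj_mem_cj hu
  have hN' : t a * u * (t a)⁻¹ ∈ normalizer (R i : Set G) := b.cen_le_N i (UU_le_cen j h1)
  rw [← (t_Y b c τ y a.ne_zero (UU_le_YY j hu)).2, ← pr_U b y h1 hN', ← pr_U b y hu hN, ← map_inv, ← map_mul,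
    ← map_mul]
  rfl

end al

namespace Fq

variable {M : Type u} [AddCommGroup M] [Module F M] [DistribMulAction (HQ (R i)) M] {p : G → M}
  {f : M →ₗ[F] M →ₗ[F] F} {e : F →ₗ[F] M} {ω : M →ₗ[F] F} {σ : HQ (R i) →* RingAut F} {κ : HQ (R i) → F}

/-- the action of `T` as linear maps -/
def TL (q : Fq V R i v M p f e ω σ κ) (c : Coord V R i j v w1 w2) (τ : TorD V R i j v t) (a : Fˣ) : M →ₗ[F] M where
  toFun x := pr (R i) ⟨t a, τ.normR a.ne_zero⟩ • x
  map_add' x y := smul_add _ _ _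
  map_smul' s x := q.t_smul c τ a s x

theorem TL_apply (q : Fq V R i v M p f e ω σ κ) (c : Coord V R i j v w1 w2) (τ : TorD V R i j v t) (a : Fˣ) (x : M) :
    q.TL c τ a x = pr (R i) ⟨t a, τ.normR a.ne_zero⟩ • x := rfl

section

variable {N : Type u} [AddCommGroup N] [Module F N] {P1 P2 : G → N}

theorem al_H0 (q : Fq V R i v M p f e ω σ κ) (b : BT V R) (c : Coord V R i j v w1 w2)
    (y : YPair V R i j w1 w2 N P1 P2) (k : N) : al b y k ∈ H0 R i := by
  obtain ⟨h1, h2⟩ := (exists_u y k).choose_spec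
  exact q.cenV_H0 c _ (UU_le_cen j h1)

/-- `a_k - 1` as a linear map -/
noncomputable def AL (q : Fq V R i v M p f e ω σ κ) (b : BT V R) (c : Coord V R i j v w1 w2)
    (y : YPair V R i j w1 w2 N P1 P2) (k : N) : M →ₗ[F] M where
  toFun x := al b y k • x - x
  map_add' x z := by rw [smul_add]; abel
  map_smul' s x := by
    rw [q.H0_smul c (q.al_H0 b c y k)]
    exact (smul_sub _ _ _).symm

theorem AL_apply (q : Fq V R i v M p f e ω σ κ) (b : BT V R) (c : Coord V R i j v w1 w2)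
    (y : YPair V R i j w1 w2 N P1 P2) (k : N) (x : M) : q.AL b c y k x = al b y k • x - x := rfl

variable [Finite F] [CharP F 2]

/-- **the frame** -/
theorem exists_pre (q : Fq V R i v M p f e ω σ κ) (b : BTS V R) (c : Coord V R i j v w1 w2) (τ : TorD V R i j v t)
    (y : YPair V R i j w1 w2 N P1 P2) (hF : ∃ a : F, a ≠ 0 ∧ a ≠ 1) :
    ∃ (π : LinearMap.ker ω →ₗ[F] N ⧸ N0 b.toBT c y) (Λ : q.DS b.toBT c τ y hF →ₗ[F] N →ₗ[F] F),
      EigAbs.Pre f e ω (q.TL c τ) (q.DS b.toBT c τ y hF) (N0 b.toBT c y) π Λ (q.AL b.toBT c y) ∧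
      (∀ u (_ : u ∈ UU V R i) (h : ω (p u) = 0), π ⟨p u, h⟩ = (N0 b.toBT c y).mkQ (P1 u)) ∧
      (∀ d (_ : d ∈ DD V R) (h : p d ∈ q.DS b.toBT c τ y hF), Λ ⟨p d, h⟩ = y.lam b.toBT c d) := by
  obtain ⟨π, πs, πk, πU, πA, πT⟩ := q.exists_pi b.toBT c τ y hF
  obtain ⟨Λ, ΛD, Λ0, Λe, ΛA, fΛ⟩ := q.exists_lam b c τ y hF
  have hAω : ∀ k x, ω (q.AL b.toBT c y k x) = 0 := by
    intro k x
    obtain ⟨h1, h2⟩ := (exists_u y k).choose_spec
    rw [q.AL_apply, map_sub]
    unfold al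
    rw [q.cenV_ω c _ (UU_le_cen j h1), sub_self]
  refine ⟨π, Λ, ?_, πU, ΛD⟩
  exact
    { four := by
        obtain ⟨a, ha, ha1⟩ := hF
        exact ⟨Units.mk0 a ha, ha1⟩
      two := CharTwo.two_eq_zero
      alt := q.alt
      symm := q.symm
      fe := q.fe
      e_inj := fun γ h => (injective_iff_map_eq_zero e).1 (q.e_inj c b.toBT) γ h
      ω1 := ⟨p (w1 1), q.ω_w1 c 1⟩
      Te := q.t_e c τ
      Tf := q.t_f c τ
      Tω := q.t_ω c τ
      TT := by
        intro a a' x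
        rw [q.TL_apply, q.TL_apply, q.TL_apply, q.TL_apply, smul_smul, smul_smul, ← map_mul, ← map_mul]
        have h1 : (⟨t a, τ.normR a.ne_zero⟩ * ⟨t a', τ.normR a'.ne_zero⟩ : ↥(normalizer (R i : Set G))) =
            ⟨t a', τ.normR a'.ne_zero⟩ * ⟨t a, τ.normR a.ne_zero⟩ :=
          Subtype.ext (τ.comm a.ne_zero a'.ne_zero)
        rw [h1]
      Dω := fun x hx => q.DS_le b.toBT c τ y hF hx
      eD := q.e_mem_DS b.toBT c τ y hF
      TD := fun a x hx => by
        obtain ⟨γ, hγ⟩ := q.t_D b.toBT c τ y a hx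
        exact ⟨γ, hγ.symm⟩
      DT := fun a ha x hx h => by
        obtain ⟨γ, hγ⟩ := h
        exact q.mem_D_of b.toBT c τ y ha hx ⟨γ, hγ.symm⟩
      fDD := by
        rintro _ ⟨d, hd, hdW, rfl⟩ _ ⟨d', hd', hdW', rfl⟩
        have h1 := q.f_eq d hdW d' hdW'
        rw [b.D_comm hd hd', mul_inv_cancel_right, mul_inv_cancel, ← c.v_zero] at h1
        exact ((c.v_inj h1).1).symm
      πs := πs
      πk := πk
      πT := fun a x h => πT a x h
      Λ0 := fun x k hk => Λ0 x k hk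
      Λe := fun x hx => by
        obtain ⟨γ, hγ⟩ := (Λe x).1 hx
        exact ⟨γ, hγ.symm⟩
      fΛ := by
        rintro x ⟨x', hx'⟩ k hk
        obtain ⟨u, hu, huW, rfl⟩ := (q.mem_P' c).1 hx'
        rw [fΛ x (p u) u hu rfl]
        have h1 := (πU u hu hx').symm.trans hk
        rw [Submodule.mkQ_apply, Submodule.mkQ_apply, Submodule.Quotient.eq] at h1
        have h2 := Λ0 x _ h1
        rw [map_sub, sub_eq_zero] at h2
        exact h2
      Aω := hAω
      Aπ := by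
        intro k x
        have h1 := (exists_u y k).choose_spec
        exact (πA _ h1.1 x (hAω k x)).trans (congrArg (fun z => ω x • (N0 b.toBT c y).mkQ z) h1.2)
      AΛ := by
        intro k x
        have h1 := (exists_u y k).choose_spec
        exact (ΛA _ h1.1 x).trans (congrArg (fun z => e (Λ x z)) h1.2)
      Ae := by
        intro k γ
        have h1 := (exists_u y k).choose_spec
        rw [q.AL_apply]
        unfold al
        rw [q.cenV_e c _ (UU_le_cen j h1.1), sub_self]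
      Af := by
        intro k x x'
        rw [q.AL_apply, q.AL_apply, add_sub_cancel, add_sub_cancel]
        exact q.H0_isom c (q.al_H0 b.toBT c y k) x x'
      Aadd := by
        intro k k' x
        rw [q.AL_apply, q.AL_apply, q.AL_apply, q.AL_apply, al_add, mul_smul, smul_sub]
        abel
      AT := by
        intro a k x
        rw [q.TL_apply, q.TL_apply, q.AL_apply, q.AL_apply, ← al_T b.toBT y c τ, smul_sub, mul_smul, mul_smul,
          inv_smul_smul] }

end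

end Fq

end Cfsg.Agent.Omega.HOne.ModZ
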