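import Cfsg.Agent.Omega.Lie.End.Top

/-!
# THEOREM PAR with the Borel subgroup, the torus and the fundamental reflections (II.0h1, END)

`Pre.exists_bn` : the BN-pair `Q` of `⨆ i, P i` with `Q.B = B`, `Q.B = U (Q.B ∩ Q.N)`, `Q.S = {n i}`, `n i ∈ P i`.
`RealSys.exists_bn` : for `X E`: all fundamental reflections but one lie in `⨆ k, P k`.
-/

set_option autoImplicit false
set_option linter.unusedSectionVars false

namespace Cfsg.Agent.Omega.HOne.EndBN

open Subgroup Cfsg Cfsg.Agent.Omega.BTwo Cfsg.Agent.ParSys Cfsg.Agent.Omega.Lie.Zero Cfsg.Agent.Omega.Lie.End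

universe u v w

section pre

variable {G : Type*} [Group G] {I : Type*} {p : ℕ} {B U : Subgroup G} {P : I → Subgroup G} {m : I → I → ℕ}

theorem exists_sys [Finite G] [hp : Fact p.Prime] (D : Pre p B U P m) (gen : ⨆ i, P i = ⊤) :
    ∃ H : Subgroup G, Sys p B U H P m ∧ U ⊔ H = B := by
  obtain ⟨H, hall, hUH⟩ := exists_hall_of_index D.U_le D.norm D.isP D.index
  exact ⟨H, {
    hall := hall
    gen := gen
    le := D.le
    three := D.three
    ptr := D.ptr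
    reg := D.reg
    fix := fun i => fix_of_fpfG hall (D.le i) (D.fpf i)
    m_two := D.m_two
    m_symm := D.m_symm
    poly := D.poly
    torus := fun i j hij => (D.sep i j hij).imp
      (fun h => (sep_of_sepG hall (D.le i) (D.le j) h).sepT hall (D.le j))
      (fun h => (sep_of_sepG hall (D.le j) (D.le i) h).sepT hall (D.le i))
    frat := fun i j hij T hT _ h => D.frat i j hij T hT h }, hUH⟩

/-- THEOREM PAR, `gen` -/
theorem exists_bn_top [Finite G] [Finite I] [hp : Fact p.Prime] (D : Pre p B U P m) (gen : ⨆ i, P i = ⊤)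
    (h3 : 3 ≤ Nat.card I)
    (conn : ∀ J : Set I, J.Nonempty → Jᶜ.Nonempty → ∃ i ∈ J, ∃ j ∈ Jᶜ, 3 ≤ m i j) :
    ∃ (Q : Cfsg.BNPair G) (n : I → G), Q.B = B ∧ Q.S = Set.range n ∧ (∀ i, n i ∈ P i ∧ n i ∉ B) ∧
      (∀ b ∈ Q.B, ∃ u ∈ U, ∃ t ∈ Q.B ⊓ Q.N, b = u * t) ∧ 3 ≤ Q.rank ∧ Q.Irreducible := by
  obtain ⟨H, S, hUH⟩ := exists_sys D gen
  obtain ⟨n, -, D'⟩ := S.data
  have hrank : D'.bnPair.rank = Nat.card I := D'.rank_bnPair
  refine ⟨D'.bnPair, n, rfl, rfl, fun i => ⟨D'.n_mem i, D'.n_not i⟩, ?_, hrank ▸ h3, D'.irreducible conn⟩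
  intro b hb
  have hb' : b ∈ H ⊔ U := by rw [sup_comm, hUH]; exact hb
  have hHU : H ≤ normalizer (U : Set G) := S.hall.H_norm_U
  obtain ⟨h, hh, u, hu, rfl⟩ := BTwo.exists_mul_of_mem_sup hHU hb'
  refine ⟨h * u * h⁻¹, BTwo.conj_mem_of_normalizer (hHU hh) hu, h, mem_inf.2 ⟨S.hall.H_le hh, ?_⟩, by group⟩
  exact D'.H_le_N (mem_inf.2 ⟨S.hall.H_le hh, le_normalizer hh⟩)

/-- **THEOREM PAR for a subgroup** -/
theorem exists_bn [Finite G] [Finite I] [hp : Fact p.Prime] (D : Pre p B U P m) (h3 : 3 ≤ Nat.card I)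
    (conn : ∀ J : Set I, J.Nonempty → Jᶜ.Nonempty → ∃ i ∈ J, ∃ j ∈ Jᶜ, 3 ≤ m i j) {X : Subgroup G}
    (hX : ⨆ i, P i = X) :
    ∃ (Q : Cfsg.BNPair X) (n : I → X), Q.B = B.subgroupOf X ∧ Q.S = Set.range n ∧
      (∀ i, (n i : G) ∈ P i ∧ (n i : G) ∉ B) ∧
      (∀ b ∈ Q.B, ∃ u ∈ U.subgroupOf X, ∃ t ∈ Q.B ⊓ Q.N, b = u * t) ∧ 3 ≤ Q.rank ∧ Q.Irreducible := by
  subst hX
  have hne : Nonempty I := by
    by_contra h
    rw [not_nonempty_iff] at h
    rw [Nat.card_of_isEmpty] at h3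
    omega
  obtain ⟨i₀⟩ := hne
  have hP : ∀ i, P i ≤ (⨆ i, P i : Subgroup G).subtype.range := fun i => by
    rw [range_subtype]
    exact le_iSup P i
  have D' := D.comap (φ := (⨆ i, P i : Subgroup G).subtype) (by
      rw [ker_subtype]
      exact IsPGroup.of_bot) ((D.le i₀).trans (hP i₀)) hP
  obtain ⟨Q, n, h1, h2, h4, h5, h6, h7⟩ := exists_bn_top D' (by
    have e : (⨆ i, (P i).comap (⨆ i, P i : Subgroup G).subtype).map (⨆ i, P i : Subgroup G).subtype =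
        (⊤ : Subgroup ↥(⨆ i, P i : Subgroup G)).map (⨆ i, P i : Subgroup G).subtype := by
      rw [Subgroup.map_iSup, ← MonoidHom.range_eq_map, range_subtype]
      exact iSup_congr fun i => map_comap_eq_self (hP i)
    exact map_injective (subtype_injective _) e) h3 conn
  exact ⟨Q, n, h1, h2, h4, h5, h6, h7⟩

end pre

section real

variable {G : Type u} [Group G] {ι : Type w} {V : Subgroup G} {R : ι → Subgroup G} {i j : ι} {F : Type v} [Field F]
  {v : F → F → G} {w1 w2 : F → G} {E B U : Subgroup G} {J : Type} {P : J → Subgroup G} {m : J → J → ℕ}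

/-- **The BN-pair of `X E`**, if no node is of type `(γ)`; `s₀` = the reflection of the node `0` -/
theorem exists_bn_real [Finite G] [Finite F] [CharP F 2] [Finite J] (b : BT V R) (c : Coord V R i j v w1 w2)
    (hF : ∃ a : F, a ≠ 0 ∧ a ≠ 1) (hij : i ≠ j)
    (hfr : ∀ x ∈ normalizer (R i : Set G), ∃ e ∈ E, e * x ∈ normalizer (V : Set G)) (D : RealSys V R i E B U P m)
    (hg : ∀ k, ¬ GamT V (P k))
    (hr : ∀ k, ¬ P k ≤ normalizer (V : Set G) → ∃ m0, 3 ≤ m0 ∧ Res0 V R B U P k m0) :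
    ∃ (Q : BNPair ↥(XX V R ⊔ E)) (s₀ : ↥(XX V R ⊔ E)), Q.B = B.subgroupOf (XX V R ⊔ E) ∧ s₀ ∈ Q.S ∧
      (∀ s ∈ Q.S, s ≠ s₀ → (s : G) ∈ ⨆ k, P k) ∧
      (∀ x ∈ Q.B, ∃ u ∈ U.subgroupOf (XX V R ⊔ E), ∃ t ∈ Q.B ⊓ Q.N, x = u * t) ∧ 3 ≤ Q.rank ∧
      Q.Irreducible ∧ 2 ≤ Nat.card J := by
  classical
  have hJ : 2 ≤ Nat.card J := by
    by_contra hcard
    have hcard' : Nat.card J ≤ 1 := by omega
    have hsub : Subsingleton J := (Finite.card_le_one_iff_subsingleton).1 hcard'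
    rcases isEmpty_or_nonempty J with hemp | hne
    · -- `E ≤ ⊥`
      have h1 := gamT_of_frat b hij hfr D.E_le
      rw [iSup_of_empty] at h1
      obtain ⟨p, hp, x, hx, y, hy, hxy⟩ := h1
      rw [mem_bot.1 hp] at hxy
      apply hxy
      have := b.V_comm x hx y hy
      rw [one_mul, inv_one, mul_one]
      exact this
    · obtain ⟨k⟩ := hne
      refine hg k (gamT_of_frat b hij hfr (D.E_le.trans (iSup_le fun l => ?_)))
      rw [Subsingleton.elim l k]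
  have hne : Nonempty J := by
    by_contra h1
    rw [not_nonempty_iff] at h1
    rw [Nat.card_of_isEmpty] at hJ
    omega
  choose! m0 hm0 using hr
  have hpre := D.pre0 b c hF (m0 := m0) hm0
  have hconn := D.conn0 (m0 := m0) fun k hk => (hm0 k hk).1
  have hcard : 3 ≤ Nat.card (Option J) := by
    have := Fintype.ofFinite J
    rw [Nat.card_eq_fintype_card, Fintype.card_option, ← Nat.card_eq_fintype_card]
    omega
  have : Fact (Nat.Prime 2) := ⟨Nat.prime_two⟩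
  obtain ⟨Q, n, h1, h2, h4, h5, h6, h7⟩ := exists_bn hpre hcard hconn (D.iSup_eq hne)
  refine ⟨Q, n none, h1, by rw [h2]; exact ⟨none, rfl⟩, ?_, h5, h6, h7, hJ⟩
  intro s hs hs0
  rw [h2] at hs
  obtain ⟨x, rfl⟩ := hs
  rcases x with _ | k
  · exact absurd rfl hs0
  · exact (le_iSup P k) (h4 (some k)).1

end real

end Cfsg.Agent.Omega.HOne.EndBN
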