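import Cfsg.Agent.Omega.HOne.EndBraid

/-!
# II.0h1, END: the residue of type A2

`Pl`: the points of `N` and their `κ`-conjugates form an `L`-invariant family `Ω`; this determines the groups of
elations of the frame `R₁, R₂, R₃` modulo the kernel `C`, and gives the braid relation of length three.
-/

set_option autoImplicit false

namespace Cfsg.Agent.Omega.HOne.End

open Subgroup Cfsg.Agent.RankTwoClose
open scoped commutatorElement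

variable {G : Type*} [Group G]

/-- The conjugate `g⁻¹ A g`. -/
def rc (A : Subgroup G) (g : G) : Subgroup G := A.comap (MulAut.conj g).toMonoidHom

theorem mem_rc {A : Subgroup G} {g x : G} : x ∈ rc A g ↔ g * x * g⁻¹ ∈ A := Iff.rfl

theorem rc_rc (A : Subgroup G) (g h : G) : rc (rc A g) h = rc A (g * h) := by
  ext x
  rw [mem_rc, mem_rc, mem_rc]
  have e : g * (h * x * h⁻¹) * g⁻¹ = g * h * x * (g * h)⁻¹ := by group
  rw [e]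

@[simp] theorem rc_one (A : Subgroup G) : rc A 1 = A := by
  ext x; rw [mem_rc]; simp

theorem rc_mono {A A' : Subgroup G} (h : A ≤ A') (g : G) : rc A g ≤ rc A' g := fun _ hx => h hx

theorem rc_inj {A A' : Subgroup G} {g : G} (h : rc A g = rc A' g) : A = A' := by
  have := congrArg (fun K => rc K g⁻¹) h
  simpa [rc_rc] using this

theorem rc_bot (g : G) : rc (⊥ : Subgroup G) g = ⊥ := by
  ext x
  rw [mem_rc, Subgroup.mem_bot, Subgroup.mem_bot]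
  constructor
  · intro h
    have e : x = g⁻¹ * (g * x * g⁻¹) * g := by group
    rw [e, h]; group
  · rintro rfl; group

theorem mem_rc_conj {A : Subgroup G} {g x : G} (hx : x ∈ A) : g⁻¹ * x * g ∈ rc A g := by
  rw [mem_rc]
  have e : g * (g⁻¹ * x * g) * g⁻¹ = x := by group
  rwa [e]

theorem rc_sup (A A' : Subgroup G) (g : G) : rc (A ⊔ A') g = rc A g ⊔ rc A' g := by
  apply le_antisymm
  · intro x hx
    rw [mem_rc] at hx
    have key : A ⊔ A' ≤ rc (rc A g ⊔ rc A' g) g⁻¹ := by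
      refine sup_le (fun y hy => ?_) (fun y hy => ?_)
      · exact (rc_mono (le_sup_left : rc A g ≤ rc A g ⊔ rc A' g) g⁻¹) (by rw [rc_rc]; simpa using hy)
      · exact (rc_mono (le_sup_right : rc A' g ≤ rc A g ⊔ rc A' g) g⁻¹) (by rw [rc_rc]; simpa using hy)
    have := key hx
    rw [mem_rc] at this
    have e : g⁻¹ * (g * x * g⁻¹) * g⁻¹⁻¹ = x := by group
    rwa [e] at this
  · exact sup_le (rc_mono le_sup_left g) (rc_mono le_sup_right g)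

theorem rc_eq_of_mem_normalizer {A : Subgroup G} {g : G} (h : g ∈ normalizer (A : Set G)) : rc A g = A := by
  ext x
  rw [mem_rc]
  exact (Subgroup.mem_normalizer_iff.1 h x).symm

theorem mem_normalizer_of_rc_eq {A : Subgroup G} {g : G} (h : rc A g = A) : g ∈ normalizer (A : Set G) := by
  rw [Subgroup.mem_normalizer_iff]
  intro x
  have : x ∈ rc A g ↔ x ∈ A := by rw [h]
  exact this.symm

/-- `g` centralises `A`. -/
def Ce (A : Subgroup G) (g : G) : Prop := ∀ r ∈ A, g * r = r * g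

theorem Ce.conj {A : Subgroup G} {g : G} (h : Ce A g) (k : G) : Ce (rc A k) (k⁻¹ * g * k) := by
  intro r hr
  have h1 := h _ hr
  have e1 : k⁻¹ * g * k * r = k⁻¹ * (g * (k * r * k⁻¹)) * k := by group
  have e2 : r * (k⁻¹ * g * k) = k⁻¹ * ((k * r * k⁻¹) * g) * k := by group
  rw [e1, e2]
  exact congrArg (fun z => k⁻¹ * z * k) h1

theorem Ce.mul {A : Subgroup G} {g h : G} (hg : Ce A g) (hh : Ce A h) : Ce A (g * h) := by
  intro r hr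
  rw [mul_assoc, hh r hr, ← mul_assoc, hg r hr, mul_assoc]

theorem Ce.inv {A : Subgroup G} {g : G} (hg : Ce A g) : Ce A g⁻¹ := by
  intro r hr
  have := hg r hr
  calc g⁻¹ * r = g⁻¹ * (r * g) * g⁻¹ := by group
    _ = g⁻¹ * (g * r) * g⁻¹ := by rw [this]
    _ = r * g⁻¹ := by group

theorem Ce.rc_eq {A : Subgroup G} {g : G} (hg : Ce A g) : rc A g = A := by
  ext x
  rw [mem_rc]
  constructor
  · intro h
    have h1 := hg.inv _ h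
    have e : g⁻¹ * (g * x * g⁻¹) = x * g⁻¹ := by group
    rw [e] at h1
    have h2 : x = g * x * g⁻¹ := by
      have := congrArg (· * g) h1
      simpa [mul_assoc] using this
    rwa [h2]
  · intro h
    rw [hg x h, mul_inv_cancel_right]
    exact h

/-- `g` is an elation: it centralises `A` and `D` and moves `B` inside `A B`. -/
structure Mv (L A B D : Subgroup G) (g : G) : Prop where
  mem : g ∈ L
  fixA : Ce A g
  fixD : Ce D g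
  move : ∀ r ∈ B, r⁻¹ * (g⁻¹ * r * g) ∈ A

theorem Mv.conj {L A B D : Subgroup G} {g : G} (h : Mv L A B D g) {k : G} (hk : k ∈ normalizer (L : Set G)) :
    Mv L (rc A k) (rc B k) (rc D k) (k⁻¹ * g * k) where
  mem := by
    have := (Subgroup.mem_normalizer_iff.1 (inv_mem hk) g).1 h.mem
    rwa [inv_inv] at this
  fixA := h.fixA.conj k
  fixD := h.fixD.conj k
  move := by
    intro r hr
    rw [mem_rc] at hr ⊢
    have := h.move _ hr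
    have e : (k * r * k⁻¹)⁻¹ * (g⁻¹ * (k * r * k⁻¹) * g) =
        k * (r⁻¹ * ((k⁻¹ * g * k)⁻¹ * r * (k⁻¹ * g * k))) * k⁻¹ := by group
    rwa [e] at this

/-- **Elations modulo the kernel.** -/
theorem Mv.mem_mul {L A B D Y : Subgroup G} {Ω : Set (Subgroup G)}
    (hΩ : ∀ g ∈ L, ∀ p ∈ Ω, rc p g ∈ Ω) (hB : B ∈ Ω) (hAB : A ⊓ B = ⊥) (hA : A ≠ ⊥)
    (hY : ∀ y ∈ Y, Mv L A B D y)
    (htr : ∀ p ∈ Ω, p ≤ A ⊔ B → p ≠ A → ∃ y ∈ Y, rc p y = B) {g : G} (hg : Mv L A B D g) :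
    ∃ y ∈ Y, ∃ c ∈ L, Ce A c ∧ Ce B c ∧ Ce D c ∧ g = c * y := by
  have h1 : rc B g ≤ A ⊔ B := by
    intro x hx
    rw [mem_rc] at hx
    have h2 := hg.move _ hx
    have h3 : (g * x * g⁻¹) * ((g * x * g⁻¹)⁻¹ * (g⁻¹ * (g * x * g⁻¹) * g)) = x := by group
    rw [← h3]
    exact mul_mem (Subgroup.mem_sup_right hx) (Subgroup.mem_sup_left h2)
  have h2 : rc B g ≠ A := by
    intro h3
    have h4 : rc A g = A := hg.fixA.rc_eq
    have h5 : B = A := rc_inj (h3.trans h4.symm)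
    rw [h5, inf_idem] at hAB
    exact hA hAB
  obtain ⟨y, hy, hyB⟩ := htr _ (hΩ g hg.mem B hB) h1 h2
  have hyM := hY y hy
  refine ⟨y⁻¹, inv_mem hy, g * y, mul_mem hg.mem hyM.mem, hg.fixA.mul hyM.fixA, ?_, hg.fixD.mul hyM.fixD, by group⟩
  rw [rc_rc] at hyB
  intro r hr
  -- `r⁻¹ (gy)⁻¹ r (gy) ∈ A ∩ B`
  have h3 : (g * y)⁻¹ * r * (g * y) ∈ B := by
    have h4 := mem_rc_conj (g := g * y) hr
    rwa [hyB] at h4
  have h5 : r⁻¹ * ((g * y)⁻¹ * r * (g * y)) ∈ A := by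
    have h6 := hg.move r hr
    -- `y⁻¹ (g⁻¹ r g) y = y⁻¹ r (r⁻¹ g⁻¹ r g) y`
    have h7 := hyM.move r hr
    have h8 := hyM.fixA.inv _ h6
    have e : r⁻¹ * ((g * y)⁻¹ * r * (g * y)) = (r⁻¹ * (y⁻¹ * r * y)) * (y⁻¹ * (r⁻¹ * (g⁻¹ * r * g)) * y) := by
      group
    rw [e, h8, inv_mul_cancel_right]
    exact mul_mem h7 h6
  have h9 : r⁻¹ * ((g * y)⁻¹ * r * (g * y)) ∈ A ⊓ B := Subgroup.mem_inf.2 ⟨h5, mul_mem (inv_mem hr) h3⟩
  rw [hAB, Subgroup.mem_bot] at h9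
  have h10 : (g * y)⁻¹ * r * (g * y) = r := by
    have := congrArg (r * ·) h9
    simpa using this
  have h11 := congrArg ((g * y) * ·) h10
  have e : (g * y) * ((g * y)⁻¹ * r * (g * y)) = r * (g * y) := by group
  rw [← e]
  exact h11.symm ▸ rfl

/-- The stabiliser of a family of subgroups. -/
def StO (Ω : Set (Subgroup G)) : Subgroup G where
  carrier := {b | ∀ q, rc q b ∈ Ω ↔ q ∈ Ω}
  one_mem' := fun q => by simp
  mul_mem' := fun {a b} ha hb q => by rw [← rc_rc, hb, ha]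
  inv_mem' := fun {a} ha q => by rw [← ha (rc q a⁻¹), rc_rc, inv_mul_cancel, rc_one]

theorem mem_StO {Ω : Set (Subgroup G)} {b : G} : b ∈ StO Ω ↔ ∀ q, rc q b ∈ Ω ↔ q ∈ Ω := Iff.rfl

theorem mem_StO_of {Ω : Set (Subgroup G)} {b : G} (h : ∀ q ∈ Ω, rc q b ∈ Ω) (h' : ∀ q ∈ Ω, rc q b⁻¹ ∈ Ω) :
    b ∈ StO Ω := by
  intro q
  refine ⟨fun hq => ?_, h q⟩
  have := h' _ hq
  rwa [rc_rc, mul_inv_cancel, rc_one] at this

theorem mem_StO_of_finite [Finite G] {Ω : Set (Subgroup G)} {b : G} (h : ∀ q ∈ Ω, rc q b ∈ Ω) : b ∈ StO Ω := by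
  refine mem_StO_of h ?_
  have h1 : ∀ n : ℕ, ∀ q ∈ Ω, rc q (b ^ n) ∈ Ω := by
    intro n
    induction n with
    | zero => intro q hq; simpa using hq
    | succ n ih => intro q hq; rw [pow_succ, ← rc_rc]; exact h _ (ih q hq)
  have e : b⁻¹ = b ^ (orderOf b - 1) := by
    rw [inv_eq_iff_mul_eq_one, ← pow_succ', Nat.sub_add_cancel (orderOf_pos b), pow_orderOf_eq_one]
  rw [e]
  exact h1 _

/-- The local data for a residue of type A2: `pts` = the points of `N`, `κ` = the perfect group of the node `j`. -/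
structure Pl (L κ Pf U₁ U₂ : Subgroup G) (pts : Set (Subgroup G)) (R₁ R₂ R₃ : Subgroup G) (n₁ n₂ : G) : Prop where
  /-- `L` is generated by `κ`, a group `Pf` fixing `N` and normalising `κ`, and `n₁` -/
  gen : L ≤ (Pf ⊔ κ) ⊔ zpowers n₁
  Pf_norm : ∀ b ∈ Pf, ∀ k ∈ κ, b⁻¹ * k * b ∈ κ
  Pf_pts : ∀ b ∈ Pf, ∀ p ∈ pts, rc p b ∈ pts
  n₁_pts : ∀ p ∈ pts, rc p n₁ ∈ pts
  U₁_le : U₁ ≤ Pf
  U₂_le : U₂ ≤ Pf
  U₁_n₁ : rc U₁ n₁ = U₂
  U₂_n₁ : rc U₂ n₁ = U₁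
  R₁_n₁ : rc R₁ n₁ = R₂
  R₂_n₁ : rc R₂ n₁ = R₁
  R₃_n₁ : rc R₃ n₁ = R₃
  mem₁ : R₁ ∈ pts
  mem₂ : R₂ ∈ pts
  /-- `κ` moves `N` to `N` or, up to `U₂`, to `N n₂` -/
  line : ∀ k ∈ κ, (∀ p ∈ pts, rc p k ∈ pts) ∨ ∃ u ∈ U₂, ∀ p ∈ pts, ∃ p' ∈ pts, rc p (k * u) = rc p' n₂
  /-- `U₁` is transitive on the points `≠ R₁` of `N n₂` -/
  point : ∀ p ∈ pts, rc p n₂ = R₁ ∨ ∃ u ∈ U₁, rc (rc p n₂) u = R₃
  n₂_mem : n₂ ∈ κ ⊔ Pf
  R₁_n₂ : rc R₁ n₂ = R₁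
  R₂_n₂ : rc R₂ n₂ = R₃
  R₃_n₂ : rc R₃ n₂ = R₂
  /-- `N` -/
  N_Y : ∀ b ∈ U₁ ⊔ U₂, rc (R₁ ⊔ R₂) b = R₁ ⊔ R₂
  R₃_not : ¬ R₃ ≤ R₁ ⊔ R₂

namespace Pl

variable {L κ Pf U₁ U₂ : Subgroup G} {pts : Set (Subgroup G)} {R₁ R₂ R₃ : Subgroup G} {n₁ n₂ : G}
  (D : Pl L κ Pf U₁ U₂ pts R₁ R₂ R₃ n₁ n₂)

/-- All points of the plane. -/
def Om (κ : Subgroup G) (pts : Set (Subgroup G)) : Set (Subgroup G) := {q | ∃ p ∈ pts, ∃ k ∈ κ, q = rc p k}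

theorem pts_sub {p : Subgroup G} (hp : p ∈ pts) : p ∈ Om κ pts := ⟨p, hp, 1, one_mem _, by simp⟩

theorem Om_κ {k : G} (hk : k ∈ κ) {q : Subgroup G} (hq : q ∈ Om κ pts) : rc q k ∈ Om κ pts := by
  obtain ⟨p, hp, k', hk', rfl⟩ := hq
  exact ⟨p, hp, k' * k, mul_mem hk' hk, rc_rc _ _ _⟩

include D

theorem Om_Pf {b : G} (hb : b ∈ Pf) {q : Subgroup G} (hq : q ∈ Om κ pts) : rc q b ∈ Om κ pts := by
  obtain ⟨p, hp, k, hk, rfl⟩ := hq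
  refine ⟨rc p b, D.Pf_pts b hb p hp, b⁻¹ * k * b, D.Pf_norm b hb k hk, ?_⟩
  rw [rc_rc, rc_rc]
  congr 1
  group

theorem Om_sup {b : G} (hb : b ∈ κ ⊔ Pf) {q : Subgroup G} (hq : q ∈ Om κ pts) : rc q b ∈ Om κ pts := by
  have key : κ ⊔ Pf ≤ StO (Om κ pts) := by
    refine sup_le (fun b hb => mem_StO_of (fun q hq => Om_κ hb hq) (fun q hq => Om_κ (inv_mem hb) hq))
      (fun b hb => mem_StO_of (fun q hq => D.Om_Pf hb hq) (fun q hq => D.Om_Pf (inv_mem hb) hq))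
  exact (key hb q).2 hq

theorem R₃_mem : R₃ ∈ Om κ pts := by
  rw [← D.R₂_n₂]
  exact D.Om_sup D.n₂_mem (pts_sub D.mem₂)

/-- The points outside `N` are conjugate to `R₃` under `Y = U₁ U₂`. -/
theorem cases {q : Subgroup G} (hq : q ∈ Om κ pts) : q ∈ pts ∨ ∃ y ∈ U₁ ⊔ U₂, rc q y = R₃ := by
  obtain ⟨p, hp, k, hk, rfl⟩ := hq
  rcases D.line k hk with h | ⟨u, hu, h⟩
  · exact Or.inl (h p hp)
  · obtain ⟨p', hp', e⟩ := h p hp
    rcases D.point p' hp' with h1 | ⟨v, hv, h1⟩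
    · -- `rc p (k u) = R₁`
      left
      rw [h1] at e
      have e2 : rc p k = rc R₁ u⁻¹ := by
        rw [← e, rc_rc]; congr 1; group
      rw [e2]
      exact D.Pf_pts _ (D.U₂_le (inv_mem hu)) _ D.mem₁
    · right
      refine ⟨u * v, mul_mem (Subgroup.mem_sup_right hu) (Subgroup.mem_sup_left hv), ?_⟩
      rw [rc_rc, ← mul_assoc, ← rc_rc, e, h1]

theorem Om_n₁ {q : Subgroup G} (hq : q ∈ Om κ pts) : rc q n₁ ∈ Om κ pts := by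
  rcases D.cases hq with h | ⟨y, hy, h⟩
  · exact pts_sub (D.n₁_pts q h)
  · -- `rc q n₁ = rc R₃ (y⁻¹ n₁) = rc R₃ (n₁⁻¹ y⁻¹ n₁)`
    have hY : n₁⁻¹ * y⁻¹ * n₁ ∈ U₁ ⊔ U₂ := by
      have h1 : rc (U₁ ⊔ U₂) n₁ = U₁ ⊔ U₂ := by rw [rc_sup, D.U₁_n₁, D.U₂_n₁, sup_comm]
      have h2 := mem_rc_conj (g := n₁) (inv_mem hy)
      rwa [h1] at h2
    have hYPf : n₁⁻¹ * y⁻¹ * n₁ ∈ Pf := (sup_le D.U₁_le D.U₂_le) hY
    have e : rc q n₁ = rc R₃ (n₁⁻¹ * y⁻¹ * n₁) := by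
      have e1 : rc R₃ n₁⁻¹ = R₃ := by
        conv_lhs => rw [← D.R₃_n₁]
        rw [rc_rc, mul_inv_cancel, rc_one]
      rw [mul_assoc, ← rc_rc R₃ n₁⁻¹, e1, ← h, rc_rc]
      congr 1
      group
    rw [e]
    exact D.Om_Pf hYPf D.R₃_mem

/-- **The plane is invariant under `⟨B, κ, n₁⟩`.** -/
theorem Om_all [Finite G] {g : G} (hg : g ∈ (Pf ⊔ κ) ⊔ zpowers n₁) {q : Subgroup G} (hq : q ∈ Om κ pts) :
    rc q g ∈ Om κ pts := by
  have key : (Pf ⊔ κ) ⊔ zpowers n₁ ≤ StO (Om κ pts) := by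
    refine sup_le (sup_le (fun b hb => mem_StO_of_finite fun q hq => D.Om_Pf hb hq)
      (fun b hb => mem_StO_of_finite fun q hq => Om_κ hb hq)) ?_
    rw [Subgroup.zpowers_le]
    exact mem_StO_of_finite fun q hq => D.Om_n₁ hq
  exact (key hg q).2 hq

/-- **The plane is invariant under `L`.** -/
theorem Om_L [Finite G] {g : G} (hg : g ∈ L) {q : Subgroup G} (hq : q ∈ Om κ pts) : rc q g ∈ Om κ pts :=
  D.Om_all (D.gen hg) hq

/-- the points of the plane contained in `N` -/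
theorem mem_pts {q : Subgroup G} (hq : q ∈ Om κ pts) (hN : q ≤ R₁ ⊔ R₂) : q ∈ pts := by
  rcases D.cases hq with h | ⟨y, hy, h⟩
  · exact h
  · exfalso
    apply D.R₃_not
    rw [← h, ← D.N_Y y hy]
    exact rc_mono hN y

/-- `U₂` is transitive on the points `≠ R₂` of `R₂ R₃` -/
theorem trans₂₃ [Finite G] {q : Subgroup G} (hq : q ∈ Om κ pts) (h : q ≤ R₂ ⊔ R₃)
    (hne : q ≠ R₂) : ∃ y ∈ U₂, rc q y = R₃ := by
  have e1 : rc (R₁ ⊔ R₃) n₁ = R₂ ⊔ R₃ := by rw [rc_sup, D.R₁_n₁, D.R₃_n₁]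
  have e2 : rc (R₁ ⊔ R₂) n₂ = R₁ ⊔ R₃ := by rw [rc_sup, D.R₁_n₂, D.R₂_n₂]
  set q1 := rc q n₁⁻¹ with hq1
  have hq1' : rc q1 n₁ = q := by rw [hq1, rc_rc, inv_mul_cancel, rc_one]
  have h1 : q1 ≤ R₁ ⊔ R₃ := by
    have := rc_mono h n₁⁻¹
    rwa [← e1, rc_rc (R₁ ⊔ R₃), mul_inv_cancel, rc_one] at this
  have hq1m : q1 ∈ Om κ pts := D.Om_all (Subgroup.mem_sup_right (inv_mem (Subgroup.mem_zpowers n₁))) hq
  set q2 := rc q1 n₂⁻¹ with hq2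
  have hq2' : rc q2 n₂ = q1 := by rw [hq2, rc_rc, inv_mul_cancel, rc_one]
  have h2 : q2 ≤ R₁ ⊔ R₂ := by
    have := rc_mono h1 n₂⁻¹
    rwa [← e2, rc_rc (R₁ ⊔ R₂), mul_inv_cancel, rc_one] at this
  have hq2m : q2 ∈ pts := D.mem_pts (D.Om_sup (inv_mem D.n₂_mem) hq1m) h2
  rcases D.point q2 hq2m with h3 | ⟨u, hu, h3⟩
  · exfalso
    apply hne
    rw [hq2'] at h3
    rw [← hq1', h3, D.R₁_n₁]
  · rw [hq2'] at h3
    refine ⟨n₁⁻¹ * u * n₁, ?_, ?_⟩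
    · have := mem_rc_conj (g := n₁) hu
      rwa [D.U₁_n₁] at this
    · have e : rc q (n₁⁻¹ * u * n₁) = rc (rc q1 u) n₁ := by
        rw [hq1, rc_rc, rc_rc, mul_assoc]
      rw [e, h3, D.R₃_n₁]

/-- **The braid relation of length three.** -/
theorem braid [Finite G] {F : Frame G} {C J Bf : Subgroup G} {i : Bool} (hi : F.n i = n₁) (hi' : F.n (!i) = n₂)
    (hL : CenMod L C J) (hJC : J ≤ C) (hJ : J ≤ F.B) (hf : FixPart F Bf)
    (hC : ∀ c ∈ L, Ce R₁ c → Ce R₂ c → Ce R₃ c → c ∈ C) (hn₁ : n₁ ∈ normalizer (L : Set G))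
    (hn₂ : n₂ ∈ normalizer (L : Set G)) (hCn : rc C n₂ ≤ C)
    (hU₂B : U₂ ≤ F.B) (hU₂ : ∀ u ∈ U₂, Mv L R₂ R₃ R₁ u) (hsq : rc U₁ (n₂ * n₂) = U₁)
    (h23 : R₂ ⊓ R₃ = ⊥) (hR₂ : R₂ ≠ ⊥)
    {l : G} (hl : l ∈ ⁅rc U₁ n₂ ⊔ rc U₁ (n₂ * n₁), rc U₁ n₂ ⊔ rc U₁ (n₂ * n₁)⁆) (hb : n₁⁻¹ * l ∈ Bf) :
    F.Braid 3 := by
  -- elations
  have k23 : ∀ g, Mv L R₂ R₃ R₁ g → g ∈ U₂ ⊔ C := by
    intro g hg
    obtain ⟨y, hy, c, hc, c1, c2, c3, rfl⟩ := Mv.mem_mul (Ω := Om κ pts) (fun g hg p hp => D.Om_L hg hp) D.R₃_mem h23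
      hR₂ hU₂ (fun p hp h1 h2 => D.trans₂₃ hp h1 h2) hg
    exact mul_mem (Subgroup.mem_sup_right (hC c hc c3 c1 c2)) (Subgroup.mem_sup_left hy)
  have k32 : ∀ g, Mv L R₃ R₂ R₁ g → g ∈ rc U₂ n₂ ⊔ C := by
    intro g hg
    have h1 := hg.conj (k := n₂⁻¹) (inv_mem hn₂)
    have e1 : rc R₃ n₂⁻¹ = R₂ := by rw [← D.R₂_n₂, rc_rc, mul_inv_cancel, rc_one]
    have e2 : rc R₂ n₂⁻¹ = R₃ := by
      conv_lhs => rw [← D.R₃_n₂]
      rw [rc_rc, mul_inv_cancel, rc_one]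
    have e3 : rc R₁ n₂⁻¹ = R₁ := by
      conv_lhs => rw [← D.R₁_n₂]
      rw [rc_rc, mul_inv_cancel, rc_one]
    rw [e1, e2, e3] at h1
    have h2 := mem_rc_conj (g := n₂) (k23 _ h1)
    have e : n₂⁻¹ * (n₂⁻¹⁻¹ * g * n₂⁻¹) * n₂ = g := by group
    rw [e, rc_sup] at h2
    exact (sup_le_sup_left hCn _ : rc U₂ n₂ ⊔ rc C n₂ ≤ rc U₂ n₂ ⊔ C) h2
  have hU₁ : ∀ u ∈ U₁, Mv L R₁ R₃ R₂ u := by
    intro u hu
    have h1 : n₁⁻¹ * u * n₁ ∈ U₂ := by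
      have := mem_rc_conj (g := n₁) hu
      rwa [D.U₁_n₁] at this
    have h2 := (hU₂ _ h1).conj (k := n₁⁻¹) (inv_mem hn₁)
    have e1 : rc R₂ n₁⁻¹ = R₁ := by rw [← D.R₁_n₁, rc_rc, mul_inv_cancel, rc_one]
    have e2 : rc R₁ n₁⁻¹ = R₂ := by
      conv_lhs => rw [← D.R₂_n₁]
      rw [rc_rc, mul_inv_cancel, rc_one]
    have e3 : rc R₃ n₁⁻¹ = R₃ := by
      conv_lhs => rw [← D.R₃_n₁]
      rw [rc_rc, mul_inv_cancel, rc_one]
    rw [e1, e2, e3] at h2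
    have e : n₁⁻¹⁻¹ * (n₁⁻¹ * u * n₁) * n₁⁻¹ = u := by group
    rwa [e] at h2
  have w1 : rc R₁ (n₂ * n₁) = R₂ := by rw [← rc_rc, D.R₁_n₂, D.R₁_n₁]
  have w2 : rc R₂ (n₂ * n₁) = R₃ := by rw [← rc_rc, D.R₂_n₂, D.R₃_n₁]
  have w3 : rc R₃ (n₂ * n₁) = R₁ := by rw [← rc_rc, D.R₃_n₂, D.R₂_n₁]
  have hU₂L : U₂ ≤ L := fun u hu => (hU₂ u hu).mem
  have hn₂P : n₂ ∈ F.P (!i) := hi' ▸ F.n_mem (!i)
  subst hi hi'
  refine braid_three F hL hJC hJ hf i (D := rc U₁ (F.n (!i)) ⊔ rc U₁ (F.n (!i) * F.n i))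
    (D' := U₂ ⊔ rc U₂ (F.n (!i))) ?_ ?_ ?_ hl hb
  · refine sup_le (hU₂B.trans (F.B_le _)) ?_
    intro x hx
    rw [mem_rc] at hx
    have := mul_mem (mul_mem (inv_mem hn₂P) (F.B_le _ (hU₂B hx))) hn₂P
    have e : (F.n (!i))⁻¹ * (F.n (!i) * x * (F.n (!i))⁻¹) * F.n (!i) = x := by group
    rwa [e] at this
  · refine sup_le hU₂L ?_
    intro x hx
    rw [mem_rc] at hx
    have := (Subgroup.mem_normalizer_iff.1 (inv_mem hn₂) _).1 (hU₂L hx)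
    have e : (F.n (!i))⁻¹ * (F.n (!i) * x * (F.n (!i))⁻¹) * (F.n (!i))⁻¹⁻¹ = x := by group
    rwa [e] at this
  · have key : rc U₁ (F.n (!i)) ⊔ rc U₁ (F.n (!i) * F.n i) ≤
        rc ((U₂ ⊔ rc U₂ (F.n (!i))) ⊔ C) (F.n (!i) * F.n i)⁻¹ := by
      refine sup_le (fun x hx => ?_) (fun x hx => ?_)
      · rw [mem_rc]
        have h1 := mem_rc_conj (g := F.n (!i) * F.n i) hx
        rw [rc_rc, ← mul_assoc, ← rc_rc, hsq, D.U₁_n₁] at h1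
        rw [inv_inv]
        exact Subgroup.mem_sup_left (Subgroup.mem_sup_left h1)
      · rw [mem_rc, inv_inv]
        rw [mem_rc] at hx
        have h1 := ((hU₁ _ hx).conj (k := F.n (!i) * F.n i) (mul_mem hn₂ hn₁)).conj
          (k := F.n (!i) * F.n i) (mul_mem hn₂ hn₁)
        rw [w1, w2, w3, w1] at h1
        have e : (F.n (!i) * F.n i)⁻¹ * ((F.n (!i) * F.n i)⁻¹ * (F.n (!i) * F.n i * x * (F.n (!i) * F.n i)⁻¹) *
          (F.n (!i) * F.n i)) * (F.n (!i) * F.n i) = (F.n (!i) * F.n i)⁻¹ * x * (F.n (!i) * F.n i) := by group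
        rw [e] at h1
        have h2 := k32 _ h1
        exact (sup_le_sup_right le_sup_right C) h2
    intro x hx
    have := key hx
    rwa [mem_rc, inv_inv] at this

end Pl

end Cfsg.Agent.Omega.HOne.End
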