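import Cfsg.Agent.ParSys.Par
import Cfsg.Agent.RankTwoClose.Final
import Cfsg.Agent.RankTwoClose.Braid

/-!
# II.0h1, END: residues of rank two, from PATH and BRAID to a generalised polygon

`Duo`: two minimal parabolic subgroups `P false`, `P true` over a common Borel subgroup `B` with a torus `H` and
reflections `n i` normalising `H`.  `Duo.frame` is the corresponding `RankTwoClose.Frame`; with PATH and BRAID it
gives a `ParSys.Polygon` (`Duo.exists_polygon`).
-/

set_option autoImplicit false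

namespace Cfsg.Agent.Omega.HOne.End

open Subgroup Cfsg.Agent.ParSys Cfsg.Agent.RankTwoClose
open Cfsg.Agent.LieExceptional.BNPairCore

variable {G : Type*} [Group G]

/-- Two minimal parabolic subgroups with a common Borel subgroup and a torus. -/
structure Duo (p : ℕ) (B U H : Subgroup G) (P : Bool → Subgroup G) (n : Bool → G) : Prop where
  hall : Hall.HallData p B U H
  le : ∀ i, B ≤ P i
  ptr : ∀ i, Hall.HallData.PTr B U (P i)
  fix : ∀ i, ∀ c ∈ U, c ∈ centralizer (H : Set G) → c ∈ Qk B (P i)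
  inf : P false ⊓ P true = B
  n_mem : ∀ i, n i ∈ P i
  n_not : ∀ i, n i ∉ B
  n_norm : ∀ i, n i ∈ normalizer (H : Set G)
  thick : ∀ i, ∃ b ∈ B, n i * b * (n i)⁻¹ ∉ B

namespace Duo

variable {p : ℕ} {B U H : Subgroup G} {P : Bool → Subgroup G} {n : Bool → G}

/-- two `H`-fixed chambers `≠ B` of a panel coincide -/
theorem panel_unique [Finite G] [Fact p.Prime] (D : Duo p B U H P n) (i : Bool) {g g' : G} (hg : g ∈ P i)
    (hgB : g ∉ B) (hg' : g' ∈ P i) (hgB' : g' ∉ B)
    (hfix : ∀ a ∈ H, g⁻¹ * a * g ∈ B) (hfix' : ∀ a ∈ H, g'⁻¹ * a * g' ∈ B) : g⁻¹ * g' ∈ B := by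
  obtain ⟨u, hu, b, hb, he⟩ := D.ptr i g hg hgB g' hg' hgB'
  obtain ⟨c, hcU, hcC, hc⟩ := D.hall.fixed_trans (X := G ⧸ B) ((g : G) : G ⧸ B) ((g' : G) : G ⧸ B) (by
      intro a ha
      change ((a * g : G) : G ⧸ B) = _
      refine (QuotientGroup.eq.mpr ?_).symm
      rw [← mul_assoc]
      exact hfix a ha) (by
      intro a ha
      change ((a * g' : G) : G ⧸ B) = _
      refine (QuotientGroup.eq.mpr ?_).symm
      rw [← mul_assoc]
      exact hfix' a ha) hu (by
      change ((u * g : G) : G ⧸ B) = _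
      rw [he]
      exact (QuotientGroup.mk_mul_of_mem _ hb).symm)
  have h1 : ((c * g : G) : G ⧸ B) = ((g' : G) : G ⧸ B) := hc
  have h2 := QuotientGroup.eq.1 h1
  have h3 := D.fix i c hcU hcC g hg
  have h4 := mul_mem h3 h2
  have e : g⁻¹ * c * g * ((c * g)⁻¹ * g') = g⁻¹ * g' := by group
  rwa [e] at h4

/-- the frame -/
def frame [Finite G] [Fact p.Prime] (D : Duo p B U H P n) : Frame G where
  B := B
  H := H
  P := P
  n := n
  memP i x := by
    constructor
    · intro hx
      by_cases hxB : x ∈ B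
      · exact Or.inl hxB
      · obtain ⟨u, hu, b, hb, e⟩ := D.ptr i (n i) (D.n_mem i) (D.n_not i) x hx hxB
        exact Or.inr ⟨u, D.hall.U_le hu, b, hb, e⟩
    · rintro (hx | ⟨b, hb, c, hc, rfl⟩)
      · exact D.le i hx
      · exact mul_mem (mul_mem (D.le i hb) (D.n_mem i)) (D.le i hc)
  inter := D.inf
  H_le := D.hall.H_le
  n_norm := D.n_norm
  n_not := D.n_not
  two i g hg h := by
    by_cases hgB : g ∈ B
    · exact Or.inl hgB
    · refine Or.inr (D.panel_unique i (D.n_mem i) (D.n_not i) hg hgB (fun a ha => ?_) h)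
      have := (Subgroup.mem_normalizer_iff.mp (inv_mem (D.n_norm i)) a).mp ha
      rw [inv_inv] at this
      exact D.hall.H_le this

variable [Finite G] [Fact p.Prime] (D : Duo p B U H P n)

@[simp] theorem frame_B : D.frame.B = B := rfl
@[simp] theorem frame_H : D.frame.H = H := rfl
@[simp] theorem frame_P (i : Bool) : D.frame.P i = P i := rfl
@[simp] theorem frame_n (i : Bool) : D.frame.n i = n i := rfl

include D in
/-- The (B,N)-pair of rank two of `P false ⊔ P true`. -/
theorem exists_bnPair {m : ℕ} (hbr : D.frame.Braid m) (hm : 1 ≤ m) (hp : ∀ k < m, D.frame.PathTo k) :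
    ∃ (Q : Cfsg.BNPair ↥(P false ⊔ P true)) (s : Bool → ↥(P false ⊔ P true)),
      Q.B = B.subgroupOf (P false ⊔ P true) ∧ Q.S = {s false, s true} ∧ s false ≠ s true ∧
      (∀ i, (s i : G) = n i) ∧ ∀ i, (P i).subgroupOf (P false ⊔ P true) = Q.parabolic {s i} := by
  set X := P false ⊔ P true with hX
  have hX' : ∀ i, D.frame.P i ≤ X := by
    rintro (_ | _)
    · exact le_sup_left
    · exact le_sup_right
  set R := D.frame.restrict X hX' with hR
  have hBX : B ≤ X := (D.le false).trans (hX' false)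
  have g1 : R.P false ⊔ R.P true = ⊤ := by
    show (P false).subgroupOf X ⊔ (P true).subgroupOf X = ⊤
    have h0 : P false ≤ X := hX' false
    have h1 : P true ≤ X := hX' true
    rw [← Subgroup.subgroupOf_sup h0 h1, ← hX]
    exact Subgroup.subgroupOf_self X
  have g2 : ∀ i, ∃ b ∈ R.B, R.n i * b * (R.n i)⁻¹ ∉ R.B := by
    intro i
    obtain ⟨b, hb, hnb⟩ := D.thick i
    exact ⟨⟨b, hBX hb⟩, Subgroup.mem_subgroupOf.2 hb, fun h => hnb (Subgroup.mem_subgroupOf.1 h)⟩
  set Q := R.toBNPair (m := m) hbr.restrict hm (fun k hk => (hp k hk).restrict) g1 g2 with hQ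
  have hS : Q.S = {R.n false, R.n true} := rfl
  refine ⟨Q, R.n, rfl, hS, R.n_ne, fun i => rfl, fun i => ?_⟩
  have hRn : R.n i ∈ Q.S := by
    rw [hS]; cases i <;> simp
  have hRP : (P i).subgroupOf X = R.P i := rfl
  rw [hRP]
  apply le_antisymm
  · intro x hx
    rcases (R.memP i x).1 hx with h | ⟨b, hb, c, hc, rfl⟩
    · exact (le_sup_left : Q.B ≤ _) h
    · exact mul_mem (mul_mem ((le_sup_left : Q.B ≤ _) hb)
        ((le_sup_right : closure {R.n i} ≤ _) (subset_closure rfl))) ((le_sup_left : Q.B ≤ _) hc)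
  · refine sup_le (R.B_le i) ?_
    rw [Subgroup.closure_le, Set.singleton_subset_iff]
    exact R.n_mem i

/-- **PATH and BRAID give a generalised polygon.** -/
theorem exists_polygon {m : ℕ} (hbr : D.frame.Braid m) (hm : 1 ≤ m) (hp : ∀ k < m, D.frame.PathTo k)
    {I : Type*} {R : I → Subgroup G} {a b : I} (ha : R a = P false) (hb : R b = P true) :
    ∃ k, 2 ≤ k ∧ Polygon B R a b k ∧
      (3 ≤ k ↔ n false * n true * (n false)⁻¹ * (n true)⁻¹ ∉ B) := by
  obtain ⟨Q, s, hB, hS, hne, hs, hP⟩ := D.exists_bnPair hbr hm hp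
  generalize hX0 : P false ⊔ P true = X at Q s hB hS hne hs hP
  obtain ⟨k, h2, hr, hbk, hlt⟩ := LieRecognition.FeitHigmanGroup.exists_max_red hS hne
  have hs0 : s false ∈ Q.S := by rw [hS]; simp
  have hs1 : s true ∈ Q.S := by rw [hS]; simp
  have hpol : Polygon Q.B (fun i => (R i).subgroupOf X) a b k := by
    refine polygon_of_red hs0 hs1 ?_ ?_ hr hbk
    · show (R a).subgroupOf X = _
      rw [ha]; exact hP false
    · show (R b).subgroupOf X = _
      rw [hb]; exact hP true
  have hPX : ∀ i, i = a ∨ i = b → R i ≤ X := by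
    rintro i (rfl | rfl)
    · rw [ha, ← hX0]; exact le_sup_left
    · rw [hb, ← hX0]; exact le_sup_right
  have hBR : ∀ i, i = a ∨ i = b → B ≤ R i := by
    rintro i (rfl | rfl)
    · rw [ha]; exact D.le false
    · rw [hb]; exact D.le true
  have hlink : Link B R a b Q.B (fun i => (R i).subgroupOf X)
      (fun g e => ∃ h : g ∈ X, ((MonoidHom.id X) ⟨g, h⟩)⁻¹ * (MonoidHom.id X) e ∈ Q.B) := by
    refine link_of_hom X (MonoidHom.id X) (MonoidHom.id X) Q.B (fun i => (R i).subgroupOf X) hPX ?_ ?_ ?_ ?_ ?_ ?_ ?_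
    · intro x
      rw [hB]; exact Iff.rfl
    · intro i _ x
      exact Iff.rfl
    · intro e; exact Iff.rfl
    · intro i _ e; exact Iff.rfl
    · intro i hi x hx
      rw [hB] at hx
      exact hBR i hi hx
    · intro e; exact ⟨e, rfl⟩
    · intro i _ y _
      exact ⟨y, 1, one_mem _, by simp⟩
  refine ⟨k, h2, hlink.polygon hpol, ?_⟩
  -- the commutator of the reflections
  have e : (LieRecognition.FeitHigmanGroup.alt 2 (s false) (s true))⁻¹ *
      LieRecognition.FeitHigmanGroup.alt 2 (s true) (s false) =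
      (s true)⁻¹ * (s false)⁻¹ * s true * s false := by
    simp only [LieRecognition.FeitHigmanGroup.alt_succ, LieRecognition.FeitHigmanGroup.alt_zero, mul_one]
    group
  have hst : s false * s true ∈ Q.N := mul_mem (mem_N hs0) (mem_N hs1)
  have hts : s true * s false ∈ Q.N := mul_mem (mem_N hs1) (mem_N hs0)
  have key : s false * s true * (s false)⁻¹ * (s true)⁻¹ ∈ Q.B ↔
      (s true)⁻¹ * (s false)⁻¹ * s true * s false ∈ Q.B := by
    constructor
    · intro h1
      have h3 : s false * s true * (s false)⁻¹ * (s true)⁻¹ ∈ Q.N :=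
        mul_mem (mul_mem hst (inv_mem (mem_N hs0))) (inv_mem (mem_N hs1))
      have h4 := conj_mem_inv (P := Q) hts h1 h3
      have h5 := inv_mem h4
      have e1 : ((s true * s false)⁻¹ * (s false * s true * (s false)⁻¹ * (s true)⁻¹) *
          (s true * s false))⁻¹ = (s true)⁻¹ * (s false)⁻¹ * s true * s false := by group
      rwa [e1] at h5
    · intro h1
      have h3 : (s true)⁻¹ * (s false)⁻¹ * s true * s false ∈ Q.N :=
        mul_mem (mul_mem (mul_mem (inv_mem (mem_N hs1)) (inv_mem (mem_N hs0)))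
        (mem_N hs1)) (mem_N hs0)
      have h4 := conj_mem' (P := Q) hts h1 h3
      have h5 := inv_mem h4
      have e1 : (s true * s false * ((s true)⁻¹ * (s false)⁻¹ * s true * s false) *
          (s true * s false)⁻¹)⁻¹ = s false * s true * (s false)⁻¹ * (s true)⁻¹ := by group
      rwa [e1] at h5
  have hcoe : n false * n true * (n false)⁻¹ * (n true)⁻¹ ∈ B ↔
      s false * s true * (s false)⁻¹ * (s true)⁻¹ ∈ Q.B := by
    rw [hB, Subgroup.mem_subgroupOf]
    push_cast
    rw [hs, hs]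
  rw [hcoe, key]
  constructor
  · intro h3 h4
    exact hlt 2 (by omega) (by omega) (by rw [e]; exact h4)
  · intro h3
    by_contra h4
    obtain rfl : k = 2 := by omega
    rw [e] at hbk
    exact h3 hbk

end Duo

end Cfsg.Agent.Omega.HOne.End
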