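import Cfsg.Agent.Omega.HOne.EndNode
import Cfsg.Agent.Omega.HOne.EndPoly
import Cfsg.Agent.Omega.HOne.EndPlane
import Cfsg.Agent.Omega.BTwo.XMod

/-!
# II.0h1, END: the node of `V` and another node, common part

`Base`: the node of `V` (`P₁ = XX V R ⊔ B`) and a second minimal parabolic subgroup `P₂ ≤ N(R i₁)` which moves `V`.
`Base.exists_fr`: reflections `n₁`, `n₂` which normalise `H`, and the second point `R i₂` fixed by `H`.
-/

set_option autoImplicit false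
set_option linter.unusedSectionVars false

namespace Cfsg.Agent.Omega.HOne.End

open Subgroup Cfsg.Agent.Omega.BTwo Cfsg.Agent.Lib.SL2Mat
open Cfsg.Agent.ParSys (Qk FpfG SepG mem_Qk Qk_le Qk_conj Qk_conj')
open Cfsg.Agent.ParSys.Hall (HallData)
open Cfsg.Agent.ParSys.Hall.HallData (PTr)

variable {G : Type*} [Group G] {ι : Type*}

theorem rc_eq_cj (A : Subgroup G) (g : G) : rc A g = cj g⁻¹ A := by
  ext x
  rw [mem_rc, mem_cj, inv_inv]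

theorem rc_inv_eq_cj (A : Subgroup G) (g : G) : rc A g⁻¹ = cj g A := by rw [rc_eq_cj, inv_inv]

theorem rc_cj (A : Subgroup G) (g : G) : rc (cj g A) g = A := by rw [rc_eq_cj, cj_inv_cj]

theorem cj_eq_iff_rc {A A' : Subgroup G} {g : G} : cj g A = A' ↔ rc A' g = A := by
  rw [rc_eq_cj]
  constructor
  · rintro rfl; rw [cj_inv_cj]
  · rintro rfl; rw [cj_cj_inv]

/-! ### one panel -/

/-- two `H`-fixed chambers `≠ B` of a panel coincide -/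
theorem panel_unique [Finite G] [Fact (Nat.Prime 2)] {B U H P : Subgroup G} (hall : HallData 2 B U H)
    (ptr : PTr B U P) (fix : ∀ c ∈ U, c ∈ centralizer (H : Set G) → c ∈ Qk B P) {g g' : G} (hg : g ∈ P)
    (hgB : g ∉ B) (hg' : g' ∈ P) (hgB' : g' ∉ B)
    (hfix : ∀ a ∈ H, g⁻¹ * a * g ∈ B) (hfix' : ∀ a ∈ H, g'⁻¹ * a * g' ∈ B) : g⁻¹ * g' ∈ B := by
  obtain ⟨u, hu, b, hb, he⟩ := ptr g hg hgB g' hg' hgB'
  obtain ⟨c, hcU, hcC, hc⟩ := hall.fixed_trans (X := G ⧸ B) ((g : G) : G ⧸ B) ((g' : G) : G ⧸ B) (by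
      intro a ha
      change ((a * g : G) : G ⧸ B) = _
      refine (QuotientGroup.eq.mpr ?_).symm
      rw [← mul_assoc]
      exact hfix a ha) (by
      intro a ha
      change ((a * g' : G) : G ⧸ B) = _
      refine (QuotientGroup.eq.mpr ?_).symm
      rw [← mul_assoc]
      exact hfix' a ha) hu (by
      change ((u * g : G) : G ⧸ B) = _
      rw [he]
      exact (QuotientGroup.mk_mul_of_mem _ hb).symm)
  have h1 : ((c * g : G) : G ⧸ B) = ((g' : G) : G ⧸ B) := hc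
  have h2 := QuotientGroup.eq.1 h1
  have h3 := fix c hcU hcC g hg
  have h4 := mul_mem h3 h2
  have e : g⁻¹ * c * g * ((c * g)⁻¹ * g') = g⁻¹ * g' := by group
  rwa [e] at h4

section panel

variable [Finite G] [Fact (Nat.Prime 2)] {B U H P : Subgroup G} (hall : HallData 2 B U H)
    (ptr : PTr B U P) (fix : ∀ c ∈ U, c ∈ centralizer (H : Set G) → c ∈ Qk B P) (hle : B ≤ P)
    {n : G} (hn : n ∈ P) (hnB : n ∉ B) (hnH : n ∈ normalizer (H : Set G))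

include hall ptr fix hle hn hnB hnH

/-- elements of `B` normalising `H` -/
theorem conj_mem_of_norm {c : G} (hc : c ∈ B) (hcH : c ∈ normalizer (H : Set G)) : n⁻¹ * c * n ∈ B := by
  have h1 : ∀ a ∈ H, n⁻¹ * a * n ∈ B := fun a ha => hall.H_le (conj_inv_mem_of_normalizer hnH ha)
  have h2 : ∀ a ∈ H, (c * n)⁻¹ * a * (c * n) ∈ B := by
    intro a ha
    have := h1 _ (conj_inv_mem_of_normalizer hcH ha)
    have e : n⁻¹ * (c⁻¹ * a * c) * n = (c * n)⁻¹ * a * (c * n) := by group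
    rwa [e] at this
  have h3 : c * n ∉ B := fun h => hnB (by
    have := mul_mem (inv_mem hc) h
    rwa [inv_mul_cancel_left] at this)
  have := panel_unique hall ptr fix hn hnB (mul_mem (hle hc) hn) h3 h1 h2
  rwa [← mul_assoc] at this

theorem sq_mem_of_norm : n * n ∈ B := by
  have h1 : ∀ a ∈ H, n⁻¹ * a * n ∈ B := fun a ha => hall.H_le (conj_inv_mem_of_normalizer hnH ha)
  have h2 : ∀ a ∈ H, n⁻¹⁻¹ * a * n⁻¹ ∈ B := fun a ha => hall.H_le (by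
    rw [inv_inv]
    exact conj_mem_of_normalizer hnH ha)
  have h3 : n⁻¹ ∉ B := fun h => hnB (by simpa using inv_mem h)
  have := inv_mem (panel_unique hall ptr fix hn hnB (inv_mem hn) h3 h1 h2)
  simpa using this

/-- `n` normalises `B ∩ N(H)` -/
theorem norm_inf : n ∈ normalizer ((B ⊓ normalizer (H : Set G) : Subgroup G) : Set G) := by
  have key : ∀ n ∈ P, n ∉ B → n ∈ normalizer (H : Set G) → ∀ c ∈ B ⊓ normalizer (H : Set G),
      n⁻¹ * c * n ∈ B ⊓ normalizer (H : Set G) := fun n hn hnB hnH c hc =>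
    mem_inf.2 ⟨conj_mem_of_norm hall ptr fix hle hn hnB hnH (mem_inf.1 hc).1 (mem_inf.1 hc).2,
      mul_mem (mul_mem (inv_mem hnH) (mem_inf.1 hc).2) hnH⟩
  rw [Subgroup.mem_normalizer_iff]
  intro c
  constructor
  · intro hc
    have h3 : n⁻¹ ∉ B := fun h => hnB (by simpa using inv_mem h)
    have := key n⁻¹ (inv_mem hn) h3 (inv_mem hnH) c hc
    rwa [inv_inv] at this
  · intro hc
    have := key n hn hnB hnH _ hc
    have e : n⁻¹ * (n * c * n⁻¹) * n = c := by group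
    rwa [e] at this

end panel

/-- every chamber `≠ B` of a panel is `U`-conjugate to one fixed by `H`; the representative is changed by `U` only -/
theorem exists_n_of [Finite G] [Fact (Nat.Prime 2)] {B U H P : Subgroup G} (D : HallData 2 B U H) (hBP : B ≤ P)
    (htr : PTr B U P) {g : G} (hgP : g ∈ P) (hgB : g ∉ B) :
    ∃ u ∈ U, ∃ w ∈ U, u * g * w ∈ normalizer (H : Set G) := by
  obtain ⟨u, hu, hfix⟩ := D.exists_fixed (X := G ⧸ B) ((g : G) : G ⧸ B) (by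
    intro a ha
    have haB := D.H_le ha
    obtain ⟨v, hv, b, hb, hvb⟩ := htr g hgP hgB (a * g) (P.mul_mem (hBP haB) hgP)
      (fun h => hgB (by simpa using B.mul_mem (B.inv_mem haB) h))
    refine ⟨v, hv, ?_⟩
    change ((a * g : G) : G ⧸ B) = ((v * g : G) : G ⧸ B)
    rw [hvb]
    exact QuotientGroup.mk_mul_of_mem _ hb)
  have hHB : ∀ a ∈ H, (u * g)⁻¹ * a * (u * g) ∈ B := by
    intro a ha
    have h1 : ((a * (u * g) : G) : G ⧸ B) = ((u * g : G) : G ⧸ B) := hfix a ha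
    have h2 := QuotientGroup.eq.mp h1.symm
    rwa [← mul_assoc] at h2
  obtain ⟨w, hw, e⟩ := D.conj (K := cj (u * g)⁻¹ H) (by
      rintro _ ⟨a, ha, rfl⟩
      have := hHB a ha
      change (u * g)⁻¹ * a * (u * g)⁻¹⁻¹ ∈ B
      rwa [inv_inv]) (card_cj _ _)
  refine ⟨u, hu, w, hw, ?_⟩
  rw [← cj_eq_self_iff, cj_mul]
  have e' : cj w H = cj (u * g)⁻¹ H := by
    rw [← e]; rfl
  rw [e', cj_cj_inv]

/-- **The node of `V` and a second node `P₂ ≤ N(R i₁)`.** -/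
structure Base (F : Type*) [Field F] (V : Subgroup G) (R : ι → Subgroup G) (U B H P₂ : Subgroup G) (i₁ : ι) :
    Prop where
  bt : BT V R
  nod : Nod V R U B i₁
  hall : HallData 2 B U H
  sup : U ⊔ H = B
  U_UU : ∀ i, UU V R i ≤ U
  le₂ : B ≤ P₂
  three₂ : ∃ x ∈ P₂, ∃ y ∈ P₂, x ∉ B ∧ y ∉ B ∧ x⁻¹ * y ∉ B
  ptr₂ : PTr B U P₂
  reg₂ : ∀ u ∈ U, ∀ g ∈ P₂, g ∉ B → g⁻¹ * u * g ∈ B → u ∈ Qk B P₂
  fix₂ : ∀ c ∈ U, c ∈ centralizer (H : Set G) → c ∈ Qk B P₂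
  P₂_R : P₂ ≤ normalizer (R i₁ : Set G)
  NV₂ : P₂ ⊓ normalizer (V : Set G) ≤ B
  coord : ∀ j, i₁ ≠ j → ∃ (v : F → F → G) (w1 w2 : F → G), Coord V R i₁ j v w1 w2
  big : ∃ a : F, a ≠ 0 ∧ a ≠ 1

namespace Base

variable {F : Type*} [Field F] {V : Subgroup G} {R : ι → Subgroup G} {U B H P₂ : Subgroup G} {i₁ : ι}
  (D : Base F V R U B H P₂ i₁)
include D

/-- 2-elements of `B` lie in `U` -/
theorem mem_U [Finite G] [Fact (Nat.Prime 2)] {x : G} (hx : x ∈ B) (h2 : ∃ k, x ^ 2 ^ k = 1) : x ∈ U := by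
  obtain ⟨k, hk⟩ := h2
  exact D.hall.pgroup_le_of_le_sup (D.sup.symm ▸ hx) hk

theorem two_elt [Finite G] [Fact (Nat.Prime 2)] {u g : G} (hu : u ∈ U) (h : g⁻¹ * u * g ∈ B) : g⁻¹ * u * g ∈ U := by
  refine D.mem_U h ?_
  obtain ⟨k, hk⟩ := D.hall.U_pgroup ⟨u, hu⟩
  refine ⟨k, ?_⟩
  have hk' : u ^ 2 ^ k = 1 := by simpa using congrArg Subtype.val hk
  have e : g⁻¹ * u * g = MulAut.conj g⁻¹ u := by rw [MulAut.conj_apply, inv_inv]
  rw [e, ← map_pow, hk', map_one]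

theorem Bt : B ≤ XX V R ⊔ B := le_sup_right

theorem ptr₁ : PTr B U (XX V R ⊔ B) := D.nod.ptr D.bt

/-- every element of `B` is `u h` -/
theorem exists_uh [Finite G] [Fact (Nat.Prime 2)] {b : G} (hb : b ∈ B) : ∃ u ∈ U, ∃ h ∈ H, b = u * h := by
  rw [← D.sup, sup_comm] at hb
  obtain ⟨u, hu, h, hh, rfl⟩ := Solvable.Glauberman.exists_mul_of_mem_sup H U D.hall.H_norm_U hb
  exact ⟨u, hu, h, hh, rfl⟩

/-- an element of `B` which fixes two points acts on `V` as an element of `H` -/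
theorem exists_h [Finite G] [Fact (Nat.Prime 2)] {i₂ : ι} (h12 : i₁ ≠ i₂) (hH : H ≤ normalizer (R i₂ : Set G)) {b : G} (hb : b ∈ B)
    (hb2 : cj b (R i₂) = R i₂) : ∃ u ∈ U, u ∈ centralizer (V : Set G) ∧ ∃ h ∈ H, b = u * h := by
  obtain ⟨u, hu, h, hh, rfl⟩ := D.exists_uh hb
  refine ⟨u, hu, ?_, h, hh, rfl⟩
  refine D.nod.cen_of_fix D.bt hu h12.symm ?_
  rw [cj_mul, cj_eq_self_iff.2 (hH hh)] at hb2
  exact hb2

/-- the second point fixed by `H`, before the choice of the coordinates -/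
theorem exists_fixed [Finite G] [Fact (Nat.Prime 2)] :
    ∃ i₂, i₁ ≠ i₂ ∧ H ≤ normalizer (R i₂ : Set G) := by
  obtain ⟨x, hx, -, -, hxB, -, -⟩ := D.nod.three D.bt
  obtain ⟨n, hn, hnB, hnH⟩ := D.hall.exists_n (P := XX V R ⊔ B) le_sup_right ⟨x, hx, hxB⟩ D.ptr₁
  obtain ⟨k, hk⟩ := D.nod.exists_k D.bt hn
  refine ⟨k, ?_, ?_⟩
  · rintro rfl
    exact hnB ((D.nod.mem_B_iff D.bt hn).2 hk)
  · intro h hh
    rw [← cj_eq_self_iff, ← hk, ← cj_mul]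
    have h1 := conj_inv_mem_of_normalizer hnH hh
    have h2 := cj_eq_self_iff.2 (D.nod.B_R (D.hall.H_le h1))
    have e : h * n = n * (n⁻¹ * h * n) := by group
    rw [e, cj_mul, h2]

/-- a torus element: `h ∈ H` acts on `V` as `diag(a, a⁻¹)` -/
theorem exists_tor [Finite G] [Fact (Nat.Prime 2)] [CharP F 2] {i₂ : ι} (h12 : i₁ ≠ i₂)
    (hH : H ≤ normalizer (R i₂ : Set G)) {v : F → F → G} {w1 w2 : F → G} (c : Coord V R i₁ i₂ v w1 w2)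
    {a : F} (ha : a ≠ 0) : ∃ h ∈ H, (∀ x y, h * v x y * h⁻¹ = v (a * x) (a⁻¹ * y)) ∧
      ∃ u ∈ U, u ∈ centralizer (V : Set G) ∧ hh w1 w2 a = u * h := by
  have h1 : hh w1 w2 a ∈ B := D.nod.X_B ⟨c.hh_mem_X D.bt a, cj_eq_self_iff.1 (c.hh_R1 D.bt ha)⟩
  obtain ⟨u, hu, hc, h, hh', e⟩ := D.exists_h h12 hH h1 (c.hh_R2 D.bt ha)
  refine ⟨h, hh', fun x y => ?_, u, hu, hc, e⟩
  rw [← c.hh_act ha x y, e]
  have h2 := mem_centralizer_iff.1 hc _ (c.v_mem (a * x) (a⁻¹ * y))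
  have e2 : u * h * v x y * (u * h)⁻¹ = u * (h * v x y * h⁻¹) * u⁻¹ := by group
  rw [e2]
  have h3 : h * v x y * h⁻¹ ∈ V := conj_mem_of_normalizer (D.nod.B_V (D.hall.H_le hh')) (c.v_mem x y)
  rw [← mem_centralizer_iff.1 hc _ h3, mul_inv_cancel_right]

/-- an element with two different eigenvalues fixes only two points -/
theorem fix_two' {i₂ : ι} (h12 : i₁ ≠ i₂) {v : F → F → G} {w1 w2 : F → G}
    (c : Coord V R i₁ i₂ v w1 w2) {a s : F} (ha1 : a ≠ s) {h : G}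
    (hact : ∀ x y, h * v x y * h⁻¹ = v (a * x) (s * y)) (k : ι) (hk : cj h (R k) = R k) : k = i₁ ∨ k = i₂ := by
  by_contra hc
  push Not at hc
  obtain ⟨h1, h2⟩ := hc
  obtain ⟨w, hw, e⟩ := D.bt.trans i₁ (Ne.symm h12) h1
  obtain ⟨d, hd⟩ := c.W1_act w hw
  -- `R k = {v (d y) y}`
  have h3 : w * v 0 1 * w⁻¹ ∈ R k := by
    rw [← e]; exact conj_mem_cj ((c.mem_R2 _).2 ⟨1, rfl⟩)
  rw [hd, zero_add, mul_one] at h3
  have h4 : h * v d 1 * h⁻¹ ∈ R k := by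
    rw [← hk]; exact conj_mem_cj h3
  rw [hact, mul_one] at h4
  -- also `w v 0 s w⁻¹ ∈ R k`
  have h5 : w * v 0 s * w⁻¹ ∈ R k := by
    rw [← e]; exact conj_mem_cj ((c.mem_R2 _).2 ⟨_, rfl⟩)
  rw [hd, zero_add] at h5
  have h6 : v (a * d - d * s) 0 ∈ R k := by
    have h7 := mul_mem h4 (inv_mem h5)
    have h8 := c.v_add (a * d - d * s) 0 (d * s) s
    rw [sub_add_cancel, zero_add] at h8
    rwa [h8, mul_inv_cancel_right] at h7
  have h9 := D.bt.eq_one h1 h6 ((c.mem_R1 _).2 ⟨_, rfl⟩)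
  have h10 := (c.v_one _ _ h9).1
  have h11 : d ≠ 0 := by
    rintro rfl
    apply h2
    have h12' : v 0 1 = 1 := by
      refine D.bt.eq_one h2 h3 ((c.mem_R2 _).2 ⟨_, rfl⟩)
    exact absurd (c.v_one _ _ h12').2 one_ne_zero
  have h13 : (a - s) * d = 0 := by rw [← h10]; ring
  rcases mul_eq_zero.1 h13 with h14 | h14
  · exact ha1 (sub_eq_zero.1 h14)
  · exact absurd h14 h11

/-- a torus element `≠ 1` fixes only two points -/
theorem fix_two [CharP F 2] {i₂ : ι} (h12 : i₁ ≠ i₂) {v : F → F → G} {w1 w2 : F → G}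
    (c : Coord V R i₁ i₂ v w1 w2) {a : F} (ha : a ≠ 0) (ha1 : a ≠ 1) {h : G}
    (hact : ∀ x y, h * v x y * h⁻¹ = v (a * x) (a⁻¹ * y)) (k : ι) (hk : cj h (R k) = R k) : k = i₁ ∨ k = i₂ := by
  refine D.fix_two' h12 c ?_ hact k hk
  intro h14
  apply ha1
  have h15 : a * a = 1 := by
    nth_rw 2 [h14]
    exact mul_inv_cancel₀ ha
  have h16 : (a - 1) * (a - 1) = 0 := by
    have h17 : (2 : F) = 0 := by exact_mod_cast CharP.cast_eq_zero F 2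
    have : (a - 1) * (a - 1) = a * a - 1 + 2 * (1 - a) := by ring
    rw [this, h15, h17]; ring
  exact sub_eq_zero.1 (mul_self_eq_zero.1 h16)

/-- `C_U(H)` acts trivially on the panel of `V` -/
theorem fix₁ [Finite G] [Fact (Nat.Prime 2)] [CharP F 2] :
    ∀ c ∈ U, c ∈ centralizer (H : Set G) → c ∈ Qk B (XX V R ⊔ B) := by
  obtain ⟨i₂, h12, hH⟩ := D.exists_fixed
  obtain ⟨v, w1, w2, c⟩ := D.coord i₂ h12
  obtain ⟨a, ha, ha1⟩ := D.big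
  obtain ⟨h, hh', hact, -⟩ := D.exists_tor h12 hH c ha
  intro x hx hxC
  refine D.nod.fpf_of D.bt h12 (cj_eq_self_iff.2 (hH hh')) (fun k hk => D.fix_two h12 c ha ha1 hact k hk) x hx ?_
  have : h * x * h⁻¹ * x⁻¹ = 1 := by
    rw [mem_centralizer_iff.1 hxC h hh']; group
  rw [this]
  exact one_mem _

/-- `H` fixes only two points -/
theorem fixed_unique [Finite G] [Fact (Nat.Prime 2)] [CharP F 2] {k l : ι} (hk : i₁ ≠ k) (hl : i₁ ≠ l)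
    (hHk : H ≤ normalizer (R k : Set G)) (hHl : H ≤ normalizer (R l : Set G)) : k = l := by
  obtain ⟨x, hx, ex⟩ := D.bt.trans_X_one i₁ k
  obtain ⟨y, hy, ey⟩ := D.bt.trans_X_one i₁ l
  have hx' : x ∈ XX V R ⊔ B := mem_sup_left hx
  have hy' : y ∈ XX V R ⊔ B := mem_sup_left hy
  have key : ∀ {z : G} {m : ι}, z ∈ XX V R ⊔ B → cj z (R i₁) = R m → H ≤ normalizer (R m : Set G) →
      ∀ a ∈ H, z⁻¹ * a * z ∈ B := by
    intro z m hz ez hm a ha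
    have haP : a ∈ XX V R ⊔ B := mem_sup_right (D.hall.H_le ha)
    rw [D.nod.mem_B_iff D.bt (mul_mem (mul_mem (inv_mem hz) haP) hz), cj_mul, cj_mul, ez,
      cj_eq_self_iff.2 (hm ha), ← ez, cj_inv_cj]
  have hxB : x ∉ B := fun h => hk (D.bt.R_index (((D.nod.mem_B_iff D.bt hx').1 h).symm.trans ex))
  have hyB : y ∉ B := fun h => hl (D.bt.R_index (((D.nod.mem_B_iff D.bt hy').1 h).symm.trans ey))
  have h1 := panel_unique D.hall D.ptr₁ D.fix₁ hx' hxB hy' hyB (key hx' ex hHk) (key hy' ey hHl)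
  rw [D.nod.coset D.bt hx' hy', ex, ey] at h1
  exact D.bt.R_index h1

end Base

/-- The reflections. -/
structure Fr (V : Subgroup G) (R : ι → Subgroup G) (U B H P₂ : Subgroup G) (i₁ i₂ : ι) (n₁ n₂ : G) : Prop where
  ne : i₁ ≠ i₂
  H_R : H ≤ normalizer (R i₂ : Set G)
  n₁_mem : n₁ ∈ XX V R ⊔ B
  n₁_XU : n₁ ∈ XX V R ⊔ U
  n₁_not : n₁ ∉ B
  n₁_H : n₁ ∈ normalizer (H : Set G)
  n₂_mem : n₂ ∈ P₂
  n₂_not : n₂ ∉ B
  n₂_H : n₂ ∈ normalizer (H : Set G)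
  /-- `n₁` interchanges the two points -/
  n₁_1 : rc (R i₁) n₁ = R i₂
  n₁_2 : rc (R i₂) n₁ = R i₁

namespace Base

variable {F : Type*} [Field F] {V : Subgroup G} {R : ι → Subgroup G} {U B H P₂ : Subgroup G} {i₁ : ι}
  (D : Base F V R U B H P₂ i₁) [Finite G] [Fact (Nat.Prime 2)] [CharP F 2]
include D

/-- the reflections; `n₂` can be chosen in any coset `U g U` -/
theorem exists_fr_of {y : G} (hy : y ∈ P₂) (hyB : y ∉ B) :
    ∃ i₂ n₁ n₂, Fr V R U B H P₂ i₁ i₂ n₁ n₂ ∧ ∃ u ∈ U, ∃ w ∈ U, n₂ = u * y * w := by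
  obtain ⟨m, hm, -⟩ := D.bt.third i₁ i₁
  obtain ⟨x, hx, ex⟩ := D.bt.trans_X_one i₁ m
  have hxP : x ∈ XX V R ⊔ B := mem_sup_left hx
  have hxB : x ∉ B := fun h => hm (D.bt.R_index (ex.symm.trans ((D.nod.mem_B_iff D.bt hxP).1 h)))
  obtain ⟨u, hu, w, hw, hn₁H⟩ := exists_n_of D.hall le_sup_right D.ptr₁ hxP hxB
  obtain ⟨u', hu', w', hw', hn₂H⟩ := exists_n_of D.hall D.le₂ D.ptr₂ hy hyB
  have hUB := D.nod.U_le
  set n₁ := u * x * w with hn₁def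
  have hn₁ : n₁ ∈ XX V R ⊔ B := mul_mem (mul_mem (mem_sup_right (hUB hu)) hxP) (mem_sup_right (hUB hw))
  have hn₁U : n₁ ∈ XX V R ⊔ U := mul_mem (mul_mem (mem_sup_right hu) (mem_sup_left hx)) (mem_sup_right hw)
  have hn₁B : n₁ ∉ B := fun h => hxB (by
    have := mul_mem (mul_mem (inv_mem (hUB hu)) h) (inv_mem (hUB hw))
    have e : u⁻¹ * n₁ * w⁻¹ = x := by rw [hn₁def]; group
    rwa [e] at this)
  have hn₂ : u' * y * w' ∈ P₂ := mul_mem (mul_mem (D.le₂ (hUB hu')) hy) (D.le₂ (hUB hw'))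
  have hn₂B : u' * y * w' ∉ B := fun h => hyB (by
    have := mul_mem (mul_mem (inv_mem (hUB hu')) h) (inv_mem (hUB hw'))
    have e : u'⁻¹ * (u' * y * w') * w'⁻¹ = y := by group
    rwa [e] at this)
  have key : ∀ {n : G} {k : ι}, n ∈ XX V R ⊔ B → n ∉ B → n ∈ normalizer (H : Set G) → cj n (R i₁) = R k →
      i₁ ≠ k ∧ H ≤ normalizer (R k : Set G) := by
    intro n k hn hnB hnH hk
    refine ⟨?_, ?_⟩
    · rintro rfl
      exact hnB ((D.nod.mem_B_iff D.bt hn).2 hk)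
    · intro h hh
      rw [← cj_eq_self_iff, ← hk, ← cj_mul]
      have h1 := conj_inv_mem_of_normalizer hnH hh
      have h2 := cj_eq_self_iff.2 (D.nod.B_R (D.hall.H_le h1))
      have e : h * n = n * (n⁻¹ * h * n) := by group
      rw [e, cj_mul, h2]
  obtain ⟨k, hk⟩ := D.nod.exists_k D.bt hn₁
  obtain ⟨l, hl⟩ := D.nod.exists_k D.bt (inv_mem hn₁)
  obtain ⟨k1, k2⟩ := key hn₁ hn₁B hn₁H hk
  obtain ⟨l1, l2⟩ := key (inv_mem hn₁) (fun h => hn₁B (by simpa using inv_mem h)) (inv_mem hn₁H) hl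
  have hkl := D.fixed_unique k1 l1 k2 l2
  subst hkl
  refine ⟨k, n₁, u' * y * w', ⟨k1, k2, hn₁, hn₁U, hn₁B, hn₁H, hn₂, hn₂B, hn₂H, ?_, ?_⟩, u', hu', w', hw', rfl⟩
  · rw [rc_eq_cj, hl]
  · rw [← hk, rc_cj]

theorem exists_fr : ∃ i₂ n₁ n₂, Fr V R U B H P₂ i₁ i₂ n₁ n₂ := by
  obtain ⟨y, hy, -, -, hyB, -, -⟩ := D.three₂
  obtain ⟨i₂, n₁, n₂, E, -⟩ := D.exists_fr_of hy hyB
  exact ⟨i₂, n₁, n₂, E⟩

/-- the reflections, `n₂` centralises `R i₁` -/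
theorem exists_fr_cen (hC : P₂ ≤ (P₂ ⊓ centralizer (R i₁ : Set G)) ⊔ B) :
    ∃ i₂ n₁ n₂, Fr V R U B H P₂ i₁ i₂ n₁ n₂ ∧ n₂ ∈ centralizer (R i₁ : Set G) := by
  have h1 : ∃ y ∈ P₂ ⊓ centralizer (R i₁ : Set G), y ∉ B := by
    by_contra hc
    push Not at hc
    obtain ⟨y, hy, -, -, hyB, -, -⟩ := D.three₂
    exact hyB ((hC.trans (sup_le hc le_rfl)) hy)
  obtain ⟨y, hy, hyB⟩ := h1
  obtain ⟨i₂, n₁, n₂, E, u, hu, w, hw, rfl⟩ := D.exists_fr_of (mem_inf.1 hy).1 hyB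
  have hU : U ≤ centralizer (R i₁ : Set G) := by
    intro u hu
    rw [mem_centralizer_iff]
    intro r hr
    have := D.nod.UR u hu r hr
    rw [mul_inv_eq_iff_eq_mul] at this
    exact this.symm
  exact ⟨i₂, n₁, _, E, mul_mem (mul_mem (hU hu) (mem_inf.1 hy).2) (hU hw)⟩

variable {i₂ : ι} {n₁ n₂ : G} (E : Fr V R U B H P₂ i₁ i₂ n₁ n₂)
include E

theorem n₁_sq : n₁ * n₁ ∈ B := sq_mem_of_norm D.hall D.ptr₁ D.fix₁ le_sup_right E.n₁_mem E.n₁_not E.n₁_H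

theorem n₂_sq : n₂ * n₂ ∈ B := sq_mem_of_norm D.hall D.ptr₂ D.fix₂ D.le₂ E.n₂_mem E.n₂_not E.n₂_H

/-- an element of `B` normalising `H` fixes `R i₂` -/
theorem norm_R₂ {c : G} (hc : c ∈ B) (hcH : c ∈ normalizer (H : Set G)) : cj c (R i₂) = R i₂ := by
  obtain ⟨k, hk⟩ := D.bt.perm c (D.nod.B_V hc) i₂
  have h1 : i₁ ≠ k := by
    rintro rfl
    have h2 := cj_eq_self_iff.2 (D.nod.B_R hc)
    exact E.ne (D.bt.R_index (cj_injective (h2.trans hk.symm)))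
  have h2 : H ≤ normalizer (R k : Set G) := by
    intro h hh
    rw [← cj_eq_self_iff, ← hk, ← cj_mul]
    have h3 := conj_inv_mem_of_normalizer hcH hh
    have h4 := cj_eq_self_iff.2 (E.H_R h3)
    have e : h * c = c * (c⁻¹ * h * c) := by group
    rw [e, cj_mul, h4]
  rw [hk, D.fixed_unique h1 E.ne h2 E.H_R]

theorem n₂_R : rc (R i₁) n₂ = R i₁ := rc_eq_of_mem_normalizer (D.P₂_R E.n₂_mem)

theorem n₂_V : n₂ ∉ normalizer (V : Set G) := fun h => E.n₂_not (D.NV₂ ⟨E.n₂_mem, h⟩)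

theorem n₁_V : n₁ ∈ normalizer (V : Set G) := D.nod.P_V D.bt E.n₁_mem

theorem V_eq : V = R i₁ ⊔ R i₂ := (D.bt.R_sup i₁ i₂ E.ne).symm

/-- the inverse of `n₁` -/
theorem n₁_1' : rc (R i₁) n₁⁻¹ = R i₂ := by
  rw [← E.n₁_2, rc_rc, mul_inv_cancel, rc_one]

theorem n₁_2' : rc (R i₂) n₁⁻¹ = R i₁ := by
  rw [← E.n₁_1, rc_rc, mul_inv_cancel, rc_one]

theorem U₁_n₁ : rc (UU V R i₁) n₁ = UU V R i₂ := by
  rw [rc_eq_cj]
  refine D.bt.cj_UU (inv_mem (D.n₁_V E)) ?_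
  rw [← rc_eq_cj, E.n₁_1]

theorem U₂_n₁ : rc (UU V R i₂) n₁ = UU V R i₁ := by
  rw [rc_eq_cj]
  refine D.bt.cj_UU (inv_mem (D.n₁_V E)) ?_
  rw [← rc_eq_cj, E.n₁_2]

theorem W₁_n₁ : rc (WW V (R i₁)) n₁ = WW V (R i₂) := by
  rw [rc_eq_cj]
  refine D.bt.cj_WW ?_
  rw [← rc_eq_cj, E.n₁_1]

theorem W₁_n₂ : rc (WW V (R i₁)) n₂ = WW V (R i₁) :=
  rc_eq_of_mem_normalizer (normalizer_le_WW V (R i₁) (D.P₂_R E.n₂_mem))

/-- `H` normalises `U₁` -/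
theorem B_U₁ : B ≤ normalizer (UU V R i₁ : Set G) := by
  intro x hx
  rw [← cj_eq_self_iff]
  exact D.bt.cj_UU (D.nod.B_V hx) (cj_eq_self_iff.2 (D.nod.B_R hx))

theorem U₁_sq : rc (UU V R i₁) (n₂ * n₂) = UU V R i₁ :=
  rc_eq_of_mem_normalizer (D.B_U₁ E (D.n₂_sq E))

theorem U₁_n₂_le : rc (UU V R i₁) n₂ ≤ WW V (R i₁) := by
  rw [← D.W₁_n₂ E]
  exact rc_mono (UU_le_WW i₁) n₂

theorem U₁_n₂_inv : rc (UU V R i₁) n₂⁻¹ = rc (UU V R i₁) n₂ := by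
  conv_lhs => rw [← D.U₁_sq E]
  rw [rc_rc, mul_assoc, mul_inv_cancel, mul_one]

/-- `H` normalises `U₁^n₂` -/
theorem H_U₁ {h : G} (hh : h ∈ H) : rc (rc (UU V R i₁) n₂) h = rc (UU V R i₁) n₂ := by
  have h1 : n₂ * h * n₂⁻¹ ∈ H := conj_mem_of_normalizer E.n₂_H hh
  have h2 := rc_eq_of_mem_normalizer (D.B_U₁ E (D.hall.H_le h1))
  have e : n₂ * h = (n₂ * h * n₂⁻¹) * n₂ := by group
  rw [rc_rc, e, ← rc_rc, h2]

/-- `U₁` and its conjugate generate `W₁` -/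
theorem cover₁ [Finite F] (hU : ¬ rc (UU V R i₁) n₂ ≤ centralizer (V : Set G)) {w : G}
    (hw : w ∈ WW V (R i₁)) : ∃ x ∈ rc (UU V R i₁) n₂, x⁻¹ * w ∈ UU V R i₁ := by
  obtain ⟨v, w1, w2, c⟩ := D.coord i₂ E.ne
  obtain ⟨x, hx, hxV⟩ := Set.not_subset.1 hU
  have hxV : x ∉ centralizer (V : Set G) := hxV
  have hxW := D.U₁_n₂_le E hx
  obtain ⟨a, ha⟩ := c.W1_act x hxW
  obtain ⟨d, hd⟩ := c.W1_act w hw
  have ha0 : a ≠ 0 := by
    rintro rfl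
    apply hxV
    rw [mem_centralizer_iff]
    intro y hy
    obtain ⟨p, q, rfl⟩ := (c.mem_V y).1 hy
    have := ha p q
    rw [zero_mul, add_zero, mul_inv_eq_iff_eq_mul] at this
    exact this.symm
  by_cases hd0 : d = 0
  · refine ⟨1, one_mem _, ?_⟩
    rw [inv_one, one_mul]
    refine mem_inf.2 ⟨hw, ?_⟩
    rw [mem_centralizer_iff]
    intro y hy
    obtain ⟨p, q, rfl⟩ := (c.mem_V y).1 hy
    have := hd p q
    rw [hd0, zero_mul, add_zero, mul_inv_eq_iff_eq_mul] at this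
    exact this.symm
  -- `s² a = d`
  obtain ⟨s, hs⟩ := FiniteField.isSquare_of_char_two (F := F) (ringChar.eq F 2) (d / a)
  have hs' : s * s * a = d := by rw [← hs]; field_simp
  have hs0 : s ≠ 0 := by
    rintro rfl
    apply hd0
    rw [← hs', zero_mul, zero_mul]
  obtain ⟨h, hh', hact, -⟩ := D.exists_tor E.ne E.H_R c hs0
  have h1 : h * x * h⁻¹ ∈ rc (UU V R i₁) n₂ := by
    have h2 := D.H_U₁ E (inv_mem hh')
    rw [← h2, mem_rc]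
    have e : h⁻¹ * (h * x * h⁻¹) * h⁻¹⁻¹ = x := by group
    rwa [e]
  have hactinv : ∀ p q, h⁻¹ * v p q * h = v (s⁻¹ * p) (s * q) := by
    intro p q
    have h2 := hact (s⁻¹ * p) (s * q)
    rw [← mul_assoc, ← mul_assoc, mul_inv_cancel₀ hs0, inv_mul_cancel₀ hs0, one_mul, one_mul] at h2
    rw [← h2]; group
  refine ⟨_, h1, ?_⟩
  refine mem_inf.2 ⟨mul_mem (inv_mem (D.U₁_n₂_le E h1)) hw, ?_⟩
  -- the action of `h x h⁻¹` is that of `w`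
  have h2 : ∀ p q, h * x * h⁻¹ * v p q * (h * x * h⁻¹)⁻¹ = v (p + d * q) q := by
    intro p q
    have e : h * x * h⁻¹ * v p q * (h * x * h⁻¹)⁻¹ = h * (x * (h⁻¹ * v p q * h) * x⁻¹) * h⁻¹ := by group
    rw [e, hactinv, ha, hact]
    congr 1
    · rw [mul_add, ← mul_assoc, mul_inv_cancel₀ hs0, one_mul, ← hs']; ring
    · rw [← mul_assoc, inv_mul_cancel₀ hs0, one_mul]
  rw [mem_centralizer_iff]
  intro y hy
  obtain ⟨p, q, rfl⟩ := (c.mem_V y).1 hy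
  have h3 : w * v p q * w⁻¹ = h * x * h⁻¹ * v p q * (h * x * h⁻¹)⁻¹ := by rw [hd, h2]
  generalize h * x * h⁻¹ = z at h3
  have h4 : z⁻¹ * w * v p q = v p q * (z⁻¹ * w) := by
    have h5 : w * v p q = z * v p q * z⁻¹ * w := by rw [← h3]; group
    calc z⁻¹ * w * v p q = z⁻¹ * (w * v p q) := by group
      _ = z⁻¹ * (z * v p q * z⁻¹ * w) := by rw [h5]
      _ = v p q * (z⁻¹ * w) := by group
  exact h4.symm

/-- `U = U₁^n₂ C_U(V)` -/
theorem cover_U [Finite F] (hU : ¬ rc (UU V R i₁) n₂ ≤ centralizer (V : Set G)) {u : G} (hu : u ∈ U) :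
    ∃ x ∈ rc (UU V R i₁) n₂, x⁻¹ * u ∈ U ∧ x⁻¹ * u ∈ centralizer (V : Set G) := by
  obtain ⟨k, hk⟩ := D.bt.perm u (D.nod.B_V (D.nod.U_le hu)) i₂
  have hk1 : k ≠ i₁ := by
    rintro rfl
    have h2 := cj_eq_self_iff.2 (D.nod.B_R (D.nod.U_le hu))
    exact E.ne (D.bt.R_index (cj_injective (h2.trans hk.symm)))
  obtain ⟨w, hw, e⟩ := D.bt.trans i₁ (Ne.symm E.ne) hk1
  obtain ⟨x, hx, hxw⟩ := D.cover₁ E hU hw
  have hxU : x ∈ U := D.nod.W_le (D.U₁_n₂_le E hx)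
  refine ⟨x, hx, mul_mem (inv_mem hxU) hu, ?_⟩
  have h1 : w⁻¹ * u ∈ U := mul_mem (inv_mem (D.nod.W_le hw)) hu
  have h2 : w⁻¹ * u ∈ centralizer (V : Set G) := by
    refine D.nod.cen_of_fix D.bt h1 (Ne.symm E.ne) ?_
    rw [cj_mul, hk, ← e, cj_inv_cj]
  have := mul_mem (UU_le_cen i₁ hxw) h2
  have e : x⁻¹ * w * (w⁻¹ * u) = x⁻¹ * u := by group
  rwa [e] at this

/-- the action of `n₁` on `V` -/
theorem n₁_act {v : F → F → G} {w1 w2 : F → G} (c : Coord V R i₁ i₂ v w1 w2) {b : G} {p s : F}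
    (hact : ∀ x y, b * v x y * b⁻¹ = v (p * x) (s * y)) (x y : F) :
    n₁ * b * n₁⁻¹ * v x y * (n₁ * b * n₁⁻¹)⁻¹ = v (s * x) (p * y) := by
  -- `n₁ = z u`, `z ∈ X`, and `U` acts as `W₁`
  have hXU : ∀ g ∈ XX V R ⊔ U, ∃ A, ActV v g A := by
    intro g hg
    have hn : U ≤ normalizer (XX V R : Set G) := D.nod.U_le.trans (D.nod.B_X D.bt)
    rw [sup_comm] at hg
    obtain ⟨z, hz, u, hu, rfl⟩ := Solvable.Glauberman.exists_mul_of_mem_sup U (XX V R) hn hg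
    obtain ⟨A, hA⟩ := c.exists_actV D.bt hz
    -- `u = w c`
    obtain ⟨k, hk⟩ := D.bt.perm u (D.nod.B_V (D.nod.U_le hu)) i₂
    have hk1 : k ≠ i₁ := by
      rintro rfl
      have h2 := cj_eq_self_iff.2 (D.nod.B_R (D.nod.U_le hu))
      exact E.ne (D.bt.R_index (cj_injective (h2.trans hk.symm)))
    obtain ⟨w, hw, e⟩ := D.bt.trans i₁ (Ne.symm E.ne) hk1
    have h1 : w⁻¹ * u ∈ U := mul_mem (inv_mem (D.nod.W_le hw)) hu
    have h2 : w⁻¹ * u ∈ centralizer (V : Set G) := by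
      refine D.nod.cen_of_fix D.bt h1 (Ne.symm E.ne) ?_
      rw [cj_mul, hk, ← e, cj_inv_cj]
    obtain ⟨A', hA'⟩ := c.exists_actV D.bt (W_le_X V R i₁ hw)
    have h3 : ActV v (w⁻¹ * u) 1 := (c.actV_one_iff).2 h2
    have h4 := hA'.mul h3
    rw [mul_inv_cancel_left] at h4
    exact ⟨_, hA.mul h4⟩
  obtain ⟨A, hA⟩ := hXU n₁ E.n₁_XU
  have h1 : cj n₁ (R i₁) = R i₂ := cj_eq_iff_rc.2 E.n₁_2
  have h2 : cj n₁ (R i₂) = R i₁ := cj_eq_iff_rc.2 E.n₁_1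
  have h00 : ent A 0 0 = 0 := by
    have h3 : n₁ * v 1 0 * n₁⁻¹ ∈ R i₂ := by rw [← h1]; exact conj_mem_cj ((c.mem_R1 _).2 ⟨1, rfl⟩)
    rw [hA, mul_one, mul_zero, add_zero, mul_one, mul_zero, add_zero] at h3
    obtain ⟨d, hd⟩ := (c.mem_R2 _).1 h3
    exact (c.v_inj hd).1.symm
  have h11 : ent A 1 1 = 0 := by
    have h3 : n₁ * v 0 1 * n₁⁻¹ ∈ R i₁ := by rw [← h2]; exact conj_mem_cj ((c.mem_R2 _).2 ⟨1, rfl⟩)
    rw [hA, mul_one, mul_zero, zero_add, mul_one, mul_zero, zero_add] at h3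
    obtain ⟨d, hd⟩ := (c.mem_R1 _).1 h3
    exact (c.v_inj hd).2.symm
  have hdet := det_eq A
  rw [h00, zero_mul, zero_sub] at hdet
  have hinv := hA.inv x y
  rw [ent_inv A, mk_00, mk_01, mk_10, mk_11, h00, h11] at hinv
  have e : n₁ * b * n₁⁻¹ * v x y * (n₁ * b * n₁⁻¹)⁻¹ = n₁ * (b * (n₁⁻¹ * v x y * n₁⁻¹⁻¹) * b⁻¹) * n₁⁻¹ := by group
  rw [e, hinv, hact, hA, h00, h11]
  congr 1
  · linear_combination s * x * hdet
  · linear_combination p * y * hdet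

end Base

end Cfsg.Agent.Omega.HOne.End
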