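import Cfsg.Agent.RankTwoClose.Braid
import Cfsg.Agent.Solvable.Glauberman

/-!
# II.0h1, END: braid relations from a kernel which is central modulo a subgroup of the Borel subgroup

`CenMod L C J`: `C` and `J` are normal in `L` and `C / J` is central.  `braid_three`, `braid_four`: the braid relations
of length three and four in a `RankTwoClose.Frame` from relations which are known modulo `C`.
-/

set_option autoImplicit false

namespace Cfsg.Agent.Omega.HOne.End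

open Subgroup Cfsg.Agent.RankTwoClose
open scoped commutatorElement

variable {G : Type*} [Group G]

/-- `C` is normal in `L` and central modulo the normal subgroup `J` of `L`. -/
structure CenMod (L C J : Subgroup G) : Prop where
  C_le : C ≤ L
  J_le : J ≤ L
  J_norm : ∀ x ∈ L, ∀ c ∈ J, x * c * x⁻¹ ∈ J
  comm : ∀ x ∈ L, ∀ c ∈ C, x * c * x⁻¹ * c⁻¹ ∈ J

namespace CenMod

variable {L C J : Subgroup G} (h : CenMod L C J)

include h

theorem comm_inv {x c : G} (hx : x ∈ L) (hc : c ∈ C) : x * c⁻¹ * x⁻¹ * c ∈ J := by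
  have := h.comm x hx c⁻¹ (inv_mem hc)
  rwa [inv_inv] at this

theorem norm' {x c : G} (hx : x ∈ L) (hc : c ∈ J) : x⁻¹ * c * x ∈ J := by
  have := h.J_norm x⁻¹ (inv_mem hx) c hc
  rwa [inv_inv] at this

/-- Commutators do not change modulo `J` if the entries are multiplied by elements of `C`. -/
theorem commutator_mul {c c' d d' : G} (hc : c ∈ C) (hc' : c' ∈ C) (hd : d ∈ L) (hd' : d' ∈ L) :
    ⁅c * d, c' * d'⁆ * ⁅d, d'⁆⁻¹ ∈ J := by
  have hcL := h.C_le hc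
  have hcL' := h.C_le hc'
  have j1 := h.comm d hd c' hc'
  have j2 := h.comm_inv (x := d * d' * d⁻¹) (mul_mem (mul_mem hd hd') (inv_mem hd)) hc
  have j3 := h.comm_inv (x := ⁅d, d'⁆) (by
    rw [commutatorElement_def]
    exact mul_mem (mul_mem (mul_mem hd hd') (inv_mem hd)) (inv_mem hd')) hc'
  have j4 := h.comm c hcL c' hc'
  have k1 := h.J_norm c hcL _ j1
  have k2 := h.J_norm (c * c') (mul_mem hcL hcL') _ j2
  have k3 := h.J_norm (c * c' * c⁻¹) (mul_mem (mul_mem hcL hcL') (inv_mem hcL)) _ j3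
  have := mul_mem (mul_mem (mul_mem k1 k2) k3) j4
  have e : c * (d * c' * d⁻¹ * c'⁻¹) * c⁻¹ *
      (c * c' * (d * d' * d⁻¹ * c⁻¹ * (d * d' * d⁻¹)⁻¹ * c) * (c * c')⁻¹) *
      (c * c' * c⁻¹ * (⁅d, d'⁆ * c'⁻¹ * ⁅d, d'⁆⁻¹ * c') * (c * c' * c⁻¹)⁻¹) *
      (c * c' * c⁻¹ * c'⁻¹) = ⁅c * d, c' * d'⁆ * ⁅d, d'⁆⁻¹ := by
    simp only [commutatorElement_def]
    group
  rwa [e] at this

/-- `C` is normal in `L` if `J ≤ C`. -/
theorem C_norm (hJ : J ≤ C) {x c : G} (hx : x ∈ L) (hc : c ∈ C) : x * c * x⁻¹ ∈ C := by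
  have := mul_mem (hJ (h.comm x hx c hc)) hc
  rwa [inv_mul_cancel_right] at this

theorem commutator_sup (hJ : J ≤ C) {D : Subgroup G} (hD : D ≤ L) : ⁅D ⊔ C, D ⊔ C⁆ ≤ ⁅D, D⁆ ⊔ J := by
  have hn : D ≤ normalizer (C : Set G) := by
    intro x hx
    rw [Subgroup.mem_normalizer_iff]
    intro c
    refine ⟨h.C_norm hJ (hD hx), fun hc => ?_⟩
    have := h.C_norm hJ (inv_mem (hD hx)) hc
    have e : x⁻¹ * (x * c * x⁻¹) * x⁻¹⁻¹ = c := by group
    rwa [e] at this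
  rw [Subgroup.commutator_le]
  intro x hx y hy
  obtain ⟨c, hc, d, hd, rfl⟩ := Solvable.Glauberman.exists_mul_of_mem_sup D C hn hx
  obtain ⟨c', hc', d', hd', rfl⟩ := Solvable.Glauberman.exists_mul_of_mem_sup D C hn hy
  have h1 := h.commutator_mul hc hc' (hD hd) (hD hd')
  have h2 : ⁅d, d'⁆ ∈ ⁅D, D⁆ := Subgroup.commutator_mem_commutator hd hd'
  have h3 := mul_mem ((le_sup_right : J ≤ ⁅D, D⁆ ⊔ J) h1) ((le_sup_left : ⁅D, D⁆ ≤ _ ⊔ J) h2)
  rwa [inv_mul_cancel_right] at h3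

/-- If `t` centralises the perfect group `M` modulo `C`, then it centralises it modulo `J`. -/
theorem perfect {M : Subgroup G} (hM : M ≤ L) (hp : ⁅M, M⁆ = M) {t : G} (_ : t ∈ L)
    (hc : ∀ m ∈ M, t * m * t⁻¹ * m⁻¹ ∈ C) {m : G} (hm : m ∈ M) : t * m * t⁻¹ * m⁻¹ ∈ J := by
  let K : Subgroup G :=
    { carrier := {x | x ∈ L ∧ t * x * t⁻¹ * x⁻¹ ∈ J}
      one_mem' := ⟨one_mem _, by simp⟩
      mul_mem' := by
        rintro a b ⟨ha, ha'⟩ ⟨hb, hb'⟩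
        refine ⟨mul_mem ha hb, ?_⟩
        have h1 := mul_mem ha' (h.J_norm a ha _ hb')
        have e : t * a * t⁻¹ * a⁻¹ * (a * (t * b * t⁻¹ * b⁻¹) * a⁻¹) = t * (a * b) * t⁻¹ * (a * b)⁻¹ := by group
        rwa [e] at h1
      inv_mem' := by
        rintro a ⟨ha, ha'⟩
        refine ⟨inv_mem ha, ?_⟩
        have h1 := h.norm' ha (inv_mem ha')
        have e : a⁻¹ * (t * a * t⁻¹ * a⁻¹)⁻¹ * a = t * a⁻¹ * t⁻¹ * a⁻¹⁻¹ := by group
        rwa [e] at h1 }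
  have key : ⁅M, M⁆ ≤ K := by
    rw [Subgroup.commutator_le]
    intro x hx y hy
    have hxL := hM hx
    have hyL := hM hy
    refine ⟨by
      rw [commutatorElement_def]
      exact mul_mem (mul_mem (mul_mem hxL hyL) (inv_mem hxL)) (inv_mem hyL), ?_⟩
    have h1 := h.commutator_mul (hc x hx) (hc y hy) hxL hyL
    have e : ⁅t * x * t⁻¹ * x⁻¹ * x, t * y * t⁻¹ * y⁻¹ * y⁆ * ⁅x, y⁆⁻¹ = t * ⁅x, y⁆ * t⁻¹ * ⁅x, y⁆⁻¹ := by
      simp only [commutatorElement_def]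
      group
    rwa [e] at h1
  rw [hp] at key
  exact (key hm).2

end CenMod

/-- `Bf` : a subgroup of `B` normalised by the reflections (the elements of `B` fixing the whole frame). -/
structure FixPart (F : Frame G) (Bf : Subgroup G) : Prop where
  le : Bf ≤ F.B
  norm : ∀ i, F.n i ∈ normalizer (Bf : Set G)

namespace FixPart

variable {F : Frame G} {Bf : Subgroup G} (hf : FixPart F Bf)

include hf

theorem conj (i : Bool) {b : G} (hb : b ∈ Bf) : F.n i * b * (F.n i)⁻¹ ∈ Bf :=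
  (Subgroup.mem_normalizer_iff.1 (hf.norm i) b).1 hb

theorem conj' (i : Bool) {b : G} (hb : b ∈ Bf) : (F.n i)⁻¹ * b * F.n i ∈ Bf := by
  have := (Subgroup.mem_normalizer_iff.1 (inv_mem (hf.norm i)) b).1 hb
  rwa [inv_inv] at this

end FixPart

variable (F : Frame G)

theorem braid_of_conj {m : ℕ} {i : Bool}
    (hm : (alt F.n (!i) m)⁻¹ * F.n i * alt F.n (!i) m ∈ F.P (nxt (!i) m)) : F.Braid (m + 1) :=
  F.braid_of_mem (i := i) (l := F.n i) (by rw [inv_mul_cancel]; exact one_mem _) hm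

/-- **The braid relation of length three**: `D ≤ P i` is conjugate, modulo `C`, to `D' ≤ P (!i)` under
`w = n (!i) n i`; `n i` lies in `[D, D] Bf`. -/
theorem braid_three {L C J Bf D D' : Subgroup G} (h : CenMod L C J) (hJC : J ≤ C) (hJ : J ≤ F.B)
    (hf : FixPart F Bf) (i : Bool) (hD' : D' ≤ F.P (!i)) (hD'L : D' ≤ L)
    (hconj : ∀ x ∈ D, (F.n (!i) * F.n i)⁻¹ * x * (F.n (!i) * F.n i) ∈ D' ⊔ C)
    {l : G} (hl : l ∈ ⁅D, D⁆) (hb : (F.n i)⁻¹ * l ∈ Bf) : F.Braid 3 := by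
  have hw : alt F.n (!i) 2 = F.n (!i) * F.n i := by simp [alt_succ]
  apply braid_of_conj F (m := 2) (i := i)
  have hnxt : nxt (!i) 2 = !i := by simp [nxt]
  rw [hnxt, hw]
  set w := F.n (!i) * F.n i with hwdef
  -- `w⁻¹ l w ∈ P (!i)`
  have h1 : ⁅D, D⁆ ≤ (⁅D' ⊔ C, D' ⊔ C⁆ : Subgroup G).comap (MulAut.conj w⁻¹).toMonoidHom := by
    rw [Subgroup.commutator_le]
    intro x hx y hy
    rw [Subgroup.mem_comap]
    have e : (MulAut.conj w⁻¹).toMonoidHom ⁅x, y⁆ = ⁅w⁻¹ * x * w, w⁻¹ * y * w⁆ := by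
      rw [MulEquiv.coe_toMonoidHom, map_commutatorElement, MulAut.conj_apply, MulAut.conj_apply, inv_inv]
    rw [e]
    exact Subgroup.commutator_mem_commutator (hconj x hx) (hconj y hy)
  have h2 : w⁻¹ * l * w ∈ ⁅D' ⊔ C, D' ⊔ C⁆ := by
    have := h1 hl
    rw [Subgroup.mem_comap] at this
    have e : (MulAut.conj w⁻¹).toMonoidHom l = w⁻¹ * l * w := by
      rw [MulEquiv.coe_toMonoidHom, MulAut.conj_apply, inv_inv]
    rwa [e] at this
  have h3 : w⁻¹ * l * w ∈ F.P (!i) := by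
    refine (sup_le ?_ (hJ.trans (F.B_le _))) (h.commutator_sup hJC hD'L h2)
    exact (Subgroup.commutator_le.2 fun x hx y hy => by
      rw [commutatorElement_def]
      exact mul_mem (mul_mem (mul_mem (hD' hx) (hD' hy)) (inv_mem (hD' hx))) (inv_mem (hD' hy)))
  -- `w⁻¹ b w ∈ B`
  have h4 : w⁻¹ * ((F.n i)⁻¹ * l) * w ∈ F.B := by
    have := hf.le (hf.conj' i (hf.conj' (!i) hb))
    have e : (F.n i)⁻¹ * ((F.n (!i))⁻¹ * ((F.n i)⁻¹ * l) * F.n (!i)) * F.n i =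
        w⁻¹ * ((F.n i)⁻¹ * l) * w := by rw [hwdef]; group
    rwa [e] at this
  have h5 := mul_mem h3 (F.B_le (!i) (inv_mem h4))
  have e : w⁻¹ * l * w * (w⁻¹ * ((F.n i)⁻¹ * l) * w)⁻¹ = w⁻¹ * F.n i * w := by group
  rwa [e] at h5

/-- **The braid relation of length four**: `M ≤ P i` perfect, `l ∈ M` represents the reflection `n i`, and the
conjugate of `l` under `n (!i)` centralises `M` modulo `C`. -/
theorem braid_four {L C J Bf M : Subgroup G} (h : CenMod L C J) (hJ : J ≤ F.B)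
    (hf : FixPart F Bf) (i : Bool) (hM : M ≤ F.P i) (hML : M ≤ L) (hp : ⁅M, M⁆ = M)
    {l : G} (hl : l ∈ M) (hb : (F.n i)⁻¹ * l ∈ Bf) (hsq : F.n (!i) * F.n (!i) ∈ Bf)
    (hlL : (F.n (!i))⁻¹ * l * F.n (!i) ∈ L)
    (hcomm : ∀ m ∈ M, ((F.n (!i))⁻¹ * l * F.n (!i)) * m * ((F.n (!i))⁻¹ * l * F.n (!i))⁻¹ * m⁻¹ ∈ C) :
    F.Braid 4 := by
  have hw : alt F.n (!i) 3 = F.n (!i) * (F.n i * F.n (!i)) := by simp [alt_succ]
  apply braid_of_conj F (m := 3) (i := i)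
  have hnxt : nxt (!i) 3 = i := by simp [nxt]
  rw [hnxt, hw]
  set s := F.n (!i) with hs
  set t := F.n i with ht
  set l' := s⁻¹ * l * s with hl'
  have h1 : l' * l * l'⁻¹ * l⁻¹ ∈ J := h.perfect hML hp hlL hcomm hl
  -- `l'⁻¹ l l' ∈ P i`
  have h2 : l'⁻¹ * l * l' ∈ F.P i := by
    have h3 := F.B_le i (hJ (h.norm' hlL h1))
    -- `l'⁻¹ (l' l l'⁻¹ l⁻¹) l' = l l'⁻¹ l⁻¹ l'`
    have h4 := mul_mem (inv_mem h3) (hM hl)
    have e : (l'⁻¹ * (l' * l * l'⁻¹ * l⁻¹) * l')⁻¹ * l = l'⁻¹ * l * l' := by group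
    rwa [e] at h4
  -- conjugation by `l'` maps `Bf` into `Bf`
  have hBf : ∀ b ∈ Bf, l'⁻¹ * b * l' ∈ Bf := by
    intro b hb'
    have k1 := (Subgroup.mem_normalizer_iff.1 (hf.norm (!i)) b).1 hb'
    have k2 := hf.conj' i k1
    have k3 := mul_mem (mul_mem (inv_mem hb) k2) hb
    have k4 := hf.conj' (!i) k3
    have e : (F.n (!i))⁻¹ * (((F.n i)⁻¹ * l)⁻¹ * ((F.n i)⁻¹ * (F.n (!i) * b * (F.n (!i))⁻¹) * F.n i) *
        ((F.n i)⁻¹ * l)) * F.n (!i) = l'⁻¹ * b * l' := by rw [hl', hs]; group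
    rwa [e] at k4
  -- `w = s² l' b'`
  have hb' : s⁻¹ * ((t⁻¹ * l)⁻¹) * s ∈ Bf := hf.conj' (!i) (inv_mem hb)
  set b' := s⁻¹ * ((t⁻¹ * l)⁻¹) * s with hb'def
  have hwe : s * (t * s) = s * s * l' * b' := by rw [hb'def, hl']; group
  -- `y = t⁻¹ (s²)⁻¹ t s²`
  have hy : t⁻¹ * (s * s)⁻¹ * t * (s * s) ∈ Bf := mul_mem (hf.conj' i (inv_mem hsq)) hsq
  have h5 := hBf _ (mul_mem (inv_mem hb) hy)
  have h6 := mul_mem (mul_mem (F.B_le i (hf.le (inv_mem hb'))) (mul_mem h2 (F.B_le i (hf.le h5))))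
    (F.B_le i (hf.le hb'))
  have e : b'⁻¹ * (l'⁻¹ * l * l' * (l'⁻¹ * ((t⁻¹ * l)⁻¹ * (t⁻¹ * (s * s)⁻¹ * t * (s * s))) * l')) * b' =
      (s * (t * s))⁻¹ * t * (s * (t * s)) := by
    rw [hwe]
    group
  rwa [e] at h6

end Cfsg.Agent.Omega.HOne.End
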