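import Cfsg.Agent.Omega.HOne.EndPlane

/-!
# II.0h1, END: the residue of type C2, and the PATH conditions

`braid_quad`: the braid relation of length four for the residue `Sp4(q)` from the frame `R₁, R₂, R₋₂, R₋₁` of `V / Z`.
`path_three`, `path_four`: the conditions `PathTo k` for `k < 3`, `k < 4`.
-/

set_option autoImplicit false

namespace Cfsg.Agent.Omega.HOne.End

open Subgroup Cfsg.Agent.RankTwoClose
open scoped commutatorElement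

variable {G : Type*} [Group G]

/-- Elements which act on complementary pieces commute modulo the kernel. -/
theorem comm_of_pieces {L A B Z : Subgroup G} (hZ : ∀ g ∈ L, ∀ z ∈ Z, g * z = z * g) (hZL : Z ≤ L) (hAL : A ≤ L) (hBL : B ≤ L)
    {g h : G} (hg : g ∈ L) (hh : h ∈ L)
    (gA : ∀ r ∈ A, r⁻¹ * (g⁻¹ * r * g) ∈ Z) (gB : ∀ r ∈ B, g⁻¹ * r * g ∈ B ⊔ Z)
    (hB : ∀ r ∈ B, r⁻¹ * (h⁻¹ * r * h) ∈ Z) (hA : ∀ r ∈ A, h⁻¹ * r * h ∈ A ⊔ Z) :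
    ∀ r ∈ A ⊔ B ⊔ Z, r⁻¹ * ((h * g * h⁻¹ * g⁻¹)⁻¹ * r * (h * g * h⁻¹ * g⁻¹)) ∈ Z := by
  -- conjugation is trivial on `Z`
  have cz : ∀ x ∈ L, ∀ z ∈ Z, x⁻¹ * z * x = z := by
    intro x hx z hz
    have := hZ x hx z hz
    calc x⁻¹ * z * x = x⁻¹ * (z * x) := by group
      _ = x⁻¹ * (x * z) := by rw [this]
      _ = z := by group
  have hZn : ∀ x ∈ L, ∀ z ∈ Z, x⁻¹ * z * x ∈ Z := fun x hx z hz => by rw [cz x hx z hz]; exact hz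
  -- the set of `r` on which `x` is trivial modulo `Z`, as a subgroup of `L`
  have triv : ∀ (x : G), x ∈ L → ∀ (K : Subgroup G), K ≤ L → (∀ r ∈ K, r⁻¹ * (x⁻¹ * r * x) ∈ Z) →
      ∀ r ∈ K ⊔ Z, r⁻¹ * (x⁻¹ * r * x) ∈ Z := by
    intro x hx K hK hr r hrK
    have hn : K ≤ normalizer (Z : Set G) := by
      intro k hk
      rw [Subgroup.mem_normalizer_iff]
      intro z
      constructor
      · intro hz
        have := cz k⁻¹ (inv_mem (hK hk)) z hz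
        rw [inv_inv] at this
        rwa [this]
      · intro hz
        have := cz k (hK hk) _ hz
        have e : k⁻¹ * (k * z * k⁻¹) * k = z := by group
        rw [e] at this
        rwa [this]
    obtain ⟨z, hz, k, hk, rfl⟩ := Solvable.Glauberman.exists_mul_of_mem_sup K Z hn hrK
    have h1 := hr k hk
    have e : (z * k)⁻¹ * (x⁻¹ * (z * k) * x) = k⁻¹ * (z⁻¹ * (x⁻¹ * z * x)) * k * (k⁻¹ * (x⁻¹ * k * x)) := by group
    rw [e, cz x hx z hz, inv_mul_cancel, mul_one, inv_mul_cancel, one_mul]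
    exact h1
  -- `r^(hg) ≡ r^(gh)`
  have keyA : ∀ r ∈ A, ((h * g)⁻¹ * r * (h * g)) * ((g * h)⁻¹ * r * (g * h))⁻¹ ∈ Z := by
    intro r hr
    have h1 := triv g hg A hAL gA _ (hA r hr)
    have h2 := gA r hr
    -- `r^(hg) = r^h z`, `r^(gh) = r^h z'`
    have h3 := cz h hh _ h2
    have e : ((h * g)⁻¹ * r * (h * g)) * ((g * h)⁻¹ * r * (g * h))⁻¹ =
        (h⁻¹ * r * h) * (((h⁻¹ * r * h)⁻¹ * (g⁻¹ * (h⁻¹ * r * h) * g)) *
          (h⁻¹ * (r⁻¹ * (g⁻¹ * r * g)) * h)⁻¹) * (h⁻¹ * r * h)⁻¹ := by group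
    rw [e, h3]
    have h4 := mul_mem h1 (inv_mem h2)
    have hrL : (h⁻¹ * r * h) ∈ L := mul_mem (mul_mem (inv_mem hh) (hAL hr)) hh
    have h5 := hZn _ (inv_mem hrL) _ h4
    rwa [inv_inv] at h5
  have keyB : ∀ r ∈ B, ((h * g)⁻¹ * r * (h * g)) * ((g * h)⁻¹ * r * (g * h))⁻¹ ∈ Z := by
    intro r hr
    have h1 := triv h hh B hBL hB _ (gB r hr)
    have h2 := hB r hr
    have h3 := cz g hg _ h2
    have e : ((h * g)⁻¹ * r * (h * g)) * ((g * h)⁻¹ * r * (g * h))⁻¹ =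
        (g⁻¹ * r * g) * ((g⁻¹ * (r⁻¹ * (h⁻¹ * r * h)) * g) *
          ((g⁻¹ * r * g)⁻¹ * (h⁻¹ * (g⁻¹ * r * g) * h))⁻¹) * (g⁻¹ * r * g)⁻¹ := by group
    rw [e, h3]
    have h4 := mul_mem h2 (inv_mem h1)
    have hrL : (g⁻¹ * r * g) ∈ L := mul_mem (mul_mem (inv_mem hg) (hBL hr)) hg
    have h5 := hZn _ (inv_mem hrL) _ h4
    rwa [inv_inv] at h5
  -- translate
  have key : ∀ r ∈ L, ((h * g)⁻¹ * r * (h * g)) * ((g * h)⁻¹ * r * (g * h))⁻¹ ∈ Z →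
      r⁻¹ * ((h * g * h⁻¹ * g⁻¹)⁻¹ * r * (h * g * h⁻¹ * g⁻¹)) ∈ Z := by
    intro r hrL h1
    have hgh : (g * h)⁻¹ ∈ L := inv_mem (mul_mem hg hh)
    have h2 := hZn _ hgh _ h1
    have h3 := hZn _ hrL _ h2
    have e : r⁻¹ * ((g * h)⁻¹⁻¹ * (((h * g)⁻¹ * r * (h * g)) * ((g * h)⁻¹ * r * (g * h))⁻¹) * (g * h)⁻¹) * r =
        r⁻¹ * ((h * g * h⁻¹ * g⁻¹)⁻¹ * r * (h * g * h⁻¹ * g⁻¹)) := by group
    rwa [e] at h3
  have hc : h * g * h⁻¹ * g⁻¹ ∈ L := mul_mem (mul_mem (mul_mem hh hg) (inv_mem hh)) (inv_mem hg)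
  refine triv _ hc (A ⊔ B) (sup_le hAL hBL) ?_
  -- the set is a subgroup
  let K : Subgroup G :=
    { carrier := {r | r ∈ L ∧ r⁻¹ * ((h * g * h⁻¹ * g⁻¹)⁻¹ * r * (h * g * h⁻¹ * g⁻¹)) ∈ Z}
      one_mem' := ⟨one_mem _, by
        have e : (1 : G)⁻¹ * ((h * g * h⁻¹ * g⁻¹)⁻¹ * 1 * (h * g * h⁻¹ * g⁻¹)) = 1 := by group
        rw [e]; exact one_mem _⟩
      mul_mem' := by
        rintro a b ⟨ha, ha'⟩ ⟨hb, hb'⟩
        refine ⟨mul_mem ha hb, ?_⟩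
        have h1 := mul_mem (hZn b hb _ ha') hb'
        have e : b⁻¹ * (a⁻¹ * ((h * g * h⁻¹ * g⁻¹)⁻¹ * a * (h * g * h⁻¹ * g⁻¹))) * b *
            (b⁻¹ * ((h * g * h⁻¹ * g⁻¹)⁻¹ * b * (h * g * h⁻¹ * g⁻¹))) =
            (a * b)⁻¹ * ((h * g * h⁻¹ * g⁻¹)⁻¹ * (a * b) * (h * g * h⁻¹ * g⁻¹)) := by
          have hz := hZ _ hb _ ha'
          have hz2 : b⁻¹ * (a⁻¹ * ((h * g * h⁻¹ * g⁻¹)⁻¹ * a * (h * g * h⁻¹ * g⁻¹))) * b =
              a⁻¹ * ((h * g * h⁻¹ * g⁻¹)⁻¹ * a * (h * g * h⁻¹ * g⁻¹)) := cz b hb _ ha'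
          have hz3 := hZ b⁻¹ (inv_mem hb) _ ha'
          rw [hz2]
          calc a⁻¹ * ((h * g * h⁻¹ * g⁻¹)⁻¹ * a * (h * g * h⁻¹ * g⁻¹)) *
              (b⁻¹ * ((h * g * h⁻¹ * g⁻¹)⁻¹ * b * (h * g * h⁻¹ * g⁻¹)))
              = (a⁻¹ * ((h * g * h⁻¹ * g⁻¹)⁻¹ * a * (h * g * h⁻¹ * g⁻¹)) * b⁻¹) *
                ((h * g * h⁻¹ * g⁻¹)⁻¹ * b * (h * g * h⁻¹ * g⁻¹)) := by group
            _ = (b⁻¹ * (a⁻¹ * ((h * g * h⁻¹ * g⁻¹)⁻¹ * a * (h * g * h⁻¹ * g⁻¹)))) *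
                ((h * g * h⁻¹ * g⁻¹)⁻¹ * b * (h * g * h⁻¹ * g⁻¹)) := by rw [hz3]
            _ = _ := by group
        rwa [e] at h1
      inv_mem' := by
        rintro a ⟨ha, ha'⟩
        refine ⟨inv_mem ha, ?_⟩
        have h1 := hZn _ (inv_mem ha) _ (inv_mem ha')
        have e : a⁻¹⁻¹ * (a⁻¹ * ((h * g * h⁻¹ * g⁻¹)⁻¹ * a * (h * g * h⁻¹ * g⁻¹)))⁻¹ * a⁻¹ =
            a⁻¹⁻¹ * ((h * g * h⁻¹ * g⁻¹)⁻¹ * a⁻¹ * (h * g * h⁻¹ * g⁻¹)) := by group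
        rwa [e] at h1 }
  have hK : A ⊔ B ≤ K := by
    refine sup_le (fun r hr => ⟨hAL hr, key r (hAL hr) (keyA r hr)⟩) (fun r hr => ⟨hBL hr, key r (hBL hr) (keyB r hr)⟩)
  exact fun r hr => (hK hr).2

/-- **The braid relation of length four for the residue `Sp4(q)`.**  `A = R₁ R₋₁`, `B = R₂ R₋₂`. -/
theorem braid_quad {F : Frame G} {L C J Bf M A B Z : Subgroup G} (h : CenMod L C J) (hJ : J ≤ F.B)
    (hf : FixPart F Bf) (i : Bool) (hM : M ≤ F.P i) (hML : M ≤ L) (hp : ⁅M, M⁆ = M)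
    {l : G} (hl : l ∈ M) (hb : (F.n i)⁻¹ * l ∈ Bf) (hsq : F.n (!i) * F.n (!i) ∈ Bf)
    (hnL : F.n (!i) ∈ normalizer (L : Set G)) (hZ : ∀ g ∈ L, ∀ z ∈ Z, g * z = z * g) (hZL : Z ≤ L)
    (hAL : A ≤ L) (hBL : B ≤ L)
    (gA : ∀ m ∈ M, ∀ r ∈ A, r⁻¹ * (m⁻¹ * r * m) ∈ Z) (gB : ∀ m ∈ M, ∀ r ∈ B, m⁻¹ * r * m ∈ B ⊔ Z)
    (hAn : rc A (F.n (!i)) = B) (hBn : rc B (F.n (!i)) = A) (hZn : rc Z (F.n (!i)) = Z)
    (hC : ∀ c ∈ L, (∀ r ∈ A ⊔ B ⊔ Z, r⁻¹ * (c⁻¹ * r * c) ∈ Z) → c ∈ C) : F.Braid 4 := by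
  have hlL : (F.n (!i))⁻¹ * l * F.n (!i) ∈ L := by
    have := (Subgroup.mem_normalizer_iff.1 (inv_mem hnL) l).1 (hML hl)
    rwa [inv_inv] at this
  refine braid_four F h hJ hf i hM hML hp hl hb hsq hlL ?_
  intro m hm
  set s := F.n (!i) with hs
  refine hC _ ?_ ?_
  · exact mul_mem (mul_mem (mul_mem hlL (hML hm)) (inv_mem hlL)) (inv_mem (hML hm))
  · -- `m` plays the role of `g`, `l' = s⁻¹ l s` that of `h`
    refine comm_of_pieces (g := m) (h := s⁻¹ * l * s) hZ hZL hAL hBL (hML hm) hlL (gA m hm) (gB m hm) ?_ ?_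
    · intro r hr
      rw [← hAn, mem_rc] at hr
      have h1 := gA l hl _ hr
      have h2 := mem_rc_conj (g := s) h1
      rw [hZn] at h2
      have e : s⁻¹ * ((s * r * s⁻¹)⁻¹ * (l⁻¹ * (s * r * s⁻¹) * l)) * s =
          r⁻¹ * ((s⁻¹ * l * s)⁻¹ * r * (s⁻¹ * l * s)) := by group
      rwa [e] at h2
    · intro r hr
      rw [← hBn, mem_rc] at hr
      have h1 := gB l hl _ hr
      have h2 := mem_rc_conj (g := s) h1
      rw [rc_sup, hBn, hZn] at h2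
      have e : s⁻¹ * (l⁻¹ * (s * r * s⁻¹) * l) * s = (s⁻¹ * l * s)⁻¹ * r * (s⁻¹ * l * s) := by group
      rwa [e] at h2

/-! ### PATH -/

section path

variable {F : Frame G}

/-- conjugation by `g` on the left: `x ∈ rc A g` gives `g x g⁻¹ ∈ A` -/
theorem conj_of_rc {A A' : Subgroup G} {g x : G} (h : rc A g = A') (hx : x ∈ A') : g * x * g⁻¹ ∈ A := by
  rw [← h] at hx
  exact hx

theorem mem_of_rc_eq {A A' : Subgroup G} {g x : G} (h : rc A g = A') (hx : x ∈ A) : g⁻¹ * x * g ∈ A' := by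
  rw [← h]
  exact mem_rc_conj hx

/-- **PATH for a residue of type A2** (`a` = the node of `N`). -/
theorem path_three {U₁ U₂ : Subgroup G} (a : Bool)
    (h12 : rc U₁ (F.n a) = U₂) (h21 : rc U₂ (F.n a) = U₁) (hU₁ : U₁ ≤ F.B) (hU₂ : U₂ ≤ F.B)
    (hn : ∀ x ∈ U₁, F.n (!a) * x * (F.n (!a))⁻¹ ∈ F.B) (hn' : rc U₁ (F.n (!a)) ≤ F.B)
    (t₁ : ∀ b ∈ F.B, ∃ x ∈ rc U₁ (F.n (!a)), ∃ c ∈ F.B, b = x * c ∧ (F.n a)⁻¹ * c * F.n a ∈ F.B)
    (t₂ : ∀ b ∈ F.B, ∃ x ∈ U₂, ∃ c ∈ F.B, b = x * c ∧ (F.n (!a))⁻¹ * c * F.n (!a) ∈ F.B) :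
    ∀ k < 3, F.PathTo k := by
  set X : Bool → Set G := fun i => if i = a then (rc U₁ (F.n (!a)) : Set G) else (U₂ : Set G) with hX
  have hXa : X a = (rc U₁ (F.n (!a)) : Set G) := by simp [hX]
  have hXb : X (!a) = (U₂ : Set G) := by simp [hX]
  have hXt : ∀ i, ∀ b ∈ F.B, ∃ x ∈ X i, ∃ c ∈ F.B, b = x * c ∧ (F.n i)⁻¹ * c * F.n i ∈ F.B := by
    intro i
    rcases Bool.eq_or_eq_not i a with rfl | h
    · rw [hXa]; exact t₁
    · rw [h, hXb]; exact t₂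
  intro k hk
  refine F.pathTo_of_root X hXt ?_
  intro i x hx
  interval_cases k
  · rw [nxt_zero] at hx
    have : x ∈ F.B := by
      rcases Bool.eq_or_eq_not i a with rfl | h
      · rw [hXa] at hx; exact hn' hx
      · rw [h, hXb] at hx; exact hU₂ hx
    simpa using this
  · have e1 : nxt i 1 = !i := by simp [nxt]
    rw [e1] at hx
    rw [alt_one]
    rcases Bool.eq_or_eq_not i a with rfl | h
    · rw [hXb] at hx
      exact hU₁ (conj_of_rc h12 hx)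
    · rw [h, Bool.not_not, hXa] at hx
      rw [h]
      exact hU₁ hx
  · have e1 : nxt i 2 = i := by simp [nxt]
    rw [e1] at hx
    have e2 : alt F.n i 2 = F.n i * F.n (!i) := by simp [alt_succ]
    have e3 : alt F.n i 2 * x * (alt F.n i 2)⁻¹ = F.n i * (F.n (!i) * x * (F.n (!i))⁻¹) * (F.n i)⁻¹ := by
      rw [e2]; group
    rw [e3]
    rcases Bool.eq_or_eq_not i a with rfl | h
    · rw [hXa] at hx
      exact hU₂ (conj_of_rc h21 hx)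
    · rw [h, hXb] at hx
      rw [h, Bool.not_not]
      exact hn _ (conj_of_rc h12 hx)

/-- **PATH for a residue of type C2** (`a` = the node of `N`). -/
theorem path_four {D Z₁ Z₂ : Subgroup G} (a : Bool)
    (hD : rc D (F.n a) = D) (h12 : rc Z₁ (F.n a) = Z₂) (h21 : rc Z₂ (F.n a) = Z₁)
    (hZ₁ : rc Z₁ (F.n (!a)) = Z₁) (hDB : D ≤ F.B) (hZ₁B : Z₁ ≤ F.B) (hZ₂B : Z₂ ≤ F.B)
    (hn : ∀ x ∈ D, F.n (!a) * x * (F.n (!a))⁻¹ ∈ F.B) (hn' : rc D (F.n (!a)) ≤ F.B)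
    (t₁ : ∀ b ∈ F.B, ∃ x ∈ rc D (F.n (!a)), ∃ c ∈ F.B, b = x * c ∧ (F.n a)⁻¹ * c * F.n a ∈ F.B)
    (t₂ : ∀ b ∈ F.B, ∃ x ∈ Z₂, ∃ c ∈ F.B, b = x * c ∧ (F.n (!a))⁻¹ * c * F.n (!a) ∈ F.B) :
    ∀ k < 4, F.PathTo k := by
  set X : Bool → Set G := fun i => if i = a then (rc D (F.n (!a)) : Set G) else (Z₂ : Set G) with hX
  have hXa : X a = (rc D (F.n (!a)) : Set G) := by simp [hX]
  have hXb : X (!a) = (Z₂ : Set G) := by simp [hX]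
  have hXt : ∀ i, ∀ b ∈ F.B, ∃ x ∈ X i, ∃ c ∈ F.B, b = x * c ∧ (F.n i)⁻¹ * c * F.n i ∈ F.B := by
    intro i
    rcases Bool.eq_or_eq_not i a with rfl | h
    · rw [hXa]; exact t₁
    · rw [h, hXb]; exact t₂
  intro k hk
  refine F.pathTo_of_root X hXt ?_
  intro i x hx
  interval_cases k
  · rw [nxt_zero] at hx
    have : x ∈ F.B := by
      rcases Bool.eq_or_eq_not i a with rfl | h
      · rw [hXa] at hx; exact hn' hx
      · rw [h, hXb] at hx; exact hZ₂B hx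
    simpa using this
  · have e1 : nxt i 1 = !i := by simp [nxt]
    rw [e1] at hx
    rw [alt_one]
    rcases Bool.eq_or_eq_not i a with rfl | h
    · rw [hXb] at hx
      exact hZ₁B (conj_of_rc h12 hx)
    · rw [h, Bool.not_not, hXa] at hx
      rw [h]
      exact hDB hx
  · have e1 : nxt i 2 = i := by simp [nxt]
    rw [e1] at hx
    have e2 : alt F.n i 2 = F.n i * F.n (!i) := by simp [alt_succ]
    have e3 : alt F.n i 2 * x * (alt F.n i 2)⁻¹ = F.n i * (F.n (!i) * x * (F.n (!i))⁻¹) * (F.n i)⁻¹ := by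
      rw [e2]; group
    rw [e3]
    rcases Bool.eq_or_eq_not i a with rfl | h
    · rw [hXa] at hx
      exact hDB (conj_of_rc hD hx)
    · rw [h, hXb] at hx
      rw [h, Bool.not_not]
      exact hZ₁B (conj_of_rc hZ₁ (conj_of_rc h12 hx))
  · have e1 : nxt i 3 = !i := by simp [nxt]
    rw [e1] at hx
    have e2 : alt F.n i 3 = F.n i * (F.n (!i) * F.n i) := by simp [alt_succ]
    have e3 : alt F.n i 3 * x * (alt F.n i 3)⁻¹ =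
        F.n i * (F.n (!i) * (F.n i * x * (F.n i)⁻¹) * (F.n (!i))⁻¹) * (F.n i)⁻¹ := by
      rw [e2]; group
    rw [e3]
    rcases Bool.eq_or_eq_not i a with rfl | h
    · rw [hXb] at hx
      exact hZ₂B (conj_of_rc h21 (conj_of_rc hZ₁ (conj_of_rc h12 hx)))
    · rw [h, Bool.not_not, hXa] at hx
      rw [h, Bool.not_not]
      exact hn _ (conj_of_rc hD hx)

end path

end Cfsg.Agent.Omega.HOne.End
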