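import Cfsg.Agent.Omega.HOne.EndBase
import Cfsg.Agent.Omega.HOne.EndQuad

/-!
# II.0h1, END: the pair (node of `V`, node `j`), residue of type A2

`PairA`: `M` is a subgroup of order `q³` of `D`, invariant under both minimal parabolic subgroups, `V` and its
conjugates under `P₂` are its lines through `R i₁`.
-/

set_option autoImplicit false
set_option linter.unusedSectionVars false

namespace Cfsg.Agent.Omega.HOne.End

open Subgroup Cfsg.Agent.Omega.BTwo Cfsg.Agent.RankTwoClose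
open Cfsg.Agent.ParSys (Qk FpfG SepG Polygon mem_Qk Qk_le Qk_conj Qk_conj')
open Cfsg.Agent.ParSys.Hall (HallData)
open Cfsg.Agent.ParSys.Hall.HallData (PTr)
open scoped commutatorElement

variable {G : Type*} [Group G] {ι : Type*}

/-- the elements `m` of `N(Z)` with `[q, m] ∈ Z` -/
def CZ (q : G) (Z : Subgroup G) : Subgroup G where
  carrier := {m | m ∈ normalizer (Z : Set G) ∧ q * m * q⁻¹ * m⁻¹ ∈ Z}
  one_mem' := ⟨one_mem _, by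
    have : q * 1 * q⁻¹ * 1⁻¹ = 1 := by group
    rw [this]; exact one_mem _⟩
  mul_mem' := by
    rintro a b ⟨ha, ha'⟩ ⟨hb, hb'⟩
    refine ⟨mul_mem ha hb, ?_⟩
    have h1 := mul_mem ha' (BTwo.conj_mem_of_normalizer ha hb')
    have e : q * a * q⁻¹ * a⁻¹ * (a * (q * b * q⁻¹ * b⁻¹) * a⁻¹) = q * (a * b) * q⁻¹ * (a * b)⁻¹ := by group
    rwa [e] at h1
  inv_mem' := by
    rintro a ⟨ha, ha'⟩
    refine ⟨inv_mem ha, ?_⟩
    have h1 := conj_inv_mem_of_normalizer ha (inv_mem ha')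
    have e : a⁻¹ * (q * a * q⁻¹ * a⁻¹)⁻¹ * a = q * a⁻¹ * q⁻¹ * a⁻¹⁻¹ := by group
    rwa [e] at h1

theorem mem_CZ {q m : G} {Z : Subgroup G} :
    m ∈ CZ q Z ↔ m ∈ normalizer (Z : Set G) ∧ q * m * q⁻¹ * m⁻¹ ∈ Z := Iff.rfl

/-- **The pair (node of `V`, node `j`), residue of type A2.** -/
structure PairA (F : Type*) [Field F] (V : Subgroup G) (R : ι → Subgroup G) (U B H P₂ M : Subgroup G)
    (i₁ : ι) : Prop extends Base F V R U B H P₂ i₁ where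
  V_M : V ≤ M
  M_D : M ≤ DD V R
  P₂_M : P₂ ≤ normalizer (M : Set G)
  /-- the conjugates of `V` are the lines of `M` through `R i₁` -/
  span : ∀ k ∈ P₂, k ∉ B → M ≤ V ⊔ cj k V
  meet : ∀ k ∈ P₂, k ∉ B → V ⊓ cj k V ≤ R i₁
  U₁_M : ¬ UU V R i₁ ≤ centralizer (M : Set G)
  /-- `Y` is transitive on the lines `≠ V` -/
  cov₂ : ∀ u ∈ U, ∃ x ∈ YY V R, x⁻¹ * u ∈ Qk B P₂

/-- the normaliser condition of `Base` -/
theorem NV₂_of {V : Subgroup G} {R : ι → Subgroup G} {B P₂ M : Subgroup G} {i₁ : ι} (b : BT V R)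
    (span : ∀ k ∈ P₂, k ∉ B → M ≤ V ⊔ cj k V) (U₁_M : ¬ UU V R i₁ ≤ centralizer (M : Set G)) :
    P₂ ⊓ normalizer (V : Set G) ≤ B := by
  have _ := b
  rintro k ⟨hk, hkV⟩
  by_contra hkB
  have h1 := span k hk hkB
  rw [cj_eq_self_iff.2 hkV, sup_idem] at h1
  exact U₁_M ((UU_le_cen i₁).trans (centralizer_le h1))

namespace PairA

variable {F : Type*} [Field F] {V : Subgroup G} {R : ι → Subgroup G} {U B H P₂ M : Subgroup G} {i₁ : ι}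
  (D : PairA F V R U B H P₂ M i₁)
include D

theorem M_comm {a b : G} (ha : a ∈ M) (hb : b ∈ M) : a * b = b * a := D.bt.D_comm (D.M_D ha) (D.M_D hb)

theorem X_M : XX V R ≤ normalizer (M : Set G) :=
  le_normalizer_of fun x hx m hm => by
    have h1 := D.V_M (D.bt.XD hx (D.M_D hm))
    have := mul_mem h1 hm
    rwa [inv_mul_cancel_right] at this

theorem P₁_M : XX V R ⊔ B ≤ normalizer (M : Set G) := sup_le D.X_M (D.le₂.trans D.P₂_M)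

theorem W_Qk : WW V (R i₁) ≤ Qk B P₂ := by
  intro w hw g hg
  exact D.nod.U_le (D.nod.W_le (conj_inv_mem_of_normalizer (normalizer_le_WW V (R i₁) (D.P₂_R hg)) hw))

theorem cov {i₂ : ι} (h12 : i₁ ≠ i₂) {u : G} (hu : u ∈ U) : ∃ x ∈ UU V R i₂, x⁻¹ * u ∈ Qk B P₂ := by
  obtain ⟨y, hy, hq⟩ := D.cov₂ u hu
  rw [D.bt.Y_eq (Ne.symm h12)] at hy
  obtain ⟨z, hz, x, hx, rfl⟩ := Solvable.Glauberman.exists_mul_of_mem_sup (UU V R i₂) (UU V R i₁)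
    ((UU_le_cen i₂).trans (D.bt.cen_le_NU i₁)) hy
  refine ⟨x, hx, ?_⟩
  have hxP : x ∈ P₂ := D.le₂ (D.nod.U_le (D.U_UU i₂ hx))
  have h1 := Qk_conj (D.W_Qk (UU_le_WW i₁ hz)) hxP
  have h2 := mul_mem h1 hq
  have e : x⁻¹ * z * x * ((z * x)⁻¹ * u) = x⁻¹ * u := by group
  rwa [e] at h2

variable [Finite G] [Fact (Nat.Prime 2)] [CharP F 2] {i₂ : ι} {n₁ n₂ : G} (E : Fr V R U B H P₂ i₁ i₂ n₁ n₂)
include E

/-- the third point -/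
theorem V_n₂ : rc V n₂ = R i₁ ⊔ rc (R i₂) n₂ := by
  have h := D.V_eq E
  conv_lhs => rw [h]
  rw [rc_sup, D.n₂_R E]

theorem M_n₂ : rc M n₂ = M := rc_eq_of_mem_normalizer (D.P₂_M E.n₂_mem)

theorem M_n₁ : rc M n₁ = M := rc_eq_of_mem_normalizer (D.P₁_M E.n₁_mem)

theorem R₃_M : rc (R i₂) n₂ ≤ M := by
  rw [← D.M_n₂ E]
  exact rc_mono ((D.bt.R_le i₂).trans D.V_M) n₂

theorem n₂_inv_not : n₂⁻¹ ∉ B := fun h => E.n₂_not (by simpa using inv_mem h)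

theorem M_le : M ≤ V ⊔ rc (R i₂) n₂ := by
  have h1 := D.span n₂⁻¹ (inv_mem E.n₂_mem) (D.n₂_inv_not E)
  rw [← rc_eq_cj, D.V_n₂ E] at h1
  refine h1.trans (sup_le le_sup_left (sup_le ((D.bt.R_le i₁).trans le_sup_left) le_sup_right))

theorem R₃_V {x : G} (hx : x ∈ V) (hx' : x ∈ rc (R i₂) n₂) : x = 1 := by
  have h1 := D.meet n₂⁻¹ (inv_mem E.n₂_mem) (D.n₂_inv_not E)
  rw [← rc_eq_cj] at h1
  have h2 : x ∈ R i₁ := h1 ⟨hx, rc_mono (D.bt.R_le i₂) n₂ hx'⟩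
  rw [← D.n₂_R E, mem_rc] at h2
  rw [mem_rc] at hx'
  have h3 := D.bt.eq_one E.ne h2 hx'
  have e : x = n₂⁻¹ * (n₂ * x * n₂⁻¹) * n₂ := by group
  rw [e, h3]; group

/-- `U ∩ Qk` acts trivially on `M / R i₁` -/
theorem Qk_M {q m : G} (hq : q ∈ U) (hqQ : q ∈ Qk B P₂) (hm : m ∈ M) : q * m * q⁻¹ * m⁻¹ ∈ R i₁ := by
  have hR : M ≤ normalizer (R i₁ : Set G) := le_normalizer_of fun x hx y hy => by
    rw [D.M_comm hx (D.V_M (D.bt.R_le i₁ hy)), mul_inv_cancel_right]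
    exact hy
  have h1 : V ≤ CZ q (R i₁) := fun v hv => ⟨hR (D.V_M hv), D.nod.UV q hq v hv⟩
  have h2 : rc (R i₂) n₂ ≤ CZ q (R i₁) := by
    intro r hr
    refine ⟨hR (D.R₃_M E hr), ?_⟩
    have h3 : n₂ * q * n₂⁻¹ ∈ U := by
      have h4 : n₂⁻¹⁻¹ * q * n₂⁻¹ ∈ U := D.two_elt hq (Qk_le _ _ (Qk_conj hqQ (inv_mem E.n₂_mem)))
      rwa [inv_inv] at h4
    have h4 := D.nod.UV _ h3 _ (D.bt.R_le i₂ (mem_rc.1 hr))
    have h5 : q * r * q⁻¹ * r⁻¹ ∈ rc (R i₁) n₂ := by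
      rw [mem_rc]
      have e : n₂ * (q * r * q⁻¹ * r⁻¹) * n₂⁻¹ =
          n₂ * q * n₂⁻¹ * (n₂ * r * n₂⁻¹) * (n₂ * q * n₂⁻¹)⁻¹ * (n₂ * r * n₂⁻¹)⁻¹ := by group
      rwa [e]
    rwa [D.n₂_R E] at h5
  exact ((D.M_le E).trans (sup_le h1 h2) hm).2

/-- `[M, U] ≤ V` -/
theorem U_M {u m : G} (hu : u ∈ U) (hm : m ∈ M) : u * m * u⁻¹ * m⁻¹ ∈ V := by
  obtain ⟨x, hx, hq⟩ := D.cov E.ne hu
  have hxX : x ∈ XX V R := YY_le_XX (UU_le_YY i₂ hx)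
  have h1 := D.bt.XD hxX (D.M_D hm)
  have h2 := D.bt.R_le i₁ (D.Qk_M E (mul_mem (inv_mem (D.U_UU i₂ hx)) hu) hq hm)
  have h3 := mul_mem (BTwo.conj_mem_of_normalizer (D.bt.X_le_NV hxX) h2) h1
  have e : x * (x⁻¹ * u * m * (x⁻¹ * u)⁻¹ * m⁻¹) * x⁻¹ * (x * m * x⁻¹ * m⁻¹) = u * m * u⁻¹ * m⁻¹ := by group
  rwa [e] at h3

/-- an `H`-invariant subgroup of `M` which meets `V` trivially is in `R₃` -/
theorem le_R₃ {K : Subgroup G} (hK : K ≤ M) (hH : ∀ h ∈ H, rc K h = K) (hV : ∀ x ∈ K, x ∈ V → x = 1) :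
    K ≤ rc (R i₂) n₂ := by
  obtain ⟨v, w1, w2, c⟩ := D.coord i₂ E.ne
  obtain ⟨a, ha, ha1⟩ := D.big
  obtain ⟨h, hh', hact, u, hu, huV, e⟩ := D.exists_tor E.ne E.H_R c ha
  have h1 : ∀ m ∈ M, h * m * h⁻¹ * m⁻¹ ∈ V := by
    intro m hm
    have h2 := D.bt.XD (c.hh_mem_X D.bt a) (D.M_D hm)
    have h3 := D.U_M E (inv_mem hu) hm
    have h4 := mul_mem (conj_inv_mem_of_normalizer (cen_le_NV V huV) h2) h3
    have e2 : u⁻¹ * (hh w1 w2 a * m * (hh w1 w2 a)⁻¹ * m⁻¹) * u * (u⁻¹ * m * u⁻¹⁻¹ * m⁻¹) =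
        h * m * h⁻¹ * m⁻¹ := by rw [e]; group
    rwa [e2] at h4
  intro r hr
  have hrM := hK hr
  -- `r` commutes with `h`
  have h2 : h * r * h⁻¹ = r := by
    have h3 : h * r * h⁻¹ ∈ K := by
      have := hH h⁻¹ (inv_mem hh')
      rw [← this, mem_rc]
      have e3 : h⁻¹ * (h * r * h⁻¹) * h⁻¹⁻¹ = r := by group
      rwa [e3]
    exact mul_inv_eq_one.1 (hV _ (mul_mem h3 (inv_mem hr)) (h1 r hrM))
  -- decompose
  have hn : rc (R i₂) n₂ ≤ normalizer (V : Set G) := le_normalizer_of fun x hx y hy => by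
    rw [D.M_comm (D.R₃_M E hx) (D.V_M hy), mul_inv_cancel_right]
    exact hy
  have h3 := D.M_le E hrM
  rw [sup_comm] at h3
  obtain ⟨x, hx, s, hs, rfl⟩ := Solvable.Glauberman.exists_mul_of_mem_sup _ V hn h3
  have h4 : h * s * h⁻¹ = s := by
    have h5 : h * s * h⁻¹ ∈ rc (R i₂) n₂ := by
      rw [mem_rc]
      have h6 : n₂ * h * n₂⁻¹ ∈ H := BTwo.conj_mem_of_normalizer E.n₂_H hh'
      have h7 := BTwo.conj_mem_of_normalizer (E.H_R h6) (mem_rc.1 hs)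
      have e3 : n₂ * h * n₂⁻¹ * (n₂ * s * n₂⁻¹) * (n₂ * h * n₂⁻¹)⁻¹ = n₂ * (h * s * h⁻¹) * n₂⁻¹ := by group
      rwa [e3] at h7
    exact mul_inv_eq_one.1 (D.R₃_V E (h1 s (D.R₃_M E hs)) (mul_mem h5 (inv_mem hs)))
  have h5 : h * x * h⁻¹ = x := by
    have h6 : h * x * h⁻¹ * (h * s * h⁻¹) = x * s := by
      rw [← h2]; group
    rw [h4] at h6
    exact mul_right_cancel h6
  obtain ⟨p, q, rfl⟩ := (c.mem_V x).1 hx
  rw [hact] at h5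
  obtain ⟨h6, h7⟩ := c.v_inj h5
  have hp : p = 0 := by
    have : (a - 1) * p = 0 := by rw [sub_mul, h6, one_mul, sub_self]
    exact (mul_eq_zero.1 this).resolve_left (sub_ne_zero.2 ha1)
  have hq : q = 0 := by
    have : (a⁻¹ - 1) * q = 0 := by rw [sub_mul, h7, one_mul, sub_self]
    refine (mul_eq_zero.1 this).resolve_left (sub_ne_zero.2 fun h => ha1 ?_)
    rw [← inv_inv a, h, inv_one]
  rw [hp, hq, c.v_zero, one_mul]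
  exact hs

theorem R₃_H {h : G} (hh : h ∈ H) : rc (rc (R i₂) n₂) h = rc (R i₂) n₂ := by
  have h1 : n₂ * h * n₂⁻¹ ∈ H := BTwo.conj_mem_of_normalizer E.n₂_H hh
  have h2 := rc_eq_of_mem_normalizer (E.H_R h1)
  have e : n₂ * h = (n₂ * h * n₂⁻¹) * n₂ := by group
  rw [rc_rc, e, ← rc_rc, h2]

theorem R₃_n₁_le {n : G} (hn : n ∈ XX V R ⊔ B) (hnH : n ∈ normalizer (H : Set G)) :
    rc (rc (R i₂) n₂) n ≤ rc (R i₂) n₂ := by
  have hnV := D.nod.P_V D.bt hn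
  refine D.le_R₃ E ?_ ?_ ?_
  · rw [← rc_eq_of_mem_normalizer (D.P₁_M hn)]
    exact rc_mono (D.R₃_M E) n
  · intro h hh
    have h1 : n * h * n⁻¹ ∈ H := BTwo.conj_mem_of_normalizer hnH hh
    have e : n * h = (n * h * n⁻¹) * n := by group
    rw [rc_rc, e, ← rc_rc, D.R₃_H E h1]
  · intro x hx hxV
    rw [mem_rc] at hx
    have h1 := D.R₃_V E (BTwo.conj_mem_of_normalizer hnV hxV) hx
    have e : x = n⁻¹ * (n * x * n⁻¹) * n := by group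
    rw [e, h1]; group

/-- `n₁` normalises `R₃` -/
theorem R₃_n₁ : rc (rc (R i₂) n₂) n₁ = rc (R i₂) n₂ := by
  apply le_antisymm (D.R₃_n₁_le E E.n₁_mem E.n₁_H)
  have h1 := rc_mono (D.R₃_n₁_le E (inv_mem E.n₁_mem) (inv_mem E.n₁_H)) n₁
  rwa [rc_rc, inv_mul_cancel, rc_one] at h1

theorem R₃_n₂ : rc (rc (R i₂) n₂) n₂ = R i₂ := by
  rw [rc_rc]
  refine rc_eq_of_mem_normalizer (cj_eq_self_iff.1 ?_)
  exact D.norm_R₂ E (D.n₂_sq E) (mul_mem E.n₂_H E.n₂_H)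

theorem R₃_bot : rc (R i₂) n₂ ≠ ⊥ := by
  intro h
  apply D.bt.R_ne i₂
  rw [← rc_bot n₂] at h
  exact rc_inj h

theorem U₁_V : ¬ rc (UU V R i₁) n₂ ≤ centralizer (V : Set G) := by
  intro h
  apply D.U₁_M
  -- `U₁` centralises `V` and `rc V n₂⁻¹`
  have h1 : ∀ u ∈ UU V R i₁, Ce (rc V n₂⁻¹) u := by
    intro u hu
    have h2 : Ce V (n₂⁻¹ * u * n₂) := by
      intro r hr
      exact (mem_centralizer_iff.1 (h (mem_rc_conj hu)) r hr).symm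
    have h3 := h2.conj n₂⁻¹
    have e : n₂⁻¹⁻¹ * (n₂⁻¹ * u * n₂) * n₂⁻¹ = u := by group
    rwa [e] at h3
  have h2 : M ≤ V ⊔ cj n₂ V := D.span n₂ E.n₂_mem E.n₂_not
  rw [← rc_inv_eq_cj] at h2
  intro u hu
  have h3 : V ⊔ rc V n₂⁻¹ ≤ centralizer {u} := by
    refine sup_le (fun v hv => ?_) (fun v hv => ?_)
    · rw [mem_centralizer_singleton_iff]
      exact mem_centralizer_iff.1 (UU_le_cen i₁ hu) v hv
    · rw [mem_centralizer_singleton_iff]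
      exact (h1 u hu v hv).symm
  rw [mem_centralizer_iff]
  exact fun m hm => mem_centralizer_singleton_iff.1 (h3 (h2 hm))

/-- `U₂` consists of elations -/
theorem U₂_Mv {L : Subgroup G} (hL : XX V R ≤ L) {u : G} (hu : u ∈ UU V R i₂) :
    Mv L (R i₂) (rc (R i₂) n₂) (R i₁) u where
  mem := hL (YY_le_XX (UU_le_YY i₂ hu))
  fixA := fun r hr => (mem_centralizer_iff.1 (UU_le_cen i₂ hu) r (D.bt.R_le i₂ hr)).symm
  fixD := fun r hr => (mem_centralizer_iff.1 (UU_le_cen i₂ hu) r (D.bt.R_le i₁ hr)).symm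
  move := by
    intro r hr
    -- `r⁻¹ u⁻¹ r u = [r⁻¹, u⁻¹]`
    have h1 := D.bt.DU (inv_mem (D.M_D (D.R₃_M E hr))) (inv_mem hu)
    have e : r⁻¹ * u⁻¹ * r⁻¹⁻¹ * u⁻¹⁻¹ = r⁻¹ * (u⁻¹ * r * u) := by group
    rwa [e] at h1

/-- the elements of `B` fixing the frame -/
def Bf (_ : PairA F V R U B H P₂ M i₁) (_ : Fr V R U B H P₂ i₁ i₂ n₁ n₂) : Subgroup G :=
  B ⊓ (normalizer (R i₂ : Set G) ⊓ normalizer ((rc (R i₂) n₂ : Subgroup G) : Set G))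

theorem mem_Bf {x : G} : x ∈ D.Bf E ↔ x ∈ B ∧ rc (R i₂) x = R i₂ ∧ rc (rc (R i₂) n₂) x = rc (R i₂) n₂ := by
  rw [Bf, mem_inf, mem_inf]
  refine and_congr_right fun _ => and_congr ⟨rc_eq_of_mem_normalizer, mem_normalizer_of_rc_eq⟩
    ⟨rc_eq_of_mem_normalizer, mem_normalizer_of_rc_eq⟩

theorem Bf_n₁ {n : G} (hn : n ∈ XX V R ⊔ B) (h12 : rc (R i₁) n = R i₂) (h21 : rc (R i₂) n = R i₁)
    (h3 : rc (rc (R i₂) n₂) n = rc (R i₂) n₂) {x : G} (hx : x ∈ D.Bf E) : n⁻¹ * x * n ∈ D.Bf E := by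
  rw [D.mem_Bf E] at hx ⊢
  obtain ⟨hB, h2, h3'⟩ := hx
  have hP : n⁻¹ * x * n ∈ XX V R ⊔ B := mul_mem (mul_mem (inv_mem hn) (mem_sup_right hB)) hn
  have i12 : rc (R i₂) n⁻¹ = R i₁ := by rw [← h12, rc_rc, mul_inv_cancel, rc_one]
  have i21 : rc (R i₁) n⁻¹ = R i₂ := by rw [← h21, rc_rc, mul_inv_cancel, rc_one]
  have i3 : rc (rc (R i₂) n₂) n⁻¹ = rc (R i₂) n₂ := by
    conv_lhs => rw [← h3]
    rw [rc_rc, mul_inv_cancel, rc_one]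
  have h1 : rc (R i₁) x = R i₁ := rc_eq_of_mem_normalizer (D.nod.B_R hB)
  refine ⟨?_, ?_, ?_⟩
  · rw [D.nod.mem_B_iff D.bt hP, cj_eq_iff_rc, ← rc_rc, ← rc_rc, i21, h2, h21]
  · rw [← rc_rc, ← rc_rc, i12, h1, h12]
  · rw [← rc_rc, ← rc_rc, i3, h3', h3]

theorem Bf_n₂ {n : G} (hn : n ∈ P₂) (h2 : rc (R i₂) n = rc (R i₂) n₂) (h3 : rc (rc (R i₂) n₂) n = R i₂)
    {x : G} (hx : x ∈ D.Bf E) : n⁻¹ * x * n ∈ D.Bf E := by
  rw [D.mem_Bf E] at hx ⊢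
  obtain ⟨hB, h2', h3'⟩ := hx
  have i23 : rc (rc (R i₂) n₂) n⁻¹ = R i₂ := by rw [← h2, rc_rc, mul_inv_cancel, rc_one]
  have i32 : rc (R i₂) n⁻¹ = rc (R i₂) n₂ := by
    conv_lhs => rw [← h3]
    rw [rc_rc, mul_inv_cancel, rc_one]
  have k2 : rc (R i₂) (n⁻¹ * x * n) = R i₂ := by rw [← rc_rc, ← rc_rc, i32, h3', h3]
  refine ⟨?_, k2, ?_⟩
  · refine D.NV₂ (mem_inf.2 ⟨mul_mem (mul_mem (inv_mem hn) (D.le₂ hB)) hn, mem_normalizer_of_rc_eq ?_⟩)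
    have h4 : rc (R i₁) (n⁻¹ * x * n) = R i₁ :=
      rc_eq_of_mem_normalizer (D.P₂_R (mul_mem (mul_mem (inv_mem hn) (D.le₂ hB)) hn))
    rw [D.V_eq E, rc_sup, k2, h4]
  · rw [← rc_rc, ← rc_rc, i23, h2', h2]

/-- the residue as a `Duo` -/
theorem duo : Duo 2 B U H (fun i => if i then P₂ else XX V R ⊔ B) (fun i => if i then n₂ else n₁) where
  hall := D.hall
  le i := by cases i <;> simp [D.le₂]
  ptr i := by
    cases i
    · simpa using D.ptr₁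
    · simpa using D.ptr₂
  fix i := by
    cases i
    · simpa using D.fix₁
    · simpa using D.fix₂
  inf := by
    apply le_antisymm
    · intro x hx
      have hx1 : x ∈ XX V R ⊔ B := by simpa using (mem_inf.1 hx).1
      have hx2 : x ∈ P₂ := by simpa using (mem_inf.1 hx).2
      exact D.NV₂ ⟨hx2, D.nod.P_V D.bt hx1⟩
    · refine le_inf ?_ ?_
      · simp
      · simpa using D.le₂
  n_mem i := by
    cases i
    · simpa using E.n₁_mem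
    · simpa using E.n₂_mem
  n_not i := by
    cases i
    · simpa using E.n₁_not
    · simpa using E.n₂_not
  n_norm i := by
    cases i
    · simpa using E.n₁_H
    · simpa using E.n₂_H
  thick i := by
    have key : ∀ (P : Subgroup G) (n : G), B ≤ P → PTr B U P →
        (∃ x ∈ P, ∃ y ∈ P, x ∉ B ∧ y ∉ B ∧ x⁻¹ * y ∉ B) → n ∈ P → n ∉ B → ∃ b ∈ B, n * b * n⁻¹ ∉ B := by
      intro P n hBP hptr h3 hn hnB
      by_contra hc
      push Not at hc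
      have hc' : n ∈ normalizer (B : Set G) := mem_normalizer_of_conj hc
      obtain ⟨x, hx, y, hy, hxB, hyB, hxy⟩ := h3
      have hform : ∀ z ∈ P, z ∉ B → ∃ b ∈ B, z = n * b := by
        intro z hz hzB
        obtain ⟨u, hu, b, hb, e⟩ := hptr n hn hnB z hz hzB
        have h4 := conj_inv_mem_of_normalizer hc' (D.nod.U_le hu)
        exact ⟨n⁻¹ * u * n * b, mul_mem h4 hb, by rw [e]; group⟩
      obtain ⟨b, hb, rfl⟩ := hform x hx hxB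
      obtain ⟨b', hb', rfl⟩ := hform y hy hyB
      apply hxy
      have e : (n * b)⁻¹ * (n * b') = b⁻¹ * b' := by group
      rw [e]
      exact mul_mem (inv_mem hb) hb'
    cases i
    · simpa using key _ _ le_sup_right D.ptr₁ (D.nod.three D.bt) E.n₁_mem E.n₁_not
    · simpa using key _ _ D.le₂ D.ptr₂ D.three₂ E.n₂_mem E.n₂_not

theorem fixPart : FixPart (D.duo E).frame (D.Bf E) where
  le := inf_le_left
  norm i := by
    have key : ∀ n, (∀ x ∈ D.Bf E, n⁻¹ * x * n ∈ D.Bf E) → n ∈ normalizer (D.Bf E : Set G) := by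
      intro n hn
      have : n⁻¹ ∈ normalizer (D.Bf E : Set G) := mem_normalizer_of_conj fun x hx => by
        rw [inv_inv]; exact hn x hx
      simpa using inv_mem this
    cases i
    · exact key n₁ fun x hx => D.Bf_n₁ E E.n₁_mem E.n₁_1 E.n₁_2 (D.R₃_n₁ E) hx
    · exact key n₂ fun x hx => D.Bf_n₂ E E.n₂_mem rfl (D.R₃_n₂ E) hx

/-- `U₁^n₂` centralises `R₃` -/
theorem X1_R₃ : rc (UU V R i₁) n₂ ≤ centralizer (rc (R i₂) n₂ : Set G) := by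
  intro x hx
  have h1 : Ce V (n₂ * x * n₂⁻¹) := fun r hr => (mem_centralizer_iff.1 (UU_le_cen i₁ (mem_rc.1 hx)) r hr).symm
  have h2 := h1.conj n₂
  have e : n₂⁻¹ * (n₂ * x * n₂⁻¹) * n₂ = x := by group
  rw [e] at h2
  rw [mem_centralizer_iff]
  exact fun r hr => (h2 r (rc_mono (D.bt.R_le i₂) n₂ hr)).symm

theorem X2_R₃ : rc (UU V R i₁) (n₂ * n₁) ≤ centralizer (rc (R i₂) n₂ : Set G) := by
  intro x hx
  rw [← rc_rc, mem_rc] at hx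
  have h1 : Ce (rc (R i₂) n₂) (n₁ * x * n₁⁻¹) := fun r hr =>
    (mem_centralizer_iff.1 (D.X1_R₃ E hx) r hr).symm
  have h2 := h1.conj n₁
  have e : n₁⁻¹ * (n₁ * x * n₁⁻¹) * n₁ = x := by group
  rw [e, D.R₃_n₁ E] at h2
  rw [mem_centralizer_iff]
  exact fun r hr => (h2 r hr).symm

/-- coordinates with root groups in `⟨U₁^n₂, U₁^(n₂ n₁)⟩` -/
theorem exists_coord [Finite F] : ∃ (v : F → F → G) (x1 x2 : F → G), Coord V R i₁ i₂ v x1 x2 ∧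
    (∀ a, x1 a ∈ rc (UU V R i₁) n₂) ∧ ∀ a, x2 a ∈ rc (UU V R i₁) (n₂ * n₁) := by
  obtain ⟨v, w1, w2, c⟩ := D.coord i₂ E.ne
  -- the action does not change
  have act : ∀ {w x : G}, x⁻¹ * w ∈ centralizer (V : Set G) → ∀ p q, x * v p q * x⁻¹ = w * v p q * w⁻¹ := by
    intro w x h p q
    have h1 := mem_centralizer_iff.1 h _ (c.v_mem p q)
    calc x * v p q * x⁻¹ = x * (v p q * (x⁻¹ * w)) * w⁻¹ := by group
      _ = x * (x⁻¹ * w * v p q) * w⁻¹ := by rw [h1]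
      _ = w * v p q * w⁻¹ := by group
  have h1 : ∀ a, ∃ x ∈ rc (UU V R i₁) n₂, ∀ p q, x * v p q * x⁻¹ = v (p + a * q) q := by
    intro a
    obtain ⟨x, hx, hxw⟩ := D.cover₁ E (D.U₁_V E) (c.w1_mem a)
    exact ⟨x, hx, fun p q => by rw [act (UU_le_cen i₁ hxw), c.w1_act]⟩
  have h2 : ∀ a, ∃ x ∈ rc (UU V R i₁) (n₂ * n₁), ∀ p q, x * v p q * x⁻¹ = v p (q + a * p) := by
    intro a
    have h3 : n₁ * w2 a * n₁⁻¹ ∈ WW V (R i₁) := by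
      rw [← mem_rc, D.W₁_n₁ E]; exact c.w2_mem a
    obtain ⟨x, hx, hxw⟩ := D.cover₁ E (D.U₁_V E) h3
    refine ⟨n₁⁻¹ * x * n₁, ?_, fun p q => ?_⟩
    · rw [← rc_rc]; exact mem_rc_conj hx
    · have h4 := mem_rc_conj (g := n₁) hxw
      rw [D.U₁_n₁ E] at h4
      have e : n₁⁻¹ * (x⁻¹ * (n₁ * w2 a * n₁⁻¹)) * n₁ = (n₁⁻¹ * x * n₁)⁻¹ * w2 a := by group
      rw [e] at h4
      rw [act (UU_le_cen i₂ h4), c.w2_act]
  choose x1 h1m h1a using h1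
  choose x2 h2m h2a using h2
  have h2W : ∀ a, x2 a ∈ WW V (R i₂) := by
    intro a
    rw [← D.W₁_n₁ E]
    have := h2m a
    rw [← rc_rc] at this
    exact rc_mono (D.U₁_n₂_le E) n₁ this
  exact ⟨v, x1, x2, { c with
    w1_mem := fun a => D.U₁_n₂_le E (h1m a)
    w2_mem := h2W
    w1_act := fun a p q => h1a a p q
    w2_act := fun a p q => h2a a p q }, h1m, h2m⟩

/-- `U₁` is determined by the flag `(R i₁, V)` -/
theorem norm_U₁ {g : G} (h1 : rc (R i₁) g = R i₁) (h2 : rc (R i₂) g = R i₂) : rc (UU V R i₁) g = UU V R i₁ := by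
  have hV : g ∈ normalizer (V : Set G) := by
    apply mem_normalizer_of_rc_eq
    rw [D.V_eq E, rc_sup, h1, h2]
  refine rc_eq_of_mem_normalizer (cj_eq_self_iff.1 (D.bt.cj_UU hV ?_))
  exact cj_eq_self_iff.2 (mem_normalizer_of_rc_eq h1)

/-- `w = n₂ n₁` maps `⟨U₁^n₂, U₁^(n₂ n₁)⟩` to `⟨U₂, U₂^n₂⟩` -/
theorem conj_w {x : G} (hx : x ∈ rc (UU V R i₁) n₂ ⊔ rc (UU V R i₁) (n₂ * n₁)) :
    (n₂ * n₁)⁻¹ * x * (n₂ * n₁) ∈ UU V R i₂ ⊔ rc (UU V R i₂) n₂ := by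
  have e1 : rc (UU V R i₁) (n₂ * (n₂ * n₁)) = UU V R i₂ := by
    rw [← mul_assoc, ← rc_rc, D.U₁_sq E, D.U₁_n₁ E]
  have e2 : rc (UU V R i₁) (n₂ * n₁ * (n₂ * n₁)) = rc (UU V R i₂) n₂ := by
    have k1 : rc (R i₁) (n₂ * n₁ * (n₂ * n₁)) = rc (R i₂) n₂ := by
      simp only [← rc_rc]
      rw [D.n₂_R E, E.n₁_1, D.R₃_n₁ E]
    have k2 : rc (R i₁) (n₁ * n₂) = rc (R i₂) n₂ := by rw [← rc_rc, E.n₁_1]
    have k3 : rc (R i₂) (n₂ * n₁ * (n₂ * n₁)) = R i₁ := by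
      simp only [← rc_rc]
      rw [D.R₃_n₁ E, D.R₃_n₂ E, E.n₁_2]
    have k4 : rc (R i₂) (n₁ * n₂) = R i₁ := by rw [← rc_rc, E.n₁_2, D.n₂_R E]
    have k : ∀ {A A' : Subgroup G}, rc A (n₂ * n₁ * (n₂ * n₁)) = A' → rc A (n₁ * n₂) = A' →
        rc A (n₂ * n₁ * (n₂ * n₁) * (n₁ * n₂)⁻¹) = A := by
      intro A A' h h'
      rw [← rc_rc, h, ← h', rc_rc, mul_inv_cancel, rc_one]
    have h := D.norm_U₁ E (k k1 k2) (k k3 k4)
    have h2 := congrArg (fun A => rc A (n₁ * n₂)) h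
    simp only [rc_rc, inv_mul_cancel_right] at h2
    rw [h2, ← rc_rc, D.U₁_n₁ E]
  have key : rc (UU V R i₁) n₂ ⊔ rc (UU V R i₁) (n₂ * n₁) ≤ rc (UU V R i₂ ⊔ rc (UU V R i₂) n₂) (n₂ * n₁)⁻¹ := by
    refine sup_le (fun y hy => ?_) (fun y hy => ?_)
    · rw [mem_rc, inv_inv]
      have := mem_rc_conj (g := n₂ * n₁) hy
      rw [rc_rc, e1] at this
      exact mem_sup_left this
    · rw [mem_rc, inv_inv]
      have := mem_rc_conj (g := n₂ * n₁) hy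
      rw [rc_rc, e2] at this
      exact mem_sup_right this
  have := key hx
  rwa [mem_rc, inv_inv] at this

/-- **BRAID** -/
theorem braid [Finite F] : (D.duo E).frame.Braid 3 := by
  obtain ⟨v, x1, x2, c, hx1, hx2⟩ := D.exists_coord E
  set l := nn x1 x2 (1 : F) with hl
  have hlX : l ∈ rc (UU V R i₁) n₂ ⊔ rc (UU V R i₁) (n₂ * n₁) :=
    mul_mem (mul_mem (mem_sup_left (hx1 _)) (mem_sup_right (hx2 _))) (mem_sup_left (hx1 _))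
  have hl1 : cj l (R i₁) = R i₂ := c.nn_R1 D.bt one_ne_zero
  have hl2 : cj l (R i₂) = R i₁ := c.nn_R2 D.bt one_ne_zero
  have hlXX : l ∈ XX V R := c.nn_mem_X D.bt 1
  have hX3 : rc (UU V R i₁) n₂ ⊔ rc (UU V R i₁) (n₂ * n₁) ≤ centralizer (rc (R i₂) n₂ : Set G) :=
    sup_le (D.X1_R₃ E) (D.X2_R₃ E)
  have hl3 : rc (rc (R i₂) n₂) l = rc (R i₂) n₂ := by
    refine Ce.rc_eq fun r hr => ?_
    exact (mem_centralizer_iff.1 (hX3 hlX) r hr).symm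
  have hn₁P := E.n₁_mem
  have hb : n₁⁻¹ * l ∈ D.Bf E := by
    rw [D.mem_Bf E]
    have hP : n₁⁻¹ * l ∈ XX V R ⊔ B := mul_mem (inv_mem hn₁P) (mem_sup_left hlXX)
    refine ⟨?_, ?_, ?_⟩
    · rw [D.nod.mem_B_iff D.bt hP, cj_mul, hl1, ← rc_eq_cj, E.n₁_2]
    · rw [← rc_rc, D.n₁_2' E]
      exact cj_eq_iff_rc.1 hl2
    · have : rc (rc (R i₂) n₂) n₁⁻¹ = rc (R i₂) n₂ := by
        conv_lhs => rw [← D.R₃_n₁ E]
        rw [rc_rc, mul_inv_cancel, rc_one]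
      rw [← rc_rc, this, hl3]
  have hU₂P : UU V R i₂ ≤ P₂ := (D.U_UU i₂).trans (D.nod.U_le.trans D.le₂)
  have h1 : (n₂ * n₁)⁻¹ * l * (n₂ * n₁) ∈ P₂ := by
    refine (sup_le hU₂P ?_) (D.conj_w E hlX)
    intro y hy
    have := mul_mem (mul_mem (inv_mem E.n₂_mem) (hU₂P (mem_rc.1 hy))) E.n₂_mem
    have e : n₂⁻¹ * (n₂ * y * n₂⁻¹) * n₂ = y := by group
    rwa [e] at this
  have hf := D.fixPart E
  have h2 : (n₂ * n₁)⁻¹ * (n₁⁻¹ * l) * (n₂ * n₁) ∈ P₂ := by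
    have h3 : n₁⁻¹ * (n₂⁻¹ * (n₁⁻¹ * l) * n₂) * n₁ ∈ D.Bf E := hf.conj' false (hf.conj' true hb)
    have e : n₁⁻¹ * (n₂⁻¹ * (n₁⁻¹ * l) * n₂) * n₁ = (n₂ * n₁)⁻¹ * (n₁⁻¹ * l) * (n₂ * n₁) := by group
    rw [e] at h3
    exact D.le₂ (hf.le h3)
  refine braid_of_conj _ (m := 2) (i := false) ?_
  have hw : RankTwoClose.alt (D.duo E).frame.n (!false) 2 = n₂ * n₁ := by
    simp [RankTwoClose.alt_succ]
  have hnxt : RankTwoClose.nxt (!false) 2 = true := by simp [RankTwoClose.nxt]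
  rw [hnxt, hw]
  show (n₂ * n₁)⁻¹ * n₁ * (n₂ * n₁) ∈ P₂
  have := mul_mem h1 (inv_mem h2)
  have e : (n₂ * n₁)⁻¹ * l * (n₂ * n₁) * ((n₂ * n₁)⁻¹ * (n₁⁻¹ * l) * (n₂ * n₁))⁻¹ =
      (n₂ * n₁)⁻¹ * n₁ * (n₂ * n₁) := by group
  rwa [e] at this

/-- **PATH** -/
theorem path [Finite F] : ∀ k < 3, (D.duo E).frame.PathTo k := by
  refine path_three (F := (D.duo E).frame) (U₁ := UU V R i₁) (U₂ := UU V R i₂) false (D.U₁_n₁ E) (D.U₂_n₁ E)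
    ((D.U_UU i₁).trans D.nod.U_le) ((D.U_UU i₂).trans D.nod.U_le) ?_ ?_ ?_ ?_
  · intro x hx
    have h1 : n₂ * x * n₂⁻¹ ∈ WW V (R i₁) :=
      BTwo.conj_mem_of_normalizer (normalizer_le_WW V (R i₁) (D.P₂_R E.n₂_mem)) (UU_le_WW i₁ hx)
    exact D.nod.U_le (D.nod.W_le h1)
  · exact (D.U₁_n₂_le E).trans (D.nod.W_le.trans D.nod.U_le)
  · intro b hb
    obtain ⟨u, hu, h, hh, rfl⟩ := D.exists_uh hb
    obtain ⟨x, hx, hxu, hxV⟩ := D.cover_U E (D.U₁_V E) hu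
    refine ⟨x, hx, x⁻¹ * u * h, mul_mem (D.nod.U_le hxu) (D.hall.H_le hh), by group, ?_⟩
    have h1 : n₁⁻¹ * (x⁻¹ * u) * n₁ ∈ B := D.nod.cen_Qk D.bt (D.nod.U_le hxu) hxV n₁ E.n₁_mem
    have h2 : n₁⁻¹ * h * n₁ ∈ B := D.hall.H_le (conj_inv_mem_of_normalizer E.n₁_H hh)
    have e : n₁⁻¹ * (x⁻¹ * u * h) * n₁ = n₁⁻¹ * (x⁻¹ * u) * n₁ * (n₁⁻¹ * h * n₁) := by group
    show n₁⁻¹ * (x⁻¹ * u * h) * n₁ ∈ B
    rw [e]
    exact mul_mem h1 h2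
  · intro b hb
    obtain ⟨u, hu, h, hh, rfl⟩ := D.exists_uh hb
    obtain ⟨x, hx, hq⟩ := D.cov E.ne hu
    have hxu : x⁻¹ * u ∈ B := Qk_le _ _ hq
    refine ⟨x, hx, x⁻¹ * u * h, mul_mem hxu (D.hall.H_le hh), by group, ?_⟩
    have h1 : n₂⁻¹ * (x⁻¹ * u) * n₂ ∈ B := hq n₂ E.n₂_mem
    have h2 : n₂⁻¹ * h * n₂ ∈ B := D.hall.H_le (conj_inv_mem_of_normalizer E.n₂_H hh)
    have e : n₂⁻¹ * (x⁻¹ * u * h) * n₂ = n₂⁻¹ * (x⁻¹ * u) * n₂ * (n₂⁻¹ * h * n₂) := by group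
    show n₂⁻¹ * (x⁻¹ * u * h) * n₂ ∈ B
    rw [e]
    exact mul_mem h1 h2

omit E in
/-- **The residue of type A2 is a generalised polygon.** -/
theorem polygon [Finite F] {I : Type*} {Q : I → Subgroup G} {x y : I} (hx : Q x = XX V R ⊔ B) (hy : Q y = P₂) :
    ∃ k, 3 ≤ k ∧ Polygon B Q x y k := by
  obtain ⟨i₂, n₁, n₂, E⟩ := D.exists_fr
  obtain ⟨k, -, h, h3⟩ := (D.duo E).exists_polygon (D.braid E) (by norm_num) (D.path E) (R := Q) (a := x) (b := y)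
    (by simpa using hx) (by simpa using hy)
  refine ⟨k, h3.2 ?_, h⟩
  intro hB
  have h1 : cj (n₁ * n₂ * n₁⁻¹ * n₂⁻¹) (R i₁) = R i₁ := cj_eq_self_iff.2 (D.nod.B_R hB)
  rw [cj_mul, cj_mul, cj_mul, cj_eq_self_iff.2 (inv_mem (D.P₂_R E.n₂_mem)), ← rc_eq_cj, E.n₁_1, ← rc_inv_eq_cj,
    ← rc_inv_eq_cj] at h1
  -- `n₁ (n₂ R₂) = R₁`
  have h2 : rc (R i₂) n₂⁻¹ = rc (R i₂) n₂ := by
    conv_lhs => rw [← D.R₃_n₂ E]
    rw [rc_rc, mul_inv_cancel, rc_one]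
  have h3 : rc (rc (R i₂) n₂) n₁⁻¹ = rc (R i₂) n₂ := by
    conv_lhs => rw [← D.R₃_n₁ E]
    rw [rc_rc, mul_inv_cancel, rc_one]
  rw [h2, h3] at h1
  apply D.R₃_bot E
  rw [eq_bot_iff_forall]
  intro z hz
  exact D.R₃_V E (D.bt.R_le i₁ (h1 ▸ hz)) hz

end PairA

end Cfsg.Agent.Omega.HOne.End
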