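import Cfsg.Agent.Omega.HOne.EndPairA

/-!
# II.0h1, END: residue of type A2: the fields `frat` and `sep`
-/

set_option autoImplicit false
set_option linter.unusedSectionVars false

namespace Cfsg.Agent.Omega.HOne.End

open Subgroup Cfsg.Agent.Omega.BTwo Cfsg.Agent.RankTwoClose
open Cfsg.Agent.ParSys (Qk FpfG SepG Polygon mem_Qk Qk_le Qk_conj Qk_conj')
open Cfsg.Agent.ParSys.Hall (HallData)
open Cfsg.Agent.ParSys.Hall.HallData (PTr)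
open scoped commutatorElement

variable {G : Type*} [Group G] {ι : Type*}

namespace PairA

variable {F : Type*} [Field F] {V : Subgroup G} {R : ι → Subgroup G} {U B H P₂ M : Subgroup G} {i₁ : ι}
  (D : PairA F V R U B H P₂ M i₁)
variable [Finite G] [Fact (Nat.Prime 2)] [CharP F 2]
include D

/-- the elements of `B` centralising `M` act trivially on the residue -/
theorem cen_le_Qk : B ⊓ centralizer (M : Set G) ≤ Qk B ((XX V R ⊔ B) ⊔ P₂) := by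
  have hV : centralizer (M : Set G) ≤ centralizer (V : Set G) := centralizer_le D.V_M
  have h1 : XX V R ⊔ B ≤ normalizer ((B ⊓ centralizer (M : Set G) : Subgroup G) : Set G) := by
    intro g hg
    refine mem_normalizer_of_conj fun c hc => ?_
    obtain ⟨hcB, hcM⟩ := mem_inf.1 hc
    refine mem_inf.2 ⟨Qk_le _ _ (Qk_conj' (D.nod.cen_Qk D.bt hcB (hV hcM)) hg), ?_⟩
    exact BTwo.conj_mem_of_normalizer (normalizer_le_normalizer_centralizer M (D.P₁_M hg)) hcM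
  have h2 : P₂ ≤ normalizer ((B ⊓ centralizer (M : Set G) : Subgroup G) : Set G) := by
    intro g hg
    refine mem_normalizer_of_conj fun c hc => ?_
    obtain ⟨hcB, hcM⟩ := mem_inf.1 hc
    have h3 := BTwo.conj_mem_of_normalizer (normalizer_le_normalizer_centralizer M (D.P₂_M hg)) hcM
    exact mem_inf.2 ⟨D.NV₂ (mem_inf.2 ⟨mul_mem (mul_mem hg (D.le₂ hcB)) (inv_mem hg), cen_le_NV V (hV h3)⟩), h3⟩
  intro c hc g hg
  exact (mem_inf.1 (conj_inv_mem_of_normalizer (sup_le h1 h2 hg) hc)).1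

/-- `U₁` and `U` commute on `M` -/
theorem U_U₁ {x z : G} (hx : x ∈ U) (hz : z ∈ UU V R i₁) {i₂ : ι} {n₁ n₂ : G} (E : Fr V R U B H P₂ i₁ i₂ n₁ n₂) :
    x * z * x⁻¹ * z⁻¹ ∈ centralizer (M : Set G) := by
  have hxM := D.P₁_M (mem_sup_right (D.nod.U_le hx))
  have hzM := D.X_M (YY_le_XX (UU_le_YY i₁ hz))
  have key : ∀ m ∈ M, x * z * m * (x * z)⁻¹ = z * x * m * (z * x)⁻¹ := by
    intro m hm
    have h1 : z * m * z⁻¹ * m⁻¹ ∈ R i₁ := by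
      have := inv_mem (D.bt.DU (D.M_D hm) hz)
      have e : (m * z * m⁻¹ * z⁻¹)⁻¹ = z * m * z⁻¹ * m⁻¹ := by group
      rwa [e] at this
    have h2 := D.U_M E hx hm
    set r := z * m * z⁻¹ * m⁻¹ with hr
    set v := x * m * x⁻¹ * m⁻¹ with hv
    have hxr := D.nod.UR x hx r h1
    have hzv : z * v * z⁻¹ = v := by
      rw [← mem_centralizer_iff.1 (UU_le_cen i₁ hz) v h2, mul_inv_cancel_right]
    have hrv := D.bt.V_comm r (D.bt.R_le i₁ h1) v h2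
    calc x * z * m * (x * z)⁻¹ = x * (r * m) * x⁻¹ := by rw [hr]; group
      _ = (x * r * x⁻¹) * (v * m) := by rw [hv]; group
      _ = r * v * m := by rw [hxr]; group
      _ = v * (r * m) := by rw [hrv]; group
      _ = (z * v * z⁻¹) * (z * m * z⁻¹) := by rw [hzv, hr]; group
      _ = z * x * m * (z * x)⁻¹ := by rw [hv]; group
  rw [mem_centralizer_iff]
  intro m' hm'
  have h1 := key _ (conj_inv_mem_of_normalizer (mul_mem hzM hxM) hm')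
  have e1 : z * x * ((z * x)⁻¹ * m' * (z * x)) * (z * x)⁻¹ = m' := by group
  rw [e1] at h1
  have e2 : x * z * ((z * x)⁻¹ * m' * (z * x)) * (x * z)⁻¹ =
      x * z * x⁻¹ * z⁻¹ * m' * (x * z * x⁻¹ * z⁻¹)⁻¹ := by group
  rw [e2, mul_inv_eq_iff_eq_mul] at h1
  exact h1.symm

variable {i₂ : ι} {n₁ n₂ : G} (E : Fr V R U B H P₂ i₁ i₂ n₁ n₂)
include E

/-- `U ∩ Qk ∩ Qk = U₁ C_U(M)` -/
theorem dec [Finite F] {u : G} (hu : u ∈ U) (h1 : u ∈ Qk B (XX V R ⊔ B)) (h2 : u ∈ Qk B P₂) :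
    ∃ z ∈ UU V R i₁, z⁻¹ * u ∈ centralizer (M : Set G) := by
  have huV := (D.nod.mem_Qk_iff_cen D.bt hu).1 h1
  have hu' : n₂ * u * n₂⁻¹ ∈ U := by
    have h4 : n₂⁻¹⁻¹ * u * n₂⁻¹ ∈ U := D.two_elt hu (Qk_le _ _ (Qk_conj h2 (inv_mem E.n₂_mem)))
    rwa [inv_inv] at h4
  obtain ⟨x, hx, -, hxc⟩ := D.cover_U E (D.U₁_V E) hu'
  have hz : n₂⁻¹ * x * n₂ ∈ UU V R i₁ := by
    have := mem_rc_conj (g := n₂) hx
    rwa [rc_rc, D.U₁_sq E] at this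
  refine ⟨_, hz, ?_⟩
  have e : (n₂⁻¹ * x * n₂)⁻¹ * u = n₂⁻¹ * (x⁻¹ * (n₂ * u * n₂⁻¹)) * n₂ := by group
  have h3 : (n₂⁻¹ * x * n₂)⁻¹ * u ∈ centralizer (V : Set G) := mul_mem (inv_mem (UU_le_cen i₁ hz)) huV
  have h4 : Ce (rc V n₂) ((n₂⁻¹ * x * n₂)⁻¹ * u) := by
    rw [e]
    exact Ce.conj (fun r hr => (mem_centralizer_iff.1 hxc r hr).symm) n₂
  generalize (n₂⁻¹ * x * n₂)⁻¹ * u = y at h3 h4
  have h5 : M ≤ centralizer {y} := by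
    refine (D.M_le E).trans (sup_le ?_ ?_)
    · exact fun r hr => mem_centralizer_singleton_iff.2 (mem_centralizer_iff.1 h3 r hr)
    · exact fun r hr => mem_centralizer_singleton_iff.2 (h4 r (rc_mono (D.bt.R_le i₂) n₂ hr)).symm
  rw [mem_centralizer_iff]
  exact fun m hm => mem_centralizer_singleton_iff.1 (h5 hm)

/-- `(U ∩ Qk ∩ Qk) / C_U(M)` is central in `U / C_U(M)` -/
theorem cenMod_Q [Finite F] : CenMod U (U ⊓ (Qk B (XX V R ⊔ B) ⊓ Qk B P₂)) (U ⊓ centralizer (M : Set G)) where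
  C_le := inf_le_left
  J_le := inf_le_left
  J_norm x hx c hc := by
    obtain ⟨h1, h2⟩ := mem_inf.1 hc
    exact mem_inf.2 ⟨mul_mem (mul_mem hx h1) (inv_mem hx), BTwo.conj_mem_of_normalizer
      (normalizer_le_normalizer_centralizer M (D.P₁_M (mem_sup_right (D.nod.U_le hx)))) h2⟩
  comm x hx c hc := by
    obtain ⟨h1, h2⟩ := mem_inf.1 hc
    obtain ⟨h2, h3⟩ := mem_inf.1 h2
    obtain ⟨z, hz, hk⟩ := D.dec E h1 h2 h3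
    have hzU := D.U_UU i₁ hz
    have hxM := normalizer_le_normalizer_centralizer M (D.P₁_M (mem_sup_right (D.nod.U_le hx)))
    have hzM := normalizer_le_normalizer_centralizer M (D.X_M (YY_le_XX (UU_le_YY i₁ hz)))
    refine mem_inf.2 ⟨mul_mem (mul_mem (mul_mem hx h1) (inv_mem hx)) (inv_mem h1), ?_⟩
    have h4 := D.U_U₁ hx hz E
    have h5 := mul_mem (BTwo.conj_mem_of_normalizer hxM hk) (inv_mem hk)
    have h6 := BTwo.conj_mem_of_normalizer hzM h5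
    have h7 := mul_mem h4 h6
    have e : x * z * x⁻¹ * z⁻¹ * (z * (x * (z⁻¹ * c) * x⁻¹ * (z⁻¹ * c)⁻¹) * z⁻¹) = x * c * x⁻¹ * c⁻¹ := by group
    rwa [e] at h7

omit E in
/-- **The field `frat`.** -/
theorem frat [Finite F] (T : Subgroup G) (hT : T ≤ U)
    (hcov : ∀ u ∈ U, ∃ t ∈ T, t⁻¹ * u ∈ Qk B (XX V R ⊔ B) ∧ t⁻¹ * u ∈ Qk B P₂) :
    ∀ u ∈ U, ∃ t ∈ T, t⁻¹ * u ∈ Qk B ((XX V R ⊔ B) ⊔ P₂) := by
  obtain ⟨i₂, n₁, n₂, E⟩ := D.exists_fr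
  have hK : U ⊓ centralizer (M : Set G) ≤ Qk B ((XX V R ⊔ B) ⊔ P₂) :=
    (inf_le_inf_right _ D.nod.U_le).trans D.cen_le_Qk
  have C := D.cenMod_Q E
  have hUM : ∀ x ∈ U, ∀ c ∈ U ⊓ centralizer (M : Set G), x⁻¹ * c * x ∈ U ⊓ centralizer (M : Set G) :=
    fun x hx c hc => C.norm' hx hc
  -- `T` covers `U₁`
  have key : ∀ z ∈ UU V R i₁, ∃ t ∈ T, t⁻¹ * z ∈ U ⊓ centralizer (M : Set G) := by
    intro z hz
    obtain ⟨w, hw, hwV⟩ := Set.not_subset.1 (D.U₁_V E)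
    have hwW : w ∈ WW V (R i₁) := D.U₁_n₂_le E hw
    have hwU : w ∈ U := D.nod.W_le hwW
    have hw' : w ∉ UU V R i₁ := fun h => hwV (UU_le_cen i₁ h)
    obtain ⟨u, hu, hd⟩ := D.bt.surj (Ne.symm E.ne) hwW hw' hz
    have huU := D.U_UU i₂ hu
    obtain ⟨t₁, ht₁, a1, a2⟩ := hcov w hwU
    obtain ⟨t₂, ht₂, b1, b2⟩ := hcov u huU
    have hq : ∀ {x t : G}, x ∈ U → t ∈ T → t⁻¹ * x ∈ Qk B (XX V R ⊔ B) → t⁻¹ * x ∈ Qk B P₂ →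
        x * t⁻¹ ∈ U ⊓ (Qk B (XX V R ⊔ B) ⊓ Qk B P₂) := by
      intro x t hx ht h1 h2
      have htB := D.nod.U_le (hT ht)
      have k1 := Qk_conj' h1 (mem_sup_right htB : t ∈ XX V R ⊔ B)
      have k2 := Qk_conj' h2 (D.le₂ htB)
      have e : t * (t⁻¹ * x) * t⁻¹ = x * t⁻¹ := by group
      rw [e] at k1 k2
      exact mem_inf.2 ⟨mul_mem hx (inv_mem (hT ht)), mem_inf.2 ⟨k1, k2⟩⟩
    have h1 := C.commutator_mul (hq hwU ht₁ a1 a2) (hq huU ht₂ b1 b2) (hT ht₁) (hT ht₂)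
    rw [inv_mul_cancel_right, inv_mul_cancel_right] at h1
    refine ⟨⁅t₁, t₂⁆, ?_, ?_⟩
    · rw [commutatorElement_def]
      exact mul_mem (mul_mem (mul_mem ht₁ ht₂) (inv_mem ht₁)) (inv_mem ht₂)
    · have ht : ⁅t₁, t₂⁆ ∈ U := by
        rw [commutatorElement_def]
        exact mul_mem (mul_mem (mul_mem (hT ht₁) (hT ht₂)) (inv_mem (hT ht₁))) (inv_mem (hT ht₂))
      have h2 := hUM _ ht _ h1
      have h3 : (⁅w, u⁆)⁻¹ * z ∈ U ⊓ centralizer (M : Set G) := by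
        rw [commutatorElement_def]
        refine mem_inf.2 ⟨D.U_UU i₁ (D.bt.D_le_U i₁ hd), ?_⟩
        rw [mem_centralizer_iff]
        exact fun m hm => D.bt.D_comm (D.M_D hm) hd
      have h4 := mul_mem h2 h3
      have e : (⁅t₁, t₂⁆)⁻¹ * (⁅w, u⁆ * (⁅t₁, t₂⁆)⁻¹) * ⁅t₁, t₂⁆ * ((⁅w, u⁆)⁻¹ * z) = (⁅t₁, t₂⁆)⁻¹ * z := by group
      rwa [e] at h4
  intro u hu
  obtain ⟨t, ht, h1, h2⟩ := hcov u hu
  have hqU : t⁻¹ * u ∈ U := mul_mem (inv_mem (hT ht)) hu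
  obtain ⟨z, hz, hk⟩ := D.dec E hqU h1 h2
  obtain ⟨t', ht', hk'⟩ := key z hz
  refine ⟨t * t', mul_mem ht ht', hK ?_⟩
  have hkU : z⁻¹ * (t⁻¹ * u) ∈ U ⊓ centralizer (M : Set G) :=
    mem_inf.2 ⟨mul_mem (inv_mem (D.U_UU i₁ hz)) hqU, hk⟩
  have h3 := mul_mem hk' hkU
  have e : t'⁻¹ * z * (z⁻¹ * (t⁻¹ * u)) = (t * t')⁻¹ * u := by group
  rwa [e] at h3

/-! ### the torus -/

/-- an element of `U₂` which centralises `R₃` acts trivially on the panel -/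
theorem Qk_of_R₃ {y : G} (hy : y ∈ UU V R i₂) (h : ∀ r ∈ rc (R i₂) n₂, y * r * y⁻¹ = r) : y ∈ Qk B P₂ := by
  have hyU := D.U_UU i₂ hy
  refine D.reg₂ y hyU n₂⁻¹ (inv_mem E.n₂_mem) (D.n₂_inv_not E) ?_
  rw [inv_inv]
  refine D.NV₂ (mem_inf.2 ⟨mul_mem (mul_mem E.n₂_mem (D.le₂ (D.nod.U_le hyU))) (inv_mem E.n₂_mem),
    mem_normalizer_of_rc_eq ?_⟩)
  have h1 : rc (rc V n₂) y = rc V n₂ := by
    rw [D.V_n₂ E, rc_sup]
    congr 1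
    · refine Ce.rc_eq fun r hr => ?_
      exact (mem_centralizer_iff.1 (UU_le_cen i₂ hy) r (D.bt.R_le i₁ hr)).symm
    · refine Ce.rc_eq fun r hr => ?_
      rw [← mul_inv_eq_iff_eq_mul, h r hr]
  rw [← rc_rc, ← rc_rc]
  have h2 : rc (rc (rc V n₂) y) n₂⁻¹ = V := by rw [h1, rc_rc, mul_inv_cancel, rc_one]
  have h3 : rc V n₂ = rc (rc V (n₂ * y * n₂⁻¹)) n₂ := by
    rw [rc_rc, inv_mul_cancel_right, ← rc_rc, h1]
  have h4 := rc_inj h3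
  rw [← rc_rc, ← rc_rc] at h4
  exact h4.symm

/-- `n₁` acts trivially on `M / V`, so `n₁ b n₁⁻¹` acts on `R₃` as `b` -/
theorem n₁_act₃ {b : G} (hb : b ∈ H) {r : G}
    (hr : r ∈ rc (R i₂) n₂) : n₁ * b * n₁⁻¹ * r * (n₁ * b * n₁⁻¹)⁻¹ = b * r * b⁻¹ := by
  have hrM := D.R₃_M E hr
  have hyV : n₁ ∈ normalizer (V : Set G) := D.n₁_V E
  have hyM : n₁ ∈ normalizer (M : Set G) := D.P₁_M E.n₁_mem
  have hy1 : ∀ m ∈ M, n₁ * m * n₁⁻¹ * m⁻¹ ∈ V := by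
    intro m hm
    have hn : U ≤ normalizer (XX V R : Set G) := D.nod.U_le.trans (D.nod.B_X D.bt)
    have h0 := E.n₁_XU
    rw [sup_comm] at h0
    obtain ⟨x, hx, u, hu, e⟩ := Solvable.Glauberman.exists_mul_of_mem_sup U (XX V R) hn h0
    have h1 := D.U_M E hu hm
    have h2 := BTwo.conj_mem_of_normalizer (D.P₁_M (mem_sup_right (D.nod.U_le hu))) hm
    have h3 := D.bt.XD hx (D.M_D h2)
    have h4 := mul_mem h3 h1
    have e2 : x * (u * m * u⁻¹) * x⁻¹ * (u * m * u⁻¹)⁻¹ * (u * m * u⁻¹ * m⁻¹) = n₁ * m * n₁⁻¹ * m⁻¹ := by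
      rw [e]; group
    rwa [e2] at h4
  have hbV := D.nod.B_V (D.hall.H_le hb)
  have hbM := D.P₁_M (mem_sup_right (D.hall.H_le hb))
  -- modulo `V`
  have h1 : n₁ * b * n₁⁻¹ * r * (n₁ * b * n₁⁻¹)⁻¹ * (b * r * b⁻¹)⁻¹ ∈ V := by
    have k1 := hy1 _ (BTwo.conj_mem_of_normalizer hbM (conj_inv_mem_of_normalizer hyM hrM))
    have k2 := BTwo.conj_mem_of_normalizer hbV (inv_mem (hy1 _ (conj_inv_mem_of_normalizer hyM hrM)))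
    have k3 := mul_mem k1 k2
    have e2 : n₁ * (b * (n₁⁻¹ * r * n₁) * b⁻¹) * n₁⁻¹ * (b * (n₁⁻¹ * r * n₁) * b⁻¹)⁻¹ *
        (b * (n₁ * (n₁⁻¹ * r * n₁) * n₁⁻¹ * (n₁⁻¹ * r * n₁)⁻¹)⁻¹ * b⁻¹) =
        n₁ * b * n₁⁻¹ * r * (n₁ * b * n₁⁻¹)⁻¹ * (b * r * b⁻¹)⁻¹ := by group
    rwa [e2] at k3
  have hb' : n₁ * b * n₁⁻¹ ∈ H := BTwo.conj_mem_of_normalizer E.n₁_H hb
  have h2 : ∀ {b : G}, b ∈ H → b * r * b⁻¹ ∈ rc (R i₂) n₂ := by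
    intro b hb
    rw [← D.R₃_H E (inv_mem hb), mem_rc]
    have e : b⁻¹ * (b * r * b⁻¹) * b⁻¹⁻¹ = r := by group
    rwa [e]
  exact mul_inv_eq_one.1 (D.R₃_V E h1 (mul_mem (h2 hb') (inv_mem (h2 hb))))

/-- the elements of the torus of `X` act trivially on `R₃` -/
theorem tor_R₃ {v : F → F → G} {w1 w2 : F → G} (c : Coord V R i₁ i₂ v w1 w2) {a : F}
    {h u : G} (hh' : h ∈ H) (hu : u ∈ U) (huV : u ∈ centralizer (V : Set G)) (e : hh w1 w2 a = u * h)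
    {r : G} (hr : r ∈ rc (R i₂) n₂) : h * r * h⁻¹ = r := by
  have h1 : ∀ m ∈ M, h * m * h⁻¹ * m⁻¹ ∈ V := by
    intro m hm
    have h2 := D.bt.XD (c.hh_mem_X D.bt a) (D.M_D hm)
    have h3 := D.U_M E (inv_mem hu) hm
    have h4 := mul_mem (conj_inv_mem_of_normalizer (cen_le_NV V huV) h2) h3
    have e2 : u⁻¹ * (hh w1 w2 a * m * (hh w1 w2 a)⁻¹ * m⁻¹) * u * (u⁻¹ * m * u⁻¹⁻¹ * m⁻¹) =
        h * m * h⁻¹ * m⁻¹ := by rw [e]; group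
    rwa [e2] at h4
  have h3 : h * r * h⁻¹ ∈ rc (R i₂) n₂ := by
    rw [← D.R₃_H E (inv_mem hh'), mem_rc]
    have e3 : h⁻¹ * (h * r * h⁻¹) * h⁻¹⁻¹ = r := by group
    rwa [e3]
  exact mul_inv_eq_one.1 (D.R₃_V E (h1 r (D.R₃_M E hr)) (mul_mem h3 (inv_mem hr)))

omit E in
/-- **The field `torus`.** -/
theorem sepG [Finite F] (hC : P₂ ≤ (P₂ ⊓ centralizer (R i₁ : Set G)) ⊔ B)
    (hF : ∃ a : F, a ≠ 0 ∧ a ^ 3 ≠ 1) : SepG 2 B U P₂ (XX V R ⊔ B) := by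
  obtain ⟨i₂, n₁, n₂, E, hn₂C⟩ := D.exists_fr_cen hC
  obtain ⟨a, ha, ha3⟩ := hF
  obtain ⟨v, w1, w2, c⟩ := D.coord i₂ E.ne
  obtain ⟨t, ht, hact, u, hu, huV, e⟩ := D.exists_tor E.ne E.H_R c ha
  have ht3 : ∀ r ∈ rc (R i₂) n₂, t * r * t⁻¹ = r := fun r hr => D.tor_R₃ E c ht hu huV e hr
  set s := n₂⁻¹ * t * n₂ with hs
  have hsH : s ∈ H := conj_inv_mem_of_normalizer E.n₂_H ht
  have htR1 : ∀ x, t * v x 0 * t⁻¹ = v (a * x) 0 := fun x => by rw [hact, mul_zero]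
  have htR2 : ∀ y, t * v 0 y * t⁻¹ = v 0 (a⁻¹ * y) := fun y => by rw [hact, mul_zero]
  -- the action of `s`
  have hsR1 : ∀ x, s * v x 0 * s⁻¹ = v (a * x) 0 := by
    intro x
    have h1 : ∀ y, n₂ * v y 0 * n₂⁻¹ = v y 0 := fun y => by
      rw [← mem_centralizer_iff.1 hn₂C _ ((c.mem_R1 _).2 ⟨y, rfl⟩), mul_inv_cancel_right]
    have h2 : n₂⁻¹ * v (a * x) 0 * n₂ = v (a * x) 0 := by
      conv_lhs => rw [← h1 (a * x)]
      group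
    have e3 : s * v x 0 * s⁻¹ = n₂⁻¹ * (t * (n₂ * v x 0 * n₂⁻¹) * t⁻¹) * n₂ := by rw [hs]; group
    rw [e3, h1, htR1, h2]
  have hn₂R2 : rc (R i₂) n₂⁻¹ = rc (R i₂) n₂ := by
    conv_lhs => rw [← D.R₃_n₂ E]
    rw [rc_rc, mul_inv_cancel, rc_one]
  have hsR2 : ∀ r ∈ R i₂, s * r * s⁻¹ = r := by
    intro r hr
    have h1 : n₂ * r * n₂⁻¹ ∈ rc (R i₂) n₂ := by
      rw [← hn₂R2, mem_rc]
      have e3 : n₂⁻¹ * (n₂ * r * n₂⁻¹) * n₂⁻¹⁻¹ = r := by group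
      rwa [e3]
    have h2 := ht3 _ h1
    have e3 : s * r * s⁻¹ = n₂⁻¹ * (t * (n₂ * r * n₂⁻¹) * t⁻¹) * n₂ := by rw [hs]; group
    rw [e3, h2]; group
  set b := t * s with hb
  have hbH : b ∈ H := mul_mem ht hsH
  have hbR1 : ∀ x, b * v x 0 * b⁻¹ = v (a * a * x) 0 := by
    intro x
    have e3 : b * v x 0 * b⁻¹ = t * (s * v x 0 * s⁻¹) * t⁻¹ := by rw [hb]; group
    rw [e3, hsR1, htR1, mul_assoc]
  have hbR2 : ∀ y, b * v 0 y * b⁻¹ = v 0 (a⁻¹ * y) := by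
    intro y
    have e3 : b * v 0 y * b⁻¹ = t * (s * v 0 y * s⁻¹) * t⁻¹ := by rw [hb]; group
    rw [e3, hsR2 _ ((c.mem_R2 _).2 ⟨y, rfl⟩), htR2]
  have hbact : ∀ x y, b * v x y * b⁻¹ = v (a * a * x) (a⁻¹ * y) := by
    intro x y
    have h1 := c.v_add x 0 0 y
    rw [add_zero, zero_add] at h1
    have h2 := c.v_add (a * a * x) 0 0 (a⁻¹ * y)
    rw [add_zero, zero_add] at h2
    rw [h1, h2, ← hbR1, ← hbR2]; group
  -- `b₁ = n₁ b n₁⁻¹`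
  have hb₁H : n₁ * b * n₁⁻¹ ∈ H := BTwo.conj_mem_of_normalizer E.n₁_H hbH
  have hb₁ := D.n₁_act E c hbact
  have hb₁3 : ∀ r ∈ rc (R i₂) n₂, n₁ * b * n₁⁻¹ * r * (n₁ * b * n₁⁻¹)⁻¹ = s * r * s⁻¹ := by
    intro r hr
    rw [D.n₁_act₃ E hbH hr]
    have hsr : s * r * s⁻¹ ∈ rc (R i₂) n₂ := by
      rw [← D.R₃_H E (inv_mem hsH), mem_rc]
      have e3 : s⁻¹ * (s * r * s⁻¹) * s⁻¹⁻¹ = r := by group
      rwa [e3]
    have e3 : b * r * b⁻¹ = t * (s * r * s⁻¹) * t⁻¹ := by rw [hb]; group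
    rw [e3, ht3 _ hsr]
  set g := n₂ * n₁ with hg
  -- `g b g⁻¹` acts on `V` as the scalar `a⁻¹`
  have hgb : g * b * g⁻¹ = n₂ * (n₁ * b * n₁⁻¹) * n₂⁻¹ := by rw [hg]; group
  have hg1 : ∀ x, g * b * g⁻¹ * v x 0 * (g * b * g⁻¹)⁻¹ = v (a⁻¹ * x) 0 := by
    intro x
    have h1 : ∀ y, n₂ * v y 0 * n₂⁻¹ = v y 0 := fun y => by
      rw [← mem_centralizer_iff.1 hn₂C _ ((c.mem_R1 _).2 ⟨y, rfl⟩), mul_inv_cancel_right]
    have h2 : n₂⁻¹ * v x 0 * n₂ = v x 0 := by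
      conv_lhs => rw [← h1 x]
      group
    have e3 : g * b * g⁻¹ * v x 0 * (g * b * g⁻¹)⁻¹ =
        n₂ * (n₁ * b * n₁⁻¹ * (n₂⁻¹ * v x 0 * n₂) * (n₁ * b * n₁⁻¹)⁻¹) * n₂⁻¹ := by rw [hgb]; group
    rw [e3, h2, hb₁, mul_zero, h1]
  have hg2 : ∀ y, g * b * g⁻¹ * v 0 y * (g * b * g⁻¹)⁻¹ = v 0 (a⁻¹ * y) := by
    intro y
    have h1 : n₂⁻¹ * v 0 y * n₂ ∈ rc (R i₂) n₂ := mem_rc_conj ((c.mem_R2 _).2 ⟨y, rfl⟩)
    have h2 := hb₁3 _ h1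
    have e3 : g * b * g⁻¹ * v 0 y * (g * b * g⁻¹)⁻¹ =
        n₂ * (n₁ * b * n₁⁻¹ * (n₂⁻¹ * v 0 y * n₂) * (n₁ * b * n₁⁻¹)⁻¹) * n₂⁻¹ := by rw [hgb]; group
    have e4 : n₂ * (s * (n₂⁻¹ * v 0 y * n₂) * s⁻¹) * n₂⁻¹ = t * v 0 y * t⁻¹ := by rw [hs]; group
    rw [e3, h2, e4, htR2]
  have hgact : ∀ x y, g * b * g⁻¹ * v x y * (g * b * g⁻¹)⁻¹ = v (a⁻¹ * x) (a⁻¹ * y) := by
    intro x y
    have h1 := c.v_add x 0 0 y
    rw [add_zero, zero_add] at h1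
    have h2 := c.v_add (a⁻¹ * x) 0 0 (a⁻¹ * y)
    rw [add_zero, zero_add] at h2
    rw [h1, h2, ← hg1, ← hg2]; group
  -- points
  have hR3g : rc (R i₂) g = rc (R i₂) n₂ := by rw [hg, ← rc_rc, D.R₃_n₁ E]
  have hW : ∀ x ∈ UU V R i₂, g * x * g⁻¹ ∈ WW V (R i₁) := by
    intro x hx
    rw [← mem_rc, hg, ← rc_rc, D.W₁_n₂ E, D.W₁_n₁ E]
    exact UU_le_WW i₂ hx
  -- `b` commutes with the action of `U₂` on `R₂ R₃`
  have hbx : ∀ x ∈ UU V R i₂, ∀ r ∈ rc (R i₂) n₂,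
      b * x * b⁻¹ * x⁻¹ * r * (b * x * b⁻¹ * x⁻¹)⁻¹ = r := by
    intro x hx r hr
    have hr' : g * r * g⁻¹ ∈ R i₂ := by rw [← mem_rc, hR3g]; exact hr
    obtain ⟨y, hy⟩ := (c.mem_R2 _).1 hr'
    obtain ⟨d, hd⟩ := c.W1_act _ (hW x hx)
    have hdinv : ∀ p q, (g * x * g⁻¹)⁻¹ * v p q * (g * x * g⁻¹) = v (p - d * q) q := by
      intro p q
      have := hd (p - d * q) q
      rw [sub_add_cancel] at this
      rw [← this]; group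
    have hginv : ∀ p q, (g * b * g⁻¹)⁻¹ * v p q * (g * b * g⁻¹) = v (a * p) (a * q) := by
      intro p q
      have h5 : ∀ z : F, a⁻¹ * (a * z) = z := fun z => by rw [← mul_assoc, inv_mul_cancel₀ ha, one_mul]
      have := hgact (a * p) (a * q)
      rw [h5, h5] at this
      rw [← this]; group
    have e3 : g * (b * x * b⁻¹ * x⁻¹ * r * (b * x * b⁻¹ * x⁻¹)⁻¹) * g⁻¹ =
        g * b * g⁻¹ * ((g * x * g⁻¹) * ((g * b * g⁻¹)⁻¹ * ((g * x * g⁻¹)⁻¹ * (g * r * g⁻¹) * (g * x * g⁻¹)) *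
          (g * b * g⁻¹)) * (g * x * g⁻¹)⁻¹) * (g * b * g⁻¹)⁻¹ := by group
    have h1 : g * (b * x * b⁻¹ * x⁻¹ * r * (b * x * b⁻¹ * x⁻¹)⁻¹) * g⁻¹ = g * r * g⁻¹ := by
      rw [e3, ← hy, hdinv, hginv, hd, hgact]
      congr 1
      · ring
      · rw [← mul_assoc, inv_mul_cancel₀ ha, one_mul]
    have e4 : ∀ z : G, g⁻¹ * (g * z * g⁻¹) * g = z := fun z => by group
    rw [← e4 (b * x * b⁻¹ * x⁻¹ * r * (b * x * b⁻¹ * x⁻¹)⁻¹), h1, e4]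
  have hbB := D.hall.H_le hbH
  refine D.nod.sepG D.bt E.ne hbB ⟨Nat.card H, ?_, ?_⟩ (cj_eq_self_iff.2 (E.H_R hbH)) ?_ ?_
  · exact D.hall.H_cop
  · exact ParSys.Hall.pow_card_of_mem hbH
  · refine fun k hk => D.fix_two' E.ne c ?_ hbact k hk
    intro h
    apply ha3
    calc a ^ 3 = a * a * a := by ring
      _ = a⁻¹ * a := by rw [h]
      _ = 1 := inv_mul_cancel₀ ha
  · intro y hy
    obtain ⟨x, hx, hq⟩ := D.cov E.ne hy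
    have hxU := D.U_UU i₂ hx
    have hbx2 : b * x * b⁻¹ * x⁻¹ ∈ UU V R i₂ := by
      have h1 : cj b (UU V R i₂) = UU V R i₂ :=
        D.bt.cj_UU (D.nod.B_V hbB) (cj_eq_self_iff.2 (E.H_R hbH))
      have h2 : b * x * b⁻¹ ∈ UU V R i₂ := by rw [← h1]; exact conj_mem_cj hx
      exact mul_mem h2 (inv_mem hx)
    have h1 := D.Qk_of_R₃ E hbx2 (hbx x hx)
    have h2 : b * (x⁻¹ * y) * b⁻¹ * (x⁻¹ * y)⁻¹ ∈ Qk B P₂ :=
      mul_mem (Qk_conj' hq (D.le₂ hbB)) (inv_mem hq)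
    have h3 := Qk_conj' h2 (D.le₂ (D.nod.U_le hxU))
    have h4 := mul_mem h1 h3
    have e3 : b * x * b⁻¹ * x⁻¹ * (x * (b * (x⁻¹ * y) * b⁻¹ * (x⁻¹ * y)⁻¹) * x⁻¹) = b * y * b⁻¹ * y⁻¹ := by group
    rwa [e3] at h4

end PairA

end Cfsg.Agent.Omega.HOne.End
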