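import Cfsg.Agent.Omega.Lie.End.Top
import Cfsg.Agent.Omega.HOne.EndPairASep

/-!
# The residue `(0, k)` of type alpha

`res0_alpha` : the literal `Res0` of `Lie/End/Top.lean` for a node of type alpha, over a bare `BT V R`.
-/

set_option autoImplicit false
set_option linter.unusedSectionVars false

namespace Cfsg.Agent.Omega.HOne.End

open Subgroup Cfsg.Agent.Omega.BTwo
open Cfsg.Agent.ParSys (Qk FpfG SepG Polygon mem_Qk Qk_le Qk_conj Qk_conj' fix_of_fpfG)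
open Cfsg.Agent.Omega.Lie.Zero (Dat P0)
open Cfsg.Agent.Omega.Lie.End (Pre PPo Res0 exists_hall_of_index)

universe u v w

variable {G : Type u} [Group G] {ι : Type w} {V : Subgroup G} {R : ι → Subgroup G} {i j : ι} {F : Type v} [Field F]
  {v : F → F → G} {w1 w2 : F → G}

/-- conjugate coordinates -/
theorem Coord.conj (b : BT V R) (c : Coord V R i j v w1 w2) {g : G} (hg : g ∈ normalizer (V : Set G)) {i' j' : ι}
    (hi : cj g (R i) = R i') (hj : cj g (R j) = R j') :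
    Coord V R i' j' (fun p q => g * v p q * g⁻¹) (fun a => g * w1 a * g⁻¹) (fun a => g * w2 a * g⁻¹) where
  ne := by
    rintro rfl
    exact c.ne (b.R_index (cj_injective (hi.trans hj.symm)))
  v_add p q p' q' := by rw [c.v_add]; group
  v_one p q h := c.v_one p q (by
    have := congrArg (fun z => g⁻¹ * z * g) h
    simpa [mul_assoc] using this)
  mem_V x := by
    constructor
    · intro hx
      obtain ⟨p, q, e⟩ := (c.mem_V _).1 (conj_inv_mem_of_normalizer hg hx)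
      exact ⟨p, q, by rw [e]; group⟩
    · rintro ⟨p, q, rfl⟩
      exact conj_mem_of_normalizer hg (c.v_mem p q)
  mem_R1 x := by
    rw [← hi, mem_cj, c.mem_R1]
    constructor
    · rintro ⟨p, e⟩; exact ⟨p, by rw [e]; group⟩
    · rintro ⟨p, rfl⟩; exact ⟨p, by group⟩
  mem_R2 x := by
    rw [← hj, mem_cj, c.mem_R2]
    constructor
    · rintro ⟨p, e⟩; exact ⟨p, by rw [e]; group⟩
    · rintro ⟨p, rfl⟩; exact ⟨p, by group⟩
  w1_mem a := by
    rw [← b.cj_WW hi]; exact conj_mem_cj (c.w1_mem a)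
  w2_mem a := by
    rw [← b.cj_WW hj]; exact conj_mem_cj (c.w2_mem a)
  w1_act a p q := by
    have e : g * w1 a * g⁻¹ * (g * v p q * g⁻¹) * (g * w1 a * g⁻¹)⁻¹ = g * (w1 a * v p q * (w1 a)⁻¹) * g⁻¹ := by group
    rw [e, c.w1_act]
  w2_act a p q := by
    have e : g * w2 a * g⁻¹ * (g * v p q * g⁻¹) * (g * w2 a * g⁻¹)⁻¹ = g * (w2 a * v p q * (w2 a)⁻¹) * g⁻¹ := by group
    rw [e, c.w2_act]
  W1_act x hx := by
    rw [← b.cj_WW hi, mem_cj] at hx
    obtain ⟨a, ha⟩ := c.W1_act _ hx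
    refine ⟨a, fun p q => ?_⟩
    have e : x * (g * v p q * g⁻¹) * x⁻¹ = g * ((g⁻¹ * x * g) * v p q * (g⁻¹ * x * g)⁻¹) * g⁻¹ := by group
    rw [e, ha]
  W2_act x hx := by
    rw [← b.cj_WW hj, mem_cj] at hx
    obtain ⟨a, ha⟩ := c.W2_act _ hx
    refine ⟨a, fun p q => ?_⟩
    have e : x * (g * v p q * g⁻¹) * x⁻¹ = g * ((g⁻¹ * x * g) * v p q * (g⁻¹ * x * g)⁻¹) * g⁻¹ := by group
    rw [e, ha]

/-- coordinates for every second point -/
theorem exists_coord_snd (b : BT V R) (c : Coord V R i j v w1 w2) {l : ι} (hl : i ≠ l) :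
    ∃ (v : F → F → G) (w1 w2 : F → G), Coord V R i l v w1 w2 := by
  obtain ⟨w, hw, e⟩ := b.trans i c.ne.symm hl.symm
  exact ⟨_, _, _, Coord.conj b c (b.W_le_NV i hw) (cj_eq_self_iff.2 (b.W_le_N i hw)) e⟩

/-- `Nod` from `Dat` -/
theorem nod_of_dat (b : BT V R) {B U : Subgroup G} (D : Dat V R i B U) : Nod V R U B i where
  U_le := D.UB
  W_le := D.WU
  B_V := D.BV
  B_R := D.BR
  UR u hu a ha := by
    obtain ⟨w, hw, hc⟩ := D.UC u hu
    have h1 := mem_centralizer_iff.1 hc a (b.R_le i ha)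
    have h2 := b.conj_R (b.W_le_Q i hw) ha
    calc u * a * u⁻¹ = w * (w⁻¹ * u * a) * (w⁻¹ * u)⁻¹ * w⁻¹ := by group
      _ = w * (a * (w⁻¹ * u)) * (w⁻¹ * u)⁻¹ * w⁻¹ := by rw [← h1]
      _ = w * a * w⁻¹ := by group
      _ = a := h2
  UV u hu v hv := by
    obtain ⟨w, hw, hc⟩ := D.UC u hu
    have h1 := mem_centralizer_iff.1 hc v hv
    have h2 := b.QV i w (b.W_le_Q i hw) v hv
    have e : u * v * u⁻¹ * v⁻¹ = w * v * w⁻¹ * v⁻¹ := by
      calc u * v * u⁻¹ * v⁻¹ = w * (w⁻¹ * u * v) * (w⁻¹ * u)⁻¹ * w⁻¹ * v⁻¹ := by group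
        _ = w * (v * (w⁻¹ * u)) * (w⁻¹ * u)⁻¹ * w⁻¹ * v⁻¹ := by rw [← h1]
        _ = w * v * w⁻¹ * v⁻¹ := by group
    rwa [e]
  X_B := D.XB

/-- **The local data of a node of type alpha**: `M` is abelian of order `q³`, inside `D`, invariant under `P`; the
conjugates of `V` under `P` are its lines through `R i`. -/
structure Alpha (V : Subgroup G) (R : ι → Subgroup G) (i : ι) (B U P M : Subgroup G) : Prop where
  V_M : V ≤ M
  M_D : M ≤ DD V R
  P_M : P ≤ normalizer (M : Set G)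
  P_R : P ≤ normalizer (R i : Set G)
  span : ∀ x ∈ P, x ∉ B → M ≤ V ⊔ cj x V
  meet : ∀ x ∈ P, x ∉ B → V ⊓ cj x V ≤ R i
  U₁_M : ¬ UU V R i ≤ centralizer (M : Set G)
  cov : ∀ u ∈ U, ∃ x ∈ YY V R, x⁻¹ * u ∈ Qk B P

theorem pairA_of [Finite G] [CharP F 2] (b : BT V R) {B U : Subgroup G} (D : Dat V R i B U)
    (c : Coord V R i j v w1 w2) (hF : ∃ a : F, a ≠ 0 ∧ a ≠ 1) {J : Type} {P : J → Subgroup G} {m : J → J → ℕ}
    (pre : Pre 2 B U P m) {k : J} (hUU : UU V R j ≤ U) {M : Subgroup G} (A : Alpha V R i B U (P k) M) :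
    ∃ H, PairA F V R U B H (P k) M i := by
  have : Fact (Nat.Prime 2) := ⟨Nat.prime_two⟩
  obtain ⟨H, hall, hsup⟩ := exists_hall_of_index pre.U_le pre.norm pre.isP pre.index
  refine ⟨H, {
    bt := b
    nod := nod_of_dat b D
    hall := hall
    sup := hsup
    U_UU := ?_
    le₂ := pre.le k
    three₂ := pre.three k
    ptr₂ := pre.ptr k
    reg₂ := pre.reg k
    fix₂ := fix_of_fpfG hall (pre.le k) (pre.fpf k)
    P₂_R := A.P_R
    NV₂ := NV₂_of b A.span A.U₁_M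
    coord := fun l hl => exists_coord_snd b c hl
    big := hF
    V_M := A.V_M
    M_D := A.M_D
    P₂_M := A.P_M
    span := A.span
    meet := A.meet
    U₁_M := A.U₁_M
    cov₂ := A.cov }⟩
  intro l
  by_cases hl : l = i
  · rw [hl]; exact (UU_le_WW i).trans D.WU
  · obtain ⟨w, hw, e⟩ := b.trans i c.ne.symm hl
    rw [← b.cj_UU (b.W_le_NV i hw) e, cj_le_iff]
    intro x hx
    exact mul_mem (mul_mem (D.WU hw) (hUU hx)) (inv_mem (D.WU hw))

/-- **The residue `(0, k)` of a node of type alpha.**  `sep` is given. -/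
theorem res0_alpha' [Finite G] [Finite F] [CharP F 2] (b : BT V R) {B U : Subgroup G} (D : Dat V R i B U)
    (c : Coord V R i j v w1 w2) (hF : ∃ a : F, a ≠ 0 ∧ a ≠ 1) {J : Type} {P : J → Subgroup G} {m : J → J → ℕ}
    (pre : Pre 2 B U P m) {k : J} (hUU : UU V R j ≤ U) {M : Subgroup G} (A : Alpha V R i B U (P k) M)
    (sep : SepG 2 B U (P k) (P0 V R B) ∨ SepG 2 B U (P0 V R B) (P k)) :
    ∃ n, 3 ≤ n ∧ Res0 V R B U P k n := by
  have : Fact (Nat.Prime 2) := ⟨Nat.prime_two⟩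
  obtain ⟨H, E⟩ := pairA_of b D c hF pre hUU A
  obtain ⟨n, hn, hp⟩ := E.polygon (Q := PPo V R B P) (x := none) (y := some k) rfl rfl
  refine ⟨n, hn, hp, fun X hX h => ?_, sep⟩
  have := E.frat X hX fun u hu => by
    obtain ⟨x, hx, h1, h2⟩ := h u hu
    exact ⟨x, hx, h2, h1⟩
  rwa [sup_comm]

/-- **The residue `(0, k)` of a node of type alpha, `|F| ≥ 8`.** -/
theorem res0_alpha [Finite G] [Finite F] [CharP F 2] (b : BT V R) {B U : Subgroup G} (D : Dat V R i B U)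
    (c : Coord V R i j v w1 w2) (hF : ∃ a : F, a ≠ 0 ∧ a ^ 3 ≠ 1) {J : Type} {P : J → Subgroup G} {m : J → J → ℕ}
    (pre : Pre 2 B U P m) {k : J} (hUU : UU V R j ≤ U) {M : Subgroup G} (A : Alpha V R i B U (P k) M)
    (hC : P k ≤ (P k ⊓ centralizer (R i : Set G)) ⊔ B) : ∃ n, 3 ≤ n ∧ Res0 V R B U P k n := by
  have : Fact (Nat.Prime 2) := ⟨Nat.prime_two⟩
  have hF' : ∃ a : F, a ≠ 0 ∧ a ≠ 1 := by
    obtain ⟨a, h1, h2⟩ := hF
    exact ⟨a, h1, fun h => h2 (by rw [h, one_pow])⟩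
  obtain ⟨H, E⟩ := pairA_of b D c hF' pre hUU A
  exact res0_alpha' b D c hF' pre hUU A (Or.inl (E.sepG hC hF))

end Cfsg.Agent.Omega.HOne.End
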