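import Cfsg.Agent.Omega.HOne.TvDef
import Cfsg.Agent.Omega.BTwo.Conj
import Cfsg.Agent.Involutions.BaerSuzuki

/-!
# II.0h1, `q = 2`, case (beta): the BS-trick (E) of #17185 (helper202, helper766, helper563)

* `exists_not_pair` : Baer-Suzuki inside a subgroup `H`;
* `bs` : the trick;
* `FF_two` : the elements `f ∈ N r R`, `f² = 1`, centralised by `M` form a group of order at most 2;
* `c_eq_z` : `c = z` for the constant `c` of `JConst`, `JEnd`, if `z ∈ N r` is centralised by `M`.
-/

set_option autoImplicit false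
set_option linter.unusedSectionVars false

namespace Cfsg.Agent.Omega.HOne.JunE

open Subgroup Cfsg.Agent.Omega.HOne.TvDef Cfsg.Agent.Omega.BTwo

variable {G : Type*} [Group G]

/-- Baer-Suzuki in `H` -/
theorem exists_not_pair [Finite G] {H : Subgroup G} {u : G} (hu : u ∈ H) (hn : u ∉ O2 H) :
    ∃ h ∈ H, ¬ IsPGroup 2 (Subgroup.closure {u, h * u * h⁻¹} : Subgroup G) := by
  have hf : Fact (Nat.Prime 2) := ⟨Nat.prime_two⟩
  by_contra hcon
  push Not at hcon
  apply hn
  have h1 := Cfsg.Agent.Involutions.BaerSuzuki.mem_pCore_of_conj_pairs (p := 2) (⟨u, hu⟩ : H) (by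
    rintro ⟨g, hg⟩
    refine ((hcon g hg).comap_of_injective H.subtype H.subtype_injective).to_le ?_
    rw [Subgroup.closure_le]
    rintro x hx
    rcases hx with rfl | hx
    · exact Subgroup.subset_closure (Or.inl rfl)
    · rw [Set.mem_singleton_iff] at hx
      subst hx
      exact Subgroup.subset_closure (Or.inr rfl))
  exact ⟨_, h1, rfl⟩

/-- **the BS-trick** -/
theorem bs [Finite G] {H F : Subgroup G} {u : G} (huH : u ∈ H) (huQ : u ∉ O2 H)
    (hA : ∀ f ∈ F, f ≠ 1 → ∃ A : Subgroup G, IsPGroup 2 A ∧ u ∈ A ∧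
      centralizer ({f} : Set G) ≤ normalizer (A : Set G))
    (hidx : ∀ h ∈ H, ∀ x ∈ F, ∀ y ∈ F, x * (h * u * h⁻¹) ≠ h * u * h⁻¹ * x →
      y * (h * u * h⁻¹) ≠ h * u * h⁻¹ * y → x * y * (h * u * h⁻¹) = h * u * h⁻¹ * (x * y)) :
    ∀ x ∈ F, ∀ y ∈ F, x ≠ 1 → y ≠ 1 → x * y = 1 := by
  obtain ⟨h, hh, hp⟩ := exists_not_pair huH huQ
  have key : ∀ f ∈ F, f ≠ 1 → f * (h * u * h⁻¹) ≠ h * u * h⁻¹ * f := by
    intro f hf hf1 hc
    obtain ⟨A, hAp, huA, hAn⟩ := hA f hf hf1
    apply hp
    have h1 : IsPGroup 2 (zpowers (h * u * h⁻¹)) := by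
      have h2 : IsPGroup 2 (zpowers u) := hAp.to_le (by rw [zpowers_le]; exact huA)
      have h3 := h2.map (MulAut.conj h).toMonoidHom
      rw [MonoidHom.map_zpowers] at h3
      exact h3
    have h2 : zpowers (h * u * h⁻¹) ≤ normalizer (A : Set G) := by
      rw [zpowers_le]
      exact hAn (mem_centralizer_singleton_iff.2 hc.symm)
    have h3 : IsPGroup 2 (A ⊔ zpowers (h * u * h⁻¹) : Subgroup G) :=
      hAp.to_sup_of_normal_left' h1 h2
    refine h3.to_le ?_
    rw [Subgroup.closure_le]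
    rintro x hx
    rcases hx with rfl | hx
    · exact le_sup_left (a := A) huA
    · rw [Set.mem_singleton_iff] at hx
      subst hx
      exact le_sup_right (a := A) (mem_zpowers _)
  intro x hx y hy hx1 hy1
  by_contra hxy
  exact key (x * y) (mul_mem hx hy) hxy (hidx h hh x hx y hy (key x hx hx1) (key y hy hy1))

variable {M : Subgroup G} {r t z c : G} {Q N : G → Subgroup G}

/-- the group `F` of the elements `f` of `N r · R` with `f² = 1`, centralised by `M` -/
def FF (h : TvH M r t Q N) : Subgroup G where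
  carrier := {x | (∀ m ∈ M, m * x = x * m) ∧ x * x = 1 ∧ (x ∈ N r ∨ r * x ∈ N r)}
  one_mem' := ⟨fun m _ => by rw [mul_one, one_mul], by rw [mul_one], Or.inl (N r).one_mem⟩
  mul_mem' := by
    rintro x y ⟨hx1, hx2, hx3⟩ ⟨hy1, hy2, hy3⟩
    have hrM : r ∈ M := h.Q_le h.r_mem
    have hNM : ∀ n ∈ N r, n ∈ M := fun n hn => h.N_le_M Om_base hn
    have hyM : y ∈ M := by
      rcases hy3 with h1 | h1
      · exact hNM y h1
      · have e : y = r * (r * y) := by rw [← mul_assoc, h.r_sq, one_mul]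
        rw [e]
        exact mul_mem hrM (hNM _ h1)
    have hxy : y * x = x * y := hx1 y hyM
    refine ⟨fun m hm => ?_, ?_, ?_⟩
    · rw [← mul_assoc, hx1 m hm, mul_assoc, hy1 m hm, mul_assoc]
    · calc x * y * (x * y) = x * (y * x) * y := by group
        _ = (x * x) * (y * y) := by rw [hxy]; group
        _ = 1 := by rw [hx2, hy2, mul_one]
    · have hrx : r * x = x * r := hx1 r hrM
      rcases hx3 with h1 | h1 <;> rcases hy3 with h2 | h2
      · exact Or.inl (mul_mem h1 h2)
      · right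
        have e : r * (x * y) = x * (r * y) := by rw [← mul_assoc, hrx, mul_assoc]
        rw [e]
        exact mul_mem h1 h2
      · right
        have e : r * (x * y) = r * x * y := by rw [mul_assoc]
        rw [e]
        exact mul_mem h1 h2
      · left
        have e : x * y = r * x * (r * y) := by
          calc x * y = x * (r * r) * y := by rw [h.r_sq, mul_one]
            _ = r * x * (r * y) := by rw [hrx]; group
        rw [e]
        exact mul_mem h1 h2
  inv_mem' := by
    rintro x ⟨hx1, hx2, hx3⟩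
    have e : x⁻¹ = x := inv_eq_of_mul_eq_one_left hx2
    rw [e]
    exact ⟨hx1, hx2, hx3⟩

/-- `rc ∈ N r` -/
theorem rc_mem (h : TvH M r t Q N) (hE : JEnd M r Q N c) : r * c ∈ N r := by
  obtain ⟨u, hu, huQ⟩ := h.beta
  have h1 : ∃ n ∈ N r, u * n ≠ n * u := by
    by_contra hcon
    push Not at hcon
    exact huQ (h.UN u hu hcon)
  obtain ⟨n, hn, hne⟩ := h1
  have h2 := (hE.1 u hu n hn).resolve_left fun e => hne (mul_inv_eq_iff_eq_mul.1 (mul_inv_eq_one.1 e))
  rw [← h2]
  have hur : u * r = r * u := h.UU_comm hu (Om_le_UU Om_base)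
  exact mul_mem ((h.N_fix hur).2 hn) (inv_mem hn)

/-- the BS-trick: `FF h` has at most two elements -/
theorem FF_two [Finite G] (h : TvH M r t Q N) (hQr : Q r = O2 (centralizer ({r} : Set G)))
    (hA : ∀ f, f ≠ 1 → f * f = 1 → (∀ m ∈ M, m * f = f * m) → ∃ A : Subgroup G, IsPGroup 2 A ∧ UU M r ≤ A ∧
      centralizer ({f} : Set G) ≤ normalizer (A : Set G))
    (hC : JConst M r t Q N c) (hE : JEnd M r Q N c) :
    ∀ x ∈ FF h, ∀ y ∈ FF h, x ≠ 1 → y ≠ 1 → x * y = 1 := by
  obtain ⟨u, hu, huQ⟩ := h.beta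
  have hur : u * r = r * u := h.UU_comm hu (Om_le_UU Om_base)
  obtain ⟨hc1, hcU, -, hcM, -⟩ := hC
  have hcc := h.UU_sq hcU
  have hrc := rc_mem h hE
  have hrM : r ∈ M := h.Q_le h.r_mem
  have hrcc : r * c * (r * c) = 1 := h.UU_sq (mul_mem (Om_le_UU Om_base) hcU)
  have hNr : ∀ n ∈ N r, n * r = r * n := fun n hn => h.N_self Om_base hn
  have hNab : ∀ n ∈ N r, ∀ m ∈ N r, n * m = m * n := fun n hn m hm =>
    h.ZC_comm (h.N_le_ZC Om_base hn) (h.N_le_Q Om_base hm)
  exact bs (H := centralizer ({r} : Set G)) (F := FF h) (u := u) (mem_centralizer_singleton_iff.2 hur)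
    (by rw [← hQr]; exact huQ) (by
      rintro f ⟨hf1, hf2, -⟩ hne
      obtain ⟨A, h1, h2, h3⟩ := hA f hne hf2 hf1
      exact ⟨A, h1, h2 hu, h3⟩) (by
      rintro g hg x ⟨-, hx2, hx3⟩ y ⟨-, hy2, hy3⟩ hxw hyw
      have hgr : g * r = r * g := mem_centralizer_singleton_iff.1 hg
      have hgr' : g⁻¹ * r = r * g⁻¹ := by
        rw [inv_mul_eq_iff_eq_mul, ← mul_assoc, hgr, mul_inv_cancel_right]
      obtain ⟨w, hw⟩ : ∃ w, w = g * u * g⁻¹ := ⟨_, rfl⟩
      obtain ⟨d, hd⟩ : ∃ d, d = g * (r * c) * g⁻¹ := ⟨_, rfl⟩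
      have hdd : d * d = 1 := by
        rw [hd]
        calc g * (r * c) * g⁻¹ * (g * (r * c) * g⁻¹) = g * (r * c * (r * c)) * g⁻¹ := by group
          _ = 1 := by rw [hrcc, mul_one, mul_inv_cancel]
      have hdN : d ∈ N r := by rw [hd]; exact (h.N_fix hgr).2 hrc
      have hwr : w * r = r * w := by
        rw [hw]
        calc g * u * g⁻¹ * r = g * u * (g⁻¹ * r) := by group
          _ = g * (u * r) * g⁻¹ := by rw [hgr']; group
          _ = (g * r) * u * g⁻¹ := by rw [hur]; group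
          _ = r * (g * u * g⁻¹) := by rw [hgr]; group
      have hN : ∀ n ∈ N r, w * n * w⁻¹ = n ∨ w * n * w⁻¹ = d * n := by
        intro n hn
        have hn' : g⁻¹ * n * g ∈ N r := by
          have := (h.N_fix (g := g⁻¹) (s := r) (x := n) hgr').2 hn
          rwa [inv_inv] at this
        have e : w * n * w⁻¹ * n⁻¹ = g * (u * (g⁻¹ * n * g) * u⁻¹ * (g⁻¹ * n * g)⁻¹) * g⁻¹ := by
          rw [hw]; group
        rcases hE.1 u hu _ hn' with h1 | h1
        · left
          rw [h1, mul_one, mul_inv_cancel, mul_inv_eq_one] at e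
          exact e
        · right
          rw [h1, ← hd, mul_inv_eq_iff_eq_mul] at e
          exact e
      -- the same for `x ∈ N r R`
      have hX : ∀ x, x ∈ N r ∨ r * x ∈ N r → x * w ≠ w * x → w * x * w⁻¹ = d * x := by
        intro x hx hne
        rcases hx with h1 | h1
        · rcases hN x h1 with h2 | h2
          · exact absurd (mul_inv_eq_iff_eq_mul.1 h2).symm hne
          · exact h2
        · have e : w * (r * x) * w⁻¹ = r * (w * x * w⁻¹) := by
            calc w * (r * x) * w⁻¹ = (w * r) * x * w⁻¹ := by group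
              _ = _ := by rw [hwr]; group
          rcases hN _ h1 with h2 | h2
          · rw [e] at h2
            exact absurd (mul_inv_eq_iff_eq_mul.1 (mul_left_cancel h2)).symm hne
          · have h3 : r * (w * x * w⁻¹) = r * (d * x) := by
              rw [← e, h2, ← mul_assoc, hNr d hdN, mul_assoc]
            exact mul_left_cancel h3
      rw [← hw] at hxw hyw ⊢
      have h1 := hX x hx3 hxw
      have h2 := hX y hy3 hyw
      have hdx : d * x = x * d := by
        rcases hx3 with h3 | h3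
        · exact hNab d hdN x h3
        · have h4 := hNab d hdN _ h3
          rw [← mul_assoc, hNr d hdN, mul_assoc, mul_assoc] at h4
          exact mul_left_cancel h4
      have h3 : w * (x * y) * w⁻¹ = x * y := by
        calc w * (x * y) * w⁻¹ = (w * x * w⁻¹) * (w * y * w⁻¹) := by group
          _ = (d * x) * (d * y) := by rw [h1, h2]
          _ = (x * d) * (d * y) := by rw [hdx]
          _ = x * (d * d) * y := by group
          _ = x * y := by rw [hdd, mul_one]
      exact (mul_inv_eq_iff_eq_mul.1 h3).symm)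

/-- **(E) of #17185** : `c = z` -/
theorem c_eq_z [Finite G] (h : TvH M r t Q N) (hQr : Q r = O2 (centralizer ({r} : Set G)))
    (hzN : z ∈ N r) (hzz : z * z = 1) (hz1 : z ≠ 1) (hMz : ∀ m ∈ M, m * z = z * m)
    (hA : ∀ f, f ≠ 1 → f * f = 1 → (∀ m ∈ M, m * f = f * m) → ∃ A : Subgroup G, IsPGroup 2 A ∧ UU M r ≤ A ∧
      centralizer ({f} : Set G) ≤ normalizer (A : Set G))
    (hC : JConst M r t Q N c) (hE : JEnd M r Q N c) : c = z := by
  have hrc := rc_mem h hE
  have key := FF_two h hQr hA hC hE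
  obtain ⟨hc1, hcU, -, hcM, -⟩ := hC
  have hcc := h.UU_sq hcU
  have h1 := key z ⟨hMz, hzz, Or.inl hzN⟩ c ⟨hcM, hcc, Or.inr hrc⟩ hz1 hc1
  have h2 : c = z⁻¹ := eq_inv_of_mul_eq_one_right h1
  rw [h2]
  exact inv_eq_of_mul_eq_one_left hzz

end Cfsg.Agent.Omega.HOne.JunE
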