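import Mathlib

/-!
# II.0h1, `q = 2`, case (β): the dichotomy (7) of the transvection statement (helper865)

The residue at a point `s`, abstractly: `K ≤ W` subgroups of an abelian group `U` of exponent two, `Γ` a set of
representatives of the lines on `s` (`W - K = ⋃_{t ∈ Γ} tK`), `N t` acts on `W / K` by transvections with centre `tK`.

* `relIndex_le_two`: three subgroups of the same order covering `W` have index at most two;
* `Res`: the hypotheses, `Res.opp`: opposite lines;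
* `Res.dich`: either all pairs of distinct lines are opposite, or `n ∈ N t` moves all the opposites of `t` as soon as it
  moves one of them.
-/

set_option autoImplicit false

namespace Cfsg.Agent.Omega.HOne.TvLin

open Subgroup

variable {G : Type*} [Group G]

/-- Three subgroups of the same order covering `W` have index at most two in `W`. -/
theorem card_le_two_mul [Finite G] {A B C W : Subgroup G} (hA : A ≤ W)
    (h : ∀ w ∈ W, w ∈ A ∨ w ∈ B ∨ w ∈ C) (hB : Nat.card B = Nat.card A) (hC : Nat.card C = Nat.card A) :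
    Nat.card W ≤ 2 * Nat.card A := by
  classical
  have hfin : ∀ H : Subgroup G, (H : Set G).Finite := fun H => Set.toFinite _
  have hsub : (W : Set G) ⊆ {1} ∪ (((A : Set G) \ {1}) ∪ ((B : Set G) \ {1}) ∪ ((C : Set G) \ {1})) := by
    intro w hw
    by_cases h1 : w = 1
    · exact Or.inl h1
    · right
      rcases h w hw with h2 | h2 | h2
      · exact Or.inl (Or.inl ⟨h2, h1⟩)
      · exact Or.inl (Or.inr ⟨h2, h1⟩)
      · exact Or.inr ⟨h2, h1⟩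
  have hc : ∀ H : Subgroup G, ((H : Set G) \ {1}).ncard = Nat.card H - 1 := by
    intro H
    rw [Set.ncard_sdiff_singleton_of_mem H.one_mem]
    rfl
  have h1 : (W : Set G).ncard ≤ 1 + (Nat.card A - 1 + (Nat.card B - 1) + (Nat.card C - 1)) := by
    refine (Set.ncard_le_ncard hsub (Set.toFinite _)).trans ((Set.ncard_union_le _ _).trans ?_)
    rw [Set.ncard_singleton]
    refine Nat.add_le_add_left ((Set.ncard_union_le _ _).trans ?_) 1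
    rw [hc C]
    refine Nat.add_le_add_right ((Set.ncard_union_le _ _).trans ?_) _
    rw [hc A, hc B]
  have hpos : 0 < Nat.card A := Nat.card_pos
  have hW : (W : Set G).ncard = Nat.card W := rfl
  rw [hW, hB, hC] at h1
  obtain ⟨k, hk⟩ := card_dvd_of_le hA
  rw [hk] at h1 ⊢
  have h3 : k < 3 := by
    by_contra h3
    have h4 : Nat.card A * 3 ≤ Nat.card A * k := Nat.mul_le_mul le_rfl (not_lt.mp h3)
    omega
  rw [mul_comm 2]
  exact Nat.mul_le_mul le_rfl (by omega)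

/-- The residue at a point. -/
structure Res (U K W : Subgroup G) (Γ : Set G) (N : G → Subgroup G) : Prop where
  comm : ∀ a ∈ U, ∀ b ∈ U, a * b = b * a
  sq : ∀ a ∈ U, a * a = 1
  WU : W ≤ U
  KW : K ≤ W
  ΓW : ∀ t ∈ Γ, t ∈ W
  ΓK : ∀ t ∈ Γ, t ∉ K
  /-- the nonzero vectors of `W / K` are the lines -/
  cov : ∀ w ∈ W, w ∉ K → ∃ t ∈ Γ, t * w ∈ K
  /-- `N t` normalises `K` -/
  NK : ∀ t ∈ Γ, ∀ n ∈ N t, ∀ k ∈ K, n * k * n⁻¹ ∈ K
  /-- transvections with centre `tK` -/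
  tv : ∀ t ∈ Γ, ∀ n ∈ N t, ∀ w ∈ W, n * w * n⁻¹ * w ∈ K ∨ n * w * n⁻¹ * w * t ∈ K
  /-- `N t` centralises `t` -/
  Nt : ∀ t ∈ Γ, ∀ n ∈ N t, n * t = t * n
  /-- if `n ∈ N t` fixes the line of `t'`, it centralises `t'` -/
  fix : ∀ t ∈ Γ, ∀ n ∈ N t, ∀ t' ∈ Γ, n * t' * n⁻¹ * t' ∈ K → n * t' = t' * n
  /-- if `m ∈ N t'` centralises `t`, it normalises `N t` -/
  norm : ∀ t ∈ Γ, ∀ t' ∈ Γ, ∀ m ∈ N t', m * t = t * m → ∀ n ∈ N t, m * n * m⁻¹ ∈ N t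
  /-- opposite is symmetric -/
  symm : ∀ t ∈ Γ, ∀ t' ∈ Γ, (∃ n ∈ N t, n * t' ≠ t' * n) → ∃ n ∈ N t', n * t ≠ t * n
  /-- the lines are conjugate -/
  tran : ∀ t ∈ Γ, ∀ t' ∈ Γ, ∃ g : G, (∀ x, x ∈ K ↔ g * x * g⁻¹ ∈ K) ∧ (∀ x, x ∈ W ↔ g * x * g⁻¹ ∈ W) ∧
    ∀ x, x ∈ N t ↔ g * x * g⁻¹ ∈ N t'

namespace Res

variable {U K W : Subgroup G} {Γ : Set G} {N : G → Subgroup G} (h : Res U K W Γ N)

include h

/-- `C_W(N t mod K)` -/
def _root_.Cfsg.Agent.Omega.HOne.TvLin.fixSet (K W : Subgroup G) (T : Set G) : Set G :=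
  {w | w ∈ W ∧ ∀ n ∈ T, n * w * n⁻¹ * w ∈ K}

theorem conj_mem {t : G} (ht : t ∈ Γ) {n : G} (hn : n ∈ N t) {w : G} (hw : w ∈ W) : n * w * n⁻¹ ∈ W := by
  have hwU := h.WU hw
  rcases h.tv t ht n hn w hw with h1 | h1
  · have h2 : n * w * n⁻¹ = (n * w * n⁻¹ * w) * w := by rw [mul_assoc (n * w * n⁻¹) w w, h.sq w hwU, mul_one]
    rw [h2]
    exact W.mul_mem (h.KW h1) hw
  · have h2 : n * w * n⁻¹ = (n * w * n⁻¹ * w * t) * (t * w) := by
      have h3 := h.sq t (h.WU (h.ΓW t ht))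
      have h4 := h.sq w hwU
      calc n * w * n⁻¹ = n * w * n⁻¹ * (w * w) := by rw [h4, mul_one]
        _ = n * w * n⁻¹ * w * (t * t) * w := by rw [h3, mul_one]; group
        _ = _ := by group
    rw [h2]
    exact W.mul_mem (h.KW h1) (W.mul_mem (h.ΓW t ht) hw)

/-- The subgroup `C_W(T mod K)`. -/
def _root_.Cfsg.Agent.Omega.HOne.TvLin.Res.fixK (h : Res U K W Γ N) {t : G} (ht : t ∈ Γ) (T : Set G)
    (hT : T ⊆ N t) : Subgroup G where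
  carrier := fixSet K W T
  one_mem' := ⟨W.one_mem, fun n _ => by
    rw [mul_one, mul_one, mul_inv_cancel]
    exact K.one_mem⟩
  mul_mem' := by
    rintro a b ⟨ha, ha'⟩ ⟨hb, hb'⟩
    refine ⟨W.mul_mem ha hb, fun n hn => ?_⟩
    have h1 := h.comm a (h.WU ha) (n * b * n⁻¹) (h.WU (h.conj_mem ht (hT hn) hb))
    have h2 : n * (a * b) * n⁻¹ * (a * b) = (n * a * n⁻¹ * a) * (n * b * n⁻¹ * b) := by
      calc n * (a * b) * n⁻¹ * (a * b) = (n * a * n⁻¹) * ((n * b * n⁻¹) * a) * b := by group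
        _ = (n * a * n⁻¹) * (a * (n * b * n⁻¹)) * b := by rw [h1]
        _ = _ := by group
    rw [h2]
    exact K.mul_mem (ha' n hn) (hb' n hn)
  inv_mem' := by
    rintro a ⟨ha, ha'⟩
    have h1 : a⁻¹ = a := inv_eq_of_mul_eq_one_left (h.sq a (h.WU ha))
    rw [h1]
    exact ⟨ha, ha'⟩

theorem mem_fixK {t : G} (ht : t ∈ Γ) {T : Set G} (hT : T ⊆ N t) {w : G} :
    w ∈ h.fixK ht T hT ↔ w ∈ W ∧ ∀ n ∈ T, n * w * n⁻¹ * w ∈ K := Iff.rfl

/-- `A_t` -/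
def _root_.Cfsg.Agent.Omega.HOne.TvLin.Res.A (h : Res U K W Γ N) {t : G} (ht : t ∈ Γ) : Subgroup G :=
  h.fixK ht (N t) subset_rfl

theorem mem_A {t : G} (ht : t ∈ Γ) {w : G} : w ∈ h.A ht ↔ w ∈ W ∧ ∀ n ∈ N t, n * w * n⁻¹ * w ∈ K := Iff.rfl

theorem K_le {t : G} (ht : t ∈ Γ) {T : Set G} (hT : T ⊆ N t) : K ≤ h.fixK ht T hT :=
  fun k hk => ⟨h.KW hk, fun n hn => K.mul_mem (h.NK t ht n (hT hn) k hk) hk⟩

theorem self_mem {t : G} (ht : t ∈ Γ) : t ∈ h.A ht := ⟨h.ΓW t ht, fun n hn => by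
  rw [h.Nt t ht n hn, mul_inv_cancel_right, h.sq t (h.WU (h.ΓW t ht))]
  exact K.one_mem⟩

/-- `t' ∈ A_t` iff `N t` centralises `t'` -/
theorem mem_A_iff {t t' : G} (ht : t ∈ Γ) (ht' : t' ∈ Γ) : t' ∈ h.A ht ↔ ∀ n ∈ N t, n * t' = t' * n := by
  constructor
  · rintro ⟨-, h1⟩ n hn
    exact h.fix t ht n hn t' ht' (h1 n hn)
  · intro h1
    refine ⟨h.ΓW t' ht', fun n hn => ?_⟩
    rw [h1 n hn, mul_inv_cancel_right, h.sq t' (h.WU (h.ΓW t' ht'))]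
    exact K.one_mem

theorem mem_A_comm {t t' : G} (ht : t ∈ Γ) (ht' : t' ∈ Γ) : t' ∈ h.A ht ↔ t ∈ h.A ht' := by
  rw [h.mem_A_iff ht ht', h.mem_A_iff ht' ht]
  constructor
  · intro h1
    by_contra h2
    push Not at h2
    obtain ⟨n, hn, hn'⟩ := h.symm t' ht' t ht h2
    exact hn' (h1 n hn)
  · intro h1
    by_contra h2
    push Not at h2
    obtain ⟨n, hn, hn'⟩ := h.symm t ht t' ht' h2
    exact hn' (h1 n hn)

/-- membership only depends on the coset of `K` -/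
theorem mem_A_congr {t : G} (ht : t ∈ Γ) {w w' : G} (hw : w * w' ∈ K) (hw' : w' ∈ W) :
    w ∈ h.A ht ↔ w' ∈ h.A ht := by
  have hK : w * w' ∈ h.A ht := h.K_le ht subset_rfl hw
  have h1 : w = w * w' * w' := by rw [mul_assoc, h.sq w' (h.WU hw'), mul_one]
  constructor
  · intro h2
    exact (mul_mem_cancel_left h2).1 hK
  · intro h2
    rw [h1]
    exact (h.A ht).mul_mem hK h2

/-- `N t` normalises `K`, both ways -/
theorem conj_K_iff {t : G} (ht : t ∈ Γ) {n : G} (hn : n ∈ N t) {x : G} : n * x * n⁻¹ ∈ K ↔ x ∈ K := by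
  constructor
  · intro h1
    have h2 := h.NK t ht n⁻¹ ((N t).inv_mem hn) _ h1
    have h3 : n⁻¹ * (n * x * n⁻¹) * n⁻¹⁻¹ = x := by group
    rwa [h3] at h2
  · exact h.NK t ht n hn x

/-- **Step 1.** `m ∈ N t'` centralising `t` fixes all of `A_t` modulo `K`, for `t'` opposite to `t`. -/
theorem step {t t' : G} (ht : t ∈ Γ) (ht' : t' ∈ Γ) (ho : t' ∉ h.A ht) {m : G} (hm : m ∈ N t')
    (hmt : m * t = t * m) {w : G} (hw : w ∈ h.A ht) : m * w * m⁻¹ * w ∈ K := by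
  by_contra hcon
  obtain ⟨hwW, hw'⟩ := hw
  have hwU := h.WU hwW
  have htU := h.WU (h.ΓW t ht)
  have ht'U := h.WU (h.ΓW t' ht')
  -- `w ^ m = w t'` modulo `K`
  have h1 : m * w * m⁻¹ * w * t' ∈ K := (h.tv t' ht' m hm w hwW).resolve_left hcon
  -- `n ∈ N t` moving `t'`
  have h2 : ∃ n ∈ N t, n * t' * n⁻¹ * t' ∉ K := by
    by_contra h3
    push Not at h3
    exact ho ⟨h.ΓW t' ht', h3⟩
  obtain ⟨n, hn, hnt'⟩ := h2
  have h3 : n * t' * n⁻¹ * t' * t ∈ K := (h.tv t ht n hn t' (h.ΓW t' ht')).resolve_left hnt'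
  -- `m n m⁻¹ n⁻¹ ∈ N t` moves `w`
  have h4 : m * n * m⁻¹ * n⁻¹ ∈ N t := (N t).mul_mem (h.norm t ht t' ht' m hm hmt n hn) ((N t).inv_mem hn)
  have h5 := hw' _ h4
  -- the cosets
  set k1 := m * w * m⁻¹ * w * t' with hk1
  set k2 := n * t' * n⁻¹ * t' * t with hk2
  have sqt := h.sq t htU
  have sqt' := h.sq t' ht'U
  have sqw := h.sq w hwU
  have e1 : m * w * m⁻¹ = k1 * (t' * w) := by
    rw [hk1]
    calc m * w * m⁻¹ = m * w * m⁻¹ * (w * w) := by rw [sqw, mul_one]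
      _ = m * w * m⁻¹ * w * (t' * t') * w := by rw [sqt', mul_one]; group
      _ = _ := by group
  have e2 : n * t' * n⁻¹ = k2 * (t * t') := by
    rw [hk2]
    calc n * t' * n⁻¹ = n * t' * n⁻¹ * (t' * t') := by rw [sqt', mul_one]
      _ = n * t' * n⁻¹ * t' * (t * t) * t' := by rw [sqt, mul_one]; group
      _ = _ := by group
  -- `w ^ n = w` modulo `K`
  have h6 := hw' n⁻¹ ((N t).inv_mem hn)
  set k3 := n⁻¹ * w * n⁻¹⁻¹ * w with hk3
  have e3 : n⁻¹ * w * n⁻¹⁻¹ = k3 * w := by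
    rw [hk3, mul_assoc _ w w, sqw, mul_one]
  have hmi : m⁻¹ ∈ N t' := (N t').inv_mem hm
  -- `w ^ (m⁻¹)`
  have h7 : m⁻¹ * w * m⁻¹⁻¹ * w * t' ∈ K := by
    refine (h.tv t' ht' m⁻¹ hmi w hwW).resolve_left fun h8 => hcon ?_
    have h9 := h.NK t' ht' m hm _ h8
    have h10 : m * (m⁻¹ * w * m⁻¹⁻¹ * w) * m⁻¹ = w * (m * w * m⁻¹) := by group
    rw [h10, h.comm w hwU _ (h.WU (h.conj_mem ht' hm hwW))] at h9
    exact h9
  set k4 := m⁻¹ * w * m⁻¹⁻¹ * w * t' with hk4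
  have e4 : m⁻¹ * w * m⁻¹⁻¹ = k4 * (t' * w) := by
    rw [hk4]
    calc m⁻¹ * w * m⁻¹⁻¹ = m⁻¹ * w * m⁻¹⁻¹ * (w * w) := by rw [sqw, mul_one]
      _ = m⁻¹ * w * m⁻¹⁻¹ * w * (t' * t') * w := by rw [sqt', mul_one]; group
      _ = _ := by group
  have hnt : n * t * n⁻¹ = t := by rw [h.Nt t ht n hn, mul_inv_cancel_right]
  have hmt1 : m * t * m⁻¹ = t := by rw [hmt, mul_inv_cancel_right]
  have hmt' : m⁻¹ * t' * m⁻¹⁻¹ = t' := by
    have := h.Nt t' ht' m⁻¹ hmi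
    rw [this, mul_inv_cancel_right]
  have hmt'' : m * t' * m⁻¹ = t' := by rw [h.Nt t' ht' m hm, mul_inv_cancel_right]
  -- conjugate `w` by `m n m⁻¹ n⁻¹`
  have e5 : m * n * m⁻¹ * n⁻¹ * w * (m * n * m⁻¹ * n⁻¹)⁻¹ =
      (m * (n * (m⁻¹ * k3 * m⁻¹⁻¹) * n⁻¹) * m⁻¹) * (m * (n * k4 * n⁻¹) * m⁻¹) *
        (m * k2 * m⁻¹) * (t * t') * (m * (n * w * n⁻¹) * m⁻¹) := by
    calc m * n * m⁻¹ * n⁻¹ * w * (m * n * m⁻¹ * n⁻¹)⁻¹
        = m * (n * (m⁻¹ * (n⁻¹ * w * n⁻¹⁻¹) * m⁻¹⁻¹) * n⁻¹) * m⁻¹ := by group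
      _ = m * (n * (m⁻¹ * (k3 * w) * m⁻¹⁻¹) * n⁻¹) * m⁻¹ := by rw [e3]
      _ = m * (n * ((m⁻¹ * k3 * m⁻¹⁻¹) * (m⁻¹ * w * m⁻¹⁻¹)) * n⁻¹) * m⁻¹ := by group
      _ = m * (n * ((m⁻¹ * k3 * m⁻¹⁻¹) * (k4 * (t' * w))) * n⁻¹) * m⁻¹ := by rw [e4]
      _ = (m * (n * (m⁻¹ * k3 * m⁻¹⁻¹) * n⁻¹) * m⁻¹) * (m * (n * k4 * n⁻¹) * m⁻¹) *
            (m * (n * t' * n⁻¹) * m⁻¹) * (m * (n * w * n⁻¹) * m⁻¹) := by group
      _ = (m * (n * (m⁻¹ * k3 * m⁻¹⁻¹) * n⁻¹) * m⁻¹) * (m * (n * k4 * n⁻¹) * m⁻¹) *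
            (m * (k2 * (t * t')) * m⁻¹) * (m * (n * w * n⁻¹) * m⁻¹) := by rw [e2]
      _ = (m * (n * (m⁻¹ * k3 * m⁻¹⁻¹) * n⁻¹) * m⁻¹) * (m * (n * k4 * n⁻¹) * m⁻¹) *
            ((m * k2 * m⁻¹) * ((m * t * m⁻¹) * (m * t' * m⁻¹))) * (m * (n * w * n⁻¹) * m⁻¹) := by group
      _ = _ := by rw [hmt1, hmt'']; group
  have h8 := hw' n hn
  set k5 := n * w * n⁻¹ * w with hk5
  have e6 : n * w * n⁻¹ = k5 * w := by rw [hk5, mul_assoc _ w w, sqw, mul_one]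
  have e7 : m * (n * w * n⁻¹) * m⁻¹ = (m * k5 * m⁻¹) * (k1 * (t' * w)) := by
    rw [e6, ← e1]
    group
  -- all the `k`'s are in `K`
  have c1 : m * (n * (m⁻¹ * k3 * m⁻¹⁻¹) * n⁻¹) * m⁻¹ ∈ K :=
    h.NK t' ht' m hm _ (h.NK t ht n hn _ (h.NK t' ht' m⁻¹ hmi _ h6))
  have c2 : m * (n * k4 * n⁻¹) * m⁻¹ ∈ K := h.NK t' ht' m hm _ (h.NK t ht n hn _ h7)
  have c3 : m * k2 * m⁻¹ ∈ K := h.NK t' ht' m hm _ h3
  have c4 : m * k5 * m⁻¹ ∈ K := h.NK t' ht' m hm _ h8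
  rw [e5, e7] at h5
  set a := m * (n * (m⁻¹ * k3 * m⁻¹⁻¹) * n⁻¹) * m⁻¹ with ha
  set b := m * (n * k4 * n⁻¹) * m⁻¹ with hb
  set c := m * k2 * m⁻¹ with hc
  set d := m * k5 * m⁻¹ with hd
  -- `a b c (t t') d k1 (t' w) w ∈ K`, so `t ∈ K`
  have KU : K ≤ U := h.KW.trans h.WU
  have h9 : a * b * c * (t * t') * (d * (k1 * (t' * w))) * w = (a * b * c * d * k1) * t := by
    have f1 : (t * t') * (d * k1) = (d * k1) * (t * t') :=
      h.comm _ (U.mul_mem htU ht'U) _ (KU (K.mul_mem c4 h1))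
    calc a * b * c * (t * t') * (d * (k1 * (t' * w))) * w
        = a * b * c * ((t * t') * (d * k1)) * t' * (w * w) := by group
      _ = a * b * c * ((d * k1) * (t * t')) * t' * (w * w) := by rw [f1]
      _ = a * b * c * (d * k1) * t * (t' * t') * (w * w) := by group
      _ = _ := by rw [sqt', sqw]; group
  rw [h9] at h5
  refine h.ΓK t ht ((mul_mem_cancel_left ?_).1 h5)
  exact K.mul_mem (K.mul_mem (K.mul_mem (K.mul_mem c1 c2) c3) c4) h1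

/-- one element does not move two vectors and their product -/
theorem mv_mul {t n : G} (ht : t ∈ Γ) (hn : n ∈ N t) {w w' : G} (hw : w ∈ W) (hw' : w' ∈ W)
    (h1 : n * w * n⁻¹ * w ∉ K) (h2 : n * w' * n⁻¹ * w' ∉ K) : n * (w * w') * n⁻¹ * (w * w') ∈ K := by
  have h3 := (h.tv t ht n hn w hw).resolve_left h1
  have h4 := (h.tv t ht n hn w' hw').resolve_left h2
  have htU := h.WU (h.ΓW t ht)
  have KU : K ≤ U := h.KW.trans h.WU
  have h5 := h.comm w (h.WU hw) (n * w' * n⁻¹) (h.WU (h.conj_mem ht hn hw'))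
  have h6 := h.comm t htU (n * w' * n⁻¹ * w') (U.mul_mem (h.WU (h.conj_mem ht hn hw')) (h.WU hw'))
  have h7 : n * (w * w') * n⁻¹ * (w * w') = (n * w * n⁻¹ * w * t) * (n * w' * n⁻¹ * w' * t) := by
    calc n * (w * w') * n⁻¹ * (w * w') = (n * w * n⁻¹) * ((n * w' * n⁻¹) * w) * w' := by group
      _ = (n * w * n⁻¹) * (w * (n * w' * n⁻¹)) * w' := by rw [h5]
      _ = (n * w * n⁻¹ * w) * (n * w' * n⁻¹ * w') := by group
      _ = (n * w * n⁻¹ * w) * (t * t) * (n * w' * n⁻¹ * w') := by rw [h.sq t htU, mul_one]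
      _ = (n * w * n⁻¹ * w * t) * (t * (n * w' * n⁻¹ * w')) := by group
      _ = _ := by rw [h6]
  rw [h7]
  exact K.mul_mem h3 h4

theorem mv_mul_left {t n : G} (ht : t ∈ Γ) (hn : n ∈ N t) {w w' : G} (hw : w ∈ W) (hw' : w' ∈ W)
    (h1 : n * w * n⁻¹ * w ∉ K) (h2 : n * w' * n⁻¹ * w' ∈ K) : n * (w * w') * n⁻¹ * (w * w') ∉ K := by
  intro h3
  have hT : {n} ⊆ (N t : Set G) := Set.singleton_subset_iff.mpr hn
  have h4 : w' ∈ h.fixK ht {n} hT := (h.mem_fixK ht hT).2 ⟨hw', fun m hm => by rw [Set.mem_singleton_iff.mp hm]; exact h2⟩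
  have h5 : w * w' ∈ h.fixK ht {n} hT :=
    (h.mem_fixK ht hT).2 ⟨W.mul_mem hw hw', fun m hm => by rw [Set.mem_singleton_iff.mp hm]; exact h3⟩
  have h6 := (mul_mem_cancel_right h4).1 h5
  exact h1 (((h.mem_fixK ht hT).1 h6).2 n rfl)

/-- composition: `n` not moving `w`, then `n n'` moves `w` iff `n'` does. -/
theorem mv_comp_right {t n n' : G} (ht : t ∈ Γ) (hn : n ∈ N t) {w : G} (hw : w ∈ W)
    (h1 : n * w * n⁻¹ * w ∈ K) : (n * n') * w * (n * n')⁻¹ * w ∈ K ↔ n' * w * n'⁻¹ * w ∈ K := by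
  have e : (n * n') * w * (n * n')⁻¹ * w = (n * (n' * w * n'⁻¹ * w) * n⁻¹) * (n * w * n⁻¹ * w)
      := by
    have h2 : (n * w * n⁻¹) * (n * w * n⁻¹) = 1 := by
      calc (n * w * n⁻¹) * (n * w * n⁻¹) = n * (w * w) * n⁻¹ := by group
        _ = 1 := by rw [h.sq w (h.WU hw)]; group
    calc (n * n') * w * (n * n')⁻¹ * w = (n * (n' * w * n'⁻¹) * n⁻¹) * 1 * w := by group
      _ = (n * (n' * w * n'⁻¹) * n⁻¹) * ((n * w * n⁻¹) * (n * w * n⁻¹)) * w := by rw [h2]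
      _ = _ := by group
  rw [e, mul_mem_cancel_right h1, h.conj_K_iff ht hn]

/-- two moving elements: their product does not move. -/
theorem mv_comp {t n n' : G} (ht : t ∈ Γ) (hn : n ∈ N t) (hn' : n' ∈ N t) {w : G} (hw : w ∈ W)
    (h1 : n * w * n⁻¹ * w ∉ K) (h2 : n' * w * n'⁻¹ * w ∉ K) : (n * n') * w * (n * n')⁻¹ * w ∈ K := by
  have h3 := (h.tv t ht n hn w hw).resolve_left h1
  have h4 := (h.tv t ht n' hn' w hw).resolve_left h2
  have hwU := h.WU hw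
  have htU := h.WU (h.ΓW t ht)
  have hnt : n * t * n⁻¹ = t := by rw [h.Nt t ht n hn, mul_inv_cancel_right]
  have e : (n * n') * w * (n * n')⁻¹ * w = (n * (n' * w * n'⁻¹ * w * t) * n⁻¹) * (n * w * n⁻¹ * w * t) := by
    have h5 : t * (n * w * n⁻¹) = (n * w * n⁻¹) * t := h.comm t htU _ (h.WU (h.conj_mem ht hn hw))
    have h2 : (n * w * n⁻¹) * (n * w * n⁻¹) = 1 := by
      calc (n * w * n⁻¹) * (n * w * n⁻¹) = n * (w * w) * n⁻¹ := by group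
        _ = 1 := by rw [h.sq w hwU]; group
    symm
    calc (n * (n' * w * n'⁻¹ * w * t) * n⁻¹) * (n * w * n⁻¹ * w * t)
        = (n * (n' * w * n'⁻¹) * n⁻¹) * (n * w * n⁻¹) * ((n * t * n⁻¹) * (n * w * n⁻¹)) * w * t := by group
      _ = (n * (n' * w * n'⁻¹) * n⁻¹) * (n * w * n⁻¹) * ((n * w * n⁻¹) * t) * w * t := by rw [hnt, h5]
      _ = (n * (n' * w * n'⁻¹) * n⁻¹) * ((n * w * n⁻¹) * (n * w * n⁻¹)) * (t * w) * t := by group
      _ = (n * (n' * w * n'⁻¹) * n⁻¹) * (w * t) * t := by rw [h2, mul_one, h.comm t htU w hwU]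
      _ = (n * (n' * w * n'⁻¹) * n⁻¹) * w * (t * t) := by group
      _ = _ := by rw [h.sq t htU]; group
  rw [e]
  exact K.mul_mem (h.NK t ht n hn _ h4) h3

/-- **Step 1'.** -/
theorem step' {t t' : G} (ht : t ∈ Γ) (ht' : t' ∈ Γ) (ho : t' ∉ h.A ht) {w : G} (hw : w ∈ h.A ht) :
    w ∈ h.A ht' ∨ w * t ∈ h.A ht' := by
  by_cases h1 : w ∈ h.A ht'
  · exact Or.inl h1
  right
  have hwW : w ∈ W := hw.1
  have htW := h.ΓW t ht
  have h2 : ∃ m ∈ N t', m * w * m⁻¹ * w ∉ K := by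
    by_contra h3
    push Not at h3
    exact h1 ⟨hwW, h3⟩
  obtain ⟨m₀, hm₀, hm₀w⟩ := h2
  have key : ∀ m ∈ N t', m * t * m⁻¹ * t ∈ K → m * w * m⁻¹ * w ∈ K := fun m hm hmt =>
    h.step ht ht' ho hm (h.fix t' ht' m hm t ht hmt) hw
  have hm₀t : m₀ * t * m₀⁻¹ * t ∉ K := fun h3 => hm₀w (key m₀ hm₀ h3)
  refine ⟨W.mul_mem hwW htW, fun m hm => ?_⟩
  by_cases hmt : m * t * m⁻¹ * t ∈ K
  · by_contra h3
    have h4 := h.mv_mul_left ht' hm (W.mul_mem hwW htW) htW h3 hmt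
    have h5 : w * t * t = w := by rw [mul_assoc, h.sq t (h.WU htW), mul_one]
    rw [h5] at h4
    exact h4 (key m hm hmt)
  · have h3 := key _ ((N t').mul_mem hm hm₀) (h.mv_comp ht' hm hm₀ htW hmt hm₀t)
    have h4 : m * w * m⁻¹ * w ∉ K := fun h5 => hm₀w ((h.mv_comp_right (n' := m₀) ht' hm hwW h5).1 h3)
    exact h.mv_mul ht' hm hwW htW h4 hmt

theorem card_A [Finite G] {t t' : G} (ht : t ∈ Γ) (ht' : t' ∈ Γ) : Nat.card (h.A ht) = Nat.card (h.A ht') := by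
  obtain ⟨g, hK, hW, hN⟩ := h.tran t ht t' ht'
  have h1 : ∀ w, w ∈ h.A ht ↔ g * w * g⁻¹ ∈ h.A ht' := by
    intro w
    rw [h.mem_A, h.mem_A, ← hW]
    refine and_congr Iff.rfl ⟨fun h2 n hn => ?_, fun h2 n hn => ?_⟩
    · have h3 := h2 (g⁻¹ * n * g) ((hN _).2 (by
        have : g * (g⁻¹ * n * g) * g⁻¹ = n := by group
        rwa [this]))
      have h4 := (hK _).1 h3
      have h5 : g * (g⁻¹ * n * g * w * (g⁻¹ * n * g)⁻¹ * w) * g⁻¹ = n * (g * w * g⁻¹) * n⁻¹ * (g * w * g⁻¹) := by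
        group
      rwa [h5] at h4
    · have h3 := h2 (g * n * g⁻¹) ((hN _).1 hn)
      rw [hK]
      have h5 : g * n * g⁻¹ * (g * w * g⁻¹) * (g * n * g⁻¹)⁻¹ * (g * w * g⁻¹) = g * (n * w * n⁻¹ * w) * g⁻¹ := by
        group
      rwa [h5] at h3
  refine Nat.card_congr
    { toFun := fun x => ⟨g * x * g⁻¹, (h1 x).1 x.2⟩
      invFun := fun x => ⟨g⁻¹ * x * g, (h1 _).2 (by
        have : g * (g⁻¹ * (x : G) * g) * g⁻¹ = x := by group
        rw [this]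
        exact x.2)⟩
      left_inv := fun x => Subtype.ext (by simp [mul_assoc])
      right_inv := fun x => Subtype.ext (by simp [mul_assoc]) }

/-- **The dichotomy (7).** Either two distinct lines are always opposite, or an element of `N t` that moves one of the
opposites of `t` moves all of them. -/
theorem dich [Finite G] :
    (∀ t ∈ Γ, ∀ t' ∈ Γ, t * t' ∉ K → ∃ n ∈ N t, n * t' ≠ t' * n) ∨
      ∀ t ∈ Γ, ∀ t' ∈ Γ, ∀ u ∈ Γ, (∃ n ∈ N t, n * t' ≠ t' * n) → (∃ n ∈ N t, n * u ≠ u * n) →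
        ∀ n ∈ N t, n * t' = t' * n → n * u = u * n := by
  by_cases hall : ∀ t ∈ Γ, ∀ t' ∈ Γ, t * t' ∉ K → ∃ n ∈ N t, n * t' ≠ t' * n
  · exact Or.inl hall
  right
  push Not at hall
  obtain ⟨x, hx, w, hw, hxw, hcen⟩ := hall
  have hwx : w ∈ h.A hx := (h.mem_A_iff hx hw).2 hcen
  obtain ⟨v, hv, hv'⟩ := h.cov (x * w) (W.mul_mem (h.ΓW x hx) (h.ΓW w hw)) hxw
  have hxwW : x * w ∈ W := W.mul_mem (h.ΓW x hx) (h.ΓW w hw)
  have hcov : ∀ y ∈ W, y ∈ h.A hx ∨ y ∈ h.A hw ∨ y ∈ h.A hv := by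
    intro y hy
    by_cases hyK : y ∈ K
    · exact Or.inl (h.K_le hx subset_rfl hyK)
    obtain ⟨t', ht', hty⟩ := h.cov y hy hyK
    have hc : ∀ {r : G} (hr : r ∈ Γ), t' ∈ h.A hr ↔ y ∈ h.A hr := fun hr => h.mem_A_congr hr hty hy
    rw [← hc hx, ← hc hw, ← hc hv]
    by_cases h1 : t' ∈ h.A hx
    · exact Or.inl h1
    right
    rcases h.step' hx ht' h1 hwx with h2 | h2
    · exact Or.inl ((h.mem_A_comm ht' hw).1 h2)
    · right
      refine (h.mem_A_comm ht' hv).1 ((h.mem_A_congr ht' hv' hxwW).2 ?_)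
      rwa [h.comm x (h.WU (h.ΓW x hx)) w (h.WU (h.ΓW w hw))]
  have hcard : Nat.card W ≤ 2 * Nat.card (h.A hx) :=
    card_le_two_mul (fun y hy => hy.1) hcov (h.card_A hw hx) (h.card_A hv hx)
  intro t ht t' ht' u hu ho' hou n hn hnt'
  by_contra hnu
  have hT : {n} ⊆ (N t : Set G) := Set.singleton_subset_iff.mpr hn
  have hF : h.A ht ≤ h.fixK ht {n} hT := fun y hy => ⟨hy.1, fun m hm => by
    rw [Set.mem_singleton_iff.mp hm]
    exact hy.2 n hn⟩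
  have hFW : h.fixK ht {n} hT ≤ W := fun y hy => hy.1
  have huF : u ∉ h.fixK ht {n} hT := fun h1 => hnu (h.fix t ht n hn u hu (h1.2 n rfl))
  have ht'F : t' ∈ h.fixK ht {n} hT := ⟨h.ΓW t' ht', fun m hm => by
    rw [Set.mem_singleton_iff.mp hm, hnt', mul_inv_cancel_right, h.sq t' (h.WU (h.ΓW t' ht'))]
    exact K.one_mem⟩
  have ht'A : t' ∉ h.A ht := by
    intro h1
    obtain ⟨m, hm, hm'⟩ := ho'
    exact hm' ((h.mem_A_iff ht ht').1 h1 m hm)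
  have hcard' : Nat.card W ≤ 2 * Nat.card (h.A ht) := by rwa [h.card_A ht hx]
  have h1 : Nat.card (h.fixK ht {n} hT) < Nat.card W := by
    refine lt_of_le_of_ne (Nat.le_of_dvd Nat.card_pos (card_dvd_of_le hFW)) fun h2 => huF ?_
    have h3 : h.fixK ht {n} hT = W := eq_of_le_of_card_ge hFW h2.ge
    rw [h3]
    exact h.ΓW u hu
  have h2 : Nat.card (h.A ht) < Nat.card (h.fixK ht {n} hT) := by
    refine lt_of_le_of_ne (Nat.le_of_dvd Nat.card_pos (card_dvd_of_le hF)) fun h2 => ht'A ?_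
    have h3 : h.A ht = h.fixK ht {n} hT := eq_of_le_of_card_ge hF h2.ge
    rw [h3]
    exact ht'F
  obtain ⟨a, ha⟩ := card_dvd_of_le hF
  obtain ⟨b, hb⟩ := card_dvd_of_le hFW
  have ha2 : 2 ≤ a := by
    by_contra h3
    have h4 : Nat.card (h.A ht) * a ≤ Nat.card (h.A ht) * 1 := Nat.mul_le_mul le_rfl (by omega)
    omega
  have hb2 : 2 ≤ b := by
    by_contra h3
    have h4 : Nat.card (h.fixK ht {n} hT) * b ≤ Nat.card (h.fixK ht {n} hT) * 1 :=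
      Nat.mul_le_mul le_rfl (by omega)
    omega
  have h4 : Nat.card (h.A ht) * 2 ≤ Nat.card (h.fixK ht {n} hT) := by
    rw [ha]
    exact Nat.mul_le_mul le_rfl ha2
  have h5 : Nat.card (h.fixK ht {n} hT) * 2 ≤ Nat.card W := by
    rw [hb]
    exact Nat.mul_le_mul le_rfl hb2
  have h6 : 0 < Nat.card (h.A ht) := Nat.card_pos
  omega

end Res

end Cfsg.Agent.Omega.HOne.TvLin
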