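import Cfsg.Agent.Omega.HOne.TvDef
import Cfsg.Agent.Omega.HOne.TvLin

/-!
# II.0h1, `q = 2`, case (β): block (7) of the transvection statement #15959 (helper865)

* `Opp.conj`: opposite pairs are conjugate;
* `exists_opp`: every line has an opposite line (at every point);
* `res`: the residue at a point in the sense of `TvLin.Res`;
* `dich`: JOINT (7), `AllOpp ∨ E1`.
-/

set_option autoImplicit false
set_option linter.unusedSectionVars false

namespace Cfsg.Agent.Omega.HOne.TvDef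

open Subgroup

variable {G : Type*} [Group G] {M : Subgroup G} {r t : G} {Q N : G → Subgroup G}

namespace TvH

variable (h : TvH M r t Q N)
include h

theorem opp_conj {m s a b : G} (hm : m ∈ M) (ho : Opp M r t N s a b) :
    Opp M r t N (m * s * m⁻¹) (m * a * m⁻¹) (m * b * m⁻¹) := by
  obtain ⟨h1, h2, n, hn, h3⟩ := ho
  refine ⟨h1.conj hm, h2.conj hm, m * n * m⁻¹, h.Nc m _ _ hn, fun h4 => h3 ?_⟩
  have h5 : m * n * m⁻¹ * (m * b * m⁻¹) * (m * n * m⁻¹)⁻¹ = m * (n * b * n⁻¹) * m⁻¹ := by group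
  rw [h5] at h4
  exact (MulAut.conj m).injective h4

theorem opp_conj_iff {m s a b : G} (hm : m ∈ M) :
    Opp M r t N (m * s * m⁻¹) (m * a * m⁻¹) (m * b * m⁻¹) ↔ Opp M r t N s a b := by
  refine ⟨fun h1 => ?_, h.opp_conj hm⟩
  have h2 := h.opp_conj (M.inv_mem hm) h1
  have e : ∀ x : G, m⁻¹ * (m * x * m⁻¹) * m⁻¹⁻¹ = x := fun x => by group
  rwa [e, e, e] at h2

/-- **Every line has an opposite line.** -/
theorem exists_opp (hN : JNon M r t N) {s a : G} (hsa : Adj M r t s a) : ∃ b, Opp M r t N s a b := by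
  by_contra hno
  push Not at hno
  -- no opposite pairs at all
  have hno' : ∀ x y z, ¬ Opp M r t N x y z := by
    intro x y z ho
    obtain ⟨m, hm, rfl, rfl⟩ := hsa
    obtain ⟨p, hp, h1, h2⟩ := ho.1
    apply hno (m * p⁻¹ * z * (m * p⁻¹)⁻¹)
    have h3 := h.opp_conj (M.mul_mem hm (M.inv_mem hp)) ho
    have e1 : m * p⁻¹ * x * (m * p⁻¹)⁻¹ = m * r * m⁻¹ := by rw [← h1]; group
    have e2 : m * p⁻¹ * y * (m * p⁻¹)⁻¹ = m * t * m⁻¹ := by rw [← h2]; group
    rwa [e1, e2] at h3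
  -- the closed neighbourhoods of collinear points are equal
  have key : ∀ x y z, Adj M r t x y → (z = x ∨ Adj M r t x z) → z = y ∨ Adj M r t y z := by
    intro x y z hxy hz
    rcases hz with rfl | hz
    · exact Or.inr (h.Adj_symm hxy)
    by_cases h1 : z = y
    · exact Or.inl h1
    right
    by_cases h2 : z = x * y
    · rw [h2]
      exact h.Adj_mul' hxy
    · exact (hN x y z hxy hz h1 h2 (hno' x y z)).2
  have hall : ∀ z ∈ Om M r, z = r ∨ Adj M r t r z := by
    intro z hz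
    refine h.conn_ind (P := fun z => ∀ y, (y = z ∨ Adj M r t z y) → y = r ∨ Adj M r t r y) ?_ ?_ hz z
      (Or.inl rfl)
    · exact fun y hy => hy
    · intro x y hxy hx w hw
      exact hx w (key y x w (h.Adj_symm hxy) hw)
  obtain ⟨u, hu, hu'⟩ := h.beta
  apply hu'
  have hle : UU M r ≤ Q r := by
    unfold UU
    rw [Subgroup.closure_le]
    intro z hz
    rcases hall z hz with rfl | h1
    · exact h.mem_Q Om_base
    · exact h.Adj_mem h1
  exact hle hu

/-- the full preimage of the set of the lines on `s` -/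
def _root_.Cfsg.Agent.Omega.HOne.TvDef.TvH.WW (h : TvH M r t Q N) (hO : JOpp M r t Q N) (hN : JNon M r t N)
    (s : G) (hs : s ∈ Om M r) : Subgroup G where
  carrier := {w | w ∈ UU M r ∧ (w ∈ ZC Q s ∨ ∃ a, Adj M r t s a ∧ a * w ∈ ZC Q s)}
  one_mem' := ⟨(UU M r).one_mem, Or.inl (ZC Q s).one_mem⟩
  mul_mem' := by
    rintro x y ⟨hx, hx'⟩ ⟨hy, hy'⟩
    refine ⟨(UU M r).mul_mem hx hy, ?_⟩
    rcases hx' with hx' | ⟨a, ha, hax⟩ <;> rcases hy' with hy' | ⟨b, hb, hby⟩
    · exact Or.inl (mul_mem hx' hy')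
    · right
      refine ⟨b, hb, ?_⟩
      have e : b * (x * y) = x * (b * y) := by
        rw [← mul_assoc, h.UU_comm (Om_le_UU (h.Adj_right hb)) hx, mul_assoc]
      rw [e]
      exact mul_mem hx' hby
    · right
      refine ⟨a, ha, ?_⟩
      rw [← mul_assoc]
      exact mul_mem hax hy'
    · have haU := Om_le_UU (h.Adj_right ha)
      have hbU := Om_le_UU (h.Adj_right hb)
      have e : ∀ c ∈ UU M r, (a * b * c) * (x * y) = (a * x) * (b * y) * c := by
        intro c hc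
        have e1 := h.UU_comm hbU hx
        have e2 := h.UU_comm hc ((UU M r).mul_mem hx hy)
        calc (a * b * c) * (x * y) = a * b * (c * (x * y)) := by group
          _ = a * (b * x) * y * c := by rw [e2]; group
          _ = _ := by rw [e1]; group
      by_cases h1 : b = a
      · left
        subst h1
        have h2 := e 1 (UU M r).one_mem
        rw [mul_one, mul_one, h.Om_sq (h.Adj_right hb), one_mul] at h2
        rw [h2]
        exact mul_mem hax hby
      by_cases h2 : b = s * a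
      · left
        have hsU := Om_le_UU hs
        have h3 : a * b = s := by
          rw [h2, ← mul_assoc, h.UU_comm haU hsU, mul_assoc, h.Om_sq (h.Adj_right ha), mul_one]
        have h4 := e s hsU
        rw [h3, h.Om_sq hs, one_mul] at h4
        rw [h4]
        exact mul_mem (mul_mem hax hby) (h.mem_ZC hs)
      right
      by_cases ho : Opp M r t N s a b
      · obtain ⟨-, -, -, -, -, c, -, hcU, hcs, -, -, -, habc, -, -⟩ := hO s a b ho
        refine ⟨a * b * c, habc, ?_⟩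
        rw [e c hcU]
        exact mul_mem (mul_mem hax hby) hcs
      · refine ⟨a * b, (hN s a b ha hb h1 h2 ho).1, ?_⟩
        have h3 := e 1 (UU M r).one_mem
        rw [mul_one, mul_one] at h3
        rw [h3]
        exact mul_mem hax hby
  inv_mem' := by
    rintro x ⟨hx, hx'⟩
    rw [h.UU_inv hx]
    exact ⟨hx, hx'⟩

theorem mem_WW (hO : JOpp M r t Q N) (hN : JNon M r t N) {s : G} (hs : s ∈ Om M r) {w : G} :
    w ∈ h.WW hO hN s hs ↔ w ∈ UU M r ∧ (w ∈ ZC Q s ∨ ∃ a, Adj M r t s a ∧ a * w ∈ ZC Q s) := Iff.rfl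

theorem WW_le_Q (hO : JOpp M r t Q N) (hN : JNon M r t N) {s : G} (hs : s ∈ Om M r) {w : G}
    (hw : w ∈ h.WW hO hN s hs) : w ∈ Q s := by
  rcases hw.2 with h1 | ⟨a, ha, h1⟩
  · exact h.ZC_le_Q hs h1
  · exact (mul_mem_cancel_left (h.Adj_mem ha)).1 (h.ZC_le_Q hs h1)

/-- **The residue at `s`.** -/
theorem res (hO : JOpp M r t Q N) (hN : JNon M r t N) {s : G} (hs : s ∈ Om M r) :
    TvLin.Res (UU M r) (UU M r ⊓ ZC Q s) (h.WW hO hN s hs) {a | Adj M r t s a} N := by
  have hcom : ∀ {x y : G}, x ∈ UU M r → y ∈ UU M r → x * y = y * x := fun hx hy => h.UU_comm hx hy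
  have conjU : ∀ {a : G}, Adj M r t s a → ∀ {n : G}, n ∈ N a → ∀ {u : G}, u ∈ UU M r → n * u * n⁻¹ ∈ UU M r :=
    fun ha _ hn _ hu => UU_conj (h.N_le_M (h.Adj_right ha) hn) hu
  -- `[w, n] = w (n w n⁻¹)`
  have comm_eq : ∀ {a : G}, Adj M r t s a → ∀ {n : G}, n ∈ N a → ∀ {u : G}, u ∈ UU M r →
      u * n * u⁻¹ * n⁻¹ = n * u * n⁻¹ * u := by
    intro a ha n hn u hu
    have h1 := hcom hu (conjU ha hn hu)
    rw [h.UU_inv hu, ← h1]
    group
  refine
    { comm := fun a ha b hb => hcom ha hb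
      sq := fun a ha => h.UU_sq ha
      WU := fun w hw => hw.1
      KW := fun k hk => ⟨hk.1, Or.inl hk.2⟩
      ΓW := fun a ha => ⟨Om_le_UU (h.Adj_right ha), Or.inr ⟨a, ha, by
        rw [h.Om_sq (h.Adj_right ha)]
        exact (ZC Q s).one_mem⟩⟩
      ΓK := fun a ha hk => h.Adj_not_mem ha hk.2
      cov := ?_
      NK := fun a ha n hn k hk => ⟨conjU ha hn hk.1, (h.ZC_fix (h.N_comm ha hn)).2 hk.2⟩
      tv := ?_
      Nt := fun a ha n hn => h.N_self (h.Adj_right ha) hn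
      fix := ?_
      norm := fun a ha b hb m hm hma n hn => (h.N_fix hma).2 hn
      symm := ?_
      tran := ?_ }
  · intro w hw hwK
    rcases hw.2 with h1 | ⟨a, ha, h1⟩
    · exact absurd ⟨hw.1, h1⟩ hwK
    · exact ⟨a, ha, (UU M r).mul_mem (Om_le_UU (h.Adj_right ha)) hw.1, h1⟩
  · intro a ha n hn w hw
    have hwU : w ∈ UU M r := hw.1
    have haU := Om_le_UU (h.Adj_right ha)
    have h1 := h.comm_IN ha hwU (h.WW_le_Q hO hN hs hw) hn
    rw [comm_eq ha hn hwU] at h1
    have hU : n * w * n⁻¹ * w ∈ UU M r := (UU M r).mul_mem (conjU ha hn hwU) hwU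
    rcases h1.2.2 with h2 | h2
    · exact Or.inl ⟨hU, h2⟩
    · right
      rw [← hcom haU hU]
      exact ⟨(UU M r).mul_mem haU hU, h2⟩
  · intro a ha n hn b hb hK
    have hbU := Om_le_UU (h.Adj_right hb)
    have haU := Om_le_UU (h.Adj_right ha)
    have hsU := Om_le_UU hs
    rcases h.noPar_at (h.Adj_N ha hb hn) hb hK.2 with h1 | h1
    · have h2 : n * b * n⁻¹ * n = b * n := by rw [← h1]
      rwa [inv_mul_cancel_right] at h2
    · exfalso
      -- `[b, n] = s`
      have h2 := (h.comm_IN ha hbU (h.Adj_mem hb) hn).1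
      rw [comm_eq ha hn hbU] at h2
      have h3 : n * b * n⁻¹ * b = s := by
        have h4 : s * b = n * b * n⁻¹ := by
          conv_lhs => rw [h1]
          exact h.mul_cancel hs _
        rw [← h4, mul_assoc, h.Om_sq (h.Adj_right hb), mul_one]
      rw [h3] at h2
      exact h.not_both ha h2
  · rintro a ha b hb ⟨n, hn, hne⟩
    have ho : Opp M r t N s a b := ⟨ha, hb, n, hn, fun h1 => hne (by
      have h2 : n * b * n⁻¹ * n = b * n := by rw [h1]
      rwa [inv_mul_cancel_right] at h2)⟩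
    obtain ⟨-, -, m, hm, h1⟩ := (hO s a b ho).1
    exact ⟨m, hm, fun h2 => h1 (by rw [h2, mul_inv_cancel_right])⟩
  · intro a ha b hb
    obtain ⟨m, hm, hmr, hmt⟩ := ha
    obtain ⟨p, hp, hpr, hpt⟩ := hb
    have hgM : p * m⁻¹ ∈ M := M.mul_mem hp (M.inv_mem hm)
    have hgs : p * m⁻¹ * s * (p * m⁻¹)⁻¹ = s := by
      conv_lhs => rw [← hmr]
      conv_rhs => rw [← hpr]
      group
    have hga : p * m⁻¹ * a * (p * m⁻¹)⁻¹ = b := by
      rw [← hmt, ← hpt]
      group
    set g := p * m⁻¹ with hg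
    have hgs' : g * s = s * g := by
      have h1 : g * s * g⁻¹ * g = s * g := by rw [hgs]
      rwa [inv_mul_cancel_right] at h1
    have hUU : ∀ x, x ∈ UU M r ↔ g * x * g⁻¹ ∈ UU M r := by
      intro x
      refine ⟨UU_conj hgM, fun h1 => ?_⟩
      have h2 := UU_conj (M.inv_mem hgM) h1
      have e : g⁻¹ * (g * x * g⁻¹) * g⁻¹⁻¹ = x := by group
      rwa [e] at h2
    have hZ : ∀ x, x ∈ ZC Q s ↔ g * x * g⁻¹ ∈ ZC Q s := fun x => (h.ZC_fix hgs').symm
    refine ⟨g, fun x => and_congr (hUU x) (hZ x), fun x => ?_, fun x => ?_⟩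
    · refine and_congr (hUU x) (or_congr (hZ x) ⟨?_, ?_⟩)
      · rintro ⟨c, hc, hcx⟩
        refine ⟨g * c * g⁻¹, ?_, ?_⟩
        · have := hc.conj hgM
          rwa [hgs] at this
        · have := (hZ _).1 hcx
          have e : g * c * g⁻¹ * (g * x * g⁻¹) = g * (c * x) * g⁻¹ := by group
          rwa [e]
      · rintro ⟨c, hc, hcx⟩
        refine ⟨g⁻¹ * c * g⁻¹⁻¹, ?_, ?_⟩
        · have h1 := hc.conj (M.inv_mem hgM)
          have e : g⁻¹ * s * g⁻¹⁻¹ = s := by
            conv_lhs => rw [← hgs]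
            group
          rwa [e] at h1
        · refine (hZ _).2 ?_
          have e : g * (g⁻¹ * c * g⁻¹⁻¹ * x) * g⁻¹ = c * (g * x * g⁻¹) := by group
          rwa [e]
    · have h1 := h.N_conj (g := g) (s := a) (x := x)
      rw [hga] at h1
      exact h1.symm

/-- **JOINT (7).** -/
theorem dich [Finite G] (hO : JOpp M r t Q N) (hN : JNon M r t N) : JDich M r t N := by
  have key : ∀ {n b : G}, n * b * n⁻¹ = b ↔ n * b = b * n := fun {n b} => mul_inv_eq_iff_eq_mul
  rcases (h.res hO hN Om_base).dich with h1 | h1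
  · left
    rintro s a b ⟨m, hm, rfl, rfl⟩ hb hne hne'
    have hb' : Adj M r t r (m⁻¹ * b * m) := by
      have := hb.conj (M.inv_mem hm)
      simpa [mul_assoc] using this
    have hK : t * (m⁻¹ * b * m) ∉ UU M r ⊓ ZC Q r := by
      intro hK
      rcases h.noPar_at Adj_base hb' hK.2 with h2 | h2
      · apply hne
        rw [← h2]
        group
      · apply hne'
        have : b = m * (m⁻¹ * b * m) * m⁻¹ := by group
        rw [this, h2]
        group
    obtain ⟨n, hn, hnb⟩ := h1 t Adj_base _ hb' hK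
    have h3 : Opp M r t N r t (m⁻¹ * b * m) := ⟨Adj_base, hb', n, hn, fun h4 => hnb (key.1 h4)⟩
    have h4 := h.opp_conj hm h3
    have e : m * (m⁻¹ * b * m) * m⁻¹ = b := by group
    rwa [e] at h4
  · right
    rintro s a b c hb hc n hn
    have main : ∀ x y, Opp M r t N s a x → Opp M r t N s a y → n * x = x * n → n * y = y * n := by
      intro x y hx hy hnx
      obtain ⟨m, hm, rfl, rfl⟩ := hx.1
      have hx' := h.opp_conj (M.inv_mem hm) hx
      have hy' := h.opp_conj (M.inv_mem hm) hy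
      have e : ∀ z : G, m⁻¹ * (m * z * m⁻¹) * m⁻¹⁻¹ = z := fun z => by group
      rw [e, e] at hx' hy'
      have hn' : m⁻¹ * n * m⁻¹⁻¹ ∈ N t := by
        have := h.Nc m⁻¹ _ _ hn
        rwa [e] at this
      obtain ⟨-, hx1, p, hp, hp'⟩ := hx'
      obtain ⟨-, hy1, q, hq, hq'⟩ := hy'
      have h2 := h1 t Adj_base _ hx1 _ hy1 ⟨p, hp, fun h4 => hp' (key.2 h4)⟩ ⟨q, hq, fun h4 => hq' (key.2 h4)⟩
        _ hn' (by
          have e1 : m⁻¹ * n * m⁻¹⁻¹ * (m⁻¹ * x * m⁻¹⁻¹) = m⁻¹ * (n * x) * m⁻¹⁻¹ := by group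
          have e2 : m⁻¹ * x * m⁻¹⁻¹ * (m⁻¹ * n * m⁻¹⁻¹) = m⁻¹ * (x * n) * m⁻¹⁻¹ := by group
          rw [e1, e2, hnx])
      have e1 : m⁻¹ * n * m⁻¹⁻¹ * (m⁻¹ * y * m⁻¹⁻¹) = m⁻¹ * (n * y) * m⁻¹⁻¹ := by group
      have e2 : m⁻¹ * y * m⁻¹⁻¹ * (m⁻¹ * n * m⁻¹⁻¹) = m⁻¹ * (y * n) * m⁻¹⁻¹ := by group
      rw [e1, e2] at h2
      exact (MulAut.conj m⁻¹).injective h2
    exact ⟨main b c hb hc, main c b hc hb⟩

end TvH

end Cfsg.Agent.Omega.HOne.TvDef
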