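import Cfsg.Agent.Omega.HOne.TvDef

/-!
# II.0h1, `q = 2`, case (beta): (4), (5), (6) of #15959

* `TvH.jOpp : JOpp M r t Q N`;
* `TvH.jNon : JNon M r t N`.
-/

set_option autoImplicit false
set_option linter.unusedSectionVars false

namespace Cfsg.Agent.Omega.HOne.TvDef

open Subgroup

variable {G : Type*} [Group G] {M : Subgroup G} {r t : G} {Q N : G → Subgroup G}

/-- the elements of `I_s` moved by `n` modulo `K_s` -/
def mvs (M : Subgroup G) (r : G) (Q : G → Subgroup G) (s n : G) : Set G :=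
  {u | u ∈ UU M r ∧ u ∈ Q s ∧ n * u * n⁻¹ * u⁻¹ ∉ ZC Q s}

namespace TvH

variable (h : TvH M r t Q N)
include h

theorem Adj_UU {s a : G} (ha : Adj M r t s a) : a ∈ UU M r := Om_le_UU (h.Adj_right ha)

/-- `x y x = y` in `U` -/
theorem UU_cancel {x y : G} (hx : x ∈ UU M r) (hy : y ∈ UU M r) : x * y * x = y := by
  rw [h.UU_comm hx hy, mul_assoc, h.UU_sq hx, mul_one]

theorem UU_cancel' {x : G} (hx : x ∈ UU M r) (y : G) : x * (x * y) = y := by
  rw [← mul_assoc, h.UU_sq hx, one_mul]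

/-- `[n, u]` for `n ∈ N a`, `u ∈ I_s` -/
theorem cm {s a u n : G} (ha : Adj M r t s a) (hu : u ∈ UU M r) (hus : u ∈ Q s) (hn : n ∈ N a) :
    n * u * n⁻¹ * u⁻¹ ∈ UU M r ∧ n * u * n⁻¹ * u⁻¹ ∈ ZC Q a ∧
      (n * u * n⁻¹ * u⁻¹ ∈ ZC Q s ∨ a * (n * u * n⁻¹ * u⁻¹) ∈ ZC Q s) := by
  have h1 := UU_comm_mem (h.N_le_M (h.Adj_right ha) hn) hu
  have h2 := h.UU_inv h1
  have e : n * u * n⁻¹ * u⁻¹ = u * n * u⁻¹ * n⁻¹ := by
    rw [← h2]; group
  obtain ⟨h3, -, h4⟩ := h.comm_IN ha hu hus hn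
  rw [← e] at h3 h4
  exact ⟨h1, h3, h4⟩

/-- if `n ∈ N a` fixes the line `⟨s, b⟩` modulo `K_s` then it centralises `b` -/
theorem fix_of {s a b n : G} (ha : Adj M r t s a) (hb : Adj M r t s b) (hn : n ∈ N a)
    (hz : n * b * n⁻¹ * b⁻¹ ∈ ZC Q s) : n * b * n⁻¹ = b := by
  have hbU := h.Adj_UU hb
  have hb' := h.Adj_N ha hb hn
  have hbU' := h.Adj_UU hb'
  have e : n * b * n⁻¹ * b⁻¹ = b * (n * b * n⁻¹) := by
    rw [h.UU_inv hbU, h.UU_comm hbU' hbU]
  rw [e] at hz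
  rcases h.noPar_at hb hb' hz with h1 | h1
  · exact h1
  · exfalso
    have h2 := (h.cm ha hbU (h.Adj_mem hb) hn).2.1
    rw [h1, mul_inv_cancel_right] at h2
    exact h.not_both ha h2

/-- `n` commutes with the elements of `Z(Q a)` -/
theorem N_ZC {a n c : G} (ha : a ∈ Om M r) (hn : n ∈ N a) (hc : c ∈ ZC Q a) : n * c * n⁻¹ = c := by
  rw [← h.ZC_comm hc (h.N_le_Q ha hn), mul_inv_cancel_right]

theorem N_fix_self {a n : G} (ha : a ∈ Om M r) (hn : n ∈ N a) : n * a * n⁻¹ = a :=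
  h.N_ZC ha hn (h.mem_ZC ha)

theorem N_fix_s {s a n : G} (ha : Adj M r t s a) (hn : n ∈ N a) : n * s * n⁻¹ = s := by
  rw [h.N_comm ha hn, mul_inv_cancel_right]

/-- if `n ∈ N a` moves `b` -/
theorem mv_c {s a b n : G} (ha : Adj M r t s a) (hb : Adj M r t s b) (hn : n ∈ N a)
    (hne : n * b * n⁻¹ ≠ b) :
    ∃ c, c ∈ UU M r ∧ c ∈ ZC Q s ∧ c ∈ ZC Q a ∧ n * b * n⁻¹ = a * b * c := by
  have hbU := h.Adj_UU hb
  have haU := h.Adj_UU ha
  obtain ⟨h1, h2, h3⟩ := h.cm ha hbU (h.Adj_mem hb) hn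
  have h4 := h3.resolve_left fun hz => hne (h.fix_of ha hb hn hz)
  refine ⟨a * (n * b * n⁻¹ * b⁻¹), mul_mem haU h1, h4, mul_mem (h.mem_ZC (h.Adj_right ha)) h2, ?_⟩
  have e := h.UU_comm haU hbU
  calc n * b * n⁻¹ = b * (n * b * n⁻¹ * b⁻¹) := by
        rw [h.UU_comm hbU h1]; group
    _ = b * (a * a) * (n * b * n⁻¹ * b⁻¹) := by rw [h.UU_sq haU, mul_one]
    _ = a * b * (a * (n * b * n⁻¹ * b⁻¹)) := by rw [e]; group

theorem mv_uniq {s a b n m c : G} (ha : Adj M r t s a) (hb : Adj M r t s b) (hn : n ∈ N a) (hm : m ∈ N a)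
    (hcU : c ∈ UU M r) (hcs : c ∈ ZC Q s) (hnb : n * b * n⁻¹ = a * b * c) :
    m * b * m⁻¹ = b ∨ m * b * m⁻¹ = a * b * c := by
  by_cases hne : m * b * m⁻¹ = b
  · exact Or.inl hne
  right
  obtain ⟨c', hcU', hcs', hca', e'⟩ := h.mv_c ha hb hm hne
  have hbU := h.Adj_UU hb
  have haU := h.Adj_UU ha
  have hA := h.Adj_right ha
  have e1 : n * m * b * (n * m)⁻¹ = b * (c * c') := by
    calc n * m * b * (n * m)⁻¹ = n * (m * b * m⁻¹) * n⁻¹ := by group
      _ = (n * a * n⁻¹) * (n * b * n⁻¹) * (n * c' * n⁻¹) := by rw [e']; group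
      _ = a * (a * b * c) * c' := by rw [h.N_fix_self hA hn, hnb, h.N_ZC hA hn hca']
      _ = (a * a) * b * c * c' := by group
      _ = b * (c * c') := by rw [h.UU_sq haU]; group
  have h1 := h.fix_of ha hb (mul_mem hn hm) (by
    rw [e1, h.UU_comm hbU (mul_mem hcU hcU'), mul_inv_cancel_right]
    exact mul_mem hcs hcs')
  rw [e1, mul_eq_left] at h1
  have h2 : c' = c := by
    have h3 : c * (c * c') = c * 1 := by rw [h1]
    rwa [h.UU_cancel' hcU, mul_one] at h3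
  rw [e', h2]

/-! ### the action modulo `K_s` -/

/-- `K_s` is normalised by the elements commuting with `s` -/
theorem K_conj {s g x : G} (hg : g * s = s * g) (hx : x ∈ ZC Q s) : g * x * g⁻¹ ∈ ZC Q s :=
  (h.ZC_fix hg).2 hx

theorem inv_comm {g s : G} (hg : g * s = s * g) : g⁻¹ * s = s * g⁻¹ := by
  have _ := h
  rw [inv_mul_eq_iff_eq_mul, ← mul_assoc, hg, mul_inv_cancel_right]

/-- `[m⁻¹, u] ∈ K_s` iff `[m, u] ∈ K_s` -/
theorem cm_inv {s m u : G} (hm : m * s = s * m) (hz : m * u * m⁻¹ * u⁻¹ ∈ ZC Q s) : m⁻¹ * u * m⁻¹⁻¹ * u⁻¹ ∈ ZC Q s := by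
  have h1 := h.K_conj (h.inv_comm hm) (inv_mem hz)
  have e : m⁻¹ * (m * u * m⁻¹ * u⁻¹)⁻¹ * m⁻¹⁻¹ = m⁻¹ * u * m⁻¹⁻¹ * u⁻¹ := by group
  rwa [e] at h1

/-- the functional of a commutator -/
theorem mvs_comm {s a b n m c : G} (ha : Adj M r t s a) (hb : Adj M r t s b) (hn : n ∈ N a) (hm : m ∈ N b)
    (hma : m * a * m⁻¹ = a) (hcs : c ∈ ZC Q s) (hnb : n * b * n⁻¹ = a * b * c) :
    mvs M r Q s (m * n * m⁻¹ * n⁻¹) = mvs M r Q s m := by
  have hbU := h.Adj_UU hb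
  have haU := h.Adj_UU ha
  have hA := h.Adj_right ha
  have hB := h.Adj_right hb
  have hnM := h.N_le_M hA hn
  have hmM := h.N_le_M hB hm
  have hns := h.N_comm ha hn
  have hms := h.N_comm hb hm
  have key : ∀ u ∈ UU M r, u ∈ Q s → (m * n * m⁻¹ * n⁻¹ * u * (m * n * m⁻¹ * n⁻¹)⁻¹ * u⁻¹ ∈ ZC Q s ↔
      m * u * m⁻¹ * u⁻¹ ∈ ZC Q s) := by
    intro u hu hus
    -- `v = n⁻¹ u n = d₁ u`
    obtain ⟨d₁, hd₁⟩ : ∃ d, d = n⁻¹ * u * n⁻¹⁻¹ * u⁻¹ := ⟨_, rfl⟩
    obtain ⟨hd₁U, -, hd₁'⟩ := h.cm ha hu hus (inv_mem hn)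
    rw [← hd₁] at hd₁U hd₁'
    obtain ⟨v, hv⟩ : ∃ v, v = n⁻¹ * u * n⁻¹⁻¹ := ⟨_, rfl⟩
    have hvU : v ∈ UU M r := by rw [hv]; exact UU_conj (M.inv_mem hnM) hu
    have hvs : v ∈ Q s := by rw [hv]; exact (h.Q_fix (h.inv_comm hns)).2 hus
    have hvd : v = d₁ * u := by rw [hv, hd₁]; group
    -- `m⁻¹` on `d₁`
    have hmd : m⁻¹ * d₁ * m⁻¹⁻¹ * d₁⁻¹ ∈ ZC Q s := by
      rcases hd₁' with h1 | h1
      · exact mul_mem (h.K_conj (h.inv_comm hms) h1) (inv_mem h1)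
      · have h2 : m⁻¹ * a * m⁻¹⁻¹ = a := by
          nth_rewrite 1 [← hma]; group
        have h3 := mul_mem (h.K_conj (h.inv_comm hms) h1) (inv_mem h1)
        have e : m⁻¹ * (a * d₁) * m⁻¹⁻¹ * (a * d₁)⁻¹ = m⁻¹ * d₁ * m⁻¹⁻¹ * d₁⁻¹ := by
          have h4 := h.UU_comm haU (mul_mem (UU_conj (M.inv_mem hmM) hd₁U) (inv_mem hd₁U))
          calc m⁻¹ * (a * d₁) * m⁻¹⁻¹ * (a * d₁)⁻¹
              = (m⁻¹ * a * m⁻¹⁻¹) * (m⁻¹ * d₁ * m⁻¹⁻¹ * d₁⁻¹) * a⁻¹ := by group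
            _ = (a * (m⁻¹ * d₁ * m⁻¹⁻¹ * d₁⁻¹)) * a⁻¹ := by rw [h2]
            _ = _ := by rw [h4, mul_inv_cancel_right]
        rwa [e] at h3
    -- `m⁻¹` moves `v` iff `m` moves `u`
    obtain ⟨d₂, hd₂⟩ : ∃ d, d = m⁻¹ * v * m⁻¹⁻¹ * v⁻¹ := ⟨_, rfl⟩
    obtain ⟨hd₂U, -, hd₂'⟩ := h.cm hb hvU hvs (inv_mem hm)
    rw [← hd₂] at hd₂U hd₂'
    have e2 : d₂ = (m⁻¹ * d₁ * m⁻¹⁻¹ * d₁⁻¹) * (m⁻¹ * u * m⁻¹⁻¹ * u⁻¹) := by
      have h4 := h.UU_comm (inv_mem hd₁U) (mul_mem (UU_conj (M.inv_mem hmM) hu) (inv_mem hu))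
      calc d₂ = (m⁻¹ * d₁ * m⁻¹⁻¹) * ((m⁻¹ * u * m⁻¹⁻¹ * u⁻¹) * d₁⁻¹) := by rw [hd₂, hvd]; group
        _ = _ := by rw [← h4]; group
    have e3 : d₂ ∈ ZC Q s ↔ m * u * m⁻¹ * u⁻¹ ∈ ZC Q s := by
      rw [e2, mul_mem_cancel_left hmd]
      constructor
      · intro h1
        have h2 := h.cm_inv (h.inv_comm hms) h1
        rwa [inv_inv] at h2
      · exact h.cm_inv hms
    -- the commutator
    have e4 : m * n * m⁻¹ * n⁻¹ * u * (m * n * m⁻¹ * n⁻¹)⁻¹ * u⁻¹ =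
        (m * n * d₂ * (m * n)⁻¹) * (m * u * m⁻¹ * u⁻¹) := by
      calc m * n * m⁻¹ * n⁻¹ * u * (m * n * m⁻¹ * n⁻¹)⁻¹ * u⁻¹
          = m * n * (m⁻¹ * v * m⁻¹⁻¹) * (m * n)⁻¹ * u⁻¹ := by rw [hv]; group
        _ = m * n * (d₂ * v) * (m * n)⁻¹ * u⁻¹ := by rw [hd₂]; group
        _ = _ := by rw [hv]; group
    have hmn : m * n * s = s * (m * n) := by rw [mul_assoc, hns, ← mul_assoc, hms, mul_assoc]
    rw [e4]
    by_cases hd : d₂ ∈ ZC Q s
    · rw [mul_mem_cancel_left (h.K_conj hmn hd)]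
    · have h1 := hd₂'.resolve_left hd
      -- `d₂ = b k`
      have hdm := fun x => hd (e3.2 x)
      refine iff_of_false ?_ hdm
      have h2 := (h.cm hb hu hus hm).2.2.resolve_left hdm
      intro h3
      -- `m n d₂ ... = a b k'`
      have e5 : m * n * (b * d₂) * (m * n)⁻¹ = a * b * (m * c * m⁻¹) * (m * n * d₂ * (m * n)⁻¹) := by
        calc m * n * (b * d₂) * (m * n)⁻¹ = m * (n * b * n⁻¹) * m⁻¹ * (m * n * d₂ * (m * n)⁻¹) := by group
          _ = (m * a * m⁻¹) * (m * b * m⁻¹) * (m * c * m⁻¹) * (m * n * d₂ * (m * n)⁻¹) := by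
            rw [hnb]; group
          _ = _ := by rw [hma, h.N_fix_self hB hm]
      have h6 := h.K_conj hmn h1
      have hk := h.K_conj hms hcs
      rw [e5] at h6
      have hcU' : m * c * m⁻¹ ∈ ZC Q s := hk
      -- `a b (m n d₂ ...) ∈ K_s`
      obtain ⟨x, hx⟩ : ∃ x, x = m * n * d₂ * (m * n)⁻¹ := ⟨_, rfl⟩
      obtain ⟨y, hy⟩ : ∃ y, y = m * u * m⁻¹ * u⁻¹ := ⟨_, rfl⟩
      have hxU : x ∈ UU M r := by rw [hx]; exact UU_conj (mul_mem hmM hnM) hd₂U
      have hyU : y ∈ UU M r := by rw [hy]; exact UU_comm_mem hmM hu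
      rw [← hx] at h6 h3
      rw [← hy] at h3 h2
      have hcUU : c ∈ UU M r := by
        have : c = (a * b)⁻¹ * (n * b * n⁻¹) := by rw [hnb]; group
        rw [this]
        exact mul_mem (inv_mem (mul_mem haU hbU)) (UU_conj hnM hbU)
      have hkU : m * c * m⁻¹ ∈ UU M r := UU_conj hmM hcUU
      have h7 : a * b * x ∈ ZC Q s := by
        have e6 : a * b * x = (a * b * (m * c * m⁻¹) * x) * (m * c * m⁻¹)⁻¹ := by
          rw [mul_assoc (a * b), h.UU_comm hkU hxU]; group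
        rw [e6]
        exact mul_mem h6 (inv_mem hk)
      -- `a ∈ K_s`
      have h8 : a ∈ ZC Q s := by
        have e7 : a = (a * b * x) * (x * y) * (b * y) := by
          have e8 := h.UU_comm hyU hbU
          calc a = a * (b * (x * x) * (y * (y * b))) := by
                rw [h.UU_sq hxU, h.UU_cancel' hyU, mul_one, h.UU_sq hbU, mul_one]
            _ = (a * b * x) * (x * y) * (y * b) := by group
            _ = _ := by rw [e8]
        rw [e7]
        exact mul_mem (mul_mem h7 h3) h2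
      exact h.Adj_not_mem ha h8
  ext u
  constructor
  · rintro ⟨hu, hus, h1⟩
    exact ⟨hu, hus, fun h2 => h1 ((key u hu hus).2 h2)⟩
  · rintro ⟨hu, hus, h1⟩
    exact ⟨hu, hus, fun h2 => h1 ((key u hu hus).1 h2)⟩

/-- conjugation of `mvs` -/
theorem mvs_conj {s g n : G} (hg : g ∈ M) (hgs : g * s = s * g) :
    mvs M r Q s (g * n * g⁻¹) = (fun x => g * x * g⁻¹) '' mvs M r Q s n := by
  have hg' := h.inv_comm hgs
  ext u
  constructor
  · rintro ⟨hu, hus, h1⟩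
    refine ⟨g⁻¹ * u * g, ⟨?_, ?_, ?_⟩, by group⟩
    · have := UU_conj (M.inv_mem hg) hu
      rwa [inv_inv] at this
    · have := (h.Q_fix hg').2 hus
      rwa [inv_inv] at this
    · intro h2
      apply h1
      have h3 := h.K_conj hgs h2
      have e : g * (n * (g⁻¹ * u * g) * n⁻¹ * (g⁻¹ * u * g)⁻¹) * g⁻¹ =
        g * n * g⁻¹ * u * (g * n * g⁻¹)⁻¹ * u⁻¹ := by group
      rwa [e] at h3
  · rintro ⟨v, ⟨hv, hvs, h1⟩, rfl⟩
    refine ⟨UU_conj hg hv, (h.Q_fix hgs).2 hvs, fun h2 => h1 ?_⟩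
    have h3 := h.K_conj hg' h2
    have e : g⁻¹ * (g * n * g⁻¹ * (g * v * g⁻¹) * (g * n * g⁻¹)⁻¹ * (g * v * g⁻¹)⁻¹) * g⁻¹⁻¹ =
      n * v * n⁻¹ * v⁻¹ := by group
    rwa [e] at h3

/-- `opp` is symmetric -/
theorem opp_symm [Finite G] {s a b : G} (H : Opp M r t N s a b) : Opp M r t N s b a := by
  obtain ⟨ha, hb, n, hn, hne⟩ := H
  refine ⟨hb, ha, ?_⟩
  by_contra hcon
  push Not at hcon
  obtain ⟨c, -, hcs, -, hnb⟩ := h.mv_c ha hb hn hne
  -- the two families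
  set A : Set (Set G) := {X | ∃ n ∈ N a, X = mvs M r Q s n} with hA
  set B : Set (Set G) := {X | ∃ n ∈ N b, X = mvs M r Q s n} with hB
  obtain ⟨m₁, hm₁, e1, e2⟩ := ha
  obtain ⟨m₂, hm₂, e3, e4⟩ := hb
  have ha : Adj M r t s a := ⟨m₁, hm₁, e1, e2⟩
  have hb : Adj M r t s b := ⟨m₂, hm₂, e3, e4⟩
  set g := m₂ * m₁⁻¹ with hg
  have hgM : g ∈ M := M.mul_mem hm₂ (M.inv_mem hm₁)
  have hgs' : g * s * g⁻¹ = s := by
    calc g * s * g⁻¹ = m₂ * (m₁⁻¹ * s * m₁) * m₂⁻¹ := by rw [hg]; group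
      _ = m₂ * r * m₂⁻¹ := by rw [← e1]; group
      _ = s := e3
  have hgs : g * s = s * g := mul_inv_eq_iff_eq_mul.1 hgs'
  have hga : g * a * g⁻¹ = b := by
    calc g * a * g⁻¹ = m₂ * (m₁⁻¹ * a * m₁) * m₂⁻¹ := by rw [hg]; group
      _ = m₂ * t * m₂⁻¹ := by rw [← e2]; group
      _ = b := e4
  have hBA : B ⊆ A := by
    rintro X ⟨m, hm, rfl⟩
    refine ⟨m * n * m⁻¹ * n⁻¹, ?_, (h.mvs_comm ha hb hn hm (hcon m hm) hcs hnb).symm⟩
    exact mul_mem ((h.N_fix (mul_inv_eq_iff_eq_mul.1 (hcon m hm))).2 hn) (inv_mem hn)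
  have hAB : A.ncard ≤ B.ncard := by
    have h1 : (fun X : Set G => (fun x => g * x * g⁻¹) '' X) '' A ⊆ B := by
      rintro _ ⟨_, ⟨n, hn, rfl⟩, rfl⟩
      refine ⟨g * n * g⁻¹, ?_, (h.mvs_conj hgM hgs).symm⟩
      rw [← hga]
      exact h.N_conj.2 hn
    have hinj : Function.Injective (fun X : Set G => (fun x => g * x * g⁻¹) '' X) := by
      apply Set.image_injective.2
      intro x y hxy
      exact mul_left_cancel (mul_right_cancel hxy)
    rw [← Set.ncard_image_of_injective A hinj]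
    exact Set.ncard_le_ncard h1 (Set.toFinite _)
  have hE : B = A := Set.eq_of_subset_of_ncard_le hBA hAB (Set.toFinite _)
  have h1 : mvs M r Q s n ∈ B := by
    rw [hE]
    exact ⟨n, hn, rfl⟩
  obtain ⟨m, hm, e⟩ := h1
  have h2 : b ∈ mvs M r Q s n :=
    ⟨h.Adj_UU hb, h.Adj_mem hb, fun hz => hne (h.fix_of ha hb hn hz)⟩
  rw [e] at h2
  apply h2.2.2
  rw [h.N_fix_self (h.Adj_right hb) hm, mul_inv_cancel]
  exact one_mem _

/-- `n` moves `s b` iff it moves `b` -/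
theorem opp_right {s a b : G} (H : Opp M r t N s a b) : Opp M r t N s a (s * b) := by
  obtain ⟨ha, hb, n, hn, hne⟩ := H
  refine ⟨ha, h.Adj_mul hb, n, hn, fun e => hne ?_⟩
  have e1 : n * (s * b) * n⁻¹ = s * (n * b * n⁻¹) := by
    calc n * (s * b) * n⁻¹ = (n * s * n⁻¹) * (n * b * n⁻¹) := by group
      _ = _ := by rw [h.N_fix_s ha hn]
  rw [e1] at e
  exact mul_left_cancel e

theorem opp_left [Finite G] {s a b : G} (H : Opp M r t N s a b) : Opp M r t N s (s * a) b :=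
  h.opp_symm (h.opp_right (h.opp_symm H))

/-- **(4), (5) of #15959** -/
theorem jOpp [Finite G] : JOpp M r t Q N := by
  intro s a b H
  have H' := h.opp_symm H
  refine ⟨H', h.opp_left H, h.opp_right H, ?_, ?_, ?_⟩
  · rintro rfl
    obtain ⟨ha, -, n, hn, hne⟩ := H
    exact hne (h.N_fix_self (h.Adj_right ha) hn)
  · rintro rfl
    obtain ⟨ha, -, n, hn, hne⟩ := H
    apply hne
    calc n * (s * a) * n⁻¹ = (n * s * n⁻¹) * (n * a * n⁻¹) := by group
      _ = s * a := by rw [h.N_fix_s ha hn, h.N_fix_self (h.Adj_right ha) hn]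
  obtain ⟨ha, hb, n, hn, hne⟩ := H
  obtain ⟨-, -, n', hn', hne'⟩ := H'
  have haU := h.Adj_UU ha
  have hbU := h.Adj_UU hb
  have hA := h.Adj_right ha
  have hB := h.Adj_right hb
  have hS := ha.left
  have hsU : s ∈ UU M r := Om_le_UU hS
  obtain ⟨c, hcU, hcs, hca, hnb⟩ := h.mv_c ha hb hn hne
  obtain ⟨c', hcU', hcs', hcb', hnb'⟩ := h.mv_c hb ha hn' hne'
  have hab := h.UU_comm haU hbU
  rw [← hab] at hnb'
  have hT : Adj M r t s (a * b * c) := by rw [← hnb]; exact h.Adj_N ha hb hn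
  have hT' : Adj M r t s (a * b * c') := by rw [← hnb']; exact h.Adj_N hb ha hn'
  -- `c' ∈ {c, s c}`
  have h1 : a * b * c * (a * b * c') ∈ ZC Q s := by
    have e : a * b * c * (a * b * c') = c * c' := by
      have h2 := h.UU_comm (mul_mem haU hbU) hcU
      calc a * b * c * (a * b * c') = (a * b) * (c * (a * b)) * c' := by group
        _ = ((a * b) * (a * b)) * c * c' := by rw [← h2]; group
        _ = c * c' := by rw [h.UU_sq (mul_mem haU hbU), one_mul]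
    rw [e]
    exact mul_mem hcs hcs'
  have h2 : c' = c ∨ c' = s * c := by
    rcases h.noPar_at hT hT' h1 with h3 | h3
    · left
      exact mul_left_cancel h3
    · right
      have h4 : s * (a * b * c) = a * b * (s * c) := by
        rw [← mul_assoc s, h.UU_comm hsU (mul_mem haU hbU), mul_assoc]
      rw [h4] at h3
      exact mul_left_cancel h3
  -- `c ∈ C(Q (a b c'))`, `c' ∈ C(Q (a b c))`
  have hnc' : n * c' * n⁻¹ = c' := by
    rcases h2 with h3 | h3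
    · rw [h3]; exact h.N_ZC hA hn hca
    · rw [h3]
      calc n * (s * c) * n⁻¹ = (n * s * n⁻¹) * (n * c * n⁻¹) := by group
        _ = s * c := by rw [h.N_fix_s ha hn, h.N_ZC hA hn hca]
  have hnc : n' * c * n'⁻¹ = c := by
    have h4 : c = c' ∨ c = s * c' := by
      rcases h2 with h3 | h3
      · exact Or.inl h3.symm
      · right; rw [h3, h.UU_cancel' hsU]
    rcases h4 with h3 | h3
    · rw [h3]; exact h.N_ZC hB hn' hcb'
    · rw [h3]
      calc n' * (s * c') * n'⁻¹ = (n' * s * n'⁻¹) * (n' * c' * n'⁻¹) := by group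
        _ = s * c' := by rw [h.N_fix_s hb hn', h.N_ZC hB hn' hcb']
  have h5 : c' ∈ ZC Q (a * b * c) := by
    have := (h.ZC_conj (g := n)).2 hcb'
    rwa [hnc', hnb] at this
  have h6 : c ∈ ZC Q (a * b * c') := by
    have := (h.ZC_conj (g := n')).2 hca
    rwa [hnc, hnb'] at this
  have h7 : c ∈ ZC Q (a * b * c) := by
    rcases h2 with h3 | h3
    · rwa [h3] at h6
    · have h8 := h.Adj_CV hT' hcs h6
      have h9 : s * (a * b * c') = a * b * c := by
        have h4 : s * (a * b * c) = a * b * (s * c) := by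
          rw [← mul_assoc s, h.UU_comm hsU (mul_mem haU hbU), mul_assoc]
        rw [h3, ← h4, h.UU_cancel' hsU]
      rwa [h9] at h8
  have h8 : c' = c := by
    rcases h2 with h3 | h3
    · exact h3
    · exfalso
      have h9 : s ∈ ZC Q (a * b * c) := by
        have : s = c' * c := by rw [h3, mul_assoc, h.UU_sq hcU, mul_one]
        rw [this]
        exact mul_mem h5 h7
      exact h.not_both hT h9
  rw [h8] at hnb' hcb'
  refine ⟨c, ?_, hcU, hcs, hca, hcb', h7, hT, fun m hm => h.mv_uniq ha hb hn hm hcU hcs hnb, ?_⟩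
  · rintro rfl
    rw [mul_one] at hnb
    have h9 := h.red_at hA hbU (by
      intro m hm
      have h10 : m * b * m⁻¹ = b ∨ m * b * m⁻¹ = a * b := by
        have := h.mv_uniq ha hb hn hm hcU hcs (by rw [mul_one]; exact hnb)
        rwa [mul_one] at this
      have e : b * m * b⁻¹ * m⁻¹ = b * (m * b * m⁻¹)⁻¹ := by group
      rcases h10 with h11 | h11
      · left; rw [e, h11, mul_inv_cancel]
      · right
        rw [e, h11, hab, mul_inv_rev, h.UU_inv haU]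
        rw [h.UU_comm haU (inv_mem hbU), ← mul_assoc, mul_inv_cancel, one_mul]) n hn
    apply hne
    rw [← h9, mul_inv_cancel_right]
  · intro m hm
    have h9 := h.mv_uniq hb ha hn' hm hcU hcs (by rw [← hab]; exact hnb')
    rwa [← hab] at h9

/-! ### (6) -/

/-- lines on `s` which are not opposite: there is `y ∈ Q a` fixing `s` and moving `b` -/
theorem exists_y {s a b : G} (ha : Adj M r t s a) (hb : Adj M r t s b) (h1 : b ≠ a) (h2 : b ≠ s * a)
    (hba : b ∈ Q a) : ∃ y ∈ Q a, y * s = s * y ∧ y * b * y⁻¹ = a * b := by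
  have hA := h.Adj_right ha
  have haU := h.Adj_UU ha
  have hbU := h.Adj_UU hb
  have hS := ha.left
  have hsU : s ∈ UU M r := Om_le_UU hS
  have has := h.Adj_symm ha
  have hcm : ∀ y ∈ Q a, ∀ x ∈ Q a, y * x * y⁻¹ = x ∨ y * x * y⁻¹ = a * x := by
    intro y hy x hx
    rcases h.comm_Q hA hy hx with h3 | h3
    · left; exact mul_inv_eq_one.1 h3
    · right; exact mul_inv_eq_iff_eq_mul.1 h3
  by_contra hcon
  push Not at hcon
  have hfix : ∀ y ∈ Q a, y * s = s * y → y * b * y⁻¹ = b := by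
    intro y hy hys
    exact (hcm y hy b hba).resolve_right (hcon y hy hys)
  obtain ⟨q, hq, hqs⟩ := h.Adj_q has
  -- every `y` or `q⁻¹ y` commutes with `s`
  have hsa : s ∈ Q a := h.Adj_mem has
  have hor : ∀ y ∈ Q a, y * s = s * y ∨ (q⁻¹ * y) * s = s * (q⁻¹ * y) := by
    intro y hy
    rcases hcm y hy s hsa with h3 | h3
    · left; exact mul_inv_eq_iff_eq_mul.1 h3
    · right
      apply mul_inv_eq_iff_eq_mul.1
      calc q⁻¹ * y * s * (q⁻¹ * y)⁻¹ = q⁻¹ * (y * s * y⁻¹) * q := by group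
        _ = q⁻¹ * (q * s * q⁻¹) * q := by rw [h3, hqs]
        _ = s := by group
  -- `b' = b` or `s b` is in `Z(Q a)`
  have key : ∀ x, x ∈ UU M r → q * x * q⁻¹ = x → (∀ y ∈ Q a, y * s = s * y → y * x * y⁻¹ = x) → x ∈ ZC Q a := by
    intro x _ hqx hyx
    rw [mem_centralizer_iff]
    intro y hy
    rcases hor y hy with h3 | h3
    · exact mul_inv_eq_iff_eq_mul.1 (hyx y hy h3)
    · have h4 := hyx (q⁻¹ * y) ((Q a).mul_mem ((Q a).inv_mem hq) hy) h3
      apply mul_inv_eq_iff_eq_mul.1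
      calc y * x * y⁻¹ = q * (q⁻¹ * y * x * (q⁻¹ * y)⁻¹) * q⁻¹ := by group
        _ = x := by rw [h4, hqx]
  have hsQ : s ∈ ZC Q s := h.mem_ZC hS
  rcases hcm q hq b hba with h3 | h3
  · have h4 := key b hbU h3 hfix
    rcases h.Adj_ZQ has h4 (h.Adj_mem hb) with h5 | h5
    · exact h.Adj_not_mem hb h5
    · rcases h.noPar_at ha hb h5 with h6 | h6
      · exact h1 h6
      · exact h2 h6
  · have h4 := key (s * b) (mul_mem hsU hbU) (by
      calc q * (s * b) * q⁻¹ = (q * s * q⁻¹) * (q * b * q⁻¹) := by group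
        _ = a * s * (a * b) := by rw [hqs, h3]
        _ = (a * s * a) * b := by group
        _ = s * b := by rw [h.UU_cancel haU hsU]) (by
      intro y hy hys
      calc y * (s * b) * y⁻¹ = (y * s) * y⁻¹ * (y * b * y⁻¹) := by group
        _ = s * b := by rw [hys, hfix y hy hys, mul_inv_cancel_right])
    rcases h.Adj_ZQ has h4 (mul_mem (h.mem_Q hS) (h.Adj_mem hb)) with h5 | h5
    · exact h.Adj_not_mem hb ((mul_mem_cancel_left hsQ).1 h5)
    · have e : a * (s * b) = s * (a * b) := by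
        rw [← mul_assoc, h.UU_comm haU hsU, mul_assoc]
      rw [e, mul_mem_cancel_left hsQ] at h5
      rcases h.noPar_at ha hb h5 with h6 | h6
      · exact h1 h6
      · exact h2 h6

/-- **(6) of #15959** -/
theorem jNon [Finite G] : JNon M r t N := by
  intro s a b ha hb h1 h2 hno
  have hA := h.Adj_right ha
  have hB := h.Adj_right hb
  have haU := h.Adj_UU ha
  have hbU := h.Adj_UU hb
  have hS := ha.left
  have hsU : s ∈ UU M r := Om_le_UU hS
  have hba : b ∈ Q a := by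
    refine h.UN_at hA hbU fun n hn => ?_
    by_contra hne
    exact hno ⟨ha, hb, n, hn, fun e => hne (mul_inv_eq_iff_eq_mul.1 e).symm⟩
  have hab : a ∈ Q b := by
    refine h.UN_at hB haU fun n hn => ?_
    by_contra hne
    exact hno (h.opp_symm ⟨hb, ha, n, hn, fun e => hne (mul_inv_eq_iff_eq_mul.1 e).symm⟩)
  have h1' : a ≠ b := fun e => h1 e.symm
  have h2' : a ≠ s * b := by
    intro e
    apply h2
    rw [e, h.UU_cancel' hsU]
  obtain ⟨y, hy, hys, hyb⟩ := h.exists_y ha hb h1 h2 hba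
  have hconj : ∀ {g s' x : G}, g ∈ M → g * s' = s' * g → Adj M r t s' x → Adj M r t s' (g * x * g⁻¹) := by
    intro g s' x hg hgs hx
    have := hx.conj hg
    rwa [hgs, mul_inv_cancel_right] at this
  have r1 : Adj M r t s (a * b) := by
    rw [← hyb]
    exact hconj (h.Q_le_M hA hy) hys hb
  refine ⟨r1, ?_⟩
  -- `x ∈ Q b`, `s^x = b s`, `a^x = a`
  obtain ⟨x, hx, hxs, hxa⟩ : ∃ x ∈ Q b, x * s * x⁻¹ = b * s ∧ x * a * x⁻¹ = a := by
    obtain ⟨q, hq, hqs⟩ := h.Adj_q (h.Adj_symm hb)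
    rcases h.comm_Q hB hq hab with h3 | h3
    · exact ⟨q, hq, hqs, mul_inv_eq_one.1 h3⟩
    · have h4 : q * a * q⁻¹ = b * a := mul_inv_eq_iff_eq_mul.1 h3
      obtain ⟨y', hy', hys', hya'⟩ := h.exists_y hb ha h1' h2' hab
      have hqb : q * b * q⁻¹ = b := by
        rw [← h.ZC_comm (h.mem_ZC hB) hq, mul_inv_cancel_right]
      refine ⟨q * y', mul_mem hq hy', ?_, ?_⟩
      · calc q * y' * s * (q * y')⁻¹ = q * (y' * s) * y'⁻¹ * q⁻¹ := by group
          _ = q * s * q⁻¹ := by rw [hys']; group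
          _ = b * s := hqs
      · calc q * y' * a * (q * y')⁻¹ = q * (y' * a * y'⁻¹) * q⁻¹ := by group
          _ = (q * b * q⁻¹) * (q * a * q⁻¹) := by rw [hya']; group
          _ = b * (b * a) := by rw [hqb, h4]
          _ = a := h.UU_cancel' hbU a
  -- `x' ∈ Q s`, `b^x' = s b`, `a^x' = a`
  obtain ⟨x', hx', hxb', hxa'⟩ : ∃ x ∈ Q s, x * b * x⁻¹ = s * b ∧ x * a * x⁻¹ = a := by
    have hcm : ∀ y ∈ Q s, ∀ x ∈ Q s, y * x * y⁻¹ = x ∨ y * x * y⁻¹ = s * x := by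
      intro y hy x hx
      rcases h.comm_Q hS hy hx with h3 | h3
      · left; exact mul_inv_eq_one.1 h3
      · right; exact mul_inv_eq_iff_eq_mul.1 h3
    have hQs : ∀ y ∈ Q s, y * s * y⁻¹ = s := by
      intro y hy
      rw [← h.ZC_comm (h.mem_ZC hS) hy, mul_inv_cancel_right]
    obtain ⟨q, hq, hqb⟩ := h.Adj_q hb
    rcases hcm q hq a (h.Adj_mem ha) with h3 | h3
    · exact ⟨q, hq, hqb, h3⟩
    · -- an element moving exactly one of `a, b`
      by_contra hcon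
      push Not at hcon
      have h4 : a * b ∈ ZC Q s := by
        rw [mem_centralizer_iff]
        intro x hx
        apply mul_inv_eq_iff_eq_mul.1
        have e : x * (a * b) * x⁻¹ = (x * a * x⁻¹) * (x * b * x⁻¹) := by group
        rw [e]
        rcases hcm x hx a (h.Adj_mem ha) with h5 | h5
        · rcases hcm x hx b (h.Adj_mem hb) with h6 | h6
          · rw [h5, h6]
          · exact absurd h5 (hcon x hx h6)
        · rcases hcm x hx b (h.Adj_mem hb) with h6 | h6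
          · exfalso
            refine hcon (q * x) (mul_mem hq hx) ?_ ?_
            · calc q * x * b * (q * x)⁻¹ = q * (x * b * x⁻¹) * q⁻¹ := by group
                _ = s * b := by rw [h6, hqb]
            · calc q * x * a * (q * x)⁻¹ = q * (x * a * x⁻¹) * q⁻¹ := by group
                _ = (q * s * q⁻¹) * (q * a * q⁻¹) := by rw [h5]; group
                _ = s * (s * a) := by rw [hQs q hq, h3]
                _ = a := h.UU_cancel' hsU a
          · rw [h5, h6]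
            calc s * a * (s * b) = (s * a * s) * b := by group
              _ = a * b := by rw [h.UU_cancel hsU haU]
      rcases h.noPar_at ha hb h4 with h6 | h6
      · exact h1 h6
      · exact h2 h6
  have r2 : Adj M r t a (b * s) := by
    rw [← hxs]
    exact hconj (h.Q_le_M hB hx) (mul_inv_eq_iff_eq_mul.1 hxa) (h.Adj_symm ha)
  have r3 := hconj (h.Q_le_M hS hx') (mul_inv_eq_iff_eq_mul.1 hxa') r2
  have e : x' * (b * s) * x'⁻¹ = b := by
    have hs' : x' * s * x'⁻¹ = s := by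
      rw [← h.ZC_comm (h.mem_ZC hS) hx', mul_inv_cancel_right]
    calc x' * (b * s) * x'⁻¹ = (x' * b * x'⁻¹) * (x' * s * x'⁻¹) := by group
      _ = s * b * s := by rw [hxb', hs']
      _ = b := h.UU_cancel hsU hbU
  rwa [e] at r3

end TvH

end Cfsg.Agent.Omega.HOne.TvDef
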