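import Cfsg.Agent.Omega.HOne.TvDef

/-!
# II.0h1, `q = 2`, (β): (9), (10), (12), (14) of #15959

`Pol M U Om N Adj c`: the output of (1)-(8): points `Om` generating `U`, lines `{1, s, t, s t}` (`Adj s t`), the
subgroups `N s`, the constant `c = c₀`.  `Om2 r s`: `s` and `r` have a common neighbour `t` such that the lines
`⟨t, r⟩`, `⟨t, s⟩` are opposite (`N r` moves `s`).

* `Pol.tri` (9); `Pol.trick`, `Pol.polar_of_perp`, `Pol.cover`, `Pol.act` (10);
* `pol` : `TvH` and the joints give `Pol`;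
* `nu` (12): `n ∈ N r` moves all of `Om2 r` or nothing;
* `polar_of_not_allOpp` : the polar property if `¬ AllOpp`;
* `jEnd_of_polar` (14); `jEnd_of_not_allOpp`.
-/

set_option autoImplicit false

namespace Cfsg.Agent.Omega.HOne.TvPath

open Subgroup Cfsg.Agent.Omega.HOne.TvDef

universe u

variable {G : Type u} [Group G]

/-- the output of (1)-(8) -/
structure Pol (M U : Subgroup G) (Om : Set G) (N : G → Subgroup G) (Adj : G → G → Prop) (c : G) : Prop where
  U_sq : ∀ u ∈ U, u * u = 1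
  Om_U : ∀ s ∈ Om, s ∈ U
  U_gen : U ≤ closure Om
  c_U : c ∈ U
  c_M : ∀ m ∈ M, m * c = c * m
  c_ne : c ≠ 1
  N_M : ∀ s ∈ Om, N s ≤ M
  N_cj : ∀ m ∈ M, ∀ s ∈ Om, ∀ n ∈ N s, m * n * m⁻¹ ∈ N (m * s * m⁻¹)
  N_s : ∀ s ∈ Om, ∀ n ∈ N s, n * s = s * n
  Adj_Om : ∀ s t, Adj s t → s ∈ Om
  Adj_symm : ∀ s t, Adj s t → Adj t s
  Adj_cj : ∀ m ∈ M, ∀ s t, Adj s t → Adj (m * s * m⁻¹) (m * t * m⁻¹)
  Adj_mul : ∀ s t, Adj s t → Adj s (s * t)
  N_Adj : ∀ s t, Adj s t → ∀ n ∈ N s, n * t = t * n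
  /-- opposite lines on `t` -/
  opp : ∀ t r s, Adj t r → Adj t s → (∃ n ∈ N r, n * s ≠ s * n) →
    ∀ n ∈ N r, n * s * n⁻¹ = s ∨ n * s * n⁻¹ = s * (r * c)
  opp_symm : ∀ t r s, Adj t r → Adj t s → (∃ n ∈ N r, n * s ≠ s * n) → ∃ n ∈ N s, n * r ≠ r * n
  /-- lines on `t` which are not opposite -/
  col : ∀ t r s, Adj t r → Adj t s → (∀ n ∈ N r, n * s = s * n) → s = r ∨ Adj r s
  conn : ∀ X : Set G, (∃ x ∈ Om, x ∈ X) → (∀ x ∈ X, ∀ y, Adj x y → y ∈ X) → Om ⊆ X

/-- `s ∈ Ω₂(r)` -/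
def Om2 (N : G → Subgroup G) (Adj : G → G → Prop) (r s : G) : Prop :=
  ∃ t, Adj t r ∧ Adj t s ∧ ∃ n ∈ N r, n * s ≠ s * n

namespace Pol

section pol

variable {M U : Subgroup G} {Om : Set G} {N : G → Subgroup G} {Adj : G → G → Prop} {c : G}

theorem conj_eq {n s : G} (h : n * s = s * n) : n * s * n⁻¹ = s := by rw [h, mul_inv_cancel_right]

theorem of_conj_eq {n s : G} (h : n * s * n⁻¹ = s) : n * s = s * n := mul_inv_eq_iff_eq_mul.1 h

variable (D : Pol M U Om N Adj c)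
include D

theorem Adj_Om' {s t : G} (h : Adj s t) : t ∈ Om := D.Adj_Om t s (D.Adj_symm s t h)

theorem Adj_mul' {s t : G} (h : Adj s t) : Adj t (s * t) := by
  have h1 := D.Adj_mul t s (D.Adj_symm s t h)
  have h2 : s * t = t * s := by
    have hs := D.Om_U s (D.Adj_Om s t h)
    have ht := D.Om_U t (D.Adj_Om' h)
    have h3 := D.U_sq _ (mul_mem hs ht)
    have h4 := D.U_sq s hs
    have h5 := D.U_sq t ht
    calc s * t = s * (s * t * (s * t)) * t := by rw [h3, mul_one]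
      _ = (s * s) * (t * s) * (t * t) := by group
      _ = t * s := by rw [h4, h5, one_mul, mul_one]
  rwa [h2]

theorem comm {u v : G} (hu : u ∈ U) (hv : v ∈ U) : u * v = v * u := by
  have h3 := D.U_sq _ (mul_mem hu hv)
  have h4 := D.U_sq u hu
  have h5 := D.U_sq v hv
  calc u * v = u * (u * v * (u * v)) * v := by rw [h3, mul_one]
    _ = (u * u) * (v * u) * (v * v) := by group
    _ = v * u := by rw [h4, h5, one_mul, mul_one]

theorem c_sq : c * c = 1 := D.U_sq c D.c_U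

theorem N_Adj' {s t : G} (h : Adj s t) {n : G} (hn : n ∈ N t) : n * s = s * n :=
  D.N_Adj t s (D.Adj_symm s t h) n hn

theorem om2_r {r s : G} (h : Om2 N Adj r s) : r ∈ Om := by
  obtain ⟨t, h1, -, -⟩ := h
  exact D.Adj_Om' h1

theorem om2_s {r s : G} (h : Om2 N Adj r s) : s ∈ Om := by
  obtain ⟨t, -, h1, -⟩ := h
  exact D.Adj_Om' h1

theorem om2_symm {r s : G} (h : Om2 N Adj r s) : Om2 N Adj s r := by
  obtain ⟨t, h1, h2, h3⟩ := h
  exact ⟨t, h2, h1, D.opp_symm t r s h1 h2 h3⟩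

theorem om2_act {r s : G} (h : Om2 N Adj r s) {n : G} (hn : n ∈ N r) :
    n * s * n⁻¹ = s ∨ n * s * n⁻¹ = s * (r * c) := by
  obtain ⟨t, h1, h2, h3⟩ := h
  exact D.opp t r s h1 h2 h3 n hn

/-- **(9)** -/
theorem tri {t r s : G} (h1 : Adj t r) (h2 : Adj t s) : s = r ∨ Adj r s ∨ Om2 N Adj r s := by
  by_cases h3 : ∃ n ∈ N r, n * s ≠ s * n
  · exact Or.inr (Or.inr ⟨t, h1, h2, h3⟩)
  · push Not at h3
    rcases D.col t r s h1 h2 h3 with h | h
    · exact Or.inl h
    · exact Or.inr (Or.inl h)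

theorem act_of {r s : G} (hr : r ∈ Om) (h : s = r ∨ Adj r s ∨ Om2 N Adj r s) {n : G} (hn : n ∈ N r) :
    n * s * n⁻¹ = s ∨ n * s * n⁻¹ = s * (r * c) := by
  rcases h with rfl | h | h
  · exact Or.inl (conj_eq (D.N_s s hr n hn))
  · exact Or.inl (conj_eq (D.N_Adj r s h n hn))
  · exact D.om2_act h hn

/-- the S₃-trick **(10)** -/
theorem trick {r s w : G} (h : Om2 N Adj r s) (hw : Adj s w)
    (ha : ∀ n ∈ N r, n * w * n⁻¹ = w ∨ n * w * n⁻¹ = w * (r * c)) : Adj r w ∨ Adj r (w * s) := by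
  have hrU := D.Om_U r (D.om2_r h)
  have hsU := D.Om_U s (D.om2_s h)
  have hwU := D.Om_U w (D.Adj_Om' hw)
  have hrr := D.U_sq r hrU
  have hss := D.U_sq s hsU
  have hcc := D.c_sq
  -- `n`, `n'`
  obtain ⟨n, hn, hns⟩ : ∃ n ∈ N r, n * s * n⁻¹ = s * (r * c) := by
    obtain ⟨t, h1, h2, n, hn, hne⟩ := id h
    exact ⟨n, hn, (D.om2_act h hn).resolve_left fun e => hne (of_conj_eq e)⟩
  obtain ⟨n', hn', hnr⟩ : ∃ n' ∈ N s, n' * r * n'⁻¹ = r * (s * c) := by
    have h' := D.om2_symm h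
    obtain ⟨t, h1, h2, n, hn, hne⟩ := id h'
    exact ⟨n, hn, (D.om2_act h' hn).resolve_left fun e => hne (of_conj_eq e)⟩
  have hnM := D.N_M r (D.om2_r h) hn
  have hnM' := D.N_M s (D.om2_s h) hn'
  have e1 : n' * n * s * (n' * n)⁻¹ = r := by
    calc n' * n * s * (n' * n)⁻¹ = n' * (n * s * n⁻¹) * n'⁻¹ := by group
      _ = (n' * s * n'⁻¹) * (n' * r * n'⁻¹) * (n' * c * n'⁻¹) := by rw [hns]; group
      _ = s * (r * (s * c)) * c := by
        rw [hnr, conj_eq (D.N_s s (D.om2_s h) n' hn'), conj_eq (D.c_M n' hnM')]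
      _ = s * (r * s) * (c * c) := by group
      _ = s * (s * r) := by rw [hcc, mul_one, D.comm hrU hsU]
      _ = r := by rw [← mul_assoc, hss, one_mul]
  have hadj := D.Adj_cj (n' * n) (mul_mem hnM' hnM) s w hw
  rw [e1] at hadj
  rcases ha n hn with h1 | h1
  · left
    have e2 : n' * n * w * (n' * n)⁻¹ = w := by
      calc n' * n * w * (n' * n)⁻¹ = n' * (n * w * n⁻¹) * n'⁻¹ := by group
        _ = w := by rw [h1, conj_eq (D.N_Adj s w hw n' hn')]
    rwa [e2] at hadj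
  · right
    have e2 : n' * n * w * (n' * n)⁻¹ = r * (w * s) := by
      calc n' * n * w * (n' * n)⁻¹ = n' * (n * w * n⁻¹) * n'⁻¹ := by group
        _ = (n' * w * n'⁻¹) * (n' * r * n'⁻¹) * (n' * c * n'⁻¹) := by rw [h1]; group
        _ = w * (r * (s * c)) * c := by
          rw [hnr, conj_eq (D.N_Adj s w hw n' hn'), conj_eq (D.c_M n' hnM')]
        _ = (w * r) * s * (c * c) := by group
        _ = r * (w * s) := by rw [hcc, mul_one, D.comm hwU hrU]; group
    rw [e2] at hadj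
    have h2 := D.Adj_mul _ _ hadj
    rwa [← mul_assoc, hrr, one_mul] at h2

/-- the polar property -/
def Polar (_ : Pol M U Om N Adj c) : Prop :=
  ∀ r s w, Om2 N Adj r s → Adj s w → ∀ n ∈ N r, n * w * n⁻¹ = w ∨ n * w * n⁻¹ = w * (r * c)

/-- a neighbour `w` of `s ∈ Ω₂(r)` such that `⟨s, w⟩` is not opposite to `⟨s, t⟩` -/
theorem act_of_not_opp {r s t w : G} (h1 : Adj t r) (h2 : Adj t s) (hw : Adj s w)
    (hn : ∀ n ∈ N t, n * w = w * n) {n : G} (hn' : n ∈ N r) :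
    n * w * n⁻¹ = w ∨ n * w * n⁻¹ = w * (r * c) := by
  rcases D.col s t w (D.Adj_symm t s h2) hw hn with rfl | h
  · exact Or.inl (conj_eq (D.N_Adj' h1 hn'))
  · exact D.act_of (D.Adj_Om' h1) (D.tri h1 h) hn'

/-- **(10)**: if any two lines on a point have a common non-opposite line -/
theorem polar_of_perp (hp : ∀ s t w, Adj s t → Adj s w → ∃ w₀, Adj s w₀ ∧ (∀ n ∈ N t, n * w₀ = w₀ * n) ∧
    ∀ n ∈ N w, n * w₀ = w₀ * n) : D.Polar := by
  intro r s w h hw n hn
  obtain ⟨t, h1, h2, h3⟩ := id h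
  obtain ⟨w₀, hw₀, ht₀, hww₀⟩ := hp s t w (D.Adj_symm t s h2) hw
  have hsU := D.Om_U s (D.om2_s h)
  -- `t₀`
  obtain ⟨t₀, hst₀, hrt₀, hwt₀⟩ : ∃ t₀, Adj s t₀ ∧ Adj r t₀ ∧ ∀ n ∈ N w, n * t₀ = t₀ * n := by
    rcases D.trick h hw₀ (fun n hn => D.act_of_not_opp h1 h2 hw₀ ht₀ hn) with h4 | h4
    · exact ⟨w₀, hw₀, h4, hww₀⟩
    · refine ⟨w₀ * s, ?_, h4, fun n hn => ?_⟩
      · have h5 := D.Adj_mul _ _ hw₀
        rwa [D.comm hsU (D.Om_U _ (D.Adj_Om' hw₀))] at h5
      · rw [← mul_assoc, hww₀ n hn, mul_assoc, D.N_Adj' hw hn, ← mul_assoc]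
  refine D.act_of_not_opp (D.Adj_symm _ _ hrt₀) (D.Adj_symm _ _ hst₀) hw ?_ hn
  by_contra hcon
  push Not at hcon
  obtain ⟨n', hn', hne⟩ := D.opp_symm s t₀ w hst₀ hw hcon
  exact hne (hwt₀ n' hn')

/-- `Ω = {r} ∪ Ω₁ ∪ Ω₂` -/
theorem cover (hP : D.Polar) {r x : G} (hr : r ∈ Om) (hx : x ∈ Om) : x = r ∨ Adj r x ∨ Om2 N Adj r x := by
  refine D.conn {x | x = r ∨ Adj r x ∨ Om2 N Adj r x} ⟨r, hr, Or.inl rfl⟩ ?_ hx
  rintro x (rfl | h | h) y hy
  · exact Or.inr (Or.inl hy)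
  · exact D.tri (D.Adj_symm _ _ h) hy
  · rcases D.trick h hy (hP r x y h hy) with h1 | h1
    · exact Or.inr (Or.inl h1)
    · -- `v = y x`
      have h2 : Adj (y * x) y := D.Adj_symm _ _ (D.Adj_mul y x (D.Adj_symm _ _ hy))
      exact D.tri (D.Adj_symm _ _ h1) h2

/-- **(10)** `[U, N r] ≤ ⟨r c⟩` -/
theorem act (hP : D.Polar) {r n u : G} (hr : r ∈ Om) (hn : n ∈ N r) (hu : u ∈ U) :
    n * u * n⁻¹ = u ∨ n * u * n⁻¹ = u * (r * c) := by
  have hrU := D.Om_U r hr
  have hrc : r * c ∈ U := mul_mem hrU D.c_U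
  have hrc2 := D.U_sq _ hrc
  have key : ∀ u ∈ closure Om, u ∈ U ∧ (n * u * n⁻¹ = u ∨ n * u * n⁻¹ = u * (r * c)) := by
    intro u hu
    induction hu using closure_induction with
    | mem x hx => exact ⟨D.Om_U x hx, D.act_of hr (D.cover hP hr hx) hn⟩
    | one => exact ⟨one_mem _, Or.inl (by group)⟩
    | mul x y _ _ hx hy =>
      obtain ⟨hxU, hx⟩ := hx
      obtain ⟨hyU, hy⟩ := hy
      refine ⟨mul_mem hxU hyU, ?_⟩
      have e : n * (x * y) * n⁻¹ = (n * x * n⁻¹) * (n * y * n⁻¹) := by group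
      rw [e]
      rcases hx with hx | hx <;> rcases hy with hy | hy <;> rw [hx, hy]
      · exact Or.inl rfl
      · right; group
      · right
        calc x * (r * c) * y = x * ((r * c) * y) := by group
          _ = x * y * (r * c) := by rw [D.comm hrc hyU]; group
      · left
        calc x * (r * c) * (y * (r * c)) = x * ((r * c) * y) * (r * c) := by group
          _ = x * y * ((r * c) * (r * c)) := by rw [D.comm hrc hyU]; group
          _ = x * y := by rw [hrc2, mul_one]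
    | inv x _ hx =>
      obtain ⟨hxU, hx⟩ := hx
      have e : x⁻¹ = x := inv_eq_of_mul_eq_one_left (D.U_sq x hxU)
      rw [e]
      exact ⟨hxU, hx⟩
  exact (key u (D.U_gen hu)).2

end pol

end Pol

/-! ### the instance -/

section inst

variable {M : Subgroup G} {r t c : G} {Q N : G → Subgroup G} (h : TvH M r t Q N)

theorem ne_iff {n b : G} : n * b * n⁻¹ ≠ b ↔ n * b ≠ b * n := by
  rw [Ne, Ne, mul_inv_eq_iff_eq_mul]

theorem pol (h : TvH M r t Q N) (hO : JOpp M r t Q N) (hN : JNon M r t N) (hC : JConst M r t Q N c) :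
    Pol M (UU M r) (Om M r) N (Adj M r t) c where
  U_sq := fun u hu => h.UU_sq hu
  Om_U := fun s hs => Om_le_UU hs
  U_gen := le_rfl
  c_U := hC.2.1
  c_M := hC.2.2.2.1
  c_ne := hC.1
  N_M := fun s hs => h.N_le_M hs
  N_cj := fun m _ s _ n hn => h.Nc m s n hn
  N_s := fun s hs n hn => h.N_self hs hn
  Adj_Om := fun s t hst => hst.left
  Adj_symm := fun s t hst => h.Adj_symm hst
  Adj_cj := fun m hm s t hst => hst.conj hm
  Adj_mul := fun s t hst => h.Adj_mul hst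
  N_Adj := fun s t hst n hn => h.N_comm (h.Adj_symm hst) hn
  opp := by
    rintro x r' s h1 h2 ⟨n, hn, hne⟩ m hm
    have h3 : Opp M r t N x r' s := ⟨h1, h2, n, hn, ne_iff.2 hne⟩
    rcases (hC.2.2.2.2 x r' s h3).2 m hm with h4 | h4
    · exact Or.inl h4
    · right
      rw [h4, h.Om_comm (h.Adj_right h1) (h.Adj_right h2), mul_assoc]
  opp_symm := by
    rintro x r' s h1 h2 ⟨n, hn, hne⟩
    obtain ⟨-, -, m, hm, hme⟩ := (hO x r' s ⟨h1, h2, n, hn, ne_iff.2 hne⟩).1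
    exact ⟨m, hm, ne_iff.1 hme⟩
  col := by
    intro x r' s h1 h2 h3
    by_cases e1 : s = r'
    · exact Or.inl e1
    right
    by_cases e2 : s = x * r'
    · rw [e2]; exact h.Adj_mul' h1
    refine (hN x r' s h1 h2 e1 e2 ?_).2
    rintro ⟨-, -, n, hn, hne⟩
    exact ne_iff.1 hne (h3 n hn)
  conn := by
    rintro X ⟨x, hx, hxX⟩ hX y hy
    -- `r ∈ X`
    have hsymm : ∀ a b, Relation.ReflTransGen (Adj M r t) a b → Relation.ReflTransGen (Adj M r t) b a := by
      intro a b hab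
      induction hab with
      | refl => exact Relation.ReflTransGen.refl
      | tail _ h1 ih => exact Relation.ReflTransGen.head (h.Adj_symm h1) ih
    have h1 := (hsymm _ _ (h.conn hx)).trans (h.conn hy)
    induction h1 with
    | refl => exact hxX
    | tail hab hbc ih => exact hX _ (ih hbc.left) _ hbc

include h

theorem opp_of {s a b : G} (ha : Adj M r t s a) (hb : Adj M r t s b) (hn : ∃ n ∈ N a, n * b ≠ b * n) :
    Opp M r t N s a b := by
  have _ := h
  obtain ⟨n, hn, hne⟩ := hn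
  exact ⟨ha, hb, n, hn, ne_iff.2 hne⟩

theorem comm_of_not_opp {s a b : G} (ha : Adj M r t s a) (hb : Adj M r t s b)
    (hn : ¬ Opp M r t N s a b) {n : G} (hn' : n ∈ N a) : n * b = b * n := by
  by_contra hcon
  exact hn (opp_of h ha hb ⟨n, hn', hcon⟩)

/-- the lines on `s` are conjugate -/
theorem conj_line {s a b : G} (ha : Adj M r t s a) (hb : Adj M r t s b) :
    ∃ m ∈ M, m * s * m⁻¹ = s ∧ m * a * m⁻¹ = b := by
  have _ := h
  obtain ⟨x, hx, rfl, rfl⟩ := ha
  obtain ⟨y, hy, h1, rfl⟩ := hb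
  refine ⟨y * x⁻¹, M.mul_mem hy (M.inv_mem hx), ?_, by group⟩
  calc y * x⁻¹ * (x * r * x⁻¹) * (y * x⁻¹)⁻¹ = y * r * y⁻¹ := by group
    _ = x * r * x⁻¹ := h1

theorem opp_cj {m s a b : G} (hm : m ∈ M) (ho : Opp M r t N s a b) :
    Opp M r t N (m * s * m⁻¹) (m * a * m⁻¹) (m * b * m⁻¹) := by
  obtain ⟨h1, h2, n, hn, hne⟩ := ho
  refine ⟨h1.conj hm, h2.conj hm, m * n * m⁻¹, h.Nc m a n hn, fun e => hne ?_⟩
  have e1 : m * n * m⁻¹ * (m * b * m⁻¹) * (m * n * m⁻¹)⁻¹ = m * (n * b * n⁻¹) * m⁻¹ := by group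
  rw [e1] at e
  exact mul_left_cancel (mul_right_cancel e)

/-- opposite lines exist -/
theorem exists_opp (hN : JNon M r t N) : ∃ s a b, Opp M r t N s a b := by
  by_contra hcon
  push Not at hcon
  have hcol : ∀ x a b, Adj M r t x a → Adj M r t x b → b = a ∨ Adj M r t a b := by
    intro x a b h1 h2
    by_cases e1 : b = a
    · exact Or.inl e1
    right
    by_cases e2 : b = x * a
    · rw [e2]; exact h.Adj_mul' h1
    exact (hN x a b h1 h2 e1 e2 (hcon x a b)).2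
  have h1 : ∀ s ∈ Om M r, s = r ∨ Adj M r t r s := by
    intro s hs
    refine h.conn_ind (P := fun s => s = r ∨ Adj M r t r s) (Or.inl rfl) ?_ hs
    rintro x y hxy (rfl | hx)
    · exact Or.inr hxy
    · exact hcol x r y (h.Adj_symm hx) hxy
  obtain ⟨u, hu, hu'⟩ := h.beta
  apply hu'
  have h2 : UU M r ≤ Q r := by
    unfold UU
    rw [closure_le]
    intro s hs
    rcases h1 s hs with rfl | h3
    · exact h.mem_Q Om_base
    · exact h.Adj_mem h3
  exact h2 hu

/-- every line has an opposite -/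
theorem exists_opp_of (hN : JNon M r t N) {s a : G} (ha : Adj M r t s a) : ∃ b, Opp M r t N s a b := by
  obtain ⟨s', a', b', ho⟩ := exists_opp h hN
  have h1 := ho.1
  obtain ⟨x, hx, rfl, rfl⟩ := ha
  obtain ⟨y, hy, rfl, rfl⟩ := h1
  have h2 := opp_cj h (M.mul_mem hx (M.inv_mem hy)) ho
  have e1 : x * y⁻¹ * (y * r * y⁻¹) * (x * y⁻¹)⁻¹ = x * r * x⁻¹ := by group
  have e2 : x * y⁻¹ * (y * t * y⁻¹) * (x * y⁻¹)⁻¹ = x * t * x⁻¹ := by group
  rw [e1, e2] at h2
  exact ⟨_, h2⟩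

/-- `N a` moves `x`, fixes `y`: it moves `x y` -/
theorem opp_mul {s a x y : G} (ho : Opp M r t N s a x) (hy : ∀ n ∈ N a, n * y = y * n)
    (hxy : Adj M r t s (x * y)) : Opp M r t N s a (x * y) := by
  obtain ⟨ha, hx, n, hn, hne⟩ := ho
  refine opp_of h ha hxy ⟨n, hn, fun e => ne_iff.1 hne ?_⟩
  have h1 : n * x * y = x * n * y := by
    calc n * x * y = n * (x * y) := by group
      _ = x * (y * n) := by rw [e]; group
      _ = x * n * y := by rw [← hy n hn]; group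
  exact mul_right_cancel h1

/-- two lines have a common opposite line -/
theorem exists_common (hN : JNon M r t N) (hC : JConst M r t Q N c) {s a b : G}
    (ha : Adj M r t s a) (hb : Adj M r t s b) : ∃ x, Opp M r t N s a x ∧ Opp M r t N s b x := by
  obtain ⟨x, hx⟩ := exists_opp_of h hN ha
  obtain ⟨y, hy⟩ := exists_opp_of h hN hb
  by_cases h1 : Opp M r t N s b x
  · exact ⟨x, hx, h1⟩
  by_cases h2 : Opp M r t N s a y
  · exact ⟨y, h2, hy⟩
  have hbx : ∀ n ∈ N b, n * x = x * n := fun n hn => comm_of_not_opp h hb hx.2.1 h1 hn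
  have hay : ∀ n ∈ N a, n * y = y * n := fun n hn => comm_of_not_opp h ha hy.2.1 h2 hn
  by_cases h3 : Opp M r t N s x y
  · have h4 := (hC.2.2.2.2 s x y h3).1
    have hcM := hC.2.2.2.1
    refine ⟨x * y * c, ?_, ?_⟩
    · rw [mul_assoc] at h4 ⊢
      refine opp_mul h hx (fun n hn => ?_) h4
      rw [← mul_assoc, hay n hn, mul_assoc, hcM n (h.N_le_M (h.Adj_right ha) hn), ← mul_assoc]
    · have e : x * y * c = y * (x * c) := by
        rw [h.Om_comm (h.Adj_right hx.2.1) (h.Adj_right hy.2.1), mul_assoc]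
      rw [e] at h4 ⊢
      refine opp_mul h hy (fun n hn => ?_) h4
      rw [← mul_assoc, hbx n hn, mul_assoc, hcM n (h.N_le_M (h.Adj_right hb) hn), ← mul_assoc]
  · have hne1 : y ≠ x := by
      rintro rfl
      exact h1 hy
    have hne2 : y ≠ s * x := by
      rintro rfl
      obtain ⟨-, -, n, hn, hne⟩ := hy
      apply ne_iff.1 hne
      rw [← mul_assoc, h.N_comm hb hn, mul_assoc, hbx n hn, ← mul_assoc]
    have h4 := (hN s x y hx.2.1 hy.2.1 hne1 hne2 h3).1
    refine ⟨x * y, opp_mul h hx hay h4, ?_⟩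
    rw [h.Om_comm (h.Adj_right hx.2.1) (h.Adj_right hy.2.1)] at h4 ⊢
    exact opp_mul h hy hbx h4

/-- `r c ∉ [U, N b]` for `r ~ b` -/
theorem comm_ne (hC : JConst M r t Q N c) {s b : G} (hb : Adj M r t s b) {u g : G} (hu : u ∈ UU M r)
    (hg : g ∈ N b) : g * u * g⁻¹ ≠ u * (s * c) := by
  intro e
  have hb' := h.Adj_right hb
  have h1 : u⁻¹ * g * u * g⁻¹ ∈ ZC Q b := by
    have hc : u⁻¹ * b = b * u⁻¹ := h.UU_comm (inv_mem hu) (Om_le_UU hb')
    have h2 := (h.ZC_fix hc).2 (h.N_le_ZC hb' hg)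
    rw [inv_inv] at h2
    exact mul_mem h2 (inv_mem (h.N_le_ZC hb' hg))
  have e1 : u⁻¹ * g * u * g⁻¹ = s * c := by
    calc u⁻¹ * g * u * g⁻¹ = u⁻¹ * (g * u * g⁻¹) := by group
      _ = s * c := by rw [e]; group
  rw [e1] at h1
  have h2 := mul_mem h1 (inv_mem (hC.2.2.1 b hb'))
  rw [mul_inv_cancel_right] at h2
  exact h.not_both hb h2

/-! ### (12) -/

/-- `s ∈ Ω₂(x)` via `a` -/
theorem om2_of_opp {a x s : G} (ho : Opp M r t N a x s) : Om2 N (Adj M r t) x s := by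
  have _ := h
  obtain ⟨h1, h2, n, hn, hne⟩ := ho
  exact ⟨a, h1, h2, n, hn, ne_iff.1 hne⟩

theorem nu_opp (hO : JOpp M r t Q N) (hN : JNon M r t N) (hE : E1 M r t N) (hC : JConst M r t Q N c)
    {x a b s s' : G} (hab : Opp M r t N x a b) (hs : Opp M r t N a x s) (hs' : Opp M r t N b x s')
    {n : G} (hn : n ∈ N x) : n * s = s * n ↔ n * s' = s' * n := by
  have D := pol h hO hN hC
  -- one half: `n` commutes with `s` iff with `s ^ k`, `k ∈ N b`
  have key : ∀ {b s : G}, Adj M r t x b → ∀ k ∈ N b, Om2 N (Adj M r t) x (k * s * k⁻¹) →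
      (n * s = s * n ↔ n * (k * s * k⁻¹) = k * s * k⁻¹ * n) := by
    intro b s hb k hk h2
    have hkx : k * x = x * k := h.N_comm hb hk
    have hnb : n * b = b * n := h.N_comm (h.Adj_symm hb) hn
    have h1U : k * s * k⁻¹ ∈ UU M r := D.Om_U _ (D.om2_s h2)
    -- `g = n⁻¹ (k n k⁻¹)`
    have hg1 : n⁻¹ * (k * n * k⁻¹) ∈ N x := mul_mem (inv_mem hn) ((h.N_fix hkx).2 hn)
    have hg2 : n⁻¹ * (k * n * k⁻¹) ∈ N b := by
      have h3 : n⁻¹ * k * n⁻¹⁻¹ ∈ N b := by
        refine (h.N_fix ?_).2 hk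
        rw [inv_mul_eq_iff_eq_mul, ← mul_assoc, hnb, mul_inv_cancel_right]
      have e : n⁻¹ * (k * n * k⁻¹) = (n⁻¹ * k * n⁻¹⁻¹) * k⁻¹ := by group
      rw [e]
      exact mul_mem h3 (inv_mem hk)
    set g := n⁻¹ * (k * n * k⁻¹) with hg
    have hgs : g * (k * s * k⁻¹) = k * s * k⁻¹ * g := by
      rcases D.om2_act h2 hg1 with h4 | h4
      · exact Pol.of_conj_eq h4
      · exact absurd h4 (comm_ne h hC hb h1U hg2)
    have e1 : k * n * k⁻¹ = n * g := by rw [hg]; group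
    constructor
    · intro e
      have e2 : k * n * k⁻¹ * (k * s * k⁻¹) = k * s * k⁻¹ * (k * n * k⁻¹) := by
        calc k * n * k⁻¹ * (k * s * k⁻¹) = k * (n * s) * k⁻¹ := by group
          _ = k * s * k⁻¹ * (k * n * k⁻¹) := by rw [e]; group
      rw [e1, mul_assoc n, hgs] at e2
      have e3 : n * (k * s * k⁻¹) * g = k * s * k⁻¹ * n * g := by
        calc n * (k * s * k⁻¹) * g = n * (k * s * k⁻¹ * g) := by group
          _ = k * s * k⁻¹ * n * g := by rw [e2]; group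
      exact mul_right_cancel e3
    · intro e
      have e2 : k * n * k⁻¹ * (k * s * k⁻¹) = k * s * k⁻¹ * (k * n * k⁻¹) := by
        rw [e1]
        calc n * g * (k * s * k⁻¹) = n * (g * (k * s * k⁻¹)) := by group
          _ = (n * (k * s * k⁻¹)) * g := by rw [hgs]; group
          _ = k * s * k⁻¹ * (n * g) := by rw [e]; group
      have e3 : k * (n * s) * k⁻¹ = k * (s * n) * k⁻¹ := by
        calc k * (n * s) * k⁻¹ = k * n * k⁻¹ * (k * s * k⁻¹) := by group
          _ = k * (s * n) * k⁻¹ := by rw [e2]; group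
      exact mul_left_cancel (mul_right_cancel e3)
  have hba := (hO x a b hab).1
  -- the third line
  obtain ⟨ha1, hb1, ka, hka, hkane⟩ := id hab
  obtain ⟨-, -, kb, hkb, hkbne⟩ := id hba
  have ea : ka * b * ka⁻¹ = a * b * c := ((hC.2.2.2.2 x a b hab).2 ka hka).resolve_left hkane
  have eb : kb * a * kb⁻¹ = a * b * c := by
    rw [((hC.2.2.2.2 x b a hba).2 kb hkb).resolve_left hkbne,
      h.Om_comm (h.Adj_right hb1) (h.Adj_right ha1)]
  have hkax : ka * x * ka⁻¹ = x := Pol.conj_eq (h.N_comm ha1 hka)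
  have hkbx : kb * x * kb⁻¹ = x := Pol.conj_eq (h.N_comm hb1 hkb)
  have h1 := opp_cj h (h.N_le_M (h.Adj_right hb1) hkb) hs
  have h2 := opp_cj h (h.N_le_M (h.Adj_right ha1) hka) hs'
  rw [eb, hkbx] at h1
  rw [ea, hkax] at h2
  have h3 : n * (kb * s * kb⁻¹) = kb * s * kb⁻¹ * n ↔ n * (ka * s' * ka⁻¹) = ka * s' * ka⁻¹ * n :=
    hE (a * b * c) x _ _ h1 h2 n hn
  rw [key hb1 kb hkb (om2_of_opp h h1), h3, ← key ha1 ka hka (om2_of_opp h h2)]

/-- **(12)** : `n ∈ N x` moves all of `Ω₂(x)` or nothing -/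
theorem nu (hO : JOpp M r t Q N) (hN : JNon M r t N) (hE : E1 M r t N) (hC : JConst M r t Q N c)
    {x s s' : G} (hs : Om2 N (Adj M r t) x s) (hs' : Om2 N (Adj M r t) x s') {n : G} (hn : n ∈ N x) :
    n * s = s * n ↔ n * s' = s' * n := by
  obtain ⟨a, h1, h2, h3⟩ := hs
  obtain ⟨b, h1', h2', h3'⟩ := hs'
  obtain ⟨y, hy1, hy2⟩ := exists_common h hN hC (h.Adj_symm h1) (h.Adj_symm h1')
  obtain ⟨w, hw⟩ := exists_opp_of h hN (h.Adj_symm hy1.2.1)
  rw [nu_opp h hO hN hE hC hy1 (opp_of h h1 h2 h3) hw hn,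
    nu_opp h hO hN hE hC hy2 (opp_of h h1' h2' h3') hw hn]

/-- **(10)**, part 1: the polar property if not all pairs of lines are opposite -/
theorem polar_of_not_allOpp (hO : JOpp M r t Q N) (hN : JNon M r t N) (hE : E1 M r t N)
    (hC : JConst M r t Q N c) (hA : ¬ AllOpp M r t N) : (pol h hO hN hC).Polar := by
  refine Pol.polar_of_perp _ ?_
  intro s a b ha hb
  have hself : ∀ n ∈ N a, n * a = a * n := fun n hn => h.N_self (h.Adj_right ha) hn
  by_cases e1 : b = a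
  · subst e1
    exact ⟨b, ha, hself, hself⟩
  by_cases e2 : b = s * a
  · subst e2
    exact ⟨a, ha, hself, fun n hn => h.N_comm (h.Adj_mul' ha) hn⟩
  by_cases ho : Opp M r t N s a b
  · -- `x`
    obtain ⟨x, hx, hxa, hxsa, hax⟩ : ∃ x, Adj M r t s x ∧ x ≠ a ∧ x ≠ s * a ∧ ¬ Opp M r t N s a x := by
      unfold AllOpp at hA
      push Not at hA
      obtain ⟨s', a', x', ha', hx', h1, h2, h3⟩ := hA
      obtain ⟨p, hp, rfl, rfl⟩ := id ha
      obtain ⟨q, hq, rfl, rfl⟩ := id ha'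
      have hm : p * q⁻¹ ∈ M := M.mul_mem hp (M.inv_mem hq)
      have e3 : p * q⁻¹ * (q * r * q⁻¹) * (p * q⁻¹)⁻¹ = p * r * p⁻¹ := by group
      have e4 : p * q⁻¹ * (q * t * q⁻¹) * (p * q⁻¹)⁻¹ = p * t * p⁻¹ := by group
      refine ⟨p * q⁻¹ * x' * (p * q⁻¹)⁻¹, ?_, fun e => h1 ?_, fun e => h2 ?_, fun e => h3 ?_⟩
      · have h4 := hx'.conj hm
        rwa [e3] at h4
      · rw [← e4] at e
        exact mul_left_cancel (mul_right_cancel e)
      · have e5 : p * r * p⁻¹ * (p * t * p⁻¹) = p * q⁻¹ * (q * r * q⁻¹ * (q * t * q⁻¹)) * (p * q⁻¹)⁻¹ := by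
          group
        rw [e5] at e
        exact mul_left_cancel (mul_right_cancel e)
      · rw [← e3, ← e4] at e
        have h5 := opp_cj h (M.inv_mem hm) e
        have e6 : ∀ y, (p * q⁻¹)⁻¹ * (p * q⁻¹ * y * (p * q⁻¹)⁻¹) * (p * q⁻¹)⁻¹⁻¹ = y := fun y => by group
        simpa only [e6] using h5
    by_cases hbx : Opp M r t N s b x
    · have h1 := (hN s a x ha hx hxa hxsa hax).1
      refine ⟨a * x, h1, fun n hn => ?_, fun n hn => ?_⟩
      · rw [← mul_assoc, hself n hn, mul_assoc, comm_of_not_opp h ha hx hax hn, ← mul_assoc]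
      · have hba := (hO s a b ho).1
        have hiff := hE s b a x hba hbx n hn
        by_cases hna : n * a = a * n
        · rw [← mul_assoc, hna, mul_assoc, hiff.1 hna, ← mul_assoc]
        · have hnx : n * x ≠ x * n := fun e => hna (hiff.2 e)
          have h2 := ((hC.2.2.2.2 s b a hba).2 n hn).resolve_left (ne_iff.2 hna)
          have h3 := ((hC.2.2.2.2 s b x hbx).2 n hn).resolve_left (ne_iff.2 hnx)
          have hbU := Om_le_UU (h.Adj_right hb)
          have haU := Om_le_UU (h.Adj_right ha)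
          have hxU := Om_le_UU (h.Adj_right hx)
          have hcU := hC.2.1
          refine Pol.of_conj_eq ?_
          calc n * (a * x) * n⁻¹ = (n * a * n⁻¹) * (n * x * n⁻¹) := by group
            _ = (b * a) * c * ((b * x) * c) := by rw [h2, h3]
            _ = (a * b) * c * (c * (b * x)) := by
              rw [h.UU_comm hbU haU, h.UU_comm (mul_mem hbU hxU) hcU]
            _ = a * (b * (c * c) * b) * x := by group
            _ = a * x := by rw [h.UU_sq hcU, mul_one, h.UU_sq hbU, mul_one]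
    · exact ⟨x, hx, fun n hn => comm_of_not_opp h ha hx hax hn, fun n hn => comm_of_not_opp h hb hx hbx hn⟩
  · exact ⟨a, ha, hself, fun n hn => h.N_comm (hN s a b ha hb e1 e2 ho).2 hn⟩

/-- two elements of `N r` moving something have a product which centralises `U` -/
theorem mul_centralises (hO : JOpp M r t Q N) (hN : JNon M r t N) (hE : E1 M r t N)
    (hC : JConst M r t Q N c) (hP : (pol h hO hN hC).Polar) {m n : G} (hm : m ∈ N r) (hn : n ∈ N r)
    (hm' : ∃ u ∈ UU M r, u * m ≠ m * u) (hn' : ∃ u ∈ UU M r, u * n ≠ n * u) {u : G} (hu : u ∈ UU M r) :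
    u * (m * n) = m * n * u := by
  have D := pol h hO hN hC
  -- an element moving something moves all of `Ω₂(r)`
  have move : ∀ k ∈ N r, (∃ u ∈ UU M r, u * k ≠ k * u) → ∀ x, Om2 N (Adj M r t) r x →
      k * x * k⁻¹ = x * (r * c) := by
    rintro k hk ⟨v, hv, hvk⟩ x hx
    obtain ⟨y, hy, hyk⟩ : ∃ y ∈ Om M r, k * y ≠ y * k := by
      by_contra hcon
      push Not at hcon
      apply hvk
      have h1 : UU M r ≤ centralizer {k} := by
        unfold UU
        rw [closure_le]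
        intro y hy
        rw [SetLike.mem_coe, mem_centralizer_singleton_iff]
        exact (hcon y hy).symm
      exact mem_centralizer_singleton_iff.1 (h1 hv)
    rcases D.cover hP Om_base hy with rfl | h1 | h1
    · exact absurd (h.N_self Om_base hk) hyk
    · exact absurd (D.N_Adj _ _ h1 k hk) hyk
    · refine (D.om2_act hx hk).resolve_left fun e => hyk ?_
      exact (nu h hO hN hE hC hx h1 hk).1 (Pol.of_conj_eq e)
  have hrU := Om_le_UU (M := M) (r := r) Om_base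
  have h1 : UU M r ≤ centralizer {m * n} := by
    unfold UU
    rw [closure_le]
    intro y hy
    rw [SetLike.mem_coe, mem_centralizer_singleton_iff, eq_comm]
    rcases D.cover hP Om_base hy with rfl | h1 | h1
    · rw [mul_assoc, h.N_self Om_base hn, ← mul_assoc, h.N_self Om_base hm, mul_assoc]
    · rw [mul_assoc, D.N_Adj _ _ h1 n hn, ← mul_assoc, D.N_Adj _ _ h1 m hm, mul_assoc]
    · refine (Pol.of_conj_eq ?_)
      have e1 := move m hm hm' y h1
      have e2 := move n hn hn' y h1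
      calc m * n * y * (m * n)⁻¹ = m * (n * y * n⁻¹) * m⁻¹ := by group
        _ = (m * y * m⁻¹) * (m * r * m⁻¹) * (m * c * m⁻¹) := by rw [e2]; group
        _ = y * (r * c) * r * c := by
          rw [e1, Pol.conj_eq (h.N_self Om_base hm), Pol.conj_eq (D.c_M m (h.N_le_M Om_base hm))]
        _ = y * ((r * c) * (r * c)) := by group
        _ = y := by rw [h.UU_sq (mul_mem hrU hC.2.1), mul_one]
  exact mem_centralizer_singleton_iff.1 (h1 hu)

/-- **(14)** -/
theorem jEnd_of_polar (hO : JOpp M r t Q N) (hN : JNon M r t N) (hE : E1 M r t N)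
    (hC : JConst M r t Q N c) (hP : (pol h hO hN hC).Polar) : JEnd M r Q N c := by
  have D := pol h hO hN hC
  have hrU := Om_le_UU (M := M) (r := r) Om_base
  have hrc := mul_mem hrU hC.2.1
  refine ⟨fun u hu n hn => ?_, fun u hu v hv hu' hv' => ?_, fun m hm n hn hm' hn' u hu =>
    mul_centralises h hO hN hE hC hP hm hn hm' hn' hu⟩
  · rcases D.act hP Om_base hn hu with h1 | h1
    · left
      calc u * n * u⁻¹ * n⁻¹ = u * (n * u * n⁻¹)⁻¹ := by group
        _ = 1 := by rw [h1, mul_inv_cancel]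
    · right
      calc u * n * u⁻¹ * n⁻¹ = u * (n * u * n⁻¹)⁻¹ := by group
        _ = u * (u * (r * c))⁻¹ := by rw [h1]
        _ = u * ((r * c) * u)⁻¹ := by rw [h.UU_comm hu hrc]
        _ = (r * c)⁻¹ := by group
        _ = r * c := h.UU_inv hrc
  · rw [h.mem_Q_iff Om_base hu] at hu'
    rw [h.mem_Q_iff Om_base hv] at hv'
    rw [h.mem_Q_iff Om_base (mul_mem hu hv)]
    push Not at hu' hv'
    obtain ⟨m, hm, hum⟩ := hu'
    obtain ⟨n, hn, hvn⟩ := hv'
    intro k hk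
    by_cases hk' : ∃ w ∈ UU M r, w * k ≠ k * w
    · -- `k` moves `u` and `v`
      have hmove : ∀ w ∈ UU M r, (∃ m ∈ N r, w * m ≠ m * w) → k * w * k⁻¹ = w * (r * c) := by
        rintro w hw ⟨m, hm, hwm⟩
        refine (D.act hP Om_base hk hw).resolve_left fun e => hwm ?_
        have e1 : k * w = w * k := Pol.of_conj_eq e
        have e2 := mul_centralises h hO hN hE hC hP hk hm hk' ⟨w, hw, hwm⟩ hw
        rw [← mul_assoc, ← e1, mul_assoc, mul_assoc] at e2
        exact mul_left_cancel e2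
      have e1 := hmove u hu ⟨m, hm, hum⟩
      have e2 := hmove v hv ⟨n, hn, hvn⟩
      refine (Pol.of_conj_eq ?_).symm
      calc k * (u * v) * k⁻¹ = (k * u * k⁻¹) * (k * v * k⁻¹) := by group
        _ = u * ((r * c) * v) * (r * c) := by rw [e1, e2]; group
        _ = u * v * ((r * c) * (r * c)) := by rw [h.UU_comm hrc hv]; group
        _ = u * v := by rw [h.UU_sq hrc, mul_one]
    · push Not at hk'
      exact hk' _ (mul_mem hu hv)

/-- (14) in the case `¬ AllOpp` -/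
theorem jEnd_of_not_allOpp (hO : JOpp M r t Q N) (hN : JNon M r t N) (hE : E1 M r t N)
    (hC : JConst M r t Q N c) (hA : ¬ AllOpp M r t N) : JEnd M r Q N c :=
  jEnd_of_polar h hO hN hE hC (polar_of_not_allOpp h hO hN hE hC hA)

end inst

end Cfsg.Agent.Omega.HOne.TvPath
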