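import Cfsg.Agent.Omega.HOne.TvDef
import Cfsg.Agent.Lib.NormalAbelian

/-!
# II.0h1, `q = 2`, case (beta): (13) of #15959

`j13` : if `u₀ ∈ U` centralises `N0` (index 2 in `N r`, normalised by `S`) and `[u₀, n₁] = r c`, then
`[w, n₁] ∈ {1, r c}` for every `w ∈ C_U(N0)`.
-/

set_option autoImplicit false
set_option linter.unusedSectionVars false

namespace Cfsg.Agent.Omega.HOne.TvThirteen

open Subgroup Cfsg.Agent.Omega.HOne.TvDef

variable {G : Type*} [Group G] {M S : Subgroup G} {r t : G} {Q N : G → Subgroup G}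

theorem le_norm_of {H : Subgroup G} {S : Subgroup G} (hS : ∀ x ∈ S, ∀ y ∈ H, x * y * x⁻¹ ∈ H) :
    S ≤ normalizer (H : Set G) := by
  intro x hx
  rw [mem_normalizer_iff]
  intro y
  refine ⟨hS x hx y, fun hy => ?_⟩
  have := hS x⁻¹ (inv_mem hx) _ hy
  simpa [mul_assoc] using this

/-- a nontrivial section `B / A` has a nontrivial fixed point under a 2-group -/
theorem exists_fixed_mod [Finite G] {S B A : Subgroup G} (hS : IsPGroup 2 S) (hB2 : IsPGroup 2 B)
    (hBn : ∀ x ∈ S, ∀ b ∈ B, x * b * x⁻¹ ∈ B) (hAn : ∀ x ∈ S, ∀ b ∈ A, x * b * x⁻¹ ∈ A)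
    (hAB : ∀ x ∈ B, ∀ b ∈ A, x * b * x⁻¹ ∈ A) (hne : ¬ B ≤ A) :
    ∃ m ∈ B, m ∉ A ∧ ∀ t ∈ S, t * m * t⁻¹ * m⁻¹ ∈ A := by
  have : Fact (Nat.Prime 2) := ⟨Nat.prime_two⟩
  set T : Subgroup G := S ⊔ B with hTdef
  have hSB : S ≤ normalizer (B : Set G) := le_norm_of hBn
  have hT : IsPGroup 2 T := IsPGroup.to_sup_of_normal_right' hS hB2 hSB
  have hBT : B ≤ T := le_sup_right
  have hB : T ≤ normalizer (B : Set G) := sup_le hSB le_normalizer
  have hA : T ≤ normalizer (A : Set G) := sup_le (le_norm_of hAn) (le_norm_of hAB)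
  have hnA : (A.subgroupOf T).Normal := normal_subgroupOf_of_le_normalizer hA
  have hnB : (B.subgroupOf T).Normal := normal_subgroupOf_of_le_normalizer hB
  have hp : IsPGroup 2 (T ⧸ A.subgroupOf T) := hT.to_quotient _
  have : Group.IsNilpotent (T ⧸ A.subgroupOf T) := hp.isNilpotent
  let K : Subgroup (T ⧸ A.subgroupOf T) := (B.subgroupOf T).map (QuotientGroup.mk' (A.subgroupOf T))
  have hK : K.Normal := hnB.map _ (QuotientGroup.mk'_surjective _)
  have hK1 : K ≠ ⊥ := by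
    intro h
    apply hne
    intro x hx
    have h1 : QuotientGroup.mk' (A.subgroupOf T) ⟨x, hBT hx⟩ ∈ K := ⟨⟨x, hBT hx⟩, hx, rfl⟩
    rw [h, mem_bot] at h1
    exact (QuotientGroup.eq_one_iff (⟨x, hBT hx⟩ : T)).1 h1
  have h2 := Lib.NormalAbelian.normal_inf_center_ne_bot K hK1
  obtain ⟨⟨y, hy⟩, hy1⟩ := Subgroup.ne_bot_iff_exists_ne_one.1 h2
  obtain ⟨⟨m, hm, rfl⟩, hyc⟩ := mem_inf.1 hy
  refine ⟨m, hm, fun h => hy1 ?_, fun t ht => ?_⟩
  · apply Subtype.ext
    exact (QuotientGroup.eq_one_iff m).2 h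
  · have ht' : t ∈ T := (le_sup_left : S ≤ T) ht
    have h3 := mem_center_iff.1 hyc (QuotientGroup.mk' (A.subgroupOf T) ⟨t, ht'⟩)
    rw [← map_mul, ← map_mul] at h3
    have h4 : QuotientGroup.mk' (A.subgroupOf T) (⟨t, ht'⟩ * m * (⟨t, ht'⟩ : T)⁻¹ * m⁻¹) = 1 := by
      rw [mul_assoc, map_mul, h3, ← map_mul]
      rw [show m * ⟨t, ht'⟩ * ((⟨t, ht'⟩ : T)⁻¹ * m⁻¹) = 1 by group, map_one]
    have h5 := (QuotientGroup.eq_one_iff ((⟨t, ht'⟩ : T) * m * (⟨t, ht'⟩ : T)⁻¹ * m⁻¹)).1 h4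
    exact h5

/-- (13), general form: only `c ∈ U ∩ C_V` fixed by `S` -/
theorem j13' [Finite G] (h : TvH M r t Q N) (hS : TvS M S r t N) {c : G} (hcU : c ∈ UU M r)
    (hcr : c ∈ ZC Q r) (hct : c ∈ ZC Q t) (hcS : ∀ x ∈ S, x * c = c * x)
    {N0 : Subgroup G} {n1 u0 : G} (hN0 : N0 ≤ N r) (hn1 : n1 ∈ N r)
    (hcov : ∀ n ∈ N r, n ∈ N0 ∨ n1 * n ∈ N0) (hSN : ∀ x ∈ S, ∀ n ∈ N0, x * n * x⁻¹ ∈ N0)
    (hu0 : u0 ∈ UU M r) (hu0N : ∀ n ∈ N0, u0 * n = n * u0) (hu0n : u0 * n1 * u0⁻¹ = n1 * (r * c)) :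
    ∀ w ∈ UU M r, (∀ n ∈ N0, w * n = n * w) → w * n1 * w⁻¹ = n1 ∨ w * n1 * w⁻¹ = n1 * (r * c) := by
  have hrU : r ∈ UU M r := Om_le_UU Om_base
  have hrcU : r * c ∈ UU M r := mul_mem hrU hcU
  have hrcZ : r * c ∈ ZC Q r := mul_mem (h.mem_ZC Om_base) hcr
  have hNM : N r ≤ M := h.N_le_M Om_base
  have hNQ : N r ≤ Q r := h.N_le_Q Om_base
  -- `r c ∉ ZC t`
  have hrct : r * c ∉ ZC Q t := by
    intro h1
    have h2 : r ∈ ZC Q t := by
      have : r = (r * c) * c⁻¹ := by group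
      rw [this]; exact mul_mem h1 (inv_mem hct)
    exact h.not_both Adj_base h2
  have hrc1 : r * c ≠ 1 := fun e => hrct (e ▸ one_mem _)
  -- the group of commutators
  let CC : Subgroup G :=
    { carrier := {a | a ∈ UU M r ∧ a ∈ ZC Q r ∧ ∃ w ∈ UU M r, (∀ n ∈ N0, w * n = n * w) ∧
        w * n1 * w⁻¹ = n1 * a}
      one_mem' := ⟨one_mem _, one_mem _, 1, one_mem _, fun n _ => by simp, by simp⟩
      mul_mem' := by
        rintro a b ⟨ha, ha', w, hw, hwN, hwa⟩ ⟨hb, hb', v, hv, hvN, hvb⟩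
        refine ⟨mul_mem ha hb, mul_mem ha' hb', v * w, mul_mem hv hw, ?_, ?_⟩
        · intro n hn
          calc v * w * n = v * (w * n) := by group
            _ = (v * n) * w := by rw [hwN n hn]; group
            _ = n * (v * w) := by rw [hvN n hn]; group
        · calc v * w * n1 * (v * w)⁻¹ = v * (w * n1 * w⁻¹) * v⁻¹ := by group
            _ = (v * n1 * v⁻¹) * (v * a * v⁻¹) := by rw [hwa]; group
            _ = n1 * b * a := by rw [hvb, h.UU_comm hv ha]; group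
            _ = n1 * (a * b) := by rw [h.UU_comm ha hb]; group
      inv_mem' := by
        rintro a ⟨ha, ha', w, hw, hwN, hwa⟩
        have : a⁻¹ = a := h.UU_inv ha
        rw [this]
        exact ⟨ha, ha', w, hw, hwN, hwa⟩ }
  have memCC : ∀ w ∈ UU M r, (∀ n ∈ N0, w * n = n * w) → n1⁻¹ * (w * n1 * w⁻¹) ∈ CC := by
    intro w hw hwN
    have e1 : n1⁻¹ * (w * n1 * w⁻¹) = n1⁻¹ * w * n1⁻¹⁻¹ * w⁻¹ := by group
    refine ⟨?_, ?_, w, hw, hwN, by group⟩
    · rw [e1]; exact UU_comm_mem (M.inv_mem (hNM hn1)) hw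
    · have hwr : w * r = r * w := h.UU_comm hw hrU
      exact mul_mem (inv_mem (h.N_le_ZC Om_base hn1)) ((h.ZC_fix hwr).2 (h.N_le_ZC Om_base hn1))
  -- `r ∉ CC`
  have hrCC : r ∉ CC := by
    rintro ⟨-, -, w, hw, hwN, hwa⟩
    have hwr : w * r = r * w := h.UU_comm hw hrU
    have hn1r : n1 * r = r * n1 := h.N_self Om_base hn1
    have h1 := h.red w hw (by
      intro n hn
      rcases hcov n hn with h2 | h2
      · left
        rw [hwN n h2]; group
      · right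
        have h3 := hwN _ h2
        -- w n w⁻¹ = (w n1 w⁻¹)⁻¹ (n1 n)
        have h4 : w * n * w⁻¹ = (w * n1 * w⁻¹)⁻¹ * (n1 * n) := by
          calc w * n * w⁻¹ = (w * n1 * w⁻¹)⁻¹ * (w * (n1 * n) * w⁻¹) := by group
            _ = _ := by rw [h3]; group
        have h5 : (r : G)⁻¹ = r := h.UU_inv hrU
        rw [h4, hwa]
        calc (n1 * r)⁻¹ * (n1 * n) * n⁻¹ = r⁻¹ := by group
          _ = r := h5)
    have h2 := h1 n1 hn1
    apply h.r_ne
    have h3 : n1 * r = n1 * 1 := by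
      rw [← hwa, h2]; group
    exact mul_left_cancel h3
  -- `S`-invariance
  have hSCC : ∀ x ∈ S, ∀ a ∈ CC, x * a * x⁻¹ ∈ CC := by
    rintro x hx a ⟨ha, ha', w, hw, hwN, hwa⟩
    have hxM := hS.S_le hx
    have hxr := hS.S_r x hx
    have hax : x * a * x⁻¹ ∈ UU M r := UU_conj hxM ha
    have hax' : x * a * x⁻¹ ∈ ZC Q r := (h.ZC_fix hxr).2 ha'
    have hwx : x * w * x⁻¹ ∈ UU M r := UU_conj hxM hw
    have hxn : x * n1 * x⁻¹ ∈ N r := (h.N_fix hxr).2 hn1
    have hwN' : ∀ n ∈ N0, (x * w * x⁻¹) * n = n * (x * w * x⁻¹) := by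
      intro n hn
      have h1 : x⁻¹ * n * x ∈ N0 := by
        have := hSN x⁻¹ (inv_mem hx) n hn
        simpa using this
      have h2 := hwN _ h1
      calc (x * w * x⁻¹) * n = x * (w * (x⁻¹ * n * x)) * x⁻¹ := by group
        _ = x * ((x⁻¹ * n * x) * w) * x⁻¹ := by rw [h2]
        _ = _ := by group
    refine ⟨hax, hax', x * w * x⁻¹, hwx, hwN', ?_⟩
    have key : (x * w * x⁻¹) * (x * n1 * x⁻¹) * (x * w * x⁻¹)⁻¹ = (x * n1 * x⁻¹) * (x * a * x⁻¹) := by
      calc (x * w * x⁻¹) * (x * n1 * x⁻¹) * (x * w * x⁻¹)⁻¹ = x * (w * n1 * w⁻¹) * x⁻¹ := by group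
        _ = _ := by rw [hwa]; group
    rcases hcov _ hxn with h1 | h1
    · -- then `n1 ∈ N0`, `a = 1`
      have h2 : n1 ∈ N0 := by
        have := hSN x⁻¹ (inv_mem hx) _ h1
        simpa [mul_assoc] using this
      have h3 : a = 1 := by
        have h4 : n1 * a = n1 * 1 := by
          rw [← hwa, hwN n1 h2]; group
        exact mul_left_cancel h4
      have h5 := hwN' n1 h2
      rw [h5, h3]; group
    · have h2 := hwN' _ h1
      -- w' n1 w'⁻¹ = n1 * ...
      have h3 : (x * w * x⁻¹) * n1 * (x * w * x⁻¹)⁻¹ =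
          (n1 * (x * n1 * x⁻¹)) * ((x * w * x⁻¹) * (x * n1 * x⁻¹) * (x * w * x⁻¹)⁻¹)⁻¹ := by
        calc (x * w * x⁻¹) * n1 * (x * w * x⁻¹)⁻¹ =
            ((x * w * x⁻¹) * (n1 * (x * n1 * x⁻¹)) * (x * w * x⁻¹)⁻¹) *
              ((x * w * x⁻¹) * (x * n1 * x⁻¹) * (x * w * x⁻¹)⁻¹)⁻¹ := by group
          _ = _ := by rw [h2]; group
      rw [h3, key]
      have h4 : (x * n1 * x⁻¹) * (x * a * x⁻¹) = (x * a * x⁻¹) * (x * n1 * x⁻¹) :=
        (h.ZC_comm hax' (hNQ hxn)).symm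
      rw [h4]
      have h5 : (x * a * x⁻¹)⁻¹ = x * a * x⁻¹ := h.UU_inv hax
      calc (n1 * (x * n1 * x⁻¹)) * ((x * a * x⁻¹) * (x * n1 * x⁻¹))⁻¹ = n1 * (x * a * x⁻¹)⁻¹ := by group
        _ = _ := by rw [h5]
  intro w hw hwN
  by_contra hno
  push Not at hno
  set a0 := n1⁻¹ * (w * n1 * w⁻¹) with ha0
  have ha0CC : a0 ∈ CC := memCC w hw hwN
  have ha0' : w * n1 * w⁻¹ = n1 * a0 := by rw [ha0]; group
  have ha01 : a0 ≠ 1 := by
    intro e; apply hno.1; rw [ha0', e, mul_one]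
  have ha02 : a0 ≠ r * c := by
    intro e; apply hno.2; rw [ha0', e]
  let A : Subgroup G := Subgroup.zpowers (r * c)
  have hA : ∀ x, x ∈ A ↔ x = 1 ∨ x = r * c := by
    intro x
    constructor
    · rintro ⟨k, rfl⟩
      have h2 : (r * c) ^ (2 : ℤ) = 1 := by
        rw [zpow_two]; exact h.UU_sq hrcU
      rcases Int.even_or_odd k with ⟨l, hl⟩ | ⟨l, hl⟩
      · left
        show (r * c) ^ k = 1
        rw [hl, ← two_mul, zpow_mul, h2, one_zpow]
      · right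
        show (r * c) ^ k = r * c
        rw [hl, zpow_add, zpow_mul, h2, one_zpow, one_mul, zpow_one]
    · rintro (rfl | rfl)
      · exact one_mem _
      · exact Subgroup.mem_zpowers _
  have hSrc : ∀ x ∈ S, x * (r * c) = (r * c) * x := by
    intro x hx
    have h1 := hS.S_r x hx
    have h2 := hcS x hx
    calc x * (r * c) = (x * r) * c := by group
      _ = r * (x * c) := by rw [h1]; group
      _ = _ := by rw [h2]; group
  have hCC2 : IsPGroup 2 CC := by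
    intro g
    refine ⟨1, ?_⟩
    apply Subtype.ext
    have : (g : G) * g = 1 := h.UU_sq g.2.1
    simpa [pow_two] using this
  obtain ⟨a, haCC, haA, haS⟩ := exists_fixed_mod (A := A) hS.S_p hCC2 hSCC
    (by
      intro x hx b hb
      rw [hA] at hb ⊢
      rcases hb with rfl | rfl
      · left; group
      · right; rw [hSrc x hx]; group)
    (by
      intro x hx b hb
      rw [hA] at hb ⊢
      rcases hb with rfl | rfl
      · left; group
      · right; rw [h.UU_comm hx.1 hrcU]; group)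
    (by
      intro hle
      have := hle ha0CC
      rw [hA] at this
      rcases this with h1 | h1
      · exact ha01 h1
      · exact ha02 h1)
  have haU := haCC.1
  have haZ := haCC.2.1
  have ha1 : a ≠ 1 := by rintro rfl; exact haA (one_mem _)
  have ha2 : a ≠ r * c := by rintro rfl; exact haA (Subgroup.mem_zpowers _)
  have haS' : ∀ x ∈ S, x * a * x⁻¹ = a ∨ x * a * x⁻¹ = a * (r * c) := by
    intro x hx
    have h1 := haS x hx
    rw [hA] at h1
    rcases h1 with h1 | h1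
    · left
      calc x * a * x⁻¹ = (x * a * x⁻¹ * a⁻¹) * a := by group
        _ = a := by rw [h1, one_mul]
    · right
      calc x * a * x⁻¹ = (x * a * x⁻¹ * a⁻¹) * a := by group
        _ = a * (r * c) := by rw [h1, h.UU_comm hrcU haU]
  -- `N t` centralises `a`
  have haN : ∀ n ∈ N t, a * n = n * a := by
    intro n hn
    have h1 := h.comm_KN Adj_base haU haZ hn
    rcases haS' n (hS.N_S hn) with h2 | h2
    · calc a * n = (n * a * n⁻¹) * n := by rw [h2]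
        _ = _ := by group
    · exfalso
      -- a n a⁻¹ n⁻¹ = a (n a⁻¹ n⁻¹)
      have h3 : a * n * a⁻¹ * n⁻¹ = r * c := by
        have ha' : a⁻¹ = a := h.UU_inv haU
        calc a * n * a⁻¹ * n⁻¹ = a * (n * a * n⁻¹) := by rw [ha']; group
          _ = (a * a) * (r * c) := by rw [h2]; group
          _ = r * c := by rw [h.UU_sq haU, one_mul]
      rw [h3] at h1
      exact hrct h1.1
  have haQt : a ∈ Q t := h.UN_at h.t_Om haU haN
  -- `S` centralises `a`
  have haC : ∀ x ∈ S, x * a = a * x := by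
    intro x hx
    rcases haS' x hx with h1 | h1
    · calc x * a = (x * a * x⁻¹) * x := by group
        _ = a * x := by rw [h1]
    · exfalso
      have hxr := hS.S_r x hx
      have hxM := hS.S_le hx
      -- C_V is `x`-invariant
      have inv : ∀ b, b ∈ ZC Q r → b ∈ ZC Q t → x * b * x⁻¹ ∈ ZC Q t := by
        intro b hb hb'
        have h2 : x * b * x⁻¹ ∈ ZC Q r := (h.ZC_fix hxr).2 hb
        have h3 : x * b * x⁻¹ ∈ ZC Q (x * t * x⁻¹) := h.ZC_conj.2 hb'
        rcases hS.S_t x hx with h4 | h4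
        · rwa [h4] at h3
        · rw [h4] at h3
          have h5 := h.Adj_CV h.Adj_mul_base h2 h3
          rwa [h.mul_cancel Om_base] at h5
      rcases h.Adj_ZQ Adj_base haZ haQt with h2 | h2
      · have h3 := inv a haZ h2
        rw [h1] at h3
        apply hrct
        have : r * c = a⁻¹ * (a * (r * c)) := by group
        rw [this]; exact mul_mem (inv_mem h2) h3
      · have h3 := inv (r * a) (mul_mem (h.mem_ZC Om_base) haZ) h2
        have h4 : x * (r * a) * x⁻¹ = r * a * (r * c) := by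
          calc x * (r * a) * x⁻¹ = (x * r) * a * x⁻¹ := by group
            _ = r * (x * a * x⁻¹) := by rw [hxr]; group
            _ = _ := by rw [h1]; group
        rw [h4] at h3
        apply hrct
        have : r * c = (r * a)⁻¹ * (r * a * (r * c)) := by group
        rw [this]; exact mul_mem (inv_mem h2) h3
  obtain ⟨-, -, u1, hu1, hu1N, hu1a⟩ := haCC
  -- memberships in `N0`
  have inN0 : ∀ b u, b ∈ UU M r → u ∈ UU M r → u * n1 * u⁻¹ = n1 * b → b ∈ N0 := by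
    intro b u hb hu hub
    have hur : u * r = r * u := h.UU_comm hu hrU
    have h1 : b ∈ N r := by
      have : b = n1⁻¹ * (u * n1 * u⁻¹) := by rw [hub]; group
      rw [this]
      exact mul_mem (inv_mem hn1) ((h.N_fix hur).2 hn1)
    rcases hcov b h1 with h2 | h2
    · exact h2
    · exfalso
      have h3 := hu0N _ h2
      have h4 : u0 * (n1 * b) * u0⁻¹ = n1 * (r * c) * b := by
        calc u0 * (n1 * b) * u0⁻¹ = (u0 * n1 * u0⁻¹) * (u0 * b * u0⁻¹) := by group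
          _ = n1 * (r * c) * b := by rw [hu0n, h.UU_comm hu0 hb]; group
      rw [h3] at h4
      apply hrc1
      have h5 : n1 * (r * c) * b = n1 * 1 * b := by rw [← h4]; group
      exact mul_left_cancel (mul_right_cancel h5)
  refine hS.hside N0 n1 u0 u1 (r * c) a hN0 hn1 hcov ?_ ?_ hu0N hu1N hu0n hu1a
    (inN0 _ u0 hrcU hu0 hu0n) (inN0 _ u1 haU hu1 hu1a) hSrc haC hrc1 ha1 ha2
  · rw [mem_centralizer_singleton_iff]
    exact h.UU_comm hu0 hrU
  · rw [mem_centralizer_singleton_iff]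
    exact h.UU_comm hu1 hrU

/-- (13) -/
theorem j13 [Finite G] (h : TvH M r t Q N) (hS : TvS M S r t N) {c : G} (hc : JConst M r t Q N c)
    {N0 : Subgroup G} {n1 u0 : G} (hN0 : N0 ≤ N r) (hn1 : n1 ∈ N r)
    (hcov : ∀ n ∈ N r, n ∈ N0 ∨ n1 * n ∈ N0) (hSN : ∀ x ∈ S, ∀ n ∈ N0, x * n * x⁻¹ ∈ N0)
    (hu0 : u0 ∈ UU M r) (hu0N : ∀ n ∈ N0, u0 * n = n * u0) (hu0n : u0 * n1 * u0⁻¹ = n1 * (r * c)) :
    ∀ w ∈ UU M r, (∀ n ∈ N0, w * n = n * w) → w * n1 * w⁻¹ = n1 ∨ w * n1 * w⁻¹ = n1 * (r * c) :=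
  j13' h hS hc.2.1 (hc.2.2.1 r Om_base) (hc.2.2.1 t h.t_Om) (fun x hx => hc.2.2.2.1 x (hS.S_le hx))
    hN0 hn1 hcov hSN hu0 hu0N hu0n

end Cfsg.Agent.Omega.HOne.TvThirteen
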