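import Cfsg.Agent.Omega.HOne.EndBN
import Cfsg.Agent.Omega.HOne.XV
import Cfsg.Agent.Omega.HOne.Main
import Cfsg.Agent.Omega.HOneQ.Entry
import Cfsg.Agent.Omega.IIa4.Moved

/-!
# II.0h1, SPLIT, same type, `q ≥ 4`: the cut of the socket `HOne.Main.Same4`

`Sit4 S P g M` : the hypotheses of `Same4` (without the class `K`); `V = N`, points `pt M i`.
Derived: `Sit4.bts`, `Sit4.exists_coord`, `Sit4.exists_torD`, `Sit4.CenX_ne`, `Sit4.exists_ZZ`, `Sit4.odd`.

Sockets (each a Prop):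
* `LayH K` : LAYER at every pair of points (helper835);
* `FrH K` : `N(R i) = E (N(R i) ∩ N(V))`, `E = EE V R i j` (helper407, 466, 951);
* `SysH K` : the parabolic system of the moved components with its residues `(0, k)`, no node of type `(γ)`
  (helper43, 105 : `RealSys`; helper725, 551, 812, 976 : residues; helper910, 811 : `(γ)`);
* `DH K` : `D ∩ C(X) ≠ 1` (helper499);
* `EndH K` : the identification of `G₀ = X E` (helper124, 384).

`same4_of` : `LayH K`, `FrH K`, `SysH K`, `DH K`, `EndH K` imply `Same4 K`.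
-/

set_option autoImplicit false
set_option linter.unusedSectionVars false

namespace Cfsg.Agent.Omega.HOne.SameOf

open Subgroup Cfsg Cfsg.Agent.ZN Cfsg.Agent.Omega.MinPar Cfsg.Agent.Omega.Frame
open Cfsg.Agent.Omega.FrameFF Cfsg.Agent.Omega.HOne.Main
open Cfsg.Agent.Omega.FrameLE (AllIn)
open Cfsg.Agent.Omega.NatPair (NatMod)
open Cfsg.Agent.Omega.BTwo Cfsg.Agent.Omega.Lie Cfsg.Agent.Omega.Lie.Quot Cfsg.Agent.Omega.Lie.End
open Cfsg.Agent.Omega.IIa4 (LayAll)
open Cfsg.Agent.Omega.IIa4.Moved (EE NR_le_NEE EE_le_cen Y_le_EE QQ_le_up)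

universe u

/-- the hypotheses of `Same4` -/
structure Sit4 {G : Type u} [Group G] [Finite G] (S : Sylow 2 G) (P : Subgroup G) (g : G) {F : Type} [Field F]
    [Finite F] [CharP F 2] {N : Subgroup G} (M : NatMod F N) : Prop where
  ctx : Ctx G
  full : Full (S : Subgroup G)
  allIn : AllIn (S : Subgroup G)
  allSingle : AllSingle (S : Subgroup G)
  allSplit : AllSplit (S : Subgroup G)
  same : Same (S : Subgroup G) P g M
  four : 4 ≤ Nat.card F

namespace Sit4

variable {G : Type u} [Group G] [Finite G] {S : Sylow 2 G} {P : Subgroup G} {g : G} {F : Type} [Field F]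
  [Finite F] [CharP F 2] {N : Subgroup G} {M : NatMod F N} (h : Sit4 S P g M)
include h

theorem S_le_P : (S : Subgroup G) ≤ P := h.same.mp.star₁.le

theorem le_N : (S : Subgroup G) ≤ normalizer (N : Set G) := h.S_le_P.trans h.same.le

theorem bts : BTS N (pt M) := HOneQ.bts M S h.le_N h.ctx.char2 h.same.pair h.same.VQ

theorem bt : BT N (pt M) := h.bts.toBT

theorem exists_ne : ∃ a : F, a ≠ 0 ∧ a ≠ 1 := HOneQ.exists_ne_one h.four

/-- coordinates at two points -/
theorem exists_coord {i j : Pt M} (hij : i ≠ j) :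
    ∃ (v : F → F → G) (w1 w2 : F → G), Coord N (pt M) i j v w1 w2 := by
  obtain ⟨w, u, -, -, -, w1, w2, c⟩ := BTwo.exists_coord M S h.le_N h.same.pair h.same.VQ hij
  exact ⟨_, w1, w2, c⟩

/-- the torus at two points -/
theorem exists_torD {i j : Pt M} {v : F → F → G} {w1 w2 : F → G} (c : Coord N (pt M) i j v w1 w2) :
    ∃ t : F → G, Lie.TorD N (pt M) i j v t :=
  Lie.coord_exists_torD h.bt c (h.bts.cen_W_isPGroup i)

theorem exists_pair : ∃ i j : Pt M, i ≠ j := h.bt.exists_pair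

/-- a Sylow 2-subgroup in `N(V) ∩ N(R i)` -/
theorem exists_sylow (i : Pt M) : ∃ S₁ : Sylow 2 G, (S₁ : Subgroup G) ≤ normalizer (N : Set G) ∧
    (S₁ : Subgroup G) ≤ normalizer (pt M i : Set G) := by
  obtain ⟨S₁, h1, h2, -⟩ := HOneQ.exists_sylow_pt M S h.le_N i
  exact ⟨S₁, h1, h2⟩

/-- `|N(R i) : N(R i) ∩ N(V)|` is odd -/
theorem odd (i : Pt M) : Odd ((normalizer (N : Set G)).relIndex (normalizer (pt M i : Set G))) := by
  have hfact : Fact (Nat.Prime 2) := ⟨Nat.prime_two⟩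
  obtain ⟨S₁, h1, h2, h3⟩ := HOneQ.exists_sylow_pt M S h.le_N i
  rw [← Nat.not_even_iff_odd, even_iff_two_dvd] at h3 ⊢
  exact fun hd => h3 (hd.trans (relIndex_dvd_of_le_left _ h1))

theorem cv_le : cv (S : Subgroup G) P ≤ CenX N (pt M) := by
  refine le_trans ?_ (HOneQ.cen_P_le M S h.le_N h.bt h.S_le_P h.same.lift)
  intro x hx
  rw [mem_centralizer_iff]
  exact fun p hp => (mem_centralizer_iff.1 (h.same.cen hp) x hx).symm

/-- `C(X) ≠ 1` -/
theorem CenX_ne : CenX N (pt M) ≠ ⊥ := fun h0 => h.same.ne (le_bot_iff.1 (h.cv_le.trans h0.le))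

theorem exists_ZZ {i k : Pt M} (hik : i ≠ k) : ∃ z ∈ ZZ N (pt M) i, z ∉ QQ (pt M k) :=
  HOneQ.exists_ZZ_of_mutual M S h.le_N h.ctx.char2 h.four h.same.pair h.same.VQ hik h.CenX_ne

/-- the hypothesis `hZ` of `HOne/SimpleOf.lean` -/
theorem exists_ZZ' {i k : Pt M} (hik : i ≠ k) : ∃ z ∈ ZZ N (pt M) k, z ∉ DD N (pt M) := by
  obtain ⟨z, hz, hzQ⟩ := h.exists_ZZ (i := k) (k := i) (Ne.symm hik)
  exact ⟨z, hz, fun hD => hzQ ((h.bt.W_le_Q i) (D_le_W N (pt M) i hD))⟩

end Sit4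

/-! ### The output for the identification -/

/-- What is known about `G₀ = X E`, `U` a Sylow 2-subgroup of the Borel subgroup. -/
structure GOut {G : Type u} [Group G] (V R G₀ U : Subgroup G) : Prop where
  bn : ∃ (Q : BNPair ↥G₀) (s₀ : ↥G₀), s₀ ∈ Q.S ∧ U.subgroupOf G₀ ≤ Q.B ∧
      (∀ x ∈ Q.B, (x : G) ∈ normalizer (V : Set G) ∧ (x : G) ∈ normalizer (R : Set G) ∧
        (x : G) ∈ normalizer (U : Set G)) ∧
      (∀ s ∈ Q.S, s ≠ s₀ → (s : G) ∈ normalizer (R : Set G)) ∧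
      (∀ x ∈ Q.B, ∃ u ∈ U.subgroupOf G₀, ∃ t ∈ Q.B ⊓ Q.N, x = u * t) ∧ 3 ≤ Q.rank ∧ Q.Irreducible
  U_le : U ≤ G₀
  U_p : IsPGroup 2 U
  NV : normalizer (V : Set G) ≤ normalizer (G₀ : Set G)
  NR : normalizer (R : Set G) ≤ normalizer (G₀ : Set G)
  cen : centralizer (G₀ : Set G) = ⊥
  R_le : R ≤ U
  R_ne : R ≠ ⊥
  R_not : ¬ G₀ ≤ normalizer (R : Set G)
  R_cen : ∀ u ∈ U, ∀ r ∈ R, u * r = r * u
  /-- `C(v) ∩ G₀ ≰ N(R)` for some `1 ≠ v ∈ Z(U)` -/
  v : ∃ v ∈ U, v ≠ 1 ∧ (∀ u ∈ U, u * v = v * u) ∧ ∃ x ∈ G₀, x * v = v * x ∧ x ∉ normalizer (R : Set G)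
  /-- `O₂(N(R)) ∩ G₀` is nonabelian -/
  w : ∃ W ≤ U, normalizer (R : Set G) ≤ normalizer (W : Set G) ∧ ∃ x ∈ W, ∃ y ∈ W, x * y ≠ y * x

section out

variable {G : Type u} [Group G] {ι : Type*} {V : Subgroup G} {R : ι → Subgroup G} {i j : ι} {F : Type*} [Field F]
  {v : F → F → G} {w1 w2 : F → G} {B U : Subgroup G} {J : Type} {P : J → Subgroup G} {m : J → J → ℕ}

/-- `N(V)` and `N(R i)` normalise `X E` -/
theorem norm_G0 (b : BT V R)
    (hfr : ∀ x ∈ normalizer (R i : Set G), ∃ e ∈ EE V R i j, e * x ∈ normalizer (V : Set G)) :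
    normalizer (V : Set G) ≤ normalizer ((XX V R ⊔ EE V R i j : Subgroup G) : Set G) ∧
      normalizer (R i : Set G) ≤ normalizer ((XX V R ⊔ EE V R i j : Subgroup G) : Set G) := by
  have hE : normalizer (R i : Set G) ≤ normalizer (EE V R i j : Set G) := NR_le_NEE
  have key : ∀ g ∈ normalizer (R i : Set G), g ∈ normalizer (V : Set G) →
      g ∈ normalizer ((XX V R ⊔ EE V R i j : Subgroup G) : Set G) := by
    intro g h1 h2
    rw [← BTwo.cj_eq_self_iff, cj_sup, BTwo.cj_eq_self_iff.2 (b.NV_le_NX h2), BTwo.cj_eq_self_iff.2 (hE h1)]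
  constructor
  · intro g hg
    obtain ⟨k, hk⟩ := b.perm g hg i
    obtain ⟨x, hx, ex⟩ := b.trans_X_one k i
    have h1 : x * g ∈ normalizer (R i : Set G) := by
      rw [← BTwo.cj_eq_self_iff, BTwo.cj_mul, hk, ex]
    have h2 := key _ h1 (mul_mem (b.X_le_NV hx) hg)
    have h3 : x ∈ normalizer ((XX V R ⊔ EE V R i j : Subgroup G) : Set G) := le_normalizer (mem_sup_left hx)
    have e : g = x⁻¹ * (x * g) := by group
    rw [e]
    exact mul_mem (inv_mem h3) h2
  · intro g hg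
    obtain ⟨e, he, h1⟩ := hfr g hg
    have h2 : e ∈ normalizer (R i : Set G) := centralizer_le_normalizer _ (EE_le_cen b he)
    have h3 := key _ (mul_mem h2 hg) h1
    have h4 : e ∈ normalizer ((XX V R ⊔ EE V R i j : Subgroup G) : Set G) := le_normalizer (mem_sup_right he)
    have e1 : g = e⁻¹ * (e * g) := by group
    rw [e1]
    exact mul_mem (inv_mem h4) h3

/-- `C(X E) = 1` -/
theorem cen_G0 [Finite G] (b : BTS V R)
    (hfr : ∀ x ∈ normalizer (R i : Set G), ∃ e ∈ EE V R i j, e * x ∈ normalizer (V : Set G)) :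
    centralizer ((XX V R ⊔ EE V R i j : Subgroup G) : Set G) = ⊥ := by
  obtain ⟨h1, h2⟩ := norm_G0 b.toBT hfr
  have h3 : centralizer ((XX V R ⊔ EE V R i j : Subgroup G) : Set G) ≤ CenX V R :=
    centralizer_le (le_sup_left : XX V R ≤ _)
  have h4 : CenX V R ≤ centralizer (WW V (R i) : Set G) := cen_X_le i
  have h5 : centralizer (WW V (R i) : Set G) ≤ centralizer (V : Set G) := cen_W_le V (R i)
  refine b.nonloc i _ ((b.cen_W_isPGroup i).to_le (h3.trans h4)) ?_ ?_ ?_ ?_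
  · exact ((h3.trans h4).trans h5).trans (cen_le_NV V)
  · exact ((h3.trans h4).trans h5).trans (b.toBT.cen_le_N i)
  · exact h1.trans (normalizer_le_normalizer_centralizer _)
  · exact h2.trans (normalizer_le_normalizer_centralizer _)

/-- `X E` does not normalise `R i` -/
theorem not_norm (b : BT V R) {E : Subgroup G} : ¬ (XX V R ⊔ E) ≤ normalizer (R i : Set G) := by
  intro h
  obtain ⟨k, hk, -⟩ := b.third i i
  obtain ⟨x, hx, ex⟩ := b.trans_X_one i k
  have h1 := h (mem_sup_left hx)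
  rw [← BTwo.cj_eq_self_iff, ex] at h1
  exact hk (b.R_index h1)

theorem gOut [Finite G] [Finite F] [CharP F 2] [Finite J] (b : BTS V R) (c : Coord V R i j v w1 w2)
    (hF : ∃ a : F, a ≠ 0 ∧ a ≠ 1) (hij : i ≠ j)
    (hfr : ∀ x ∈ normalizer (R i : Set G), ∃ e ∈ EE V R i j, e * x ∈ normalizer (V : Set G))
    (D : RealSys V R i (EE V R i j) B U P m) (hg : ∀ k, ¬ GamT V (P k))
    (hPR : ∀ k, P k ≤ normalizer (R i : Set G))
    (hr : ∀ k, ¬ P k ≤ normalizer (V : Set G) → ∃ m0, 3 ≤ m0 ∧ Res0 V R B U P k m0)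
    (hD : DD V R ⊓ CenX V R ≠ ⊥) : GOut V (R i) (XX V R ⊔ EE V R i j) U := by
  have hfact : Fact (Nat.Prime 2) := ⟨Nat.prime_two⟩
  obtain ⟨Q, s₀, hQB, hs₀, hs, hB, hrk, hirr, hJ⟩ := EndBN.exists_bn_real b.toBT c hF hij hfr D hg hr
  have hne : Nonempty J := by
    by_contra h1
    rw [not_nonempty_iff] at h1
    rw [Nat.card_of_isEmpty] at hJ
    omega
  have hBG : B ≤ XX V R ⊔ EE V R i j := (D.pre.le hne.some).trans (D.le_E _)
  have hUG : U ≤ XX V R ⊔ EE V R i j := D.pre.U_le.trans hBG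
  have hWU : WW V (R i) ≤ U := D.dat.WU
  have hWC : WW V (R i) ≤ centralizer (R i : Set G) := (b.W_le_Q i).trans (Q_le_C b.toBT i)
  have hUC : ∀ u ∈ U, ∀ r ∈ R i, u * r = r * u := by
    intro u hu r hr
    obtain ⟨w, hw, hc⟩ := D.dat.UC u hu
    have h1 := mem_centralizer_iff.1 hc r (b.R_le i hr)
    have h2 := mem_centralizer_iff.1 (hWC hw) r hr
    have e : u * r = w * (w⁻¹ * u * r) := by group
    rw [e, ← h1]
    have e2 : w * (r * (w⁻¹ * u)) = (w * r) * (w⁻¹ * u) := by group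
    rw [e2, ← h2]
    group
  obtain ⟨h1, h2⟩ := norm_G0 b.toBT hfr
  exact
    { bn := by
        refine ⟨Q, s₀, hs₀, ?_, ?_, ?_, hB, hrk, hirr⟩
        · rw [hQB]
          exact fun x hx => D.pre.U_le hx
        · intro x hx
          rw [hQB] at hx
          exact ⟨D.dat.BV hx, D.dat.BR hx, D.pre.norm hx⟩
        · intro s hsS hne'
          exact (iSup_le hPR) (hs s hsS hne')
      U_le := hUG
      U_p := D.pre.isP
      NV := h1
      NR := h2
      cen := cen_G0 b hfr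
      R_le := (b.R_le_W i i).trans hWU
      R_ne := b.R_ne i
      R_not := not_norm b.toBT
      R_cen := hUC
      v := by
        -- `U` normalises `D ∩ C(X)`
        have hUN : U ≤ normalizer (V : Set G) := D.pre.U_le.trans D.dat.BV
        have hn : U ≤ normalizer ((DD V R ⊓ CenX V R : Subgroup G) : Set G) := by
          intro u hu
          rw [← BTwo.cj_eq_self_iff, cj_inf, BTwo.cj_eq_self_iff.2 (b.NV_le_ND (hUN hu)),
            BTwo.cj_eq_self_iff.2 (b.toBT.NV_le_NCenX (hUN hu))]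
        have hDU : DD V R ⊓ CenX V R ≤ U := inf_le_left.trans ((D_le_W V R i).trans hWU)
        obtain ⟨y, hy, hy1, hyZ⟩ := exists_mem_zc D.pre.isP hD hDU hn
        rw [MinSimple.VModule.mem_zc] at hyZ
        obtain ⟨k, hk, -⟩ := b.third i i
        obtain ⟨x, hx, ex⟩ := b.trans_X_one i k
        refine ⟨y, hDU hy, hy1, fun u hu => hyZ.2.1 u hu, x, mem_sup_left hx, ?_, ?_⟩
        · exact mem_centralizer_iff.1 hy.2 x hx
        · intro hxR
          rw [← BTwo.cj_eq_self_iff, ex] at hxR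
          exact hk (b.R_index hxR)
      w := by
        refine ⟨WW V (R i), hWU, normalizer_le_WW V (R i), w1 1, c.w1_mem 1, v 0 1,
          V_le_WW V (R i) (c.v_mem 0 1), fun h => ?_⟩
        have h3 := c.w1_act 1 0 1
        rw [h, mul_inv_cancel_right] at h3
        have h4 := (c.v_inj h3).1
        rw [mul_one, zero_add] at h4
        exact zero_ne_one h4 }

end out

/-! ### The sockets -/

section sockets

variable (K : Cls.{u})

/-- **LAYER** (helper835) -/
def LayH : Prop :=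
  ∀ (G : Type u) [Group G] [Finite G], K G → ∀ (S : Sylow 2 G) (P : Subgroup G) (g : G) (F : Type) [Field F]
    [Finite F] [CharP F 2] (N : Subgroup G) (M : NatMod F N), Sit4 S P g M → LayAll N (pt M) F

/-- **`N(R i) = E (N(R i) ∩ N(V))`** (helper407, helper466, helper951) -/
def FrH : Prop :=
  ∀ (G : Type u) [Group G] [Finite G], K G → ∀ (S : Sylow 2 G) (P : Subgroup G) (g : G) (F : Type) [Field F]
    [Finite F] [CharP F 2] (N : Subgroup G) (M : NatMod F N), Sit4 S P g M → LayAll N (pt M) F →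
      ∀ i j : Pt M, i ≠ j → ∀ x ∈ normalizer (pt M i : Set G), ∃ e ∈ EE N (pt M) i j, e * x ∈ normalizer (N : Set G)

/-- **`D ∩ C(X) ≠ 1`** (helper499) -/
def DH : Prop :=
  ∀ (G : Type u) [Group G] [Finite G], K G → ∀ (S : Sylow 2 G) (P : Subgroup G) (g : G) (F : Type) [Field F]
    [Finite F] [CharP F 2] (N : Subgroup G) (M : NatMod F N), Sit4 S P g M → LayAll N (pt M) F →
      DD N (pt M) ⊓ CenX N (pt M) ≠ ⊥

/-- **The parabolic system** (helper43, 105 : `RealSys`; 725, 551, 812, 976 : `Res0`; 910, 811 : no `GamT`) -/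
def SysH : Prop :=
  ∀ (G : Type u) [Group G] [Finite G], K G → ∀ (S : Sylow 2 G) (P : Subgroup G) (g : G) (F : Type) [Field F]
    [Finite F] [CharP F 2] (N : Subgroup G) (M : NatMod F N), Sit4 S P g M → LayAll N (pt M) F →
      (∀ i j : Pt M, i ≠ j → ∀ x ∈ normalizer (pt M i : Set G), ∃ e ∈ EE N (pt M) i j,
        e * x ∈ normalizer (N : Set G)) →
      ∃ (i j : Pt M) (_ : i ≠ j) (B U : Subgroup G) (J : Type) (_ : Finite J) (P' : J → Subgroup G)
        (m : J → J → ℕ), RealSys N (pt M) i (EE N (pt M) i j) B U P' m ∧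
          (∀ k, P' k ≤ normalizer (pt M i : Set G)) ∧ (∀ k, ¬ GamT N (P' k)) ∧
          ∀ k, ¬ P' k ≤ normalizer (N : Set G) → ∃ m0, 3 ≤ m0 ∧ Res0 N (pt M) B U P' k m0

/-- **The identification and the end** (helper124, helper384) -/
def EndH : Prop :=
  ∀ (G : Type u) [Group G] [Finite G], K G → ∀ (S : Sylow 2 G) (P : Subgroup G) (g : G) (F : Type) [Field F]
    [Finite F] [CharP F 2] (N : Subgroup G) (M : NatMod F N), Sit4 S P g M → ∀ (i : Pt M) (G₀ U : Subgroup G),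
      GOut N (pt M i) G₀ U → IsKnownSimple' G

variable {K}

/-- **The socket `Same4` from its parts.** -/
theorem same4_of (hL : LayH K) (hF : FrH K) (hD : DH K) (hS : SysH K) (hE : EndH K) : Same4 K := by
  intro G _ _ hG hK S hFu hI hSi hs P g F _ _ _ N M hM h4
  have h : Sit4 S P g M := ⟨hG, hFu, hI, hSi, hs, hM, h4⟩
  have hl := hL G hK S P g F N M h
  have hfr := hF G hK S P g F N M h hl
  obtain ⟨i, j, hij, B, U, J, _, P', m, D, hPR, hg, hr⟩ := hS G hK S P g F N M h hl hfr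
  obtain ⟨v, w1, w2, c⟩ := h.exists_coord hij
  exact hE G hK S P g F N M h i _ U (gOut h.bts c h.exists_ne hij (hfr i j hij) D hg hPR hr
    (hD G hK S P g F N M h hl))

end sockets

end Cfsg.Agent.Omega.HOne.SameOf
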