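import Cfsg.Agent.Omega.HOne.OfKD
import Cfsg.Agent.Omega.HOneQ.DHof
import Cfsg.Agent.Omega.CR.KDBT

/-!
# The split chain over a 2-group `T`: `KDT` (helper951) and `DT` (helper499)
-/

set_option autoImplicit false
set_option linter.unusedSectionVars false

namespace Cfsg.Agent.Omega.HOne.TLift

open Subgroup Cfsg Cfsg.Agent.ZN Cfsg.Agent.Omega.MinPar Cfsg.Agent.Omega.Frame
open Cfsg.Agent.Omega.NatPair (NatMod)
open Cfsg.Agent.Omega.BTwo Cfsg.Agent.Omega.Lie Cfsg.Agent.Omega.Lie.Quot Cfsg.Agent.Omega.Lie.End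
open Cfsg.Agent.Omega.HOneQ

universe u

/-- **`KDT`** -/
theorem kdT (tab : KTable.{u}) (phi : KPhi.{u}) : KDT.{u} := by
  intro G _ _ T F _ _ _ N M h hl i j v w1 w2 t c τ S I
  have l := hl i j v w1 w2 t c τ S I
  have hUD : ¬ UU N (pt M) j ≤ DD N (pt M) := by
    obtain ⟨z, hz, h'⟩ := h.exists_ZZ' (i := i) (k := j) c.ne
    exact fun hle => h' (hle (zU_le j hz))
  exact CR.exists_kd_bt tab phi h.bts h.four h.exists_ne c τ (h.odd i) I l hUD

/-- **`DT`** -/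
theorem dT : DT.{u} := by
  intro G _ _ T F _ _ _ N M h hl
  obtain ⟨i, j, hij⟩ := h.exists_pair
  obtain ⟨v, w1, w2, c⟩ := h.exists_coord hij
  obtain ⟨t, τ⟩ := h.exists_torD c
  obtain ⟨T₁, hT₁⟩ := h.exists_T i
  have I := h.sylI c τ hT₁
  have l := hl i j v w1 w2 t c τ _ I
  exact DHof.dcx_ne h.bts h.exists_ne c τ (h.odd i) I l.innC l.odd h.CenX_ne

end Cfsg.Agent.Omega.HOne.TLift
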