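import Cfsg.Agent.Omega.HOne.SbOf
import Cfsg.Agent.Omega.HOne.KDT
import Cfsg.Agent.Omega.HOneQ.ResFrat
import Cfsg.Agent.Omega.HOneQ.GaT
import Cfsg.Agent.Omega.Lie.KRowsPlug
import Cfsg.Agent.Omega.Lie.Out.All
import Cfsg.Agent.Omega.Lie.End.KMov

/-!
# II.0h1, split, `q ≥ 4`: the chain over `T`, all sockets plugged

* `sbT : SBT` : the residues of types `(σ)` and `(β)` (helper976, 591, 759, 843, 811);
* `kdT' : KDT`, `kRows' : KRows`, `resT' : ResT`;
* **`out_of`** : `SitT T M → TSyl V R i T → ∃ G₀ U v, OutT T M i G₀ U v`;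
* **`stFour_of`** : `Cut.StFour K` for every `K`.
-/

set_option autoImplicit false
set_option linter.unusedSectionVars false

namespace Cfsg.Agent.Omega.HOne.StFour

open Subgroup Cfsg Cfsg.Agent.ParSys Cfsg.Agent.Omega.BTwo Cfsg.Agent.Omega.Lie Cfsg.Agent.Omega.Lie.Quot
open Cfsg.Agent.Omega.IIa4 Cfsg.Agent.Omega.Lie.End.OfLay Cfsg.Agent.Omega.Lie.End Cfsg.Agent.Omega.HOneQ
open Cfsg.Agent.Omega.NatPair (NatMod)
open Cfsg.Agent.Omega.HOne.TLift Cfsg.Agent.Omega.HOne.ResOf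
open Cfsg.Agent.Omega.HOneQ.SylIOf (TSyl)

universe u

/-- **The residues of types `(σ)`, `(β)`** -/
theorem sbT : SBT.{u} := by
  intro G _ _ T F _ _ _ N M h i j v w1 w2 t c τ n C J Q m S D hd x hm
  have b := h.bts
  have hF := h.exists_ne
  refine sbRes_of b c τ hF (h.odd i) D hd x hm ?_
  intro m p' sw s lin hK2 linJ dc H4
  have hx := D.not_le_of_moved b.toBT c.ne hm
  have Kx := qpx_cen b.toBT c.ne D hd x hx
  have o := s.okh b τ c Kx hF
  have hXV := (XV.cen_X_V hF b c).le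
  obtain ⟨N', _, _, P1, P2, y⟩ := c.exists_yPair b.toBT
  obtain ⟨m0, hm0, h1, h2⟩ := s.toNd.exists_swap b.toBT s.mem
  obtain ⟨a, ha, ha1⟩ := id hF
  have A := s.aptH b τ c sw y lin hXV hK2 H4 o.OP o.OK o.PO o.OT o.two o.perf (fun g hg _ h => o.lift g hg h)
    hm0 h1 h2 ha ha1
  have L := s.sigL b τ sw c y hF lin hXV hK2 H4
  exact s.frat b τ sw c hXV L lin linJ hF Kx A ((s.toNd.PW_le b.toBT).trans inf_le_left)

theorem kdT' : KDT.{u} := kdT Lie.End.kTable Lie.End.kPhi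

theorem kRows' : Lie.LayerMain.KRows.{u} := Lie.KRowsPlug.kRows Lie.OutT.out

/-- **`ResT`** -/
theorem resT' : ResT.{u} := resT kdT' HOneQ.GaT.gaT sbT

/-- **The chain over `T`** -/
theorem out_of {G : Type u} [Group G] [Finite G] {T : Subgroup G} {F : Type} [Field F] [Finite F] [CharP F 2]
    {V : Subgroup G} {M : NatMod F V} (h : SitT T M) {o : Pt M} (hi : TSyl V (pt M) o T) :
    ∃ (G₀ U : Subgroup G) (v : G), OutT T M o G₀ U v :=
  h.out (h.layS kRows') (frT kdT') dT (rsT Lie.End.kSideX kdT') (nvT kdT') resT' HOneQ.GaT.gaT hi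

end Cfsg.Agent.Omega.HOne.StFour

namespace Cfsg.Agent.Omega.HOne.StFour

open Cfsg Cfsg.Agent.Omega.MinPar Cfsg.Agent.Omega.Frame
open Cfsg.Agent.Omega.HOne.TLift

universe u

/-- **`Cut.StFour K`** -/
theorem stFour_of (K : Cls.{u}) : Cut.StFour K :=
  stFour kRows' (frT kdT') dT (rsT Lie.End.kSideX kdT') (nvT kdT') resT' HOneQ.GaT.gaT

end Cfsg.Agent.Omega.HOne.StFour
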