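import Cfsg.Agent.Omega.HOne.ModZ
import Cfsg.Agent.Omega.Lie.TorNat

/-!
# The `F`-space `M = W i / Z(W i)`: flag `e ≤ D' ≤ P`, the group `A`, the torus (II.a, II.0h1, all `q ≥ 4`)
-/

set_option autoImplicit false
set_option linter.unusedSectionVars false

namespace Cfsg.Agent.Omega.HOne.ModZ

open Subgroup Cfsg.Agent.Omega.BTwo Cfsg.Agent.Omega.Lie Cfsg.Agent.Omega.Lie.Quot

universe u v w

variable {G : Type u} [Group G] {ι : Type w} {V : Subgroup G} {R : ι → Subgroup G} {i j : ι}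
  {F : Type v} [Field F] {v : F → F → G} {w1 w2 t : F → G}

/-! ### Facts on `Y / D` -/

section Y

variable {N : Type u} [AddCommGroup N] [Module F N] {P1 P2 : G → N}

theorem char_of (b : BT V R) (c : Coord V R i j v w1 w2) : CharP F 2 := by
  have h2F : ∀ a : F, a + a = 0 := fun a => by
    have h := b.V_sq _ (c.v_mem a 0)
    have h1 := c.v_add a 0 a 0
    rw [h] at h1
    exact (c.v_one _ _ h1).1
  have h : (2 : F) = 0 := by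
    have := h2F 1
    rwa [one_add_one_eq_two] at this
  exact CharTwo.of_one_ne_zero_of_two_eq_zero one_ne_zero h

/-- `t a` acts on `Y / D` as `diag(a, a⁻¹)` -/
theorem t_Y [Finite F] [CharP F 2] (b : BT V R) (c : Coord V R i j v w1 w2) (τ : TorD V R i j v t)
    (y : YPair V R i j w1 w2 N P1 P2) {a : F} (ha : a ≠ 0) {x : G} (hx : x ∈ YY V R) :
    P1 (t a * x * (t a)⁻¹) = a • P1 x ∧ P2 (t a * x * (t a)⁻¹) = a⁻¹ • P2 x := by
  obtain ⟨M', _, _, p1, p2, ym⟩ := c.exists_yMod b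
  have hX : (hh w1 w2 a)⁻¹ * t a ∈ XX V R := mul_mem (inv_mem (c.hh_mem_X b a)) (τ.memX a ha)
  have hC : (hh w1 w2 a)⁻¹ * t a ∈ centralizer (V : Set G) := by
    rw [mem_centralizer_iff]
    intro z hz
    obtain ⟨β, γ, rfl⟩ := (c.mem_V z).1 hz
    have h1 := c.hh_act_inv ha (a * β) (a⁻¹ * γ)
    rw [inv_mul_cancel_left₀ ha, mul_inv_cancel_left₀ ha] at h1
    have h2 := τ.act a β γ ha
    have h3 : (hh w1 w2 a)⁻¹ * t a * v β γ * ((hh w1 w2 a)⁻¹ * t a)⁻¹ = v β γ := by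
      calc (hh w1 w2 a)⁻¹ * t a * v β γ * ((hh w1 w2 a)⁻¹ * t a)⁻¹
          = (hh w1 w2 a)⁻¹ * (t a * v β γ * (t a)⁻¹) * hh w1 w2 a := by group
        _ = _ := by rw [h2, h1]
    rw [mul_inv_eq_iff_eq_mul] at h3
    exact h3.symm
  have hcen := cen_Y b (Crd.of_coord c) ym hX hC hx
  set x0 := (hh w1 w2 a)⁻¹ * t a with hx0
  have hY := y.X_Y b c hX hx
  have h1 : P1 (x0 * x * x0⁻¹) = P1 x ∧ P2 (x0 * x * x0⁻¹) = P2 x := by
    have hcY := b.D_le_Y hcen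
    have hz := (y.mem_D _ hcY).1 hcen
    have e : x0 * x * x0⁻¹ = (x0 * x * x0⁻¹ * x⁻¹) * x := by group
    rw [e, y.mul1 _ hcY _ hx, y.mul2 _ hcY _ hx, hz.1, hz.2, zero_add, zero_add]
    exact ⟨rfl, rfl⟩
  have h2 := y.hh1 b c ha hY
  have e : t a * x * (t a)⁻¹ = hh w1 w2 a * (x0 * x * x0⁻¹) * (hh w1 w2 a)⁻¹ := by rw [hx0]; group
  rw [e, h2.1, h2.2, h1.1, h1.2]
  exact ⟨rfl, rfl⟩

/-- the subspace `Z(W i) D / D` of `U i / D` -/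
def N0 [CharP F 2] (b : BT V R) (c : Coord V R i j v w1 w2) (y : YPair V R i j w1 w2 N P1 P2) : Submodule F N where
  carrier := {n | ∃ z ∈ ZZ V R i, P1 z = n}
  zero_mem' := ⟨1, one_mem _, y.one1⟩
  add_mem' := by
    rintro _ _ ⟨z, hz, rfl⟩ ⟨z', hz', rfl⟩
    exact ⟨z * z', mul_mem hz hz', y.mul1 _ (UU_le_YY i (zU_le i hz)) _ (UU_le_YY i (zU_le i hz'))⟩
  smul_mem' := by
    rintro a _ ⟨z, hz, rfl⟩
    by_cases ha : a = 0
    · exact ⟨1, one_mem _, by rw [ha, zero_smul, y.one1]⟩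
    · refine ⟨hh w1 w2 a * z * (hh w1 w2 a)⁻¹, ?_, (y.hh1 b c ha (UU_le_YY i (zU_le i hz))).1⟩
      rw [← b.cj_ZZ (c.hh_R1 b ha)]
      exact conj_mem_cj hz

theorem mem_N0 [CharP F 2] {b : BT V R} {c : Coord V R i j v w1 w2} {y : YPair V R i j w1 w2 N P1 P2} {n : N} :
    n ∈ N0 b c y ↔ ∃ z ∈ ZZ V R i, P1 z = n := Iff.rfl

/-- `P2 (Z(W j)) = N₀` -/
theorem mem_N0' [CharP F 2] {b : BT V R} {c : Coord V R i j v w1 w2} {y : YPair V R i j w1 w2 N P1 P2} {n : N} :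
    n ∈ N0 b c y ↔ ∃ z ∈ ZZ V R j, P2 z = n := by
  constructor
  · rintro ⟨z, hz, rfl⟩
    refine ⟨nn w1 w2 1 * z * (nn w1 w2 1)⁻¹, ?_, ?_⟩
    · rw [← b.cj_ZZ (c.nn_R1 b one_ne_zero)]
      exact conj_mem_cj hz
    · rw [(y.nn1 b c one_ne_zero (UU_le_YY i (zU_le i hz))).2, inv_one, one_smul]
  · rintro ⟨z, hz, rfl⟩
    refine ⟨nn w1 w2 1 * z * (nn w1 w2 1)⁻¹, ?_, ?_⟩
    · rw [← b.cj_ZZ (c.nn_R2 b one_ne_zero)]
      exact conj_mem_cj hz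
    · rw [(y.nn1 b c one_ne_zero (UU_le_YY j (zU_le j hz))).1, one_smul]

/-- `λ_d` kills `N₀` -/
theorem lam_N0 [CharP F 2] (b : BT V R) (c : Coord V R i j v w1 w2) (y : YPair V R i j w1 w2 N P1 P2) {d : G}
    (hd : d ∈ DD V R) {n : N} (hn : n ∈ N0 b c y) : y.lam b c d n = 0 := by
  obtain ⟨z, hz, rfl⟩ := hn
  have h1 := y.lam_spec b c hd (UU_le_YY i (zU_le i hz))
  have h2 := z_comm hz (D_le_W V R i hd)
  rw [(y.mem_U1 z (UU_le_YY i (zU_le i hz))).1 (zU_le i hz), map_zero] at h1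
  have h3 : d * z * d⁻¹ * z⁻¹ = 1 := by rw [← h2]; group
  rw [h3] at h1
  exact (c.v_one _ _ h1.symm).1

/-- `[w, u] = ω(w) P2(u)` modulo `D` -/
theorem P1_comm [CharP F 2] (b : BT V R) (c : Coord V R i j v w1 w2) (y : YPair V R i j w1 w2 N P1 P2) {u x : G}
    (hu' : u ∈ UU V R j) (hx : x ∈ WW V (R i)) {s : F} (hs : ∀ β γ, x * v β γ * x⁻¹ = v (β + s * γ) γ) :
    u * x * u⁻¹ * x⁻¹ ∈ UU V R i ∧ P1 (u * x * u⁻¹ * x⁻¹) = s • P2 u := by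
  have hu := UU_le_YY j hu'
  have hcm : u * x * u⁻¹ * x⁻¹ ∈ UU V R i := by
    have e : u * x * u⁻¹ * x⁻¹ = (x * u * x⁻¹ * u⁻¹)⁻¹ := by group
    rw [e]
    exact inv_mem (b.WU' hx hu')
  refine ⟨hcm, ?_⟩
  have hxu : x * u⁻¹ * x⁻¹ ∈ YY V R := y.X_Y b c (W_le_X V R i hx) (inv_mem hu)
  have e : u * x * u⁻¹ * x⁻¹ = u * (x * u⁻¹ * x⁻¹) := by group
  have h3 : P1 (x * u⁻¹ * x⁻¹) = P1 (w1 s * u⁻¹ * (w1 s)⁻¹) := by
    have h4 := b.same hx (c.w1_mem s) (fun z hz => by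
      obtain ⟨β, γ, rfl⟩ := (c.mem_V z).1 hz
      rw [hs, c.w1_act]) (inv_mem hu)
    have hwu : w1 s * u⁻¹ * (w1 s)⁻¹ ∈ YY V R := y.X_Y b c (W_le_X V R i (c.w1_mem s)) (inv_mem hu)
    have h5 := ((y.mem_D _ (mul_mem hxu (inv_mem hwu))).1 h4).1
    rw [y.mul1 _ hxu _ (inv_mem hwu), y.inv1 hwu, ← sub_eq_add_neg, sub_eq_zero] at h5
    exact h5
  have hP1 : P1 u = 0 := (y.mem_U2 _ hu).1 hu'
  rw [e, y.mul1 _ hu _ hxu, hP1, zero_add, h3, y.w11 s _ (inv_mem hu), y.inv1 hu, y.inv2 hu, hP1, neg_zero,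
    zero_add, smul_neg]
  have h6 : s • P2 u + s • P2 u = 0 := by
    rw [← two_smul F, CharTwo.two_eq_zero, zero_smul]
  exact neg_eq_of_add_eq_zero_left h6

end Y

namespace Fq

variable {M : Type u} [AddCommGroup M] [Module F M] [DistribMulAction (HQ (R i)) M] {p : G → M}
  {f : M →ₗ[F] M →ₗ[F] F} {e : F →ₗ[F] M} {ω : M →ₗ[F] F} {σ : HQ (R i) →* RingAut F} {κ : HQ (R i) → F}

section one

variable (q : Fq V R i v M p f e ω σ κ) (c : Coord V R i j v w1 w2)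
include q c

theorem hvW (β γ : F) : v β γ ∈ WW V (R i) := by
  have _ := q
  exact V_le_WW V (R i) (c.v_mem β γ)

theorem κ_unique {g : G} (hg : g ∈ normalizer (R i : Set G)) {a : F}
    (h : ∀ β, g * v β 0 * g⁻¹ = v (a * β) 0) : κ (pr (R i) ⟨g, hg⟩) = a ∧ σ (pr (R i) ⟨g, hg⟩) = 1 := by
  have h1 : ∀ β, κ (pr (R i) ⟨g, hg⟩) * σ (pr (R i) ⟨g, hg⟩) β = a * β := fun β => by
    have h2 := q.R_act g hg β
    rw [h] at h2
    exact (c.v_inj h2).1.symm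
  have h2 : κ (pr (R i) ⟨g, hg⟩) = a := by
    have := h1 1
    rwa [map_one, mul_one, mul_one] at this
  refine ⟨h2, RingEquiv.ext fun β => ?_⟩
  have h3 := h1 β
  rw [h2] at h3
  exact mul_left_cancel₀ (by rw [← h2]; exact q.κne _) h3

/-- `C(R i)` acts `F`-linearly and isometrically -/
theorem H0_fix {h : HQ (R i)} (hh : h ∈ H0 R i) : κ h = 1 ∧ σ h = 1 := by
  obtain ⟨g, hg, hgC, rfl⟩ := mem_im.1 hh
  apply q.κ_unique c hg
  intro β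
  rw [← mem_centralizer_iff.1 hgC _ ((c.mem_R1 _).2 ⟨β, rfl⟩), mul_inv_cancel_right, one_mul]

theorem H0_smul {h : HQ (R i)} (hh : h ∈ H0 R i) (a : F) (x : M) : h • (a • x) = a • (h • x) := by
  rw [q.semi, (q.H0_fix c hh).2]; rfl

theorem H0_isom {h : HQ (R i)} (hh : h ∈ H0 R i) (x x' : M) : f (h • x) (h • x') = f x x' := by
  rw [q.act, (q.H0_fix c hh).2, (q.H0_fix c hh).1, one_mul]; rfl

theorem e_inj (b : BT V R) : Function.Injective e := by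
  rw [injective_iff_map_eq_zero]
  intro γ h
  rw [← q.e_eq 0 γ, q.p_ker _ (q.hvW c 0 γ)] at h
  have h1 := b.cen_VW (c.v_mem 0 γ) h.2
  obtain ⟨β, hβ⟩ := (c.mem_R1 _).1 h1
  exact (c.v_inj hβ).2.symm

theorem mem_e {x : M} : x ∈ LinearMap.range e ↔ x ∈ q.toMZ.sb V := by
  constructor
  · rintro ⟨γ, rfl⟩
    rw [← q.e_eq 0 γ]
    exact q.toMZ.p_mem (q.hvW c 0 γ) (c.v_mem 0 γ)
  · rintro ⟨z, hz, hzW, rfl⟩
    obtain ⟨β, γ, rfl⟩ := (c.mem_V z).1 hz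
    exact ⟨γ, (q.e_eq β γ).symm⟩

theorem ω_w1 (s : F) : ω (p (w1 s)) = s := by
  have h := q.ω_eq _ (c.w1_mem s) 0 1
  rw [c.w1_act] at h
  have h1 := (c.v_inj h).1
  rw [mul_one, mul_one, zero_add, zero_add] at h1
  exact h1.symm

theorem mem_P {x : G} (hx : x ∈ WW V (R i)) : ω (p x) = 0 ↔ x ∈ UU V R i := by
  constructor
  · intro h
    refine mem_inf.2 ⟨hx, ?_⟩
    rw [mem_centralizer_iff]
    intro z hz
    obtain ⟨β, γ, rfl⟩ := (c.mem_V z).1 hz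
    have h1 := q.ω_eq x hx β γ
    rw [h, zero_mul, add_zero, mul_inv_eq_iff_eq_mul] at h1
    exact h1.symm
  · intro h
    have h1 := q.ω_eq x hx 0 1
    rw [← mem_centralizer_iff.1 (UU_le_cen i h) _ (c.v_mem 0 1), mul_inv_cancel_right] at h1
    have h2 := (c.v_inj h1).1
    rw [mul_one, zero_add] at h2
    exact h2.symm

theorem mem_P' {x : M} : ω x = 0 ↔ x ∈ q.toMZ.sb (UU V R i) := by
  obtain ⟨g, hg, rfl⟩ := q.p_surj x
  rw [q.mem_P c hg, q.toMZ.p_mem_iff hg (zU_le i)]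

theorem ωe (γ : F) : ω (e γ) = 0 := by
  rw [← q.e_eq 0 γ, q.mem_P c (q.hvW c 0 γ)]
  refine mem_inf.2 ⟨q.hvW c 0 γ, ?_⟩
  rw [mem_centralizer_iff]
  intro z hz
  obtain ⟨β', γ', rfl⟩ := (c.mem_V z).1 hz
  rw [← c.v_add, ← c.v_add, add_comm β', add_comm γ']

/-- elements of `C(V)` fix `e` and `ω` -/
theorem cenV_e {g : G} (hg : g ∈ normalizer (R i : Set G)) (h : g ∈ centralizer (V : Set G)) (γ : F) :
    pr (R i) ⟨g, hg⟩ • e γ = e γ := by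
  rw [← q.e_eq 0 γ, q.p_act g hg _ (q.hvW c 0 γ), ← mem_centralizer_iff.1 h _ (c.v_mem 0 γ), mul_inv_cancel_right]

theorem cenV_H0 {g : G} (hg : g ∈ normalizer (R i : Set G)) (h : g ∈ centralizer (V : Set G)) :
    pr (R i) ⟨g, hg⟩ ∈ H0 R i := by
  have _ := q
  refine mem_im.2 ⟨g, hg, ?_, rfl⟩
  rw [mem_centralizer_iff]
  intro z hz
  obtain ⟨β, rfl⟩ := (c.mem_R1 z).1 hz
  exact mem_centralizer_iff.1 h _ (c.v_mem β 0)

theorem cenV_ω {g : G} (hg : g ∈ normalizer (R i : Set G)) (h : g ∈ centralizer (V : Set G)) (x : M) :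
    ω (pr (R i) ⟨g, hg⟩ • x) = ω x := by
  have h1 := q.H0_isom c (q.cenV_H0 c hg h) x (e 1)
  rw [q.cenV_e c hg h, q.fe, q.fe, mul_one, mul_one] at h1
  exact h1

end one

section tor

variable (q : Fq V R i v M p f e ω σ κ) (c : Coord V R i j v w1 w2) (τ : TorD V R i j v t)
include q c τ

theorem t_fix (a : Fˣ) : κ (pr (R i) ⟨t a, τ.normR a.ne_zero⟩) = a ∧ σ (pr (R i) ⟨t a, τ.normR a.ne_zero⟩) = 1 := by
  apply q.κ_unique c
  intro β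
  rw [τ.act _ _ _ a.ne_zero, mul_zero]

theorem t_smul (a : Fˣ) (s : F) (x : M) :
    pr (R i) ⟨t a, τ.normR a.ne_zero⟩ • (s • x) = s • (pr (R i) ⟨t a, τ.normR a.ne_zero⟩ • x) := by
  rw [q.semi, (q.t_fix c τ a).2]; rfl

theorem t_f (a : Fˣ) (x x' : M) :
    f (pr (R i) ⟨t a, τ.normR a.ne_zero⟩ • x) (pr (R i) ⟨t a, τ.normR a.ne_zero⟩ • x') = a * f x x' := by
  rw [q.act, (q.t_fix c τ a).2, (q.t_fix c τ a).1]; rfl

theorem t_e (a : Fˣ) (γ : F) : pr (R i) ⟨t a, τ.normR a.ne_zero⟩ • e γ = (a : F)⁻¹ • e γ := by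
  rw [← LinearMap.map_smul e, ← q.e_eq 0 γ, q.p_act _ _ _ (q.hvW c 0 γ), τ.act _ _ _ a.ne_zero, mul_zero, q.e_eq, smul_eq_mul]

theorem t_ω (a : Fˣ) (x : M) : ω (pr (R i) ⟨t a, τ.normR a.ne_zero⟩ • x) = (a : F) ^ 2 * ω x := by
  have h1 := q.t_f c τ a x (e 1)
  rw [q.t_e c τ, map_smul, smul_eq_mul, q.fe, q.fe, mul_one, mul_one] at h1
  have h2 : ω (pr (R i) ⟨t a, τ.normR a.ne_zero⟩ • x) =
      (a : F) * ((a : F)⁻¹ * ω (pr (R i) ⟨t a, τ.normR a.ne_zero⟩ • x)) := by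
    rw [mul_inv_cancel_left₀ a.ne_zero]
  rw [h2, h1]
  ring

end tor

section flag

variable {N : Type u} [AddCommGroup N] [Module F N] {P1 P2 : G → N}
variable (q : Fq V R i v M p f e ω σ κ) (b : BT V R) (c : Coord V R i j v w1 w2) (τ : TorD V R i j v t)
  (y : YPair V R i j w1 w2 N P1 P2)
include q b c τ y

theorem t_D (a : Fˣ) {x : M} (hx : x ∈ q.toMZ.sb (DD V R)) :
    pr (R i) ⟨t a, τ.normR a.ne_zero⟩ • x - x ∈ LinearMap.range e := by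
  obtain ⟨d, hd, hdW, rfl⟩ := hx
  rw [q.toMZ.smul_sub _ hdW, q.mem_e c]
  exact q.toMZ.p_mem (MZ.comm_mem_W (τ.normR a.ne_zero) hdW) (b.XD (τ.memX _ a.ne_zero) hd)

/-- `x ∈ P`, `[x, t] ∈ e` ⟹ `x ∈ D'` -/
theorem mem_D_of [Finite F] [CharP F 2] {a : Fˣ} (ha : (a : F) ≠ 1) {x : M} (hx : ω x = 0)
    (h : pr (R i) ⟨t a, τ.normR a.ne_zero⟩ • x - x ∈ LinearMap.range e) : x ∈ q.toMZ.sb (DD V R) := by
  obtain ⟨u, hu, huW, rfl⟩ := (q.mem_P' c).1 hx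
  obtain ⟨γ, hγ⟩ := h
  have huY := UU_le_YY i hu
  rw [q.toMZ.smul_sub _ huW, ← q.e_eq 0 γ, q.toMZ.p_eq_iff (q.hvW c 0 γ) (MZ.comm_mem_W (τ.normR a.ne_zero) huW)] at hγ
  set z := v 0 γ * (t a * u * (t a)⁻¹ * u⁻¹)⁻¹ with hz
  have hV : v 0 γ ∈ DD V R := V_le_D V R (c.v_mem 0 γ)
  have e1 : t a * u * (t a)⁻¹ = z⁻¹ * v 0 γ * u := by rw [hz]; group
  have hzY : z⁻¹ ∈ YY V R := UU_le_YY i (zU_le i (inv_mem hγ))
  have hP := congrArg P1 e1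
  rw [y.mul1 _ (mul_mem hzY (b.D_le_Y hV)) _ huY, y.mul1 _ hzY _ (b.D_le_Y hV),
    ((y.mem_D _ (b.D_le_Y hV)).1 hV).1, add_zero, (t_Y b c τ y a.ne_zero huY).1] at hP
  have h2 : ((a : F) - 1) • P1 u ∈ N0 b c y := by
    rw [sub_smul, one_smul, hP, add_sub_cancel_right]
    exact ⟨_, inv_mem hγ, rfl⟩
  have h3 : P1 u ∈ N0 b c y := by
    have h4 := (N0 b c y).smul_mem ((a : F) - 1)⁻¹ h2
    rwa [smul_smul, inv_mul_cancel₀ (sub_ne_zero.2 ha), one_smul] at h4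
  obtain ⟨z', hz', h5⟩ := h3
  have hz'U := zU_le i hz'
  have h6 : u * z'⁻¹ ∈ DD V R := by
    rw [y.mem_D _ (mul_mem huY (inv_mem (UU_le_YY i hz'U))), y.mul1 _ huY _ (inv_mem (UU_le_YY i hz'U)),
      y.mul2 _ huY _ (inv_mem (UU_le_YY i hz'U)), y.inv1 (UU_le_YY i hz'U), y.inv2 (UU_le_YY i hz'U), h5,
      (y.mem_U1 _ huY).1 hu, (y.mem_U1 _ (UU_le_YY i hz'U)).1 hz'U]
    simp
  refine ⟨u * z'⁻¹, h6, D_le_W V R i h6, ?_⟩
  rw [q.toMZ.p_eq_iff (D_le_W V R i h6) huW]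
  have e2 : u * z'⁻¹ * u⁻¹ = z'⁻¹ := by
    have h7 : Commute u z'⁻¹ := (mem_centralizer_iff.1 (inv_mem hz'.2 : z'⁻¹ ∈ centralizer (WW V (R i) : Set G)) u huW).symm.symm
    rw [h7.eq, mul_inv_cancel_right]
  rw [e2]
  exact inv_mem hz'

end flag

section DS

variable {N : Type u} [AddCommGroup N] [Module F N] {P1 P2 : G → N} [Finite F] [CharP F 2]
variable (q : Fq V R i v M p f e ω σ κ) (b : BT V R) (c : Coord V R i j v w1 w2) (τ : TorD V R i j v t)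
  (y : YPair V R i j w1 w2 N P1 P2) (hF : ∃ a : F, a ≠ 0 ∧ a ≠ 1)

/-- the subspace `D' = D Z(W i) / Z(W i)` -/
def DS : Submodule F M where
  carrier := {x | x ∈ q.toMZ.sb (DD V R)}
  zero_mem' := (q.toMZ.sb (DD V R)).zero_mem
  add_mem' := fun h h' => (q.toMZ.sb (DD V R)).add_mem h h'
  smul_mem' := by
    intro s x hx
    obtain ⟨a, ha, ha1⟩ := hF
    refine q.mem_D_of b c τ y (a := Units.mk0 a ha) ha1 ?_ ?_
    · obtain ⟨d, hd, hdW, rfl⟩ := hx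
      rw [map_smul, (q.mem_P c hdW).2 (b.D_le_U i hd), smul_zero]
    · obtain ⟨γ, hγ⟩ := q.t_D b c τ y (Units.mk0 a ha) hx
      refine ⟨s * γ, ?_⟩
      rw [q.t_smul c τ, ← smul_sub, ← hγ, ← smul_eq_mul, LinearMap.map_smul]

theorem mem_DS {x : M} : x ∈ q.DS b c τ y hF ↔ x ∈ q.toMZ.sb (DD V R) := Iff.rfl

theorem e_mem_DS (γ : F) : e γ ∈ q.DS b c τ y hF := by
  rw [mem_DS, ← q.e_eq 0 γ]
  exact q.toMZ.p_mem (q.hvW c 0 γ) (V_le_D V R (c.v_mem 0 γ))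

theorem DS_le {x : M} (hx : x ∈ q.DS b c τ y hF) : ω x = 0 := by
  obtain ⟨d, hd, hdW, rfl⟩ := hx
  exact (q.mem_P c hdW).2 (b.D_le_U i hd)

theorem DS_iff {a : Fˣ} (ha : (a : F) ≠ 1) {x : M} (hx : ω x = 0) : x ∈ q.DS b c τ y hF ↔
    pr (R i) ⟨t a, τ.normR a.ne_zero⟩ • x - x ∈ LinearMap.range e :=
  ⟨fun h => q.t_D b c τ y a h, fun h => q.mem_D_of b c τ y ha hx h⟩

/-- the coordinate of `P / D'` -/
theorem exists_pi : ∃ π : LinearMap.ker ω →ₗ[F] (N ⧸ N0 b c y), Function.Surjective π ∧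
    (∀ x : LinearMap.ker ω, π x = 0 ↔ (x : M) ∈ q.DS b c τ y hF) ∧
    (∀ u (hu : u ∈ UU V R i) (h : ω (p u) = 0), π ⟨p u, h⟩ = (N0 b c y).mkQ (P1 u)) ∧
    (∀ u (hu : u ∈ UU V R j) (x : M) (h : ω (pr (R i) ⟨u, b.cen_le_N i (UU_le_cen j hu)⟩ • x - x) = 0),
      π ⟨_, h⟩ = ω x • (N0 b c y).mkQ (P2 u)) ∧
    ∀ (a : Fˣ) (x : LinearMap.ker ω) (h : ω (pr (R i) ⟨t a, τ.normR a.ne_zero⟩ • (x : M)) = 0),
      π ⟨_, h⟩ = (a : F) • π x := by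
  have hU : ∀ u ∈ UU V R i, ω (p u) = 0 := fun u hu => (q.mem_P c (UU_le_WW i hu)).2 hu
  have hwd : ∀ u ∈ UU V R i, ∀ u' ∈ UU V R i, p u = p u' → (N0 b c y).mkQ (P1 u) = (N0 b c y).mkQ (P1 u') := by
    intro u hu u' hu' h
    have h1 := (q.toMZ.p_eq_iff (UU_le_WW i hu) (UU_le_WW i hu')).1 h
    have hY := UU_le_YY i hu
    have hY' := UU_le_YY i hu'
    rw [Submodule.mkQ_apply, Submodule.mkQ_apply, Submodule.Quotient.eq]
    refine ⟨_, h1, ?_⟩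
    rw [y.mul1 _ hY _ (inv_mem hY'), y.inv1 hY', sub_eq_add_neg]
  have key : ∀ x : LinearMap.ker ω, ∃ n : N ⧸ N0 b c y, ∀ u ∈ UU V R i, p u = x → (N0 b c y).mkQ (P1 u) = n := by
    rintro ⟨x, hx⟩
    obtain ⟨u, hu, huW, rfl⟩ := (q.mem_P' c).1 hx
    exact ⟨_, fun u' hu' h => hwd u' hu' u hu h⟩
  choose π0 hπ0 using key
  have hadd : ∀ x x', π0 (x + x') = π0 x + π0 x' := by
    rintro ⟨x, hx⟩ ⟨x', hx'⟩
    obtain ⟨u, hu, huW, rfl⟩ := (q.mem_P' c).1 hx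
    obtain ⟨u', hu', huW', rfl⟩ := (q.mem_P' c).1 hx'
    rw [← hπ0 ⟨p u, hx⟩ u hu rfl, ← hπ0 ⟨p u', hx'⟩ u' hu' rfl, ← map_add,
      ← y.mul1 u (UU_le_YY i hu) u' (UU_le_YY i hu')]
    refine (hπ0 _ _ (mul_mem hu hu') ?_).symm
    exact q.p_mul u huW u' huW'
  have hker : ∀ x : LinearMap.ker ω, π0 x = 0 ↔ (x : M) ∈ q.DS b c τ y hF := by
    rintro ⟨x, hx⟩
    obtain ⟨u, hu, huW, rfl⟩ := (q.mem_P' c).1 hx
    rw [← hπ0 ⟨p u, hx⟩ u hu rfl, Submodule.mkQ_apply, Submodule.Quotient.mk_eq_zero]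
    constructor
    · rintro ⟨z, hz, hz'⟩
      have hzU := zU_le i hz
      have hzY := UU_le_YY i hzU
      have huY := UU_le_YY i hu
      have h6 : u * z⁻¹ ∈ DD V R := by
        rw [y.mem_D _ (mul_mem huY (inv_mem hzY)), y.mul1 _ huY _ (inv_mem hzY),
          y.mul2 _ huY _ (inv_mem hzY), y.inv1 hzY, y.inv2 hzY, hz',
          (y.mem_U1 _ huY).1 hu, (y.mem_U1 _ hzY).1 hzU]
        simp
      refine ⟨u * z⁻¹, h6, D_le_W V R i h6, ?_⟩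
      rw [q.toMZ.p_eq_iff (D_le_W V R i h6) huW]
      have h7 : Commute u z⁻¹ := (mem_centralizer_iff.1 (inv_mem hz.2 : z⁻¹ ∈ centralizer (WW V (R i) : Set G)) u huW)
      rw [h7.eq, mul_inv_cancel_right]
      exact inv_mem hz
    · rintro ⟨d, hd, hdW, h⟩
      have h1 := (q.toMZ.p_eq_iff huW hdW).1 h.symm
      refine ⟨_, h1, ?_⟩
      have hdY := b.D_le_Y hd
      rw [y.mul1 _ (UU_le_YY i hu) _ (inv_mem hdY), y.inv1 hdY, ((y.mem_D _ hdY).1 hd).1, neg_zero, add_zero]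
  have hA : ∀ u (hu : u ∈ UU V R j) (x : M)
      (h : ω (pr (R i) ⟨u, b.cen_le_N i (UU_le_cen j hu)⟩ • x - x) = 0),
      π0 ⟨_, h⟩ = ω x • (N0 b c y).mkQ (P2 u) := by
    intro u hu x h
    obtain ⟨g, hg, rfl⟩ := q.p_surj x
    obtain ⟨h1, h2⟩ := P1_comm b c y hu hg (q.ω_eq g hg)
    rw [← map_smul, ← h2]
    exact (hπ0 _ _ h1 (q.toMZ.smul_sub _ hg).symm).symm
  have hsurj : Function.Surjective π0 := by
    intro n
    obtain ⟨n, rfl⟩ := (N0 b c y).mkQ_surjective n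
    obtain ⟨u, hu, h1, h2⟩ := y.surj n 0
    have hu' := (y.mem_U1 u hu).2 h2
    exact ⟨⟨p u, hU u hu'⟩, by rw [← hπ0 _ u hu' rfl, h1]⟩
  have hz0 : π0 0 = 0 := by
    have := hadd 0 0
    rw [add_zero] at this
    exact left_eq_add.1 this
  have hneg : ∀ x, π0 (-x) = - π0 x := fun x => by
    rw [eq_neg_iff_add_eq_zero, ← hadd, neg_add_cancel, hz0]
  -- linearity
  have hsm : ∀ (s : F) (x : LinearMap.ker ω), π0 (s • x) = s • π0 x := by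
    intro s x
    obtain ⟨n, hn⟩ := (N0 b c y).mkQ_surjective (π0 x)
    obtain ⟨u, huY, hu1, hu2⟩ := y.surj 0 n
    have hu := (y.mem_U2 u huY).2 hu1
    set g := pr (R i) ⟨u, b.cen_le_N i (UU_le_cen j hu)⟩ with hg
    have hgH : g ∈ H0 R i := q.cenV_H0 c _ (UU_le_cen j hu)
    have hgω : ∀ m, ω (g • m - m) = 0 := fun m => by
      rw [map_sub, q.cenV_ω c _ (UU_le_cen j hu), sub_self]
    have h1 := hA u hu (p (w1 1)) (hgω _)
    rw [q.ω_w1 c, one_smul, hu2, hn] at h1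
    have h2 := hA u hu (s • p (w1 1)) (hgω _)
    rw [map_smul, q.ω_w1 c, smul_eq_mul, mul_one, hu2, hn] at h2
    have h3 : ((x - ⟨_, hgω (p (w1 1))⟩ : LinearMap.ker ω) : M) ∈ q.DS b c τ y hF := by
      rw [← hker, sub_eq_add_neg, hadd, hneg, h1, add_neg_cancel]
    have h4 := (q.DS b c τ y hF).smul_mem s h3
    have h5 : π0 (s • (x - ⟨_, hgω (p (w1 1))⟩)) = 0 := by rw [hker]; exact h4
    rw [smul_sub, sub_eq_add_neg, hadd, hneg] at h5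
    have h6 : s • (⟨_, hgω (p (w1 1))⟩ : LinearMap.ker ω) = ⟨_, hgω (s • p (w1 1))⟩ := by
      apply Subtype.ext
      change s • (g • p (w1 1) - p (w1 1)) = g • (s • p (w1 1)) - s • p (w1 1)
      rw [q.H0_smul c hgH, smul_sub]
    rw [h6, h2, add_neg_eq_zero] at h5
    exact h5
  refine ⟨{ toFun := π0, map_add' := hadd, map_smul' := hsm }, hsurj, hker, fun u hu h => (hπ0 _ u hu rfl).symm, hA, ?_⟩
  rintro a ⟨x, hx⟩ h
  change π0 _ = (a : F) • π0 _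
  obtain ⟨u, hu, huW, rfl⟩ := (q.mem_P' c).1 hx
  have h1 : t a * u * (t a)⁻¹ ∈ UU V R i := by
    rw [← b.cj_UU (b.X_le_NV (τ.memX _ a.ne_zero)) (cj_eq_self_iff.2 (τ.normR a.ne_zero))]
    exact conj_mem_cj hu
  rw [← hπ0 ⟨p u, hx⟩ u hu rfl, ← map_smul, ← (t_Y b c τ y a.ne_zero (UU_le_YY i hu)).1]
  refine (hπ0 _ _ h1 ?_).symm
  exact (q.p_act _ _ _ huW).symm

end DS

section lam

variable {N : Type u} [AddCommGroup N] [Module F N] {P1 P2 : G → N} [Finite F] [CharP F 2]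
variable (q : Fq V R i v M p f e ω σ κ) (b : BTS V R) (c : Coord V R i j v w1 w2) (τ : TorD V R i j v t)
  (y : YPair V R i j w1 w2 N P1 P2) (hF : ∃ a : F, a ≠ 0 ∧ a ≠ 1)

include q b c y in
theorem lam_wd {d d' : G} (hd : d ∈ DD V R) (hd' : d' ∈ DD V R) (h : p d = p d') :
    y.lam b.toBT c d = y.lam b.toBT c d' := by
  have h1 := (q.toMZ.p_eq_iff (D_le_W V R i hd) (D_le_W V R i hd')).1 h
  have h2 : y.lam b.toBT c (d * d'⁻¹) = 0 := by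
    rw [y.lam_eq_zero b.toBT c (mul_mem hd (inv_mem hd'))]
    obtain ⟨a, ha, h3⟩ := b.cen_DW (mul_mem hd (inv_mem hd')) h1.2
    have h4 : a⁻¹ ∈ centralizer (YY V R : Set G) := by
      rw [mem_centralizer_iff]
      intro z hz
      exact (mem_centralizer_iff.1 (YY_le_cen hz) _ (inv_mem (b.R_le i ha))).symm
    have h5 : a * (d * d'⁻¹) ∈ centralizer (YY V R : Set G) := by
      rw [mem_centralizer_iff]
      intro z hz
      exact mem_centralizer_iff.1 h3.2 z (YY_le_XX hz)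
    have h6 := mul_mem h4 h5
    rwa [inv_mul_cancel_left] at h6
  have e1 : d = (d * d'⁻¹) * d' := by group
  rw [e1, y.lam_mul b.toBT c (mul_mem hd (inv_mem hd')) hd', h2, zero_add]

/-- `λ : D' → N*` -/
theorem exists_lam : ∃ Λ : q.DS b.toBT c τ y hF →ₗ[F] (N →ₗ[F] F),
    (∀ d (hd : d ∈ DD V R) (h : p d ∈ q.DS b.toBT c τ y hF), Λ ⟨p d, h⟩ = y.lam b.toBT c d) ∧
    (∀ x n, n ∈ N0 b.toBT c y → Λ x n = 0) ∧
    (∀ x, Λ x = 0 ↔ (x : M) ∈ LinearMap.range e) ∧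
    (∀ u (hu : u ∈ UU V R j) (x : q.DS b.toBT c τ y hF),
      pr (R i) ⟨u, b.cen_le_N i (UU_le_cen j hu)⟩ • (x : M) - x = e (Λ x (P2 u))) ∧
    (∀ (x : q.DS b.toBT c τ y hF) (x' : M) (u : G), u ∈ UU V R i → p u = x' → f x x' = Λ x (P1 u)) := by
  have key : ∀ x : q.DS b.toBT c τ y hF, ∃ l : N →ₗ[F] F, ∀ d ∈ DD V R, p d = x → y.lam b.toBT c d = l := by
    rintro ⟨x, d, hd, hdW, rfl⟩
    exact ⟨_, fun d' hd' h => q.lam_wd b c y hd' hd h⟩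
  choose Λ hΛ using key
  have hadd : ∀ x x', Λ (x + x') = Λ x + Λ x' := by
    rintro ⟨_, d, hd, hdW, rfl⟩ ⟨_, d', hd', hdW', rfl⟩
    rw [← hΛ ⟨p d, d, hd, hdW, rfl⟩ d hd rfl, ← hΛ ⟨p d', d', hd', hdW', rfl⟩ d' hd' rfl,
      ← y.lam_mul b.toBT c hd hd']
    exact (hΛ _ _ (mul_mem hd hd') (q.p_mul d hdW d' hdW')).symm
  have hA : ∀ u (hu : u ∈ UU V R j) (x : q.DS b.toBT c τ y hF),
      pr (R i) ⟨u, b.cen_le_N i (UU_le_cen j hu)⟩ • (x : M) - x = e (Λ x (P2 u)) := by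
    rintro u hu ⟨_, d, hd, hdW, rfl⟩
    have huY := UU_le_YY j hu
    rw [← hΛ ⟨p d, d, hd, hdW, rfl⟩ d hd rfl]
    change pr (R i) _ • p d - p d = _
    rw [q.toMZ.smul_sub _ hdW]
    have hP1 : P1 u = 0 := (y.mem_U2 _ huY).1 hu
    have h1 := y.lam_spec b.toBT c hd huY
    rw [hP1, map_zero] at h1
    have e1 : u * d * u⁻¹ * d⁻¹ = (d * u * d⁻¹ * u⁻¹)⁻¹ := by group
    rw [e1, h1, b.inv_eq (c.v_mem _ _), q.e_eq]
  have hsm : ∀ (s : F) x, Λ (s • x) = s • Λ x := by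
    intro s x
    ext n
    obtain ⟨u, huY, hu1, hu2⟩ := y.surj 0 n
    have hu := (y.mem_U2 u huY).2 hu1
    have h1 := hA u hu x
    have h2 := hA u hu (s • x)
    rw [hu2] at h1 h2
    apply q.e_inj c b.toBT
    rw [← h2, LinearMap.smul_apply, LinearMap.map_smul, ← h1]
    change pr (R i) _ • (s • (x : M)) - s • (x : M) = _
    rw [q.H0_smul c (q.cenV_H0 c _ (UU_le_cen j hu)), smul_sub]
  refine ⟨{ toFun := Λ, map_add' := hadd, map_smul' := hsm }, fun d hd h => (hΛ _ d hd rfl).symm, ?_, ?_, hA, ?_⟩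
  · rintro ⟨x, d, hd, hdW, rfl⟩ n hn
    change Λ _ n = 0
    rw [← hΛ ⟨p d, d, hd, hdW, rfl⟩ d hd rfl]
    exact lam_N0 b.toBT c y hd hn
  · rintro ⟨x, d, hd, hdW, rfl⟩
    change Λ _ = 0 ↔ p d ∈ LinearMap.range e
    rw [← hΛ ⟨p d, d, hd, hdW, rfl⟩ d hd rfl, y.lam_eq_zero b.toBT c hd, q.mem_e c]
    constructor
    · intro h
      obtain ⟨v', hv', h1⟩ := b.lam_inj hd (fun z hz => by
        rw [← mem_centralizer_iff.1 h z hz, mul_inv_cancel_right, mul_inv_cancel])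
      refine ⟨v'⁻¹, inv_mem hv', V_le_WW V (R i) (inv_mem hv'), ?_⟩
      rw [q.toMZ.p_eq_iff (V_le_WW V (R i) (inv_mem hv')) hdW]
      have h2 : (v'⁻¹ * d⁻¹)⁻¹ ∈ ZZ V R i := by
        have h3 : d * v' = v' * d := (mem_centralizer_iff.1 (b.D_le_cen hd) v' hv').symm
        rw [mul_inv_rev, inv_inv, inv_inv, h3]
        exact mem_inf.2 ⟨D_le_W V R i h1.1, cen_X_le i h1.2⟩
      have := inv_mem h2
      rwa [inv_inv] at this
    · rintro ⟨v', hv', hvW, h⟩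
      have h1 := q.lam_wd b c y (V_le_D V R hv') hd h
      rw [y.lam_V b.toBT c hv'] at h1
      exact (y.lam_eq_zero b.toBT c hd).1 h1.symm
  · rintro ⟨x, d, hd, hdW, rfl⟩ x' u hu rfl
    have huY := UU_le_YY i hu
    change f (p d) (p u) = Λ _ (P1 u)
    rw [← hΛ ⟨p d, d, hd, hdW, rfl⟩ d hd rfl]
    have h1 := y.lam_spec b.toBT c hd huY
    rw [(y.mem_U1 _ huY).1 hu, map_zero, q.f_eq d hdW u (UU_le_WW i hu)] at h1
    exact (c.v_inj h1).1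

end lam

end Fq

end Cfsg.Agent.Omega.HOne.ModZ
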