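import Mathlib

/-!
# `M = W / Z(W)` is an `F`-space and the commutator form is `F`-bilinear (II.a and II.0h1, all `q ≥ 4`), abstract form

`H` acts on `M` and (through `ρ`) on `R = F`, `f : M × M → F` symmetric nondegenerate, `e : F → M` the line, `ω` its
coordinate functional; `M` is generated by the conjugates of the line. `t` the torus, `A` a set of elements of `H` acting
trivially on `R`, `D` the T-trivial part modulo `e`. No connectedness, no components, no weights.

`Dat.semi`: every element of `H` acts on `R = F` semilinearly; `Dat.exists_module`: the `F`-structure on `M`.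
-/

set_option autoImplicit false

namespace Cfsg.Agent.Omega.HOne.FqMod

variable {H : Type*} [Group H] {M : Type*} [AddCommGroup M] [DistribMulAction H M] {F : Type*} [Field F]

/-- the data -/
structure Dat (ρ : H → F ≃+ F) (f : M →+ M →+ F) (e : F →+ M) (ω : M →+ F) (t : Fˣ → H) (A : Set H)
    (D : AddSubgroup M) : Prop where
  ρone : ∀ b, ρ 1 b = b
  ρmul : ∀ h h' b, ρ (h * h') b = ρ h (ρ h' b)
  symm : ∀ x y, f x y = f y x
  nd : ∀ x, (∀ y, f x y = 0) → x = 0
  act : ∀ (h : H) x y, f (h • x) (h • y) = ρ h (f x y)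
  fe : ∀ x γ, f x (e γ) = ω x * γ
  span : ∀ L : AddSubgroup M, (∀ (h : H) γ, h • e γ ∈ L) → L = ⊤
  ωne : ∃ x, ω x ≠ 0
  tρ : ∀ (a : Fˣ) b, ρ (t a) b = a * b
  te : ∀ (a : Fˣ) γ, ∃ γ', t a • e γ = e γ'
  tD : ∀ (a : Fˣ), ∀ d ∈ D, ∃ γ, t a • d - d = e γ
  Aρ : ∀ h ∈ A, ∀ b, ρ h b = b
  surj : ∀ m, ω m ≠ 0 → ∀ x, ω x = 0 → ∃ a ∈ A, x - (a • m - m) ∈ D

/-- `h` acts semilinearly on `F` -/
def Semi (ρ : H → F ≃+ F) (h : H) : Prop := ∀ a, ∃ c, ∀ b, ρ h (a * b) = c * ρ h b

theorem Semi.surj [Finite F] {ρ : H → F ≃+ F} {h : H} (hs : Semi ρ h) (c : F) :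
    ∃ a, ∀ b, ρ h (a * b) = c * ρ h b := by
  choose μ hμ using hs
  have hinj : Function.Injective μ := by
    intro a a' h1
    have h2 := hμ a 1
    rw [h1, ← hμ a' 1, mul_one, mul_one] at h2
    exact (ρ h).injective h2
  obtain ⟨a, rfl⟩ := (Finite.injective_iff_surjective.1 hinj) c
  exact ⟨a, hμ a⟩

namespace Dat

variable {ρ : H → F ≃+ F} {f : M →+ M →+ F} {e : F →+ M} {ω : M →+ F} {t : Fˣ → H} {A : Set H}
  {D : AddSubgroup M} (d : Dat ρ f e ω t A D)
include d

theorem one_ne : e 1 ≠ 0 := by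
  intro h
  obtain ⟨x, hx⟩ := d.ωne
  have h1 := d.fe x 1
  rw [h, map_zero, mul_one] at h1
  exact hx h1.symm

/-- the form between two conjugates of the line -/
theorem fee (h h' : H) (γ γ' : F) : f (h • e γ) (h' • e γ') = ρ h' (ω (h'⁻¹ • h • e γ) * γ') := by
  rw [← d.fe, ← d.act, smul_inv_smul]

/-- a conjugate of `e` over a semilinear element is orthogonal to a conjugate over a non-semilinear element -/
theorem orth [Finite F] {h h' : H} (hs : Semi ρ h) (hs' : ¬ Semi ρ h') (γ γ' : F) :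
    f (h • e γ) (h' • e γ') = 0 := by
  by_contra hne
  apply hs'
  -- `g γ γ'`
  have k1 : ∀ x y, f (h • e x) (h' • e y) = ρ h' (ω (h'⁻¹ • h • e x) * y) := d.fee h h'
  have k2 : ∀ x y, f (h • e x) (h' • e y) = ρ h (ω (h⁻¹ • h' • e y) * x) := by
    intro x y
    rw [d.symm, d.fee]
  have hs0 : ω (h'⁻¹ • h • e γ) ≠ 0 := by
    intro h0
    apply hne
    rw [k1, h0, zero_mul, map_zero]
  have hsurj : ∀ b, ∃ y, f (h • e γ) (h' • e y) = b := by
    intro b
    refine ⟨(ω (h'⁻¹ • h • e γ))⁻¹ * (ρ h').symm b, ?_⟩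
    rw [k1, mul_inv_cancel_left₀ hs0]
    exact (ρ h').apply_symm_apply b
  intro a'
  -- `T b = ρ h' (a' * ρ h'⁻¹ b)`
  have hT : ∀ x y, f (h • e x) (h' • e (a' * y)) = ρ h' (a' * (ρ h').symm (f (h • e x) (h' • e y))) := by
    intro x y
    rw [k1, k1, AddEquiv.symm_apply_apply]
    congr 1
    ring
  have hcomm : ∀ c b, ρ h' (a' * (ρ h').symm (c * b)) = c * ρ h' (a' * (ρ h').symm b) := by
    intro c b
    obtain ⟨a, ha⟩ := hs.surj c
    obtain ⟨y, rfl⟩ := hsurj b
    have h3 : ∀ y, f (h • e (a * γ)) (h' • e y) = c * f (h • e γ) (h' • e y) := by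
      intro y
      rw [k2, k2, ← ha]
      congr 1
      ring
    rw [← h3, ← hT, ← hT, h3]
  refine ⟨ρ h' (a' * (ρ h').symm 1), fun b => ?_⟩
  have h4 := hcomm (ρ h' b) 1
  rw [mul_one, AddEquiv.symm_apply_apply] at h4
  rw [h4, mul_comm]

/-- **one field**: every element of `H` acts semilinearly on `R = F` -/
theorem semi [Finite F] (hF : ∃ a : F, a ≠ 0 ∧ a ≠ 1) (h0 : H) : Semi ρ h0 := by
  by_contra hc
  obtain ⟨a, ha, ha1⟩ := hF
  let S1 : Set M := {x | ∃ h γ, Semi ρ h ∧ x = h • e γ}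
  let S2 : Set M := {x | ∃ h γ, ¬ Semi ρ h ∧ x = h • e γ}
  set M1 := AddSubgroup.closure S1 with hM1
  set M2 := AddSubgroup.closure S2 with hM2
  have horth : ∀ x ∈ M1, ∀ y ∈ M2, f x y = 0 := by
    intro x hx y hy
    induction hx using AddSubgroup.closure_induction with
    | mem x hx =>
      obtain ⟨h, γ, hs, rfl⟩ := hx
      induction hy using AddSubgroup.closure_induction with
      | mem y hy =>
        obtain ⟨h', γ', hs', rfl⟩ := hy
        exact d.orth hs hs' γ γ'
      | zero => exact map_zero _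
      | add y z _ _ hy hz => rw [map_add, hy, hz, add_zero]
      | neg y _ hy => rw [map_neg, hy, neg_zero]
    | zero => rw [map_zero]; rfl
    | add x z _ _ hx hz => rw [map_add, AddMonoidHom.add_apply, hx, hz, add_zero]
    | neg x _ hx => rw [map_neg, AddMonoidHom.neg_apply, hx, neg_zero]
  have htop : M1 ⊔ M2 = ⊤ := d.span _ (fun h γ => by
    by_cases hs : Semi ρ h
    · exact AddSubgroup.mem_sup_left (AddSubgroup.subset_closure ⟨h, γ, hs, rfl⟩)
    · exact AddSubgroup.mem_sup_right (AddSubgroup.subset_closure ⟨h, γ, hs, rfl⟩))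
  have hzero : ∀ x ∈ M2, (∀ y ∈ M2, f x y = 0) → x = 0 := by
    intro x hx h
    apply d.nd
    intro y
    have hy : y ∈ M1 ⊔ M2 := by rw [htop]; trivial
    obtain ⟨y1, hy1, y2, hy2, rfl⟩ := AddSubgroup.mem_sup.1 hy
    rw [map_add, h y2 hy2, d.symm, horth y1 hy1 x hx, add_zero]
  have hs1 : Semi ρ (1 : H) := fun a => ⟨a, fun b => by rw [d.ρone, d.ρone]⟩
  have heM1 : ∀ γ, e γ ∈ M1 := fun γ => AddSubgroup.subset_closure ⟨1, γ, hs1, (one_smul _ _).symm⟩
  have hst : ∀ (a : Fˣ) h, Semi ρ (t a * h) ↔ Semi ρ h := by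
    intro a h
    have k : ∀ b, ρ (t a * h) b = a * ρ h b := by
      intro b
      rw [d.ρmul]
      exact d.tρ a _
    constructor
    · intro hs x
      obtain ⟨c, hc⟩ := hs x
      refine ⟨c, fun b => ?_⟩
      have h1 := hc b
      rw [k, k] at h1
      exact mul_left_cancel₀ a.ne_zero (h1.trans (mul_left_comm _ _ _))
    · intro hs x
      obtain ⟨c, hc⟩ := hs x
      refine ⟨c, fun b => ?_⟩
      rw [k, k, hc, mul_left_comm]
  have hsA : ∀ g ∈ A, ∀ h, Semi ρ h → Semi ρ (g * h) := by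
    intro g hg h hs x
    obtain ⟨c, hc⟩ := hs x
    refine ⟨c, fun b => ?_⟩
    rw [d.ρmul, d.ρmul, d.Aρ g hg, d.Aρ g hg, hc]
  have hAM1 : ∀ g ∈ A, ∀ x ∈ M1, g • x ∈ M1 := by
    intro g hg x hx
    induction hx using AddSubgroup.closure_induction with
    | mem x hx =>
      obtain ⟨h, γ, hs, rfl⟩ := hx
      exact AddSubgroup.subset_closure ⟨g * h, γ, hsA g hg h hs, (mul_smul _ _ _).symm⟩
    | zero => rw [smul_zero]; exact zero_mem _
    | add x z _ _ hx hz => rw [smul_add]; exact add_mem hx hz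
    | neg x _ hx => rw [smul_neg]; exact neg_mem hx
  have htM1 : ∀ (a : Fˣ), ∀ x ∈ M1, t a • x ∈ M1 := by
    intro a x hx
    induction hx using AddSubgroup.closure_induction with
    | mem x hx =>
      obtain ⟨h, γ, hs, rfl⟩ := hx
      exact AddSubgroup.subset_closure ⟨t a * h, γ, (hst a h).2 hs, (mul_smul _ _ _).symm⟩
    | zero => rw [smul_zero]; exact zero_mem _
    | add x z _ _ hx hz => rw [smul_add]; exact add_mem hx hz
    | neg x _ hx => rw [smul_neg]; exact neg_mem hx
  have htM2 : ∀ (a : Fˣ), ∀ x ∈ M2, t a • x ∈ M2 := by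
    intro a x hx
    induction hx using AddSubgroup.closure_induction with
    | mem x hx =>
      obtain ⟨h, γ, hs, rfl⟩ := hx
      exact AddSubgroup.subset_closure ⟨t a * h, γ, fun h1 => hs ((hst a h).1 h1), (mul_smul _ _ _).symm⟩
    | zero => rw [smul_zero]; exact zero_mem _
    | add x z _ _ hx hz => rw [smul_add]; exact add_mem hx hz
    | neg x _ hx => rw [smul_neg]; exact neg_mem hx
  have hω2 : ∀ y ∈ M2, ω y = 0 := by
    intro y hy
    have h1 := d.fe y 1
    rw [d.symm, horth _ (heM1 1) y hy, mul_one] at h1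
    exact h1.symm
  -- an element of `M1` outside `P`
  obtain ⟨m, hm, hmω⟩ : ∃ m ∈ M1, ω m ≠ 0 := by
    obtain ⟨x, hx⟩ := d.ωne
    have hx' : x ∈ M1 ⊔ M2 := by rw [htop]; trivial
    obtain ⟨x1, hx1, x2, hx2, rfl⟩ := AddSubgroup.mem_sup.1 hx'
    rw [map_add, hω2 x2 hx2, add_zero] at hx
    exact ⟨x1, hx1, hx⟩
  let a' : Fˣ := Units.mk0 a ha
  -- `T` centralises `M2`
  have hfix : ∀ y ∈ M2, t a' • y = y := by
    intro y hy
    obtain ⟨g, hg, hD⟩ := d.surj m hmω y (hω2 y hy)
    set x := g • m - m with hx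
    have hxM : x ∈ M1 := sub_mem (hAM1 g hg m hm) hm
    obtain ⟨γ, hγ⟩ := d.tD a' _ hD
    have h1 : t a' • y - y ∈ M1 := by
      have e1 : t a' • y - y = (t a' • x - x) + (t a' • (y - x) - (y - x)) := by
        rw [smul_sub (t a') y x]; abel
      rw [e1, hγ]
      exact add_mem (sub_mem (htM1 a' x hxM) hxM) (heM1 γ)
    have h2 : t a' • y - y ∈ M2 := sub_mem (htM2 a' y hy) hy
    have h3 := hzero _ h2 (fun z hz => horth _ h1 z hz)
    exact sub_eq_zero.1 h3
  have h5 : ∀ y ∈ M2, y = 0 := by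
    intro y hy
    refine hzero y hy (fun z hz => ?_)
    have h1 := d.act (t a') y z
    rw [hfix y hy, hfix z hz, d.tρ] at h1
    have h2 : (a - 1) * f y z = 0 := by
      rw [sub_mul, one_mul, sub_eq_zero]
      exact h1.symm
    exact (mul_eq_zero.1 h2).resolve_left (sub_ne_zero.2 ha1)
  have h6 := h5 (h0 • e 1) (AddSubgroup.subset_closure ⟨h0, 1, hc, rfl⟩)
  rw [smul_eq_zero_iff_eq] at h6
  exact d.one_ne h6

/-- the field automorphism induced by `h` -/
theorem exists_sigma [Finite F] (hF : ∃ a : F, a ≠ 0 ∧ a ≠ 1) :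
    ∃ σ : H →* RingAut F, ∀ h a b, ρ h (a * b) = σ h a * ρ h b := by
  have hne : ∀ h, ρ h 1 ≠ 0 := fun h h0 => one_ne_zero ((ρ h).map_eq_zero_iff.1 h0)
  choose μ hμ using fun h => d.semi hF h
  have hinj : ∀ h, Function.Injective (μ h) := by
    intro h a a' h1
    have h2 := hμ h a 1
    rw [h1, ← hμ h a' 1, mul_one, mul_one] at h2
    exact (ρ h).injective h2
  have hu : ∀ h a c, (∀ b, ρ h (a * b) = c * ρ h b) → μ h a = c := by
    intro h a c hc
    have h1 := hμ h a 1
    rw [hc] at h1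
    exact (mul_right_cancel₀ (hne h) h1).symm
  have hmul : ∀ h a a', μ h (a * a') = μ h a * μ h a' := by
    intro h a a'
    apply hu
    intro b
    rw [mul_assoc, hμ, hμ, mul_assoc]
  have hadd : ∀ h a a', μ h (a + a') = μ h a + μ h a' := by
    intro h a a'
    apply hu
    intro b
    rw [add_mul, map_add, hμ, hμ, add_mul]
  have hmm : ∀ h h' a, μ (h * h') a = μ h (μ h' a) := by
    intro h h' a
    apply hu
    intro b
    rw [d.ρmul, d.ρmul, hμ, hμ]
  have hbij : ∀ h, Function.Bijective (μ h) := fun h => ⟨hinj h, Finite.injective_iff_surjective.1 (hinj h)⟩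
  let σ0 : H → (F ≃+* F) := fun h =>
    { Equiv.ofBijective (μ h) (hbij h) with
      map_mul' := hmul h
      map_add' := hadd h }
  refine ⟨MonoidHom.mk' σ0 (fun h h' => RingEquiv.ext (hmm h h')), hμ⟩

/-- **the `F`-structure on `M`** -/
theorem exists_module [Finite F] (hF : ∃ a : F, a ≠ 0 ∧ a ≠ 1) :
    ∃ (_ : Module F M) (σ : H →* RingAut F),
      (∀ (a : F) x y, f (a • x) y = a * f x y) ∧ (∀ (a : F) x y, f x (a • y) = a * f x y) ∧
      (∀ h a b, ρ h (a * b) = σ h a * ρ h b) ∧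
      (∀ (h : H) (a : F) (x : M), h • (a • x) = σ h a • (h • x)) ∧
      (∀ a γ : F, e (a * γ) = a • e γ) ∧ (∀ (a : F) x, ω (a • x) = a * ω x) ∧
      (∀ h : H, (∀ b, ρ h b = b) → σ h = 1) ∧ ∀ a : Fˣ, σ (t a) = 1 := by
  obtain ⟨σ, hσ⟩ := d.exists_sigma hF
  have hex : ∀ (a : F) (x : M), ∃ x', ∀ y, f x' y = a * f x y := by
    let L : AddSubgroup M :=
      { carrier := {x | ∀ a : F, ∃ x', ∀ y, f x' y = a * f x y}
        zero_mem' := fun a => ⟨0, fun y => by rw [map_zero, AddMonoidHom.zero_apply, mul_zero]⟩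
        add_mem' := by
          intro x z hx hz a
          obtain ⟨x', hx'⟩ := hx a
          obtain ⟨z', hz'⟩ := hz a
          exact ⟨x' + z', fun y => by
            rw [map_add, map_add, AddMonoidHom.add_apply, AddMonoidHom.add_apply, hx', hz', mul_add]⟩
        neg_mem' := by
          intro x hx a
          obtain ⟨x', hx'⟩ := hx a
          exact ⟨-x', fun y => by
            rw [map_neg, map_neg, AddMonoidHom.neg_apply, AddMonoidHom.neg_apply, hx', mul_neg]⟩ }
    have hL : L = ⊤ := d.span L (by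
      intro h γ a
      refine ⟨h • e ((σ h).symm a * γ), fun y => ?_⟩
      rw [d.symm, d.symm (h • e γ) y]
      have k : ∀ x, f y (h • e x) = ρ h (ω (h⁻¹ • y) * x) := by
        intro x
        rw [← d.fe, ← d.act, smul_inv_smul]
      rw [k, k, show ω (h⁻¹ • y) * ((σ h).symm a * γ) = (σ h).symm a * (ω (h⁻¹ • y) * γ) by ring, hσ,
        RingEquiv.apply_symm_apply])
    intro a x
    have : x ∈ L := by rw [hL]; trivial
    exact this a
  choose sm hsm using hex
  have hu : ∀ x x' : M, (∀ y, f x y = f x' y) → x = x' := by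
    intro x x' h
    rw [← sub_eq_zero]
    apply d.nd
    intro y
    rw [map_sub, AddMonoidHom.sub_apply, h, sub_self]
  let md : Module F M :=
    { smul := sm
      one_smul := fun x => hu _ _ fun y => by
        change f (sm 1 x) y = _
        rw [hsm, one_mul]
      mul_smul := fun a b x => hu _ _ fun y => by
        change f (sm (a * b) x) y = f (sm a (sm b x)) y
        rw [hsm, hsm, hsm, mul_assoc]
      smul_zero := fun a => hu _ _ fun y => by
        change f (sm a 0) y = _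
        rw [hsm, map_zero, AddMonoidHom.zero_apply, mul_zero]
      smul_add := fun a x z => hu _ _ fun y => by
        change f (sm a (x + z)) y = f (sm a x + sm a z) y
        rw [hsm, map_add, map_add, AddMonoidHom.add_apply, AddMonoidHom.add_apply, hsm, hsm, mul_add]
      add_smul := fun a b x => hu _ _ fun y => by
        change f (sm (a + b) x) y = f (sm a x + sm b x) y
        rw [hsm, map_add, AddMonoidHom.add_apply, hsm, hsm, add_mul]
      zero_smul := fun x => hu _ _ fun y => by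
        change f (sm 0 x) y = _
        rw [hsm, zero_mul, map_zero, AddMonoidHom.zero_apply] }
  have hl : ∀ (a : F) x y, f (a • x) y = a * f x y := hsm
  have hr : ∀ (a : F) x y, f x (a • y) = a * f x y := fun a x y => by
    rw [d.symm, hl, d.symm]
  have hact : ∀ (h : H) (a : F) (x : M), h • (a • x) = σ h a • (h • x) := by
    intro h a x
    apply hu
    intro y
    rw [← smul_inv_smul h y, d.act, hl, hσ, hl, d.act]
  refine ⟨md, σ, hl, hr, hσ, hact, ?_, ?_, ?_, ?_⟩
  · intro a γ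
    apply hu
    intro y
    rw [d.symm, d.fe, hl, d.symm, d.fe]
    ring
  · intro a x
    have h1 := d.fe (a • x) 1
    rw [hl, d.fe, mul_one, mul_one] at h1
    exact h1.symm
  · intro h hh
    apply RingEquiv.ext
    intro a
    have h1 := hσ h a 1
    rw [hh, hh, mul_one, mul_one] at h1
    exact h1.symm
  · intro a
    apply RingEquiv.ext
    intro x
    have h1 := hσ (t a) x 1
    rw [d.tρ, d.tρ, mul_one, mul_one, mul_comm] at h1
    exact (mul_right_cancel₀ a.ne_zero h1).symm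

end Dat

end Cfsg.Agent.Omega.HOne.FqMod
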