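import Cfsg.Agent.Omega.HOne.TvTail
import Cfsg.Agent.Omega.HOne.TvThirteen

/-!
# II.0h1, `q = 2`, case (β): (11) of #15959 with a variable `c` (helper865)

All pairs of lines are opposite.

* `factF`  : FACT F (helper916);
* `star`   : `g ∈ N r` moves `s` iff it moves `s ^ m`, `m ∈ N x`, `x ~ r`;
* `exists_sfix` : a point `s₀ ~ t` with `C_{N r}(s₀)` invariant under `S` and `c(t; r, s₀)` fixed by `S`;
* `jEleven`: JOINT (11) from `TvH`, `TvS` and `Q r ≤ S`.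
-/

set_option autoImplicit false
set_option linter.unusedSectionVars false

namespace Cfsg.Agent.Omega.HOne.TvDef

open Subgroup

variable {G : Type*} [Group G] {M S : Subgroup G} {r t : G} {Q N : G → Subgroup G}

namespace TvH

variable (h : TvH M r t Q N)
include h

theorem comm_of_conj {g x : G} (hx : g * x * g⁻¹ = x) : g * x = x * g := mul_inv_eq_iff_eq_mul.1 hx

/-- **FACT F.** -/
theorem factF (hO : JOpp M r t Q N) (hA : AllOpp M r t N) {x y b : G} (hx : Adj M r t r x) (hy : Adj M r t r y)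
    (hb : b ∈ ZC Q r) (hby : b ∈ ZC Q y) : r * b ∉ ZC Q x := by
  intro hrb
  have hnb : b ∉ ZC Q x := fun h1 => h.not_both hx ((mul_mem_cancel_right h1).1 hrb)
  by_cases h1 : y = x
  · exact hnb (h1 ▸ hby)
  by_cases h2 : y = r * x
  · apply hnb
    have h3 := h.Adj_CV hy hb hby
    rwa [h2, h.mul_cancel hx.left] at h3
  have ho := hA r x y hx hy h1 h2
  obtain ⟨hsymm, -, -, -, -, d, -, -, -, -, -, -, -, hmx, hmy⟩ := hO r x y ho
  obtain ⟨-, -, n, hn, hne⟩ := ho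
  obtain ⟨-, -, m, hm, hme⟩ := hsymm
  have e1 := (hmx n hn).resolve_left hne
  have e2 := (hmy m hm).resolve_left hme
  have hxO := h.Adj_right hx
  have hyO := h.Adj_right hy
  -- `n` commutes with `b`
  have h3 : n * (r * b) * n⁻¹ = r * b := h.N_ZC hxO hn hrb
  have h4 : n * r * n⁻¹ = r := h.N_fix_s hx hn
  have h5 : n * b * n⁻¹ = b := by
    have e : n * b * n⁻¹ = (n * r * n⁻¹)⁻¹ * (n * (r * b) * n⁻¹) := by group
    rw [e, h3, h4, inv_mul_cancel_left]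
  have h6 : b ∈ ZC Q (x * y * d) := by
    have := (h.ZC_conj (g := n)).2 hby
    rwa [h5, e1] at this
  have h7 : m * b * m⁻¹ = b := h.N_ZC hyO hm hby
  apply hnb
  rw [← e2] at h6
  rw [← h7] at h6
  exact h.ZC_conj.1 h6

/-- **STAR.** -/
theorem star (hO : JOpp M r t Q N) (hA : AllOpp M r t N) {s c : G} (hs : Adj M r t t s)
    (hcr : c ∈ ZC Q r) (hct : c ∈ ZC Q t) (hcU : c ∈ UU M r)
    (hmv : ∀ n ∈ N r, n * s * n⁻¹ = s ∨ n * s * n⁻¹ = r * s * c) {x m g : G} (hx : Adj M r t r x) (hm : m ∈ N x)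
    (hg : g ∈ N r) : g * s = s * g ↔ g * (m * s * m⁻¹) = (m * s * m⁻¹) * g := by
  have hrO : r ∈ Om M r := Om_base
  have hxO := h.Adj_right hx
  have hsU := h.Adj_UU hs
  have hrU : r ∈ UU M r := Om_le_UU hrO
  have hxU := h.Adj_UU hx
  have hmM := h.N_le_M hxO hm
  have hmr : m * r = r * m := h.N_comm hx hm
  have hgx : g * x = x * g := h.N_comm (h.Adj_symm hx) hg
  set s' := m * s * m⁻¹ with hs'
  have hs'U : s' ∈ UU M r := UU_conj hmM hsU
  have hc'U : m * c * m⁻¹ ∈ UU M r := UU_conj hmM hcU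
  have hc'r : m * c * m⁻¹ ∈ ZC Q r := h.K_conj hmr hcr
  have hc't : m * c * m⁻¹ ∈ ZC Q (m * t * m⁻¹) := h.ZC_conj.2 hct
  set c' := m * c * m⁻¹ with hc'
  have ht' : Adj M r t r (m * t * m⁻¹) := h.Adj_N hx Adj_base hm
  have hmv' : g * s' * g⁻¹ = s' ∨ g * s' * g⁻¹ = r * s' * c' := by
    have h1 : m⁻¹ * g * m ∈ N r := by
      have := (h.N_fix (g := m⁻¹) (x := g) (h.inv_comm hmr)).2 hg
      rwa [inv_inv] at this
    have e : g * s' * g⁻¹ = m * ((m⁻¹ * g * m) * s * (m⁻¹ * g * m)⁻¹) * m⁻¹ := by rw [hs']; group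
    rcases hmv _ h1 with h2 | h2
    · left
      rw [e, h2]
    · right
      rw [e, h2]
      calc m * (r * s * c) * m⁻¹ = (m * r) * s * c * m⁻¹ := by group
        _ = (r * m) * s * c * m⁻¹ := by rw [hmr]
        _ = _ := by rw [hs', hc']; group
  -- `w = s s' ∈ ZC x`
  have hsx : s * x = x * s := h.UU_comm hsU hxU
  have hw : s * s' ∈ ZC Q x := by
    have e : s * s' = (s * m * s⁻¹) * m⁻¹ := by rw [hs', h.UU_inv hsU]; group
    rw [e]
    exact mul_mem ((h.ZC_fix hsx).2 (h.N_le_ZC hxO hm)) (inv_mem (h.N_le_ZC hxO hm))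
  have hgw : g * (s * s') * g⁻¹ ∈ ZC Q x := h.K_conj hgx hw
  have key : (g * (s * s') * g⁻¹) * (s * s') ∈ ZC Q x := mul_mem hgw hw
  have e0 : g * (s * s') * g⁻¹ = (g * s * g⁻¹) * (g * s' * g⁻¹) := by group
  constructor
  · intro h1
    rcases hmv' with h2 | h2
    · exact h.comm_of_conj h2
    · exfalso
      have h3 : g * s * g⁻¹ = s := by rw [h1, mul_inv_cancel_right]
      have e : (g * (s * s') * g⁻¹) * (s * s') = r * c' := by
        rw [e0, h2, h3]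
        calc s * (r * s' * c') * (s * s') = (s * r) * (s' * (c' * s)) * s' := by group
          _ = (r * s) * (s' * (s * c')) * s' := by rw [h.r_comm hsU, h.UU_comm hc'U hsU]
          _ = r * (s * s' * s) * (c' * s') := by group
          _ = r * s' * (s' * c') := by
              rw [h.UU_cancel hsU hs'U, h.UU_comm hc'U hs'U]
          _ = r * (s' * (s' * c')) := by group
          _ = r * c' := by rw [h.UU_cancel' hs'U]
      rw [e] at key
      exact h.factF hO hA hx ht' hc'r hc't key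
  · intro h1
    rcases hmv g hg with h2 | h2
    · exact h.comm_of_conj h2
    · exfalso
      have h3 : g * s' * g⁻¹ = s' := by rw [h1, mul_inv_cancel_right]
      have e : (g * (s * s') * g⁻¹) * (s * s') = r * c := by
        rw [e0, h2, h3]
        calc r * s * c * s' * (s * s') = r * (s * (c * (s' * s * s'))) := by group
          _ = r * (s * (c * s)) := by rw [h.UU_cancel hs'U hsU]
          _ = r * (s * c * s) := by group
          _ = r * c := by rw [h.UU_cancel hsU hcU]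
      rw [e] at key
      exact h.factF hO hA hx Adj_base hcr hct key

/-- **The `S`-fixed functional.** -/
theorem exists_sfix [Finite G] (hS : TvS M S r t N) (hQS : Q r ≤ S) (hO : JOpp M r t Q N) (hN : JNon M r t N)
    (hA : AllOpp M r t N) :
    ∃ s c : G, Adj M r t t s ∧ s ∉ Q r ∧ c ∈ UU M r ∧ c ∈ ZC Q r ∧ c ∈ ZC Q t ∧
      (∀ n ∈ N r, n * s * n⁻¹ = s ∨ n * s * n⁻¹ = r * s * c) ∧ (∀ u ∈ S, u * c = c * u) ∧
      ∀ u ∈ S, ∀ g ∈ N r, g * s = s * g → (u * g * u⁻¹) * s = s * (u * g * u⁻¹) := by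
  have hrO : r ∈ Om M r := Om_base
  have htO : t ∈ Om M r := h.t_Om
  have hrU : r ∈ UU M r := Om_le_UU hrO
  have htU : t ∈ UU M r := Om_le_UU htO
  have hUfix : ∀ {u x : G}, u ∈ M → x ∈ UU M r → u * x * u⁻¹ ∈ UU M r := fun hu hx => UU_conj hu hx
  -- `W₀`
  let A : Subgroup G :=
    { carrier := {u | u ∈ UU M r ∧ (u ∈ ZC Q t ∨ r * u ∈ ZC Q t)}
      one_mem' := ⟨one_mem _, Or.inl (one_mem _)⟩
      mul_mem' := by
        rintro x y ⟨hx, hx'⟩ ⟨hy, hy'⟩
        refine ⟨mul_mem hx hy, ?_⟩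
        have e1 : r * (x * y) = x * (r * y) := by rw [← mul_assoc, ← h.r_comm hx, mul_assoc]
        rcases hx' with h1 | h1 <;> rcases hy' with h2 | h2
        · exact Or.inl (mul_mem h1 h2)
        · right
          rw [e1]
          exact mul_mem h1 h2
        · right
          rw [← mul_assoc]
          exact mul_mem h1 h2
        · left
          have e2 : x * y = (r * x) * (r * y) := by
            rw [mul_assoc r, ← e1, h.mul_cancel hrO]
          rw [e2]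
          exact mul_mem h1 h2
      inv_mem' := by
        rintro x ⟨hx, hx'⟩
        rw [h.UU_inv hx]
        exact ⟨hx, hx'⟩ }
  have hAmem : ∀ u, u ∈ A ↔ u ∈ UU M r ∧ (u ∈ ZC Q t ∨ r * u ∈ ZC Q t) := fun u => Iff.rfl
  let S₁ : Subgroup G := S ⊓ centralizer {t}
  have hS₁ : ∀ u, u ∈ S₁ → u ∈ S ∧ u * t = t * u := fun u hu => ⟨hu.1, mem_centralizer_singleton_iff.1 hu.2⟩
  have hS₁r : ∀ u, u ∈ S₁ → u * r = r * u := fun u hu => hS.S_r u hu.1
  have hAS : ∀ x ∈ S₁, ∀ b ∈ A, x * b * x⁻¹ ∈ A := by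
    intro x hx b hb
    obtain ⟨hxS, hxt⟩ := hS₁ x hx
    refine ⟨hUfix (hS.S_le hxS) hb.1, ?_⟩
    rcases hb.2 with h1 | h1
    · exact Or.inl (h.K_conj hxt h1)
    · right
      have e : r * (x * b * x⁻¹) = x * (r * b) * x⁻¹ := by
        calc r * (x * b * x⁻¹) = (r * x) * b * x⁻¹ := by group
          _ = (x * r) * b * x⁻¹ := by rw [hS₁r x hx]
          _ = _ := by group
      rw [e]
      exact h.K_conj hxt h1
  have hWS : ∀ x ∈ S₁, ∀ b ∈ h.WW hO hN t htO, x * b * x⁻¹ ∈ h.WW hO hN t htO := by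
    intro x hx b hb
    obtain ⟨hxS, hxt⟩ := hS₁ x hx
    have hxM := hS.S_le hxS
    refine ⟨hUfix hxM hb.1, ?_⟩
    rcases hb.2 with h1 | ⟨a, ha, h1⟩
    · exact Or.inl (h.K_conj hxt h1)
    · right
      refine ⟨x * a * x⁻¹, ?_, ?_⟩
      · have := ha.conj hxM
        rwa [hxt, mul_inv_cancel_right] at this
      · have e : x * a * x⁻¹ * (x * b * x⁻¹) = x * (a * b) * x⁻¹ := by group
        rw [e]
        exact h.K_conj hxt h1
  have hW2 : IsPGroup 2 (h.WW hO hN t htO) := by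
    intro g
    refine ⟨1, Subtype.ext ?_⟩
    have : (g : G) * g = 1 := h.UU_sq g.2.1
    simpa [pow_two] using this
  have hne : ¬ h.WW hO hN t htO ≤ A := by
    intro hle
    obtain ⟨b, hb⟩ := h.exists_opp hN h.Adj_swap
    obtain ⟨-, -, -, h1, h2, -⟩ := hO t r b hb
    have hbA : b ∈ A := hle ⟨h.Adj_UU hb.2.1, Or.inr ⟨b, hb.2.1, by
      rw [h.UU_sq (h.Adj_UU hb.2.1)]
      exact one_mem _⟩⟩
    rcases hbA.2 with h3 | h3
    · exact h.Adj_not_mem hb.2.1 h3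
    · rcases h.noPar_at h.Adj_swap hb.2.1 h3 with h4 | h4
      · exact h1 h4
      · exact h2 h4
  obtain ⟨m, hmW, hmA, hmS⟩ := TvThirteen.exists_fixed_mod (S := S₁) (B := h.WW hO hN t htO) (A := A)
    (hS.S_p.to_le inf_le_left) hW2 hWS hAS
    (by
      intro x hx b hb
      rw [h.UU_comm hx.1 hb.1, mul_inv_cancel_right]
      exact hb)
    hne
  obtain ⟨s, hs, hsm⟩ : ∃ s, Adj M r t t s ∧ s * m ∈ ZC Q t := by
    rcases hmW.2 with h1 | h1
    · exact absurd ⟨hmW.1, Or.inl h1⟩ hmA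
    · exact h1
  have hsU := h.Adj_UU hs
  have hmU := hmW.1
  have hsmA : s * m ∈ A := ⟨mul_mem hsU hmU, Or.inl hsm⟩
  have hsA : s ∉ A := fun h1 => hmA ((mul_mem_cancel_left h1).1 hsmA)
  have hsr : s ≠ r := fun e => hsA (e ▸ ⟨hrU, Or.inr (by rw [h.r_sq]; exact one_mem _)⟩)
  have hstr : s ≠ t * r := fun e => hsA (e ▸ ⟨mul_mem htU hrU, Or.inr (by
    rw [h.UU_comm htU hrU, h.mul_cancel hrO]
    exact h.mem_ZC htO)⟩)
  have ho : Opp M r t N t r s := hA t r s h.Adj_swap hs hsr hstr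
  have hsQ : s ∉ Q r := by
    intro h1
    obtain ⟨-, -, n, hn, hne⟩ := ho
    apply hne
    rw [← (h.mem_Q_iff hrO hsU).1 h1 n hn, mul_inv_cancel_right]
  obtain ⟨-, -, -, -, -, c, -, hcU, hct, hcr, -, -, hL, hmv, -⟩ := hO t r s ho
  -- the conjugates of `s` under `S₁`
  have hz : ∀ u ∈ S₁, ∃ z ∈ UU M r, z ∈ Q r ∧ u * s * u⁻¹ = z * s := by
    intro u hu
    obtain ⟨huS, hut⟩ := hS₁ u hu
    have huM := hS.S_le huS
    have hs1 : Adj M r t t (u * s * u⁻¹) := by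
      have := hs.conj huM
      rwa [hut, mul_inv_cancel_right] at this
    have hs1U := h.Adj_UU hs1
    have hk : u * s * u⁻¹ * s ∈ A := by
      have e : u * s * u⁻¹ * s = (u * (s * m) * u⁻¹) * (u * m * u⁻¹ * m⁻¹)⁻¹ * (s * m) := by
        have e1 : (u * (s * m) * u⁻¹) * (u * m * u⁻¹ * m⁻¹)⁻¹ = u * s * u⁻¹ * m * 1 := by
          have e2 := h.UU_comm hmU (hUfix huM (inv_mem hmU))
          calc (u * (s * m) * u⁻¹) * (u * m * u⁻¹ * m⁻¹)⁻¹
              = (u * s * u⁻¹) * (u * m * u⁻¹) * (m * (u * m⁻¹ * u⁻¹)) := by group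
            _ = (u * s * u⁻¹) * (u * m * u⁻¹) * ((u * m⁻¹ * u⁻¹) * m) := by rw [e2]
            _ = _ := by group
        rw [e1, mul_one, mul_assoc (u * s * u⁻¹), h.UU_comm hsU hmU, h.UU_cancel' hmU]
      rw [e]
      exact mul_mem (mul_mem (hAS u hu _ hsmA) (inv_mem (hmS u hu))) hsmA
    rcases hk.2 with h1 | h1
    · rcases h.noPar_at hs1 hs h1 with h2 | h2
      · exact ⟨1, one_mem _, one_mem _, by rw [one_mul, ← h2]⟩
      · refine ⟨t, htU, h.t_mem, ?_⟩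
        conv_rhs => rw [h2]
        rw [h.mul_cancel htO]
    · have h3 : (u * s * u⁻¹) * (r * s * c) ∈ ZC Q t := by
        have e : (u * s * u⁻¹) * (r * s * c) = (r * (u * s * u⁻¹ * s)) * c := by
          calc (u * s * u⁻¹) * (r * s * c) = ((u * s * u⁻¹) * r) * (s * c) := by group
            _ = (r * (u * s * u⁻¹)) * (s * c) := by rw [h.r_comm hs1U]
            _ = _ := by group
        rw [e]
        exact mul_mem h1 hct
      have hrcU : r * c ∈ UU M r := mul_mem hrU hcU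
      have hrcQ : r * c ∈ Q r := mul_mem h.r_mem (h.ZC_le_Q hrO hcr)
      have e4 : r * s * c = r * c * s := by rw [mul_assoc, h.UU_comm hsU hcU, mul_assoc]
      rcases h.noPar_at hs1 hL h3 with h4 | h4
      · exact ⟨r * c, hrcU, hrcQ, by rw [← h4, e4]⟩
      · refine ⟨t * (r * c), mul_mem htU hrcU, mul_mem h.t_mem hrcQ, ?_⟩
        have h5 : t * (r * s * c) = u * s * u⁻¹ := by rw [h4, h.mul_cancel htO]
        rw [← h5, e4, mul_assoc t]
  -- `N r` commutes with the `z`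
  have hNz : ∀ z ∈ UU M r, z ∈ Q r → ∀ g ∈ N r, g * z = z * g := fun z hz hzQ g hg =>
    ((h.mem_Q_iff hrO hz).1 hzQ g hg).symm
  have hinv₁ : ∀ u ∈ S₁, ∀ g ∈ N r, g * s = s * g → (u * g * u⁻¹) * s = s * (u * g * u⁻¹) := by
    intro u hu g hg hgs
    obtain ⟨z, hzU, hzQ, e⟩ := hz u⁻¹ (inv_mem hu)
    have h1 : g * (u⁻¹ * s * u⁻¹⁻¹) = (u⁻¹ * s * u⁻¹⁻¹) * g := by
      rw [e, ← mul_assoc, hNz z hzU hzQ g hg, mul_assoc, hgs, mul_assoc]
    calc (u * g * u⁻¹) * s = u * (g * (u⁻¹ * s * u⁻¹⁻¹)) * u⁻¹ := by group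
      _ = u * ((u⁻¹ * s * u⁻¹⁻¹) * g) * u⁻¹ := by rw [h1]
      _ = _ := by group
  have hcS₁ : ∀ u ∈ S₁, u * c = c * u := by
    intro u hu
    obtain ⟨z, hzU, hzQ, e⟩ := hz u hu
    obtain ⟨-, -, n, hn, hne⟩ := ho
    have hn' := (hmv n hn).resolve_left hne
    have huM := hS.S_le hu.1
    have hur := hS₁r u hu
    have hnu : u * n * u⁻¹ ∈ N r := (h.N_fix hur).2 hn
    have h1 : (u * n * u⁻¹) * (u * s * u⁻¹) * (u * n * u⁻¹)⁻¹ = r * (u * s * u⁻¹) * (u * c * u⁻¹) := by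
      calc (u * n * u⁻¹) * (u * s * u⁻¹) * (u * n * u⁻¹)⁻¹ = u * (n * s * n⁻¹) * u⁻¹ := by group
        _ = (u * r) * s * c * u⁻¹ := by rw [hn']; group
        _ = (r * u) * s * c * u⁻¹ := by rw [hur]
        _ = _ := by group
    have h2 : (u * n * u⁻¹) * (u * s * u⁻¹) * (u * n * u⁻¹)⁻¹ = z * ((u * n * u⁻¹) * s * (u * n * u⁻¹)⁻¹) := by
      rw [e, ← mul_assoc, hNz z hzU hzQ _ hnu]
      group
    have h3 : (u * n * u⁻¹) * s * (u * n * u⁻¹)⁻¹ = r * s * c := by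
      refine (hmv _ hnu).resolve_left fun h4 => ?_
      rw [h4, ← e] at h2
      have h5 : n * s * n⁻¹ = s := by
        have e5 : n * s * n⁻¹ = u⁻¹ * ((u * n * u⁻¹) * (u * s * u⁻¹) * (u * n * u⁻¹)⁻¹) * u := by group
        rw [e5, h2]
        group
      exact hne h5
    rw [h1, h3, e] at h2
    -- `r (z s) (u c u⁻¹) = z (r s c)`
    have h4 : r * (z * s) * (u * c * u⁻¹) = r * (z * s) * c := by
      rw [h2]
      calc z * (r * s * c) = (z * r) * s * c := by group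
        _ = (r * z) * s * c := by rw [h.r_comm hzU]
        _ = _ := by group
    exact h.comm_of_conj (mul_left_cancel h4)
  -- from `S₁` to `S`
  have hdec : ∀ u ∈ S, ∃ q ∈ Q r, ∃ v ∈ S₁, u = q * v := by
    intro u hu
    rcases hS.S_t u hu with h1 | h1
    · exact ⟨1, one_mem _, u, ⟨hu, mem_centralizer_singleton_iff.2 (h.comm_of_conj h1)⟩, (one_mul u).symm⟩
    · obtain ⟨q, hq, hqt⟩ := h.q12
      refine ⟨q, hq, q⁻¹ * u, Subgroup.mem_inf.2 ⟨S.mul_mem (S.inv_mem (hQS hq)) hu,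
        mem_centralizer_singleton_iff.2 ?_⟩, by group⟩
      have h2 : q⁻¹ * (r * t) * q = t := by rw [← hqt]; group
      calc q⁻¹ * u * t = q⁻¹ * (u * t * u⁻¹) * u := by group
        _ = q⁻¹ * (r * t) * q * (q⁻¹ * u) := by rw [h1]; group
        _ = _ := by rw [h2]
  refine ⟨s, c, hs, hsQ, hcU, hcr, hct, hmv, ?_, ?_⟩
  · intro u hu
    obtain ⟨q, hq, v, hv, rfl⟩ := hdec u hu
    have h1 : c * q = q * c := h.ZC_comm hcr hq
    calc q * v * c = q * (v * c) := by group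
      _ = q * c * v := by rw [hcS₁ v hv]; group
      _ = _ := by rw [← h1]; group
  · intro u hu g hg hgs
    obtain ⟨q, hq, v, hv, rfl⟩ := hdec u hu
    have hvg : v * g * v⁻¹ ∈ N r := (h.N_fix (hS₁r v hv)).2 hg
    have h1 : (v * g * v⁻¹) * q = q * (v * g * v⁻¹) := h.ZC_comm (h.N_le_ZC hrO hvg) hq
    have e : q * v * g * (q * v)⁻¹ = v * g * v⁻¹ := by
      calc q * v * g * (q * v)⁻¹ = (q * (v * g * v⁻¹)) * q⁻¹ := by group
        _ = _ := by rw [← h1, mul_inv_cancel_right]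
    rw [e]
    exact hinv₁ v hv g hg hgs

/-- **JOINT (11).** -/
theorem jEleven [Finite G] (hS : TvS M S r t N) (hQS : Q r ≤ S) (hO : JOpp M r t Q N) (hN : JNon M r t N) :
    JEleven M r t Q N := by
  refine h.jEleven_of_base fun hA b c hb hc => ?_
  have hrO : r ∈ Om M r := Om_base
  have hrU : r ∈ UU M r := Om_le_UU hrO
  obtain ⟨s, d, hs, hsQ, hdU, hdr, hdt, hmv, hdS, hSN⟩ := h.exists_sfix hS hQS hO hN hA
  have hsU := h.Adj_UU hs
  -- `n₁`
  obtain ⟨n₁, hn₁, hne⟩ : ∃ n ∈ N r, n * s * n⁻¹ ≠ s := by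
    by_contra h1
    push Not at h1
    exact hsQ ((h.mem_Q_iff hrO hsU).2 fun n hn => (h.comm_of_conj (h1 n hn)).symm)
  have hn₁' := (hmv n₁ hn₁).resolve_left hne
  have hNr : ∀ n ∈ N r, n * r * n⁻¹ = r := fun n hn => h.N_fix_self hrO hn
  have hNd : ∀ n ∈ N r, n * d * n⁻¹ = d := fun n hn => h.N_ZC hrO hn hdr
  have hdd := h.UU_sq hdU
  have hss := h.UU_sq hsU
  have hrd : (r * d) * (r * d) = 1 := h.UU_sq (mul_mem hrU hdU)
  let N₀ : Subgroup G := N r ⊓ centralizer {s}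
  have hN₀ : ∀ n, n ∈ N₀ ↔ n ∈ N r ∧ n * s = s * n := fun n => by
    rw [mem_inf, mem_centralizer_singleton_iff]
  have hcov : ∀ n ∈ N r, n ∈ N₀ ∨ n₁ * n ∈ N₀ := by
    intro n hn
    rcases hmv n hn with h1 | h1
    · exact Or.inl ((hN₀ n).2 ⟨hn, h.comm_of_conj h1⟩)
    · right
      refine (hN₀ _).2 ⟨mul_mem hn₁ hn, h.comm_of_conj ?_⟩
      calc n₁ * n * s * (n₁ * n)⁻¹ = n₁ * (n * s * n⁻¹) * n₁⁻¹ := by group
        _ = (n₁ * r * n₁⁻¹) * (n₁ * s * n₁⁻¹) * (n₁ * d * n₁⁻¹) := by rw [h1]; group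
        _ = r * (r * s * d) * d := by rw [hNr _ hn₁, hn₁', hNd _ hn₁]
        _ = (r * r) * s * (d * d) := by group
        _ = s := by rw [h.r_sq, hdd, one_mul, mul_one]
  have hinv : n₁⁻¹ * s * n₁ = r * s * d := by
    have h1 := hmv n₁⁻¹ (inv_mem hn₁)
    rw [inv_inv] at h1
    refine h1.resolve_left fun h2 => hne ?_
    calc n₁ * s * n₁⁻¹ = n₁ * (n₁⁻¹ * s * n₁) * n₁⁻¹ := by rw [h2]
      _ = s := by group
  have hu0n : s * n₁ * s⁻¹ = n₁ * (r * d) := by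
    calc s * n₁ * s⁻¹ = n₁ * (n₁⁻¹ * s * n₁) * s⁻¹ := by group
      _ = n₁ * (r * (s * d)) * s⁻¹ := by rw [hinv]; group
      _ = n₁ * (r * (d * s)) * s⁻¹ := by rw [h.UU_comm hsU hdU]
      _ = _ := by group
  have hcc := TvThirteen.j13' h hS hdU hdr hdt hdS (N0 := N₀) (n1 := n₁) (u0 := s) inf_le_left hn₁ hcov
    (fun x hx n hn => (hN₀ _).2 ⟨(h.N_fix (hS.S_r x hx)).2 ((hN₀ n).1 hn).1,
      hSN x hx n ((hN₀ n).1 hn).1 ((hN₀ n).1 hn).2⟩)
    hsU (fun n hn => ((hN₀ n).1 hn).2.symm) hu0n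
  refine h.eleven_base hO hA hs hsQ ?_ hb hc
  intro x hx m hm
  have hmM := h.N_le_M (h.Adj_right hx) hm
  have hs'U : m * s * m⁻¹ ∈ UU M r := UU_conj hmM hsU
  have hst : ∀ g ∈ N r, (g * s = s * g ↔ g * (m * s * m⁻¹) = (m * s * m⁻¹) * g) := fun g hg =>
    h.star hO hA hs hdr hdt hdU hmv hx hm hg
  set s' := m * s * m⁻¹ with hs'
  have h1 : s' * n₁ * s'⁻¹ = n₁ * (r * d) := by
    refine (hcc s' hs'U fun n hn => ((hst n ((hN₀ n).1 hn).1).1 ((hN₀ n).1 hn).2).symm).resolve_left fun h2 => ?_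
    have h3 : n₁ * s' = s' * n₁ := by
      calc n₁ * s' = (s' * n₁ * s'⁻¹) * s' := by rw [h2]
        _ = _ := by group
    have h4 := (hst n₁ hn₁).2 h3
    exact hne (by rw [h4, mul_inv_cancel_right])
  refine (h.mem_Q_iff hrO (mul_mem hsU hs'U)).2 fun n hn => ?_
  have hw₀ : ∀ n ∈ N₀, (s * s') * n = n * (s * s') := by
    intro n hn
    have h2 := ((hN₀ n).1 hn).2
    have h3 := (hst n ((hN₀ n).1 hn).1).1 h2
    rw [mul_assoc, ← h3, ← mul_assoc, ← h2, mul_assoc]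
  have hw₁ : (s * s') * n₁ = n₁ * (s * s') := by
    have h2 : (s * s') * n₁ * (s * s')⁻¹ = n₁ := by
      have hrdU : r * d ∈ UU M r := mul_mem hrU hdU
      calc (s * s') * n₁ * (s * s')⁻¹ = s * (s' * n₁ * s'⁻¹) * s⁻¹ := by group
        _ = (s * n₁ * s⁻¹) * (s * (r * d) * s⁻¹) := by rw [h1]; group
        _ = n₁ * (r * d) * (r * d) := by
            rw [hu0n, h.UU_comm hsU hrdU, mul_inv_cancel_right]
        _ = n₁ := by rw [mul_assoc, hrd, mul_one]
    exact h.comm_of_conj h2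
  rcases hcov n hn with h2 | h2
  · exact hw₀ n h2
  · have h3 := hw₀ _ h2
    have h4 : (s * s') * n₁⁻¹ = n₁⁻¹ * (s * s') := by
      calc (s * s') * n₁⁻¹ = n₁⁻¹ * (n₁ * (s * s')) * n₁⁻¹ := by group
        _ = n₁⁻¹ * ((s * s') * n₁) * n₁⁻¹ := by rw [hw₁]
        _ = _ := by group
    calc (s * s') * n = (s * s') * n₁⁻¹ * (n₁ * n) := by group
      _ = n₁⁻¹ * ((s * s') * (n₁ * n)) := by rw [h4, mul_assoc]
      _ = n₁⁻¹ * (n₁ * n * (s * s')) := by rw [h3]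
      _ = n * (s * s') := by group

end TvH

end Cfsg.Agent.Omega.HOne.TvDef
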