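import Cfsg.Agent.Omega.HOne.Tv
import Cfsg.Agent.Omega.HOne.TvEleven

/-!
# II.0h1, `q = 2`, case (β): the transvection statement, without hypotheses on joints (helper865)
-/

set_option autoImplicit false

namespace Cfsg.Agent.Omega.HOne.TvMain

open Cfsg.Agent.Omega.HOne.TvDef

variable {G : Type*} [Group G] {M S : Subgroup G} {r t : G} {Q N : G → Subgroup G}

/-- **The transvection statement #15959.** -/
theorem main [Finite G] (h : TvH M r t Q N) (hS : TvS M S r t N) (hQS : Q r ≤ S) :
    ∃ c, JConst M r t Q N c ∧ JEnd M r Q N c :=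
  Tv.main h hS (h.jEleven hS hQS h.jOpp h.jNon)

end Cfsg.Agent.Omega.HOne.TvMain
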