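import Cfsg.Agent.Omega.HOne.TvDef

/-!
# II.0h1, `q = 2`, case (beta): (3) of #15959, no parallels

`exists_avg` : an `A`-invariant line `⟨r, e⟩` in a parallel class of odd length;
`noPar` : the field `noPar` of `TvH` from `TvH0`, `S` Sylow in `M`, `C_U(S) ∩ C_V` central in `M`.
-/

set_option autoImplicit false
set_option linter.unusedSectionVars false

namespace Cfsg.Agent.Omega.HOne.TvPar

open Subgroup Cfsg.Agent.Omega.HOne.TvDef

variable {G : Type*} [Group G]

theorem exists_avg [Finite G] {A B U Z : Subgroup G} {r t : G}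
    (hU : ∀ u ∈ U, ∀ v ∈ U, u * v = v * u) (hr : r ∈ U) (ht : t ∈ U) (hrr : r * r = 1) (htt : t * t = 1)
    (hAU : ∀ x ∈ A, ∀ u ∈ U, x * u * x⁻¹ ∈ U) (hAZ : ∀ x ∈ A, t * (x * t * x⁻¹) ∈ Z)
    (hB : ∀ x ∈ B, x * t * x⁻¹ = t ∨ x * t * x⁻¹ = r * t) (hAr : ∀ x ∈ A, x * r = r * x)
    (hBA : B ≤ A) (hodd : ¬ 2 ∣ B.relIndex A) :
    ∃ e ∈ U, t * e ∈ Z ∧ ∀ y ∈ A, y * e * y⁻¹ = e ∨ y * e * y⁻¹ = r * e := by
  classical
  let _ : CommGroup U := { (inferInstance : Group U) with
    mul_comm := fun a b => Subtype.ext (hU a a.2 b b.2) }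
  let X := A ⧸ B.subgroupOf A
  have : Fintype X := Fintype.ofFinite X
  let f : A → U := fun x => ⟨x * t * (x : G)⁻¹, hAU x x.2 t ht⟩
  let e : U := ∏ q : X, f q.out
  have hfz : ∀ x : A, t * (f x : G) ∈ Z := fun x => hAZ x x.2
  have h1 : ∀ s : Finset X, t ^ s.card * ((∏ q ∈ s, f q.out : U) : G) ∈ Z := by
    intro s
    induction s using Finset.induction_on with
    | empty => simp
    | insert a s ha ih =>
      rw [Finset.prod_insert ha, Finset.card_insert_of_notMem ha, Subgroup.coe_mul, pow_succ]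
      have hc : t ^ s.card * (t * (f a.out : G)) = (t * (f a.out : G)) * t ^ s.card := by
        have h2 : t * (f a.out : G) ∈ U := mul_mem ht (f a.out).2
        exact hU _ (pow_mem ht _) _ h2
      have : t ^ s.card * t * ((f a.out : G) * ((∏ q ∈ s, f q.out : U) : G)) =
          (t * (f a.out : G)) * (t ^ s.card * ((∏ q ∈ s, f q.out : U) : G)) := by
        calc t ^ s.card * t * ((f a.out : G) * ((∏ q ∈ s, f q.out : U) : G)) =
            (t ^ s.card * (t * (f a.out : G))) * ((∏ q ∈ s, f q.out : U) : G) := by group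
          _ = _ := by rw [hc]; group
      rw [this]
      exact mul_mem (hfz _) ih
  have hcard : ¬ 2 ∣ Fintype.card X := by
    rw [← Nat.card_eq_fintype_card]
    exact hodd
  refine ⟨e, e.2, ?_, ?_⟩
  · have h2 := h1 Finset.univ
    rw [Finset.card_univ] at h2
    obtain ⟨k, hk⟩ := Nat.not_even_iff_odd.1 (fun he => hcard (even_iff_two_dvd.1 he))
    rw [hk, pow_add, pow_mul, pow_two, htt, one_pow, one_mul, pow_one] at h2
    exact h2
  · intro y hy
    let φ : U →* U :=
      { toFun := fun u => ⟨y * u * y⁻¹, hAU y hy u u.2⟩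
        map_one' := Subtype.ext (by simp)
        map_mul' := fun a b => Subtype.ext (by
          change y * (a * b : G) * y⁻¹ = (y * a * y⁻¹) * (y * b * y⁻¹)
          group) }
    have hφ : ∀ u : U, ((φ u : U) : G) = y * u * y⁻¹ := fun _ => rfl
    let y' : A := ⟨y, hy⟩
    let r' : U := ⟨r, hr⟩
    have hr' : r' * r' = 1 := Subtype.ext hrr
    have h3 : ∀ q : X, f (y' • q).out = φ (f q.out) ∨ f (y' • q).out = r' * φ (f q.out) := by
      intro q
      have h4 : ((y' • q).out : A)⁻¹ * (y' * q.out) ∈ B.subgroupOf A := by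
        rw [← QuotientGroup.eq]
        have h5 : ((((y' • q).out : A)) : X) = y' • q := Quotient.out_eq _
        rw [h5]
        have h6 : ((q.out : A) : X) = q := Quotient.out_eq _
        conv_lhs => rw [← h6]
        rfl
      set b := ((y' • q).out : A)⁻¹ * (y' * q.out) with hb
      have h7 : ((y' • q).out : A) = y' * q.out * b⁻¹ := by rw [hb]; group
      have hbB : (b : G) ∈ B := h4
      have hbt := hB _ (inv_mem hbB)
      have hxr : (y' * q.out : A) * r = r * ((y' * q.out : A) : G) := hAr _ (y' * q.out : A).2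
      have e1 : ((f (y' • q).out : U) : G) =
          (y' * q.out : A) * ((b : G)⁻¹ * t * (b : G)⁻¹⁻¹) * ((y' * q.out : A) : G)⁻¹ := by
        change (((y' • q).out : A) : G) * t * (((y' • q).out : A) : G)⁻¹ = _
        rw [h7]
        simp only [Subgroup.coe_mul, Subgroup.coe_inv]
        group
      have e2 : ((φ (f q.out) : U) : G) = (y' * q.out : A) * t * ((y' * q.out : A) : G)⁻¹ := by
        rw [hφ]
        change y * ((q.out : A) * t * ((q.out : A) : G)⁻¹) * y⁻¹ = _
        simp only [Subgroup.coe_mul, y']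
        group
      rcases hbt with h8 | h8
      · left
        apply Subtype.ext
        rw [e1, e2, h8]
      · right
        apply Subtype.ext
        rw [Subgroup.coe_mul, e1, e2, h8]
        change _ = r * _
        calc ((y' * q.out : A) : G) * (r * t) * ((y' * q.out : A) : G)⁻¹ =
            (((y' * q.out : A) : G) * r) * t * ((y' * q.out : A) : G)⁻¹ := by group
          _ = _ := by rw [hxr]; group
    have h4 : ∀ s : Finset X, ∏ q ∈ s, f (y' • q).out = ∏ q ∈ s, φ (f q.out) ∨
        ∏ q ∈ s, f (y' • q).out = r' * ∏ q ∈ s, φ (f q.out) := by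
      intro s
      induction s using Finset.induction_on with
      | empty => left; simp
      | insert a s ha ih =>
        rw [Finset.prod_insert ha, Finset.prod_insert ha]
        rcases h3 a with h5 | h5 <;> rcases ih with h6 | h6 <;> rw [h5, h6]
        · left; rfl
        · right; rw [mul_left_comm]
        · right; rw [mul_assoc]
        · left
          rw [mul_mul_mul_comm, hr', one_mul]
    have h5 := h4 Finset.univ
    have h6 : ∏ q : X, f (y' • q).out = e := by
      exact Fintype.prod_equiv (MulAction.toPerm y') _ _ (fun q => rfl)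
    rw [h6, ← map_prod] at h5
    have h7 : ((φ e : U) : G) = y * e * y⁻¹ := rfl
    rcases h5 with h8 | h8
    · left
      rw [← h7]
      exact congrArg _ h8.symm
    · right
      rw [← h7]
      have h9 : r' * e = φ e := by
        calc r' * e = r' * (r' * φ e) := congrArg _ h8
          _ = (r' * r') * φ e := by rw [mul_assoc]
          _ = φ e := by rw [hr', one_mul]
      exact (congrArg (fun u : U => (u : G)) h9).symm

variable {M S : Subgroup G} {r t : G} {Q N : G → Subgroup G}

/-- **(3)** no parallels -/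
theorem noPar [Finite G] (h : TvH0 M r t Q N) (hSM : S ≤ M) (hSr : ∀ x ∈ S, x * r = r * x)
    (hSt : ∀ x ∈ S, x * t * x⁻¹ = t ∨ x * t * x⁻¹ = r * t) (hNS : N t ≤ S)
    (hodd : ¬ 2 ∣ S.relIndex M)
    (hcen : ∀ c ∈ UU M r, c ∈ ZC Q r → c ∈ ZC Q t → (∀ x ∈ S, x * c = c * x) → ∀ m ∈ M, m * c = c * m) :
    ∀ a b, Adj M r t r a → Adj M r t r b → a * b ∈ ZC Q r → b = a ∨ b = r * a := by
  have hrU : r ∈ UU M r := Om_le_UU Om_base
  have htU : t ∈ UU M r := Om_le_UU h.t_Om
  have htt : t * t = 1 := h.Om_sq h.t_Om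
  -- `A = N_{M_1}(V K_1)`
  let A : Subgroup G :=
    { carrier := {x | x ∈ M ∧ x * r = r * x ∧ t * (x * t * x⁻¹) ∈ ZC Q r}
      one_mem' := ⟨one_mem _, by simp, by
        have : t * (1 * t * 1⁻¹) = 1 := by rw [one_mul, inv_one, mul_one, htt]
        rw [this]; exact one_mem _⟩
      mul_mem' := by
        rintro x y ⟨hx, hxr, hxt⟩ ⟨hy, hyr, hyt⟩
        refine ⟨mul_mem hx hy, ?_, ?_⟩
        · calc x * y * r = x * (y * r) := by group
            _ = (x * r) * y := by rw [hyr]; group
            _ = r * (x * y) := by rw [hxr]; group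
        · have e : t * (x * y * t * (x * y)⁻¹) =
              (t * (x * t * x⁻¹)) * (x * (t * (y * t * y⁻¹)) * x⁻¹) := by
            calc t * (x * y * t * (x * y)⁻¹) = t * (x * 1 * x⁻¹) * (x * y * t * (x * y)⁻¹) := by group
              _ = t * (x * (t * t) * x⁻¹) * (x * y * t * (x * y)⁻¹) := by rw [htt]
              _ = _ := by group
          rw [e]
          exact mul_mem hxt ((h.ZC_fix hxr).2 hyt)
      inv_mem' := by
        rintro x ⟨hx, hxr, hxt⟩
        have hxr' : x⁻¹ * r = r * x⁻¹ := by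
          calc x⁻¹ * r = x⁻¹ * (r * x) * x⁻¹ := by group
            _ = r * x⁻¹ := by rw [← hxr]; group
        refine ⟨inv_mem hx, hxr', ?_⟩
        have e : t * (x⁻¹ * t * x⁻¹⁻¹) = x⁻¹ * (t * (x * t * x⁻¹))⁻¹ * x⁻¹⁻¹ := by
          have ht' : t⁻¹ = t := h.UU_inv htU
          calc t * (x⁻¹ * t * x⁻¹⁻¹) = t * x⁻¹ * t * x := by group
            _ = t⁻¹ * x⁻¹ * t⁻¹ * x := by rw [ht']
            _ = x⁻¹ * (x * t⁻¹ * x⁻¹ * t⁻¹) * x := by
                have h1 : t⁻¹ * (x⁻¹ * t⁻¹ * x) = (x⁻¹ * t⁻¹ * x) * t⁻¹ := by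
                  have h2 : x⁻¹ * t⁻¹ * x ∈ UU M r := by
                    have := UU_conj (r := r) (inv_mem hx) (inv_mem htU)
                    simpa using this
                  exact h.UU_comm (inv_mem htU) h2
                calc t⁻¹ * x⁻¹ * t⁻¹ * x = t⁻¹ * (x⁻¹ * t⁻¹ * x) := by group
                  _ = (x⁻¹ * t⁻¹ * x) * t⁻¹ := h1
                  _ = x⁻¹ * (t⁻¹ * (x * t⁻¹ * x⁻¹)) * x := by group
                  _ = x⁻¹ * ((x * t⁻¹ * x⁻¹) * t⁻¹) * x := by
                    rw [h.UU_comm (inv_mem htU) (UU_conj hx (inv_mem htU))]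
                  _ = _ := by group
            _ = x⁻¹ * (t * (x * t * x⁻¹))⁻¹ * x⁻¹⁻¹ := by group
        rw [e]
        exact (h.ZC_fix hxr').2 (inv_mem hxt) }
  let B : Subgroup G :=
    { carrier := {x | x ∈ A ∧ (x * t * x⁻¹ = t ∨ x * t * x⁻¹ = r * t)}
      one_mem' := ⟨one_mem _, Or.inl (by group)⟩
      mul_mem' := by
        rintro x y ⟨hx, hxt⟩ ⟨hy, hyt⟩
        refine ⟨mul_mem hx hy, ?_⟩
        have hxr : x * r = r * x := hx.2.1
        have e : x * y * t * (x * y)⁻¹ = x * (y * t * y⁻¹) * x⁻¹ := by group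
        rw [e]
        rcases hyt with h1 | h1
        · rw [h1]; exact hxt
        · have e2 : x * (r * t) * x⁻¹ = r * (x * t * x⁻¹) := by
            calc x * (r * t) * x⁻¹ = (x * r) * t * x⁻¹ := by group
              _ = _ := by rw [hxr]; group
          rw [h1, e2]
          rcases hxt with h2 | h2
          · right; rw [h2]
          · left; rw [h2, h.mul_cancel Om_base]
      inv_mem' := by
        rintro x ⟨hx, hxt⟩
        refine ⟨inv_mem hx, ?_⟩
        have hxr : x * r = r * x := hx.2.1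
        have hxr' : x⁻¹ * r = r * x⁻¹ := by
          calc x⁻¹ * r = x⁻¹ * (r * x) * x⁻¹ := by group
            _ = r * x⁻¹ := by rw [← hxr]; group
        rcases hxt with h1 | h1
        · left
          calc x⁻¹ * t * x⁻¹⁻¹ = x⁻¹ * (x * t * x⁻¹) * x := by rw [h1]; group
            _ = t := by group
        · right
          have e : x⁻¹ * (r * t) * x = t := by rw [← h1]; group
          calc x⁻¹ * t * x⁻¹⁻¹ = x⁻¹ * (r * (r * t)) * x := by rw [h.mul_cancel Om_base]; group
            _ = (x⁻¹ * r) * (r * t) * x := by group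
            _ = r * (x⁻¹ * (r * t) * x) := by rw [hxr']; group
            _ = r * t := by rw [e] }
  have hSB : S ≤ B := by
    intro x hx
    refine ⟨⟨hSM hx, hSr x hx, ?_⟩, hSt x hx⟩
    rcases hSt x hx with h1 | h1
    · rw [h1, htt]; exact one_mem _
    · have : t * (r * t) = r := by
        calc t * (r * t) = (t * r) * t := by group
          _ = r * (t * t) := by rw [h.UU_comm htU hrU]; group
          _ = r := by rw [htt, mul_one]
      rw [h1, this]; exact h.mem_ZC Om_base
  have hBA : B ≤ A := fun x hx => hx.1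
  have hAM : A ≤ M := fun x hx => hx.1
  have hoddBA : ¬ 2 ∣ B.relIndex A := by
    intro hd
    apply hodd
    have h1 : S.relIndex A * A.relIndex M = S.relIndex M :=
      Subgroup.relIndex_mul_relIndex _ _ _ (hSB.trans hBA) hAM
    have h2 : S.relIndex B * B.relIndex A = S.relIndex A :=
      Subgroup.relIndex_mul_relIndex _ _ _ hSB hBA
    rw [← h1, ← h2]
    exact Dvd.dvd.mul_right (Dvd.dvd.mul_left hd _) _
  obtain ⟨e, heU, heZ, heA⟩ := exists_avg (A := A) (B := B) (U := UU M r) (Z := ZC Q r)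
    (fun u hu v hv => h.UU_comm hu hv) hrU htU h.r_sq htt
    (fun x hx u hu => UU_conj (hAM hx) hu) (fun x hx => hx.2.2) (fun x hx => hx.2)
    (fun x hx => hx.2.1) hBA hoddBA
  set c1 := t * e with hc1
  have hc1U : c1 ∈ UU M r := mul_mem htU heU
  -- `r ∉ ZC t`
  have hrt : r ∉ ZC Q t := h.not_both Adj_base
  -- `[c1, S] ≤ R`
  have hc1S : ∀ x ∈ S, x * c1 * x⁻¹ = c1 ∨ x * c1 * x⁻¹ = r * c1 := by
    intro x hx
    have e1 : x * c1 * x⁻¹ = (x * t * x⁻¹) * (x * e * x⁻¹) := by rw [hc1]; group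
    have hrc : t * (r * e) = r * (t * e) := by
      calc t * (r * e) = (t * r) * e := by group
        _ = r * (t * e) := by rw [h.UU_comm htU hrU]; group
    rcases hSt x hx with h1 | h1 <;> rcases heA x (hBA (hSB hx)) with h2 | h2 <;> rw [e1, h1, h2]
    · left; rfl
    · right; rw [hrc]
    · right; rw [hc1]; group
    · left
      calc r * t * (r * e) = r * (t * (r * e)) := by group
        _ = r * (r * (t * e)) := by rw [hrc]
        _ = t * e := h.mul_cancel Om_base _
  -- `N t` centralises `c1`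
  have hc1N : ∀ n ∈ N t, c1 * n = n * c1 := by
    intro n hn
    have h1 := h.comm_KN Adj_base hc1U heZ hn
    rcases hc1S n (hNS hn) with h2 | h2
    · calc c1 * n = (n * c1 * n⁻¹) * n := by rw [h2]
        _ = _ := by group
    · exfalso
      have ha' : c1⁻¹ = c1 := h.UU_inv hc1U
      have h3 : c1 * n * c1⁻¹ * n⁻¹ = r := by
        calc c1 * n * c1⁻¹ * n⁻¹ = c1 * (n * c1 * n⁻¹) := by rw [ha']; group
          _ = c1 * (r * c1) := by rw [h2]
          _ = (c1 * r) * c1 := by group
          _ = r * (c1 * c1) := by rw [h.UU_comm hc1U hrU]; group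
          _ = r := by rw [h.UU_sq hc1U, mul_one]
      rw [h3] at h1
      exact hrt h1.1
  have hc1Q : c1 ∈ Q t := h.UN_at h.t_Om hc1U hc1N
  -- C_V is S-invariant
  have inv : ∀ x ∈ S, ∀ b, b ∈ ZC Q r → b ∈ ZC Q t → x * b * x⁻¹ ∈ ZC Q t := by
    intro x hx b hb hb'
    have hxr := hSr x hx
    have h2 : x * b * x⁻¹ ∈ ZC Q r := (h.ZC_fix hxr).2 hb
    have h3 : x * b * x⁻¹ ∈ ZC Q (x * t * x⁻¹) := h.ZC_conj.2 hb'
    rcases hSt x hx with h4 | h4
    · rwa [h4] at h3
    · rw [h4] at h3
      have h5 := h.Adj_CV h.Adj_mul_base h2 h3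
      rwa [h.mul_cancel Om_base] at h5
  -- `c' = c1` or `r c1` in `C_V`
  obtain ⟨c', hc'U, hc'r, hc't, hc'1⟩ : ∃ c', c' ∈ UU M r ∧ c' ∈ ZC Q r ∧ c' ∈ ZC Q t ∧
      (c1 = c' ∨ c1 = r * c') := by
    rcases h.Adj_ZQ Adj_base heZ hc1Q with h1 | h1
    · exact ⟨c1, hc1U, heZ, h1, Or.inl rfl⟩
    · exact ⟨r * c1, mul_mem hrU hc1U, mul_mem (h.mem_ZC Om_base) heZ, h1,
        Or.inr (h.mul_cancel Om_base _).symm⟩
  have hc'S : ∀ x ∈ S, x * c' = c' * x := by
    intro x hx
    have hxr := hSr x hx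
    have h1 : x * c' * x⁻¹ = c' ∨ x * c' * x⁻¹ = r * c' := by
      rcases hc'1 with h2 | h2
      · rw [← h2]; exact hc1S x hx
      · have h3 : c' = r * c1 := by rw [h2, h.mul_cancel Om_base]
        have h4 : x * c' * x⁻¹ = r * (x * c1 * x⁻¹) := by
          calc x * c' * x⁻¹ = (x * r) * c1 * x⁻¹ := by rw [h3]; group
            _ = _ := by rw [hxr]; group
        rcases hc1S x hx with h5 | h5
        · left; rw [h4, h5, ← h3]
        · right; rw [h4, h5, ← h3]
    rcases h1 with h2 | h2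
    · calc x * c' = (x * c' * x⁻¹) * x := by group
        _ = c' * x := by rw [h2]
    · exfalso
      have h3 := inv x hx c' hc'r hc't
      rw [h2] at h3
      apply hrt
      have : r = (r * c') * c'⁻¹ := by group
      rw [this]
      exact mul_mem h3 (inv_mem hc't)
  have hc'M := hcen c' hc'U hc'r hc't hc'S
  -- `A` normalises `V`
  have hAB : ∀ y ∈ A, y * t * y⁻¹ = t ∨ y * t * y⁻¹ = r * t := by
    intro y hy
    have hyr : y * r = r * y := hy.2.1
    have hyM := hAM hy
    have hyc1 : y * c1 * y⁻¹ = c1 := by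
      have h1 : y * c' * y⁻¹ = c' := by rw [hc'M y hyM]; group
      rcases hc'1 with h2 | h2
      · rw [h2]; exact h1
      · calc y * c1 * y⁻¹ = (y * r) * c' * y⁻¹ := by rw [h2]; group
          _ = r * (y * c' * y⁻¹) := by rw [hyr]; group
          _ = c1 := by rw [h1, h2]
    have ht : t = c1 * e := by
      have hee : e * e = 1 := h.UU_sq heU
      calc t = t * (e * e) := by rw [hee, mul_one]
        _ = c1 * e := by rw [hc1]; group
    have h3 : y * t * y⁻¹ = c1 * (y * e * y⁻¹) := by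
      calc y * t * y⁻¹ = y * (c1 * e) * y⁻¹ := by rw [← ht]
        _ = (y * c1 * y⁻¹) * (y * e * y⁻¹) := by group
        _ = _ := by rw [hyc1]
    rcases heA y hy with h4 | h4
    · left; rw [h3, h4, ← ht]
    · right
      rw [h3, h4]
      calc c1 * (r * e) = (c1 * r) * e := by group
        _ = r * (c1 * e) := by rw [h.UU_comm hc1U hrU]; group
        _ = r * t := by rw [← ht]
  -- conclusion
  intro a b ha hb hab
  obtain ⟨m, hm, hmr, hma⟩ := ha
  obtain ⟨l, hl, hlr, hlb⟩ := hb
  have hmr' : m * r = r * m := by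
    calc m * r = (m * r * m⁻¹) * m := by group
      _ = r * m := by rw [hmr]
  have hlr' : l * r = r * l := by
    calc l * r = (l * r * l⁻¹) * l := by group
      _ = r * l := by rw [hlr]
  have hmr'' : m⁻¹ * r = r * m⁻¹ := by
    calc m⁻¹ * r = m⁻¹ * (r * m) * m⁻¹ := by group
      _ = r * m⁻¹ := by rw [← hmr']; group
  have hx : m⁻¹ * l ∈ A := by
    refine ⟨mul_mem (inv_mem hm) hl, ?_, ?_⟩
    · calc m⁻¹ * l * r = m⁻¹ * (l * r) := by group
        _ = (m⁻¹ * r) * l := by rw [hlr']; group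
        _ = r * (m⁻¹ * l) := by rw [hmr'']; group
    · have e1 : t * (m⁻¹ * l * t * (m⁻¹ * l)⁻¹) = m⁻¹ * (a * b) * m⁻¹⁻¹ := by
        rw [← hma, ← hlb]; group
      rw [e1]
      exact (h.ZC_fix hmr'').2 hab
  rcases hAB _ hx with h1 | h1
  · left
    have : b = m * (m⁻¹ * l * t * (m⁻¹ * l)⁻¹) * m⁻¹ := by rw [← hlb]; group
    rw [this, h1, hma]
  · right
    have : b = m * (m⁻¹ * l * t * (m⁻¹ * l)⁻¹) * m⁻¹ := by rw [← hlb]; group
    rw [this, h1]
    calc m * (r * t) * m⁻¹ = (m * r * m⁻¹) * (m * t * m⁻¹) := by group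
      _ = r * a := by rw [hmr, hma]

end Cfsg.Agent.Omega.HOne.TvPar
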