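import Cfsg.Agent.Omega.HTwo.EntryTs
import Cfsg.Agent.Omega.HOne.JunAB
import Cfsg.Agent.Omega.HOne.JunE
import Cfsg.Agent.Omega.HOne.TvPar
import Cfsg.Agent.Omega.HOne.TvMain

/-!
# II.0h1, `q = 2`: the JUNCTION (#17185, helper202), (C) and the result

* `exists_noPar` (C) : there is `z ∈ Z₀`, `z ≠ 1`, without parallels for `ME V R o ⟨z⟩ = ⟨C_{H₁}(z), X⟩`;
* `exists_ts` : `TvH`, `TvS`, `JConst`, `JEnd` with `c = z` for `⟨C_{H₁}(z), X⟩`, for one `z ∈ Z₀`, `z ≠ 1`.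
-/

set_option autoImplicit false
set_option linter.unusedSectionVars false

namespace Cfsg.Agent.Omega.HOne.JunC

open Subgroup Cfsg Cfsg.Agent.MinSimple.VModule Cfsg.Agent.Omega.BTwo
open Cfsg.Agent.Omega.HOneTwo Cfsg.Agent.Omega.HTwo Cfsg.Agent.Omega.HTwo.ThmA Cfsg.Agent.Omega.HTwo.Par
open Cfsg.Agent.Omega.HTwo.Hat Cfsg.Agent.Omega.HTwo.EntryTv Cfsg.Agent.Omega.MinPar
open Cfsg.Agent.ZN (zc o2 le_normalizer_o2)
open Cfsg.Agent.Omega.HOne.TvDef Cfsg.Agent.Omega.HOne.JunAB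
open Cfsg.Agent.Omega.HTwo.AlphaFive (cl_le_zc mem_C)

universe u

variable {G : Type u} [Group G] [Finite G] {ι : Type*} {S : Sylow 2 G} {P V : Subgroup G}
  {R : ι → Subgroup G} {o : ι}

variable (b : HT S P V R o) {r : G} (hr : ∀ x, x ∈ R o ↔ x = 1 ∨ x = r)
include b hr

omit [Finite G] in
theorem QF_le_S [Finite G] : QF r ≤ (S : Subgroup G) := by
  rw [QF_eq b hr]
  exact b.Q_le_S

/-- the input `hA` of `JunE.FF_two` -/
theorem hA {M : Subgroup G} (hSM : (S : Subgroup G) ≤ M) (f : G) (hf1 : f ≠ 1) (hff : f * f = 1)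
    (hMf : ∀ m ∈ M, m * f = f * m) : ∃ A : Subgroup G, IsPGroup 2 A ∧ TvDef.UU M r ≤ A ∧
      centralizer ({f} : Set G) ≤ normalizer (A : Set G) := by
  refine ⟨cl (R o) (centralizer ({f} : Set G)), ?_, ?_, le_normalizer_cl _ _⟩
  · have h1 := cl_le_zc b hr hf1 hff fun s hs => hMf s (hSM hs)
    exact (o2_isPGroup _).to_le (h1.trans (Cfsg.Agent.ZN.zc_le _))
  · unfold TvDef.UU
    rw [closure_le]
    rintro _ ⟨m, hm, rfl⟩
    exact cj_le_cl (mem_C.2 (hMf m hm)) (conj_mem_cj ((hr r).2 (Or.inr rfl)))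

variable (hr1 : r ≠ 1) {j : ι} (hj : j ≠ o) {t : G} (ht : ∀ x, x ∈ R j ↔ x = 1 ∨ x = t) (ht1 : t ≠ 1)
include hr1 hj ht ht1

/-- an element centralising `Q r` and `Q t` is in `C_X` -/
theorem mem_cenX {c : G} (h1 : c ∈ ZC QF r) (h2 : c ∈ ZC QF t) : c ∈ CenX V R := by
  have h3 : c ∈ centralizer (QQ (R o) : Set G) := by
    have : c ∈ centralizer (QF r : Set G) := h1
    rwa [QF_eq b hr] at this
  have h4 : c ∈ centralizer (QQ (R j) : Set G) := by
    have : c ∈ centralizer (QF t : Set G) := h2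
    rwa [QF_eq b ht] at this
  change c ∈ centralizer (XX V R : Set G)
  rw [b.X_eq (Ne.symm hj), mem_centralizer_iff]
  have h5 : WW V (R o) ⊔ WW V (R j) ≤ centralizer ({c} : Set G) := by
    refine sup_le ?_ ?_
    · intro x hx
      exact mem_C.2 (mem_centralizer_iff.1 h3 x (b.W_le_Q o hx))
    · intro x hx
      exact mem_C.2 (mem_centralizer_iff.1 h4 x (b.W_le_Q j hx))
  exact fun x hx => mem_C.1 (h5 hx)

/-- `noPar` for `E = Z₀` and for `E = ⟨z⟩ = Z₀` -/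
theorem noPar_MZ {E : Subgroup G} (hEe : E = zc (S : Subgroup G) ⊓ centralizer (P : Set G))
    (hE1 : E ≠ ⊥) (hbeta : ∃ u ∈ TvDef.UU (ME V R o E) r, u ∉ QF r) :
    ∀ x y, Adj (ME V R o E) r t r x → Adj (ME V R o E) r t r y → x * y ∈ ZC QF r → y = x ∨ y = r * x := by
  have h0 := tvH0 b hr hr1 hEe.le hE1 hj ht ht1 hbeta
  have hS := tvS b hr hr1 hEe.le hE1 hj ht ht1
  refine TvPar.noPar h0 hS.S_le hS.S_r hS.S_t hS.N_S ?_ ?_
  · exact Cfsg.Agent.MinSimple.Basic.not_dvd_relIndex S hS.S_le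
  · intro c _ hcr hct hcS m hm
    have h1 := mem_cenX b hr hr1 hj ht ht1 hcr hct
    have h2 : c ∈ E := by
      rw [hEe]
      refine mem_zc_of b hr h1 fun s hs => ?_
      rw [hcS s hs, mul_inv_cancel_right, mul_inv_cancel]
      exact one_mem _
    exact (mem_centralizer_iff.1 (ME_le_cen b hEe.le hm) c h2).symm

/-- **(C)** -/
theorem exists_noPar {z₀ : G} (hz₀ : z₀ ∈ zc (S : Subgroup G) ⊓ centralizer (P : Set G)) (hz₀1 : z₀ ≠ 1) :
    ∃ z ∈ zc (S : Subgroup G) ⊓ centralizer (P : Set G), z ≠ 1 ∧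
      ∀ x y, Adj (ME V R o (zpowers z)) r t r x → Adj (ME V R o (zpowers z)) r t r y → x * y ∈ ZC QF r →
        y = x ∨ y = r * x := by
  have htR : t ∈ R j := (ht t).2 (Or.inr rfl)
  by_cases hα : UM V (MZ S V R) ≤ QQ (R o)
  · obtain ⟨z, hz, hz1, H⟩ := exists_z b hz₀ hz₀1 hα
    refine ⟨z, hz, hz1, JunAB.noPar b hr ?_ H hj htR ht1 (QF_eq b hr)⟩
    refine (ME_le_cen b (E := zpowers z) (by rw [zpowers_le]; exact hz)).trans (centralizer_le ?_)
    rintro _ rfl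
    exact mem_zpowers _
  · obtain ⟨E, hE⟩ : ∃ E, E = zc (S : Subgroup G) ⊓ centralizer (P : Set G) := ⟨_, rfl⟩
    have hE1 : E ≠ ⊥ := by
      intro h
      rw [← hE, h, mem_bot] at hz₀
      exact hz₀1 hz₀
    -- `MZ ≤ ME E`
    have hMM : MZ S V R ≤ ME V R o E := by
      refine sup_le ?_ le_sup_right
      refine le_trans (le_inf ?_ ?_) le_sup_left
      · have h1 : centralizer (zc (S : Subgroup G) : Set G) ≤ centralizer (R o : Set G) :=
          centralizer_le b.R_le_zc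
        exact h1.trans (centralizer_le_normalizer _)
      · refine centralizer_le ?_
        rw [hE]
        exact inf_le_left
    have hbeta : ∃ u ∈ TvDef.UU (ME V R o E) r, u ∉ QF r := by
      by_contra hcon
      push Not at hcon
      apply hα
      have h1 : UM V (MZ S V R) ≤ UM V (ME V R o E) := iSup_le fun m => cj_le_cl (hMM m.2)
      refine h1.trans ?_
      rw [← UU_eq b hr hr1 hE.le (X_le_ME b), ← QF_eq b hr]
      exact fun u hu => hcon u hu
    have hpar := noPar_MZ b hr hr1 hj ht ht1 hE hE1 hbeta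
    have h := tvH b hr hr1 hE.le hE1 hj ht ht1 hbeta hpar
    have hS := tvS b hr hr1 hE.le hE1 hj ht ht1
    obtain ⟨c, hC, hEn⟩ := TvMain.main h hS (QF_le_S b hr)
    have hFF := JunE.FF_two h rfl (hA b hr hS.S_le) hC hEn
    have hmem : ∀ e ∈ E, e ∈ JunE.FF h := by
      intro e he
      refine ⟨fun m hm => ?_, ?_, Or.inl (NF_base he)⟩
      · exact (mem_centralizer_iff.1 (ME_le_cen b hE.le hm) e he).symm
      · rw [hE] at he
        rw [← pow_two]
        exact (Cfsg.Agent.ZN.mem_zc.1 he.1).2.2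
    have hz₀E : z₀ ∈ E := by rw [hE]; exact hz₀
    have htwo : ∀ e ∈ E, e ∈ zpowers z₀ := by
      intro e he
      by_cases he1 : e = 1
      · rw [he1]; exact one_mem _
      have h1 := hFF e (hmem e he) z₀ (hmem z₀ hz₀E) he1 hz₀1
      rw [eq_inv_of_mul_eq_one_left h1]
      exact inv_mem (mem_zpowers _)
    have hle : ME V R o (zpowers z₀) ≤ ME V R o E := by
      refine sup_le ?_ le_sup_right
      exact le_trans (inf_le_inf_left _ (centralizer_le htwo)) le_sup_left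
    refine ⟨z₀, hz₀, hz₀1, ?_⟩
    rintro x y ⟨m, hm, h1, h2⟩ ⟨m', hm', h3, h4⟩ hxy
    exact hpar x y ⟨m, hle hm, h1, h2⟩ ⟨m', hle hm', h3, h4⟩ hxy

/-- **TS(z)** for one `z`, with `c = z` -/
theorem exists_ts {z₀ : G} (hz₀ : z₀ ∈ zc (S : Subgroup G) ⊓ centralizer (P : Set G)) (hz₀1 : z₀ ≠ 1) :
    ∃ z ∈ zc (S : Subgroup G) ⊓ centralizer (P : Set G), z ≠ 1 ∧
      TvH (ME V R o (zpowers z)) r t QF (NF r (zpowers z)) ∧
      TvS (ME V R o (zpowers z)) (S : Subgroup G) r t (NF r (zpowers z)) ∧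
      JConst (ME V R o (zpowers z)) r t QF (NF r (zpowers z)) z ∧
      JEnd (ME V R o (zpowers z)) r QF (NF r (zpowers z)) z ∧
      ∀ x y, Adj (ME V R o (zpowers z)) r t r x → Adj (ME V R o (zpowers z)) r t r y → x * y ∈ ZC QF r →
        y = x ∨ y = r * x := by
  obtain ⟨z, hz, hz1, hpar⟩ := exists_noPar b hr hr1 hj ht ht1 hz₀ hz₀1
  have hzE : zpowers z ≤ zc (S : Subgroup G) ⊓ centralizer (P : Set G) := by
    rw [zpowers_le]; exact hz
  have hE1 : zpowers z ≠ ⊥ := by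
    rw [Ne, zpowers_eq_bot]; exact hz1
  have hbeta : ∃ u ∈ TvDef.UU (ME V R o (zpowers z)) r, u ∉ QF r := by
    by_contra hcon
    push Not at hcon
    refine AlphaP.not_alpha' b hz hz1 ?_
    have h1 : AlphaP.MP V R o z ≤ ME V R o (zpowers z) := by
      refine sup_le ?_ le_sup_right
      refine le_trans (inf_le_inf_left _ ?_) le_sup_left
      intro x hx
      rw [mem_centralizer_iff]
      rintro _ ⟨k, rfl⟩
      exact ((show Commute x z from mem_C.1 hx).zpow_right k).symm.eq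
    have h2 : UM V (AlphaP.MP V R o z) ≤ UM V (ME V R o (zpowers z)) := iSup_le fun m => cj_le_cl (h1 m.2)
    refine h2.trans ?_
    rw [← UU_eq b hr hr1 hzE (X_le_ME b), ← QF_eq b hr]
    exact fun u hu => hcon u hu
  have h := tvH b hr hr1 hzE hE1 hj ht ht1 hbeta hpar
  have hS := tvS b hr hr1 hzE hE1 hj ht ht1
  obtain ⟨c, hC, hEn⟩ := TvMain.main h hS (QF_le_S b hr)
  have hcz : c = z := by
    refine JunE.c_eq_z h rfl (NF_base (mem_zpowers z)) ?_ hz1 ?_ (hA b hr hS.S_le) hC hEn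
    · rw [← pow_two]; exact (Cfsg.Agent.ZN.mem_zc.1 hz.1).2.2
    · intro m hm
      exact (mem_centralizer_iff.1 (ME_le_cen b hzE hm) z (mem_zpowers z)).symm
  rw [hcz] at hC hEn
  exact ⟨z, hz, hz1, h, hS, hC, hEn, hpar⟩

end Cfsg.Agent.Omega.HOne.JunC
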