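import Cfsg.Agent.Omega.HTwo.EntryTv
import Cfsg.Agent.Omega.HTwo.ThmD
import Cfsg.Agent.Omega.HOne.TvE2

/-!
# II.0h1, `q = 2`: the input `G1` of (D) of #17185 over `HT` (THEOREM D (iii)), and nondegeneracy
-/

set_option autoImplicit false
set_option linter.unusedSectionVars false

namespace Cfsg.Agent.Omega.HOne.JunG1

open Subgroup Cfsg Cfsg.Agent.Omega.BTwo Cfsg.Agent.Omega.HOneTwo Cfsg.Agent.Omega.HTwo
open Cfsg.Agent.Omega.HTwo.Hat Cfsg.Agent.Omega.HTwo.ThmA Cfsg.Agent.Omega.HOne.TvDef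
open Cfsg.Agent.Omega.HTwo.EntryTv (QF QF_eq normalizer_eq)

universe u

variable {G : Type u} [Group G] [Finite G] {ι : Type*} {S : Sylow 2 G} {P V : Subgroup G}
  {R : ι → Subgroup G} {o : ι} (b : HT S P V R o)
include b

/-- `C_G(Q i) = Z(Q i)` -/
theorem cen_eq {i : ι} {s : G} (hs : ∀ x, x ∈ R i ↔ x = 1 ∨ x = s) :
    centralizer (QQ (R i) : Set G) = ZQ R i := by
  apply le_antisymm
  · intro n hn
    have h2 : n ∈ normalizer (R i : Set G) := by
      rw [normalizer_eq b hs, mem_centralizer_singleton_iff]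
      have h1 : s ∈ QQ (R i) := b.V_Q i (b.R_le i ((hs s).2 (Or.inr rfl)))
      exact (mem_centralizer_iff.1 hn s h1).symm
    exact ⟨b.cenQ i ⟨h2, hn⟩, hn⟩
  · exact inf_le_right

/-- **`G1`** -/
theorem g1 {r t : G} (hr : ∀ x, x ∈ R o ↔ x = 1 ∨ x = r) {j : ι} (hj : j ≠ o)
    (ht : ∀ x, x ∈ R j ↔ x = 1 ∨ x = t) (M : Subgroup G) : TvE2.G1 M r t QF := by
  have hLE := Alpha.HT.le_all b
  have hQr : QF r = QQ (R o) := QF_eq b hr
  have hQt : QF t = QQ (R j) := QF_eq b ht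
  intro n _ hn hq
  have hn' : n ∈ ZQ R j := by
    rw [← cen_eq b ht]
    have : n ∈ centralizer (QF t : Set G) := hn
    rwa [hQt] at this
  have hnV := ZQ_le_cen b.toBT j hn'
  obtain ⟨a, ha, h1⟩ := ThmD.D1 b.toBTS hLE (fun x hx => (hr x).1 hx) S b.S_V b.S_R hj hn' (by
    intro x hx
    rw [← hQr] at hx
    have h1 : x * n * x⁻¹ * n⁻¹ ∈ centralizer (QF r : Set G) := hq x hx
    rw [hQr, cen_eq b hr] at h1
    have e : n * x * n⁻¹ * x⁻¹ = (x * n * x⁻¹ * n⁻¹)⁻¹ := by group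
    rw [e]
    exact inv_mem h1)
  rw [hQr]
  have e : n = a⁻¹ * (a * n) := by group
  rw [e]
  exact mul_mem (inv_mem (b.V_Q o (b.R_le j ha))) (mem_iInf.1 (b.toBTS.CenX_le_C h1) o)

/-- nondegeneracy: `C_{Q i}(E i) = R l Z(Q i)` -/
theorem nondeg {i l : ι} {s s' : G} (hs : ∀ x, x ∈ R i ↔ x = 1 ∨ x = s)
    (hs' : ∀ x, x ∈ R l ↔ x = 1 ∨ x = s') {x : G} (hx : x ∈ QQ (R i))
    (h : ∀ y ∈ QQ (R i), y * s' = s' * y → x * y = y * x) : x ∈ ZQ R i ∨ s' * x ∈ ZQ R i := by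
  have hLE := Alpha.HT.le_all b
  have bs := b.toBTS
  have hsV : s' ∈ V := b.R_le l ((hs' s').2 (Or.inr rfl))
  have hs'Q : s' ∈ QQ (R i) := b.V_Q i hsV
  have hsR : s ∈ R i := (hs s).2 (Or.inr rfl)
  have cm : ∀ y ∈ QQ (R i), ∀ y' ∈ QQ (R i), y * y' = y' * y ∨ y * y' = s * (y' * y) := by
    intro y hy y' hy'
    have h1 := ThmA.Q_comm bs (hLE i) hy hy'
    rcases (hs _).1 h1 with h2 | h2
    · left; exact mul_inv_eq_iff_eq_mul.1 (mul_inv_eq_one.1 h2)
    · right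
      calc y * y' = (y * y' * y⁻¹ * y'⁻¹) * (y' * y) := by group
        _ = _ := by rw [h2]
  by_cases hc : ∀ y ∈ QQ (R i), x * y = y * x
  · left
    exact ⟨hx, mem_centralizer_iff.2 fun y hy => (hc y hy).symm⟩
  right
  push Not at hc
  obtain ⟨q, hq, hne⟩ := hc
  have hqs : q * s' ≠ s' * q := fun e => hne (h q hq e)
  have h1 : q * s' = s * (s' * q) := (cm q hq s' hs'Q).resolve_left hqs
  have h2 : x * q = s * (q * x) := (cm x hx q hq).resolve_left hne
  have hss : s * s = 1 := b.V_sq s (b.R_le i hsR)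
  have hsc : ∀ y ∈ QQ (R i), y * s = s * y := fun y hy => b.QR i y hy s hsR
  -- `s' x` commutes with `q`
  have h3 : s' * x * q = q * (s' * x) := by
    calc s' * x * q = s' * (x * q) := by group
      _ = s' * s * (q * x) := by rw [h2]; group
      _ = s * (s' * q) * x := by rw [hsc s' hs'Q]; group
      _ = q * (s' * x) := by rw [← h1]; group
  refine ⟨mul_mem hs'Q hx, mem_centralizer_iff.2 fun y hy => ?_⟩
  by_cases hys : y * s' = s' * y
  · have h4 := h y hy hys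
    calc y * (s' * x) = (y * s') * x := by group
      _ = s' * (y * x) := by rw [hys]; group
      _ = s' * x * y := by rw [← h4]; group
  · -- `q⁻¹ y` commutes with `s'`
    have hqy : q⁻¹ * y ∈ QQ (R i) := mul_mem (inv_mem hq) hy
    have h5 : y * s' = s * (s' * y) := (cm y hy s' hs'Q).resolve_left hys
    have h6 : q⁻¹ * y * s' = s' * (q⁻¹ * y) := by
      have h7 : q * (q⁻¹ * y * s') = q * (s' * (q⁻¹ * y)) := by
        calc q * (q⁻¹ * y * s') = y * s' := by group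
          _ = s * s' * (q * (q⁻¹ * y)) := by rw [h5]; group
          _ = (s * (s' * q)) * (q⁻¹ * y) := by group
          _ = q * (s' * (q⁻¹ * y)) := by rw [← h1]; group
      exact mul_left_cancel h7
    have h8 := h _ hqy h6
    have h9 : (q⁻¹ * y) * (s' * x) = (s' * x) * (q⁻¹ * y) := by
      calc (q⁻¹ * y) * (s' * x) = (q⁻¹ * y * s') * x := by group
        _ = s' * ((q⁻¹ * y) * x) := by rw [h6]; group
        _ = s' * x * (q⁻¹ * y) := by rw [← h8]; group
    calc y * (s' * x) = q * ((q⁻¹ * y) * (s' * x)) := by group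
      _ = (q * (s' * x)) * (q⁻¹ * y) := by rw [h9]; group
      _ = s' * x * y := by rw [← h3]; group

end Cfsg.Agent.Omega.HOne.JunG1
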