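import Cfsg.Agent.Omega.HOne.NSMut
import Cfsg.Agent.Omega.CloseA.IdFour
import Cfsg.Agent.Omega.Outputs

/-!
# Two members of `P*(S)` over one `S` which do not commute, `C_V(O²(P₁)) ≠ 1`, `q ≥ 4`: `G = Sp₄(q)`

`known` : `P₁, P₂ ∈ P*(S)`, natural (one factor), `[V_{P₁}, V_{P₂}] ≠ 1`, `C_{V_{P₁}}(O²(P₁)) ≠ 1`, `q ≥ 4`: `G` is
known (type `L₃(q)` is impossible by orders, type `Sp₄(q)`: S1740).
-/

set_option autoImplicit false

namespace Cfsg.Agent.Omega.HOne.NSEnd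

open Subgroup Cfsg Cfsg.Agent.ZN Cfsg.Agent.Omega.MinPar Cfsg.Agent.Omega.CloseA
open Cfsg.Agent.Omega.FrameFF
open Cfsg.Agent.Omega.FFOne (relIndex_ker' card_of_relIndex)

universe u

section

variable {G : Type u} [Group G] {F : Type} [Field F] {Q₁ Q₂ D C₁ C₂ : Subgroup G} {x y z z' : G → F}

theorem card_co3 (h : Co3 Q₁ Q₂ D x y z) : Nat.card Q₁ = Nat.card F * Nat.card F := by
  have h1 : D.relIndex Q₁ = Nat.card F := relIndex_ker' h.x_mul h.x_surj fun u hu => (h.x_ker u hu).symm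
  have h2 : (⊥ : Subgroup G).relIndex D = Nat.card F := by
    refine relIndex_ker' h.z_mul h.z_surj fun u hu => ?_
    constructor
    · intro h0
      rw [mem_bot.1 h0]
      have := h.z_mul 1 (one_mem _) 1 (one_mem _)
      rw [mul_one] at this
      exact left_eq_add.1 this
    · intro h0
      exact mem_bot.2 (h.z_inj u hu h0)
  have h3 := card_of_relIndex (H := D) (K := Q₁) fun u hu => ((h.inf u).1 hu).1
  rw [relIndex_bot_left] at h2
  rw [h1, h2] at h3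
  exact h3.symm

theorem le_card_co4 [Finite G] [Finite F] (h : Co4 Q₁ Q₂ D C₁ C₂ x y z z') :
    Nat.card F * Nat.card F ≤ Nat.card Q₁ := by
  have h1 : D.relIndex Q₁ = Nat.card F := relIndex_ker' h.x_mul h.x_surj fun u hu => (h.x_ker u hu).symm
  have h2 : Nat.card F ≤ Nat.card D := by
    refine Nat.card_le_card_of_surjective (fun u : D => z u) fun a => ?_
    obtain ⟨u, hu, hu', -⟩ := h.z_surj a 0
    exact ⟨⟨u, hu⟩, hu'⟩
  have h3 := card_of_relIndex (H := D) (K := Q₁) fun u hu => ((h.inf u).1 hu).1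
  rw [← h3, h1]
  exact Nat.mul_le_mul_left _ h2

theorem not_rank [Finite G] [Finite F] (h : Co4 Q₁ Q₂ D C₁ C₂ x y z z') (hF : 4 ≤ Nat.card F) : ¬ PRankLE 2 2 G := by
  intro h0
  have h1 := h0 Q₁ ⟨⟨fun a b => ?_⟩⟩ fun a ha => by rw [pow_two]; exact h.sq₁ a ha
  · have h2 := le_card_co4 h
    have h3 : 4 * 4 ≤ Nat.card F * Nat.card F := Nat.mul_le_mul hF hF
    have h4 : (2 : ℕ) ^ 2 = 4 := by norm_num
    omega
  · apply Subtype.ext
    change (a : G) * b = b * a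
    have h3 := h.sq₁ _ (mul_mem a.2 b.2)
    have h4 := h.sq₁ a a.2
    have h5 := h.sq₁ b b.2
    calc (a : G) * b = a * (a * b * (a * b)) * b := by rw [h3]; group
      _ = (a * a) * b * a * (b * b) := by group
      _ = b * a := by rw [h4, h5]; group

end

/-- `Co4`, `S = Q₁Q₂`, `q ≥ 4`: `G = Sp₄(q)` -/
theorem known_co4 (h40 : Outputs.St1740.{u}) {G : Type u} [Group G] [Finite G] [IsSimpleGroup G]
    (hna : ¬ IsMulCommutative G) (S : Sylow 2 G) {F : Type} [Field F] [Finite F] [CharP F 2]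
    {Q₁ Q₂ D C₁ C₂ : Subgroup G} {x y z z' : G → F} (h : Co4 Q₁ Q₂ D C₁ C₂ x y z z')
    (hS : (S : Subgroup G) = Q₁ ⊔ Q₂) (hF : 4 ≤ Nat.card F) : IsKnownSimple' G := by
  obtain ⟨P, hP⟩ := IdFour.exists_sylow (by omega) h
  rw [← hS] at hP
  have := Fintype.ofFinite F
  obtain ⟨n, -, hn⟩ := FiniteField.card F 2
  have hn2 : 2 ≤ (n : ℕ) := by
    by_contra hc
    have h1 : (n : ℕ) = 1 := by have := n.pos; omega
    rw [Nat.card_eq_fintype_card, hn, h1] at hF
    norm_num at hF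
  exact Exits.known_1740 hn2 (h40 G hna (not_rank h hF) S n
    (Or.inl ⟨F, inferInstance, inferInstance, hn, Or.inr (Or.inr ⟨hn2, P, hP⟩)⟩))

/-- **The end of THEOREM NS.** -/
theorem known (h40 : Outputs.St1740.{u}) {G : Type u} [Group G] [Finite G] (hc : Frame.Ctx G) (S : Sylow 2 G)
    {P₁ P₂ : Subgroup G} (h₁ : IsParS (S : Subgroup G) P₁) (h₂ : IsParS (S : Subgroup G) P₂)
    {F₁ F₂ : Type} [Field F₁] [Finite F₁] [CharP F₁ 2] [Field F₂] [Finite F₂] [CharP F₂ 2]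
    (M₁ : NatOver F₁ P₁ (zl (S : Subgroup G) P₁) (cv (S : Subgroup G) P₁))
    (M₂ : NatOver F₂ P₂ (zl (S : Subgroup G) P₂) (cv (S : Subgroup G) P₂))
    (hne : ⁅zl (S : Subgroup G) P₁, zl (S : Subgroup G) P₂⁆ ≠ ⊥) (hF : 4 ≤ Nat.card F₁)
    (hfr : ¬ Free (S : Subgroup G) P₁) : IsKnownSimple' G := by
  haveI := hc.simple
  rcases NSMut.exit hc.char2 S h₁ h₂ M₁ M₂ hne (by omega) with ⟨X, Y, Z, h, -⟩ | ⟨C₁, C₂, X, Y, Z, Z', h, hS⟩
  · exfalso
    apply hfr
    have h1 := card_co3 h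
    have h2 := NSMut.relIndex_cv S M₁
    have h3 := card_of_relIndex (cv_le (S : Subgroup G) P₁)
    have h4 : Nat.card (zl (S : Subgroup G) P₁) ≤ Nat.card (o2 P₁) :=
      Nat.card_le_card_of_injective _ (inclusion_injective (NSMut.zl_le_o2 hc.char2 S h₁))
    rw [h2] at h3
    rw [← h3, h1] at h4
    have h5 : 0 < Nat.card F₁ * Nat.card F₁ := Nat.mul_pos (by omega) (by omega)
    have h6 : Nat.card (cv (S : Subgroup G) P₁) ≤ 1 := by
      by_contra hcon
      push Not at hcon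
      have := Nat.mul_lt_mul_of_pos_left hcon h5
      omega
    exact (card_le_one_iff_eq_bot _).1 h6
  · exact known_co4 h40 hc.nonComm S h hS hF

end Cfsg.Agent.Omega.HOne.NSEnd
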