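import Cfsg.Agent.Omega.HOne.NSMain
import Cfsg.Agent.Omega.HOne.NSEnd
import Cfsg.Agent.Omega.HOne.Main

/-!
# THEOREM NS plugged into the leaf II.0h1

`nonsplit4` : `Outputs.St1740` implies `HOne.Main.Nonsplit4 K`.
-/

set_option autoImplicit false

namespace Cfsg.Agent.Omega.HOne.NSPlug

open Subgroup Cfsg Cfsg.Agent.ZN Cfsg.Agent.Omega.MinPar Cfsg.Agent.Omega.Frame Cfsg.Agent.Omega.FrameFF
open Cfsg.Agent.Omega.HOne.Main

universe u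

/-- **THEOREM NS**: a mutual pair with a nonsplit member, `q ≥ 4`. -/
theorem nonsplit4 (h40 : Outputs.St1740.{u}) {K : Cls.{u}} : Nonsplit4 K := by
  intro G _ _ hG _ S _ _ hS P₁ P₂ x m hns F _ _ _ M₁ hq
  obtain ⟨F₂, _, _, _, ⟨M₂⟩⟩ := (hS P₁ P₂ x m).2
  obtain ⟨P₃, h₃, ⟨M₃⟩, hne⟩ := NSMain.common hG.char2 S m M₁ M₂ hq hns
  refine NSEnd.known h40 hG S m.star₁ h₃ M₁ M₃ hne hq fun h0 => hns ?_
  unfold SplitPar
  unfold Free at h0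
  rw [h0, inf_bot_eq]

end Cfsg.Agent.Omega.HOne.NSPlug
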