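import Cfsg.Agent.Omega.HOne.NormH
import Cfsg.Agent.Omega.HOne.NSPlug
import Cfsg.Agent.Omega.MixOne.Frame2
import Cfsg.Agent.Omega.MixOne.Frame4

/-!
# Leaf II.0h1: the open sockets

`leafH1 : St1740 → Same4 K → Same2 K → LeafH1 K`; closed: `splitPar_of_two` (`q = 2` is split), `both`,
`normH` (`HOne/NormH.lean`), `mixed4`, `mixed2` (`MixOne/Frame4.lean`, `Frame2.lean`), `nonsplit4`
(`HOne/NSPlug.lean`, it uses `St1740`).
-/

set_option autoImplicit false

namespace Cfsg.Agent.Omega.HOne.Leaf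

open Subgroup Cfsg Cfsg.Agent.ZN Cfsg.Agent.Omega.MinPar Cfsg.Agent.Omega.Frame
open Cfsg.Agent.Omega.FrameFF (LeafH1 two_le_card)
open Cfsg.Agent.Omega.HOne.Main

universe u

theorem nonsplit_of {K : Cls.{u}} (h : Nonsplit4 K) : Nonsplit K := by
  intro G _ _ hG hK S hF hI hS P₁ P₂ x hm hns
  obtain ⟨F, _, _, _, ⟨M⟩⟩ := (hS P₁ P₂ x hm).1
  rcases two_le_card (F := F) with h2 | h4
  · exact absurd (splitPar_of_two hG.char2 S hm.star₁ M h2) hns
  · exact h G hG hK S hF hI hS P₁ P₂ x hm hns F M h4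

/-- **Leaf II.0h1 from its two open sockets.** -/
theorem leafH1 (h40 : Outputs.St1740.{u}) {K : Cls.{u}} (h4 : Same4 K) (h2 : Same2 K) : LeafH1 K :=
  leaf_of_sockets (nonsplit_of (NSPlug.nonsplit4 h40)) (both K) MixOne.mixed4 MixOne.mixed2 (normH K) h4 h2

end Cfsg.Agent.Omega.HOne.Leaf
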