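import Cfsg.Agent.Omega.HOne.FqMod
import Cfsg.Agent.Omega.BTwo.YPair
import Cfsg.Agent.Omega.BTwo.Mod
import Cfsg.Agent.Omega.Lie.LemNS
import Cfsg.Agent.Omega.Lie.Quot

/-!
# `W i / Z(W i)` as a module for `N(R i) / O₂(N(R i))` (II.a, II.0h1)

`MZ V R i M p`: `p : G → M` induces `W i / Z(W i) ≅ M`; `HQ (R i) = N(R i)/O₂(N(R i))` acts on `M`.
`MZ.exists_form`: the `F`-valued commutator form; `MZ.exists_fq`: the `F`-structure.
-/

set_option autoImplicit false
set_option linter.unusedSectionVars false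

namespace Cfsg.Agent.Omega.HOne.ModZ

open Subgroup Cfsg.Agent.Omega.BTwo Cfsg.Agent.Omega.Lie Cfsg.Agent.Omega.Lie.Quot

universe u v w

variable {G : Type u} [Group G] {ι : Type w}

/-- the module `W i / Z(W i)` -/
structure MZ (V : Subgroup G) (R : ι → Subgroup G) (i : ι) (M : Type u) [AddCommGroup M]
    [DistribMulAction (HQ (R i)) M] (p : G → M) : Prop where
  p_mul : ∀ x ∈ WW V (R i), ∀ y ∈ WW V (R i), p (x * y) = p x + p y
  p_ker : ∀ x ∈ WW V (R i), (p x = 0 ↔ x ∈ ZZ V R i)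
  p_surj : ∀ m, ∃ x ∈ WW V (R i), p x = m
  p_act : ∀ (h : G) (hh : h ∈ normalizer (R i : Set G)), ∀ x ∈ WW V (R i),
    pr (R i) ⟨h, hh⟩ • p x = p (h * x * h⁻¹)

section exist

variable {V : Subgroup G} {R : ι → Subgroup G}

theorem exists_MZ (b : BT V R) (i : ι) :
    ∃ (M : Type u) (_ : AddCommGroup M) (_ : DistribMulAction (HQ (R i)) M) (p : G → M), MZ V R i M p := by
  classical
  set W := WW V (R i) with hW
  have hRZ : R i ≤ ZZ V R i := b.R_le_Z i
  have hZc : ∀ x ∈ ZZ V R i, ∀ w ∈ W, w * x = x * w := fun x hx w hw => mem_centralizer_iff.1 hx.2 w hw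
  set R' := (ZZ V R i).subgroupOf W with hR'
  have hN : R'.Normal := ⟨by
    rintro ⟨x, hx⟩ hx' ⟨w, hw⟩
    change w * x * w⁻¹ ∈ ZZ V R i
    have hx'' : x ∈ ZZ V R i := hx'
    rw [hZc x hx'' w hw, mul_inv_cancel_right]
    exact hx''⟩
  have hmk : ∀ a c : W, (QuotientGroup.mk a : W ⧸ R') = QuotientGroup.mk c ↔ (a : G)⁻¹ * c ∈ ZZ V R i := by
    intro a c
    rw [QuotientGroup.eq]
    rfl
  let cM : CommGroup (W ⧸ R') :=
    { (inferInstance : Group (W ⧸ R')) with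
      mul_comm := by
        intro x y
        induction x using QuotientGroup.induction_on with
        | H x =>
          induction y using QuotientGroup.induction_on with
          | H y =>
            change (QuotientGroup.mk (x * y) : W ⧸ R') = QuotientGroup.mk (y * x)
            rw [hmk]
            have h1 := b.WW_comm i (inv_mem y.2) (inv_mem x.2)
            have e : ((x * y : W) : G)⁻¹ * (y * x : W) = (y : G)⁻¹ * (x : G)⁻¹ * (y : G)⁻¹⁻¹ * (x : G)⁻¹⁻¹ := by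
              push_cast; group
            rw [e]
            exact hRZ h1 }
  have hNW : NR R i ≤ normalizer (W : Set G) := normalizer_le_WW V (R i)
  let φ : NR R i → (W ⧸ R') →* (W ⧸ R') := fun n => QuotientGroup.map R' R' (conjHom hNW n) (by
    rintro ⟨x, hx⟩ hx'
    exact conj_mem_of_normalizer (N_le_NZ i n.2) hx')
  have hφ : ∀ (n : NR R i) (x : W), φ n (QuotientGroup.mk x) = QuotientGroup.mk (conjHom hNW n x) :=
    fun n x => rfl
  let ψ : NR R i →* AddMonoid.End (Additive (W ⧸ R')) :=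
    { toFun := fun n => MonoidHom.toAdditive (φ n)
      map_one' := by
        apply AddMonoidHom.ext
        intro m
        change Additive.ofMul (φ 1 m.toMul) = m
        have key : ∀ m : W ⧸ R', φ 1 m = m := by
          intro m
          induction m using QuotientGroup.induction_on with
          | H x =>
            rw [hφ]
            congr 1
            apply Subtype.ext
            change (1 : G) * x * (1 : G)⁻¹ = x
            group
        rw [key]
        rfl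
      map_mul' := by
        intro n n'
        apply AddMonoidHom.ext
        intro m
        change Additive.ofMul (φ (n * n') m.toMul) = Additive.ofMul (φ n (φ n' m.toMul))
        have key : ∀ m : W ⧸ R', φ (n * n') m = φ n (φ n' m) := by
          intro m
          induction m using QuotientGroup.induction_on with
          | H x =>
            rw [hφ, hφ, hφ]
            congr 1
            apply Subtype.ext
            change ((n * n' : NR R i) : G) * x * ((n * n' : NR R i) : G)⁻¹ =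
              n * (n' * x * (n' : G)⁻¹) * (n : G)⁻¹
            push_cast
            group
        rw [key] }
  have hker : ∀ n ∈ pCore 2 (NR R i), ψ n = 1 := by
    intro n hn
    have hnQ : (n : G) ∈ QQ (R i) := ⟨n, hn, rfl⟩
    apply AddMonoidHom.ext
    intro m
    change Additive.ofMul (φ n m.toMul) = m
    have key : ∀ m : W ⧸ R', φ n m = m := by
      intro m
      induction m using QuotientGroup.induction_on with
      | H x =>
        rw [hφ, hmk]
        change ((n : G) * x * (n : G)⁻¹)⁻¹ * x ∈ ZZ V R i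
        have h1 := b.WQ i (inv_mem hnQ) (inv_mem x.2)
        have h2 := hRZ (inv_mem (b.WQ i hnQ x.2))
        have h3 := N_le_NZ (V := V) (R := R) i (b.W_le_N i x.2)
        have h4 := conj_inv_mem_of_normalizer h3 h2
        have e : ((n : G) * x * (n : G)⁻¹)⁻¹ * x =
            (x : G)⁻¹ * (((n : G) * x * (n : G)⁻¹ * (x : G)⁻¹)⁻¹) * x := by group
        rw [e]
        exact h4
    rw [key]
    rfl
  let Ψ : HQ (R i) →* AddMonoid.End (Additive (W ⧸ R')) := QuotientGroup.lift (pCore 2 (NR R i)) ψ hker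
  have hΨ : ∀ (h : G) (hh : h ∈ normalizer (R i : Set G)), Ψ (pr (R i) ⟨h, hh⟩) = ψ ⟨h, hh⟩ := fun h hh => rfl
  let aM : DistribMulAction (HQ (R i)) (Additive (W ⧸ R')) := DistribMulAction.compHom _ Ψ
  let p : G → Additive (W ⧸ R') := fun g => if h : g ∈ W then Additive.ofMul (QuotientGroup.mk ⟨g, h⟩) else 0
  have hp : ∀ (x : G) (hx : x ∈ W), p x = Additive.ofMul (QuotientGroup.mk ⟨x, hx⟩) := fun x hx => dif_pos hx
  refine ⟨Additive (W ⧸ R'), inferInstance, aM, p, ?_⟩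
  refine
    { p_mul := fun x hx y hy => ?_
      p_ker := fun x hx => ?_
      p_surj := fun m => ?_
      p_act := fun h hh x hx => ?_ }
  · rw [hp _ (mul_mem hx hy), hp _ hx, hp _ hy]; rfl
  · rw [hp _ hx]
    change (QuotientGroup.mk ⟨x, hx⟩ : W ⧸ R') = 1 ↔ _
    rw [QuotientGroup.eq_one_iff]
    rfl
  · obtain ⟨⟨x, hx⟩, h⟩ := QuotientGroup.mk_surjective m.toMul
    refine ⟨x, hx, ?_⟩
    rw [hp _ hx, h]
    rfl
  · have h1 : h * x * h⁻¹ ∈ W := conj_mem_of_normalizer (hNW hh) hx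
    rw [hp _ hx, hp _ h1]
    change Ψ (pr (R i) ⟨h, hh⟩) (Additive.ofMul (QuotientGroup.mk ⟨x, hx⟩)) = _
    rw [hΨ]
    rfl

end exist

namespace MZ

variable {V : Subgroup G} {R : ι → Subgroup G} {i : ι} {M : Type u} [AddCommGroup M]
  [DistribMulAction (HQ (R i)) M] {p : G → M}

section basic

variable (m : MZ V R i M p)
include m

theorem p_one : p 1 = 0 := by
  have := m.p_mul 1 (one_mem _) 1 (one_mem _)
  rw [mul_one] at this
  exact left_eq_add.1 this

theorem p_inv {x : G} (hx : x ∈ WW V (R i)) : p x⁻¹ = - p x := by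
  rw [eq_neg_iff_add_eq_zero, ← m.p_mul _ (inv_mem hx) _ hx, inv_mul_cancel, m.p_one]

theorem p_eq_iff {x y : G} (hx : x ∈ WW V (R i)) (hy : y ∈ WW V (R i)) : p x = p y ↔ x * y⁻¹ ∈ ZZ V R i := by
  rw [← m.p_ker _ (mul_mem hx (inv_mem hy)), m.p_mul _ hx _ (inv_mem hy), m.p_inv hy, ← sub_eq_add_neg,
    sub_eq_zero]

/-- the image of a subgroup `X` of `W i` -/
def sb (X : Subgroup G) : AddSubgroup M where
  carrier := {a | ∃ x ∈ X, x ∈ WW V (R i) ∧ p x = a}
  zero_mem' := ⟨1, one_mem _, one_mem _, m.p_one⟩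
  add_mem' := by
    rintro _ _ ⟨x, hx, hx', rfl⟩ ⟨y, hy, hy', rfl⟩
    exact ⟨x * y, mul_mem hx hy, mul_mem hx' hy', m.p_mul x hx' y hy'⟩
  neg_mem' := by
    rintro _ ⟨x, hx, hx', rfl⟩
    exact ⟨x⁻¹, inv_mem hx, inv_mem hx', m.p_inv hx'⟩

theorem mem_sb {X : Subgroup G} {a : M} : a ∈ m.sb X ↔ ∃ x ∈ X, x ∈ WW V (R i) ∧ p x = a := Iff.rfl

theorem p_mem {X : Subgroup G} {x : G} (hx : x ∈ WW V (R i)) (h : x ∈ X) : p x ∈ m.sb X := ⟨x, h, hx, rfl⟩

theorem p_mem_iff {X : Subgroup G} {x : G} (hx : x ∈ WW V (R i)) (hR : ZZ V R i ≤ X) :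
    p x ∈ m.sb X ↔ x ∈ X := by
  refine ⟨?_, m.p_mem hx⟩
  rintro ⟨y, hy, hy', e⟩
  have h1 := hR ((m.p_eq_iff hy' hx).1 e)
  have e2 : x = (y * x⁻¹)⁻¹ * y := by group
  rw [e2]
  exact mul_mem (inv_mem h1) hy

theorem sb_mono {X X' : Subgroup G} (h : X ≤ X') : m.sb X ≤ m.sb X' := by
  rintro _ ⟨x, hx, hx', rfl⟩
  exact ⟨x, h hx, hx', rfl⟩

theorem sb_smul {X : Subgroup G} {h : G} (hh : h ∈ normalizer (R i : Set G))
    (hX : h ∈ normalizer (X : Set G)) {a : M} (ha : a ∈ m.sb X) : pr (R i) ⟨h, hh⟩ • a ∈ m.sb X := by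
  obtain ⟨x, hx, hx', rfl⟩ := ha
  rw [m.p_act h hh x hx']
  exact ⟨_, conj_mem_of_normalizer hX hx, conj_mem_of_normalizer (normalizer_le_WW V (R i) hh) hx', rfl⟩

theorem smul_sub {h : G} (hh : h ∈ normalizer (R i : Set G)) {x : G} (hx : x ∈ WW V (R i)) :
    pr (R i) ⟨h, hh⟩ • p x - p x = p (h * x * h⁻¹ * x⁻¹) := by
  have h1 := conj_mem_of_normalizer (normalizer_le_WW V (R i) hh) hx
  rw [m.p_act h hh x hx, m.p_mul _ h1 _ (inv_mem hx), m.p_inv hx, sub_eq_add_neg]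

omit m in
theorem comm_mem_W {h : G} (hh : h ∈ normalizer (R i : Set G)) {x : G} (hx : x ∈ WW V (R i)) :
    h * x * h⁻¹ * x⁻¹ ∈ WW V (R i) :=
  mul_mem (conj_mem_of_normalizer (normalizer_le_WW V (R i) hh) hx) (inv_mem hx)

/-- `M = ⟨e^H⟩` -/
theorem gen {S : AddSubgroup M} (hS : ∀ (h : HQ (R i)), ∀ a ∈ m.sb V, h • a ∈ S) : S = ⊤ := by
  rw [eq_top_iff]
  intro a _
  obtain ⟨x, hx, rfl⟩ := m.p_surj a
  let T : Subgroup G :=
    { carrier := {x | x ∈ WW V (R i) ∧ p x ∈ S}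
      one_mem' := ⟨one_mem _, by rw [m.p_one]; exact zero_mem _⟩
      mul_mem' := by
        rintro x y ⟨hx, hx'⟩ ⟨hy, hy'⟩
        exact ⟨mul_mem hx hy, by rw [m.p_mul x hx y hy]; exact add_mem hx' hy'⟩
      inv_mem' := by
        rintro x ⟨hx, hx'⟩
        exact ⟨inv_mem hx, by rw [m.p_inv hx]; exact neg_mem hx'⟩ }
  have hT : WW V (R i) ≤ T := by
    refine iSup_le fun h => ?_
    rintro _ ⟨v, hv, rfl⟩
    change (h : G) * v * (h : G)⁻¹ ∈ T
    have hvW := V_le_WW V (R i) hv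
    refine ⟨cj_le_WW h.2 (conj_mem_cj hv), ?_⟩
    rw [← m.p_act h h.2 v hvW]
    exact hS _ _ ⟨v, hv, hvW, rfl⟩
  exact (hT hx).2

theorem finite_M [Finite G] : Finite M := by
  refine Finite.of_surjective (fun x : WW V (R i) => p x) fun a => ?_
  obtain ⟨x, hx, rfl⟩ := m.p_surj a
  exact ⟨⟨x, hx⟩, rfl⟩

end basic

section facts

variable (m : MZ V R i M p) (b : BT V R)
include m b

theorem two (a : M) : a + a = 0 := by
  obtain ⟨x, hx, rfl⟩ := m.p_surj a
  rw [← m.p_mul x hx x hx, m.p_ker _ (mul_mem hx hx)]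
  exact b.R_le_Z i (b.W_sq i hx)

theorem p_R {x : G} (hx : x ∈ R i) : p x = 0 :=
  (m.p_ker x (b.R_le_W i i hx)).2 (b.R_le_Z i hx)

end facts

section form

variable {j : ι} {F : Type v} [Field F] {v : F → F → G} {w1 w2 : F → G}
variable (m : MZ V R i M p) (b : BT V R) (c : Coord V R i j v w1 w2)
include m b c

/-- the commutator form -/
theorem exists_form : ∃ f : M →+ M →+ F,
    ∀ x ∈ WW V (R i), ∀ y ∈ WW V (R i), x * y * x⁻¹ * y⁻¹ = v (f (p x) (p y)) 0 := by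
  have hcong : ∀ x ∈ WW V (R i), ∀ x' ∈ WW V (R i), ∀ y ∈ WW V (R i), ∀ y' ∈ WW V (R i),
      p x = p x' → p y = p y' → x * y * x⁻¹ * y⁻¹ = x' * y' * x'⁻¹ * y'⁻¹ := by
    intro x hx x' hx' y hy y' hy' h1 h2
    have k1 := (m.p_eq_iff hx hx').1 h1
    have k2 := (m.p_eq_iff hy hy').1 h2
    set z := x * x'⁻¹ with hz
    set z' := y * y'⁻¹ with hz'
    have ex : x = z * x' := by rw [hz]; group
    have ey : y = z' * y' := by rw [hz']; group
    have c1 : Commute z' x' := (mem_centralizer_iff.1 k2.2 x' hx').symm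
    have c2 : Commute z y' := (mem_centralizer_iff.1 k1.2 y' hy').symm
    have c3 : Commute z z' := (mem_centralizer_iff.1 k1.2 z' k2.1).symm
    have c4 : Commute z x' := (mem_centralizer_iff.1 k1.2 x' hx').symm
    have c5 : Commute z' y' := (mem_centralizer_iff.1 k2.2 y' hy').symm
    have g1 : Commute z (x' * (z' * y') * x'⁻¹) := (c4.mul_right (c3.mul_right c2)).mul_right c4.inv_right
    have g2 : Commute z' (x' * y' * x'⁻¹) := (c1.mul_right c5).mul_right c1.inv_right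
    rw [ex, ey]
    calc z * x' * (z' * y') * (z * x')⁻¹ * (z' * y')⁻¹
        = (z * (x' * (z' * y') * x'⁻¹)) * z⁻¹ * (z' * y')⁻¹ := by group
      _ = x' * (z' * y') * x'⁻¹ * (z' * y')⁻¹ := by rw [g1.eq]; group
      _ = (x' * z') * y' * x'⁻¹ * (z' * y')⁻¹ := by group
      _ = (z' * (x' * y' * x'⁻¹)) * (z' * y')⁻¹ := by rw [← c1.eq]; group
      _ = (x' * y' * x'⁻¹) * (z' * (z' * y')⁻¹) := by rw [g2.eq]; group
      _ = (x' * y' * x'⁻¹) * y'⁻¹ := by
          rw [mul_inv_rev, ← mul_assoc z', (c5.inv_right).eq]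
          group
  have key : ∀ a a' : M, ∃ s : F, ∀ x ∈ WW V (R i), ∀ y ∈ WW V (R i), p x = a → p y = a' →
      x * y * x⁻¹ * y⁻¹ = v s 0 := by
    intro a a'
    obtain ⟨x, hx, rfl⟩ := m.p_surj a
    obtain ⟨y, hy, rfl⟩ := m.p_surj a'
    obtain ⟨s, hs⟩ := (c.mem_R1 _).1 (b.WW_comm i hx hy)
    refine ⟨s, fun x' hx' y' hy' h1 h2 => ?_⟩
    rw [hs]
    exact hcong x' hx' x hx y' hy' y hy h1 h2
  choose f0 hf0 using key
  have hf : ∀ x ∈ WW V (R i), ∀ y ∈ WW V (R i), x * y * x⁻¹ * y⁻¹ = v (f0 (p x) (p y)) 0 :=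
    fun x hx y hy => hf0 _ _ x hx y hy rfl rfl
  have hv : ∀ s s', v s 0 = v s' 0 → s = s' := fun s s' h => (c.v_inj h).1
  have hva : ∀ s s', v (s + s') 0 = v s 0 * v s' 0 := fun s s' => by
    have h := c.v_add s 0 s' 0
    rwa [add_zero] at h
  have hadd2 : ∀ a a' a'', f0 a (a' + a'') = f0 a a' + f0 a a'' := by
    intro a a' a''
    obtain ⟨x, hx, rfl⟩ := m.p_surj a
    obtain ⟨y, hy, rfl⟩ := m.p_surj a'
    obtain ⟨y', hy', rfl⟩ := m.p_surj a''
    apply hv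
    rw [hva, ← m.p_mul y hy y' hy', ← hf x hx _ (mul_mem hy hy'), ← hf x hx y hy, ← hf x hx y' hy']
    have h1 := b.conj_R (b.W_le_Q i hy) (b.WW_comm i hx hy')
    calc x * (y * y') * x⁻¹ * (y * y')⁻¹
        = x * y * x⁻¹ * y⁻¹ * (y * (x * y' * x⁻¹ * y'⁻¹) * y⁻¹) := by group
      _ = _ := by rw [h1]
  have hadd1 : ∀ a a' a'', f0 (a + a') a'' = f0 a a'' + f0 a' a'' := by
    intro a a' a''
    obtain ⟨x, hx, rfl⟩ := m.p_surj a
    obtain ⟨x', hx', rfl⟩ := m.p_surj a'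
    obtain ⟨y, hy, rfl⟩ := m.p_surj a''
    apply hv
    rw [hva, ← m.p_mul x hx x' hx', ← hf _ (mul_mem hx hx') y hy, ← hf x hx y hy, ← hf x' hx' y hy]
    have h1 := b.conj_R (b.W_le_Q i hx) (b.WW_comm i hx' hy)
    have h2 := b.R_comm i _ (b.WW_comm i hx' hy) _ (b.WW_comm i hx hy)
    calc x * x' * y * (x * x')⁻¹ * y⁻¹
        = (x * (x' * y * x'⁻¹ * y⁻¹) * x⁻¹) * (x * y * x⁻¹ * y⁻¹) := by group
      _ = (x' * y * x'⁻¹ * y⁻¹) * (x * y * x⁻¹ * y⁻¹) := by rw [h1]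
      _ = _ := h2
  let f : M →+ M →+ F := AddMonoidHom.mk' (fun a => AddMonoidHom.mk' (f0 a) (hadd2 a)) (by
    intro a a'
    apply AddMonoidHom.ext
    intro a''
    exact hadd1 a a' a'')
  exact ⟨f, hf⟩

end form

end MZ

/-- `M = W i / Z(W i)` as a space over `F`, with the `F`-bilinear form `f`, `e : F → M` the line `V / R i`, `ω` the coordinate
of `M / e^⊥`; `h ∈ HQ (R i)` acts `σ h`-semilinearly, on `R i = F` as `κ h * σ h` -/
structure Fq (V : Subgroup G) (R : ι → Subgroup G) (i : ι) {F : Type v} [Field F] (v : F → F → G)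
    (M : Type u) [AddCommGroup M] [Module F M] [DistribMulAction (HQ (R i)) M] (p : G → M)
    (f : M →ₗ[F] M →ₗ[F] F) (e : F →ₗ[F] M) (ω : M →ₗ[F] F) (σ : HQ (R i) →* RingAut F)
    (κ : HQ (R i) → F) : Prop extends MZ V R i M p where
  f_eq : ∀ x ∈ WW V (R i), ∀ y ∈ WW V (R i), x * y * x⁻¹ * y⁻¹ = v (f (p x) (p y)) 0
  e_eq : ∀ β γ, p (v β γ) = e γ
  ω_eq : ∀ x ∈ WW V (R i), ∀ β γ, x * v β γ * x⁻¹ = v (β + ω (p x) * γ) γ
  fe : ∀ x γ, f x (e γ) = ω x * γ
  symm : ∀ x y, f x y = f y x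
  alt : ∀ x, f x x = 0
  nd : ∀ x, (∀ y, f x y = 0) → x = 0
  semi : ∀ h (a : F) (x : M), h • (a • x) = σ h a • (h • x)
  act : ∀ h x y, f (h • x) (h • y) = κ h * σ h (f x y)
  R_act : ∀ (g : G) (hg : g ∈ normalizer (R i : Set G)) (β : F),
    g * v β 0 * g⁻¹ = v (κ (pr (R i) ⟨g, hg⟩) * σ (pr (R i) ⟨g, hg⟩) β) 0
  κne : ∀ h, κ h ≠ 0

section fq

variable {V : Subgroup G} {R : ι → Subgroup G} {i j : ι} {M : Type u} [AddCommGroup M]
  [DistribMulAction (HQ (R i)) M] {p : G → M} {F : Type v} [Field F] {v : F → F → G} {w1 w2 : F → G} {t : F → G}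

/-- the action of `H` on `R i = F` -/
theorem exists_rho (b : BT V R) (c : Coord V R i j v w1 w2) : ∃ ρ : HQ (R i) → F ≃+ F,
    (∀ β, ρ 1 β = β) ∧ (∀ h h' β, ρ (h * h') β = ρ h (ρ h' β)) ∧
    ∀ (g : G) (hg : g ∈ normalizer (R i : Set G)) (β : F), g * v β 0 * g⁻¹ = v (ρ (pr (R i) ⟨g, hg⟩) β) 0 := by
  have hv : ∀ s s', v s 0 = v s' 0 → s = s' := fun s s' h => (c.v_inj h).1
  have hva : ∀ s s', v (s + s') 0 = v s 0 * v s' 0 := fun s s' => by
    have h := c.v_add s 0 s' 0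
    rwa [add_zero] at h
  have hR : ∀ s, v s 0 ∈ R i := fun s => (c.mem_R1 _).2 ⟨s, rfl⟩
  have key : ∀ g ∈ normalizer (R i : Set G), ∀ s, ∃ s', g * v s 0 * g⁻¹ = v s' 0 := by
    intro g hg s
    obtain ⟨s', hs'⟩ := (c.mem_R1 _).1 (conj_mem_of_normalizer hg (hR s))
    exact ⟨s', hs'.symm⟩
  choose! φ hφ using key
  have hcong : ∀ g (hg : g ∈ normalizer (R i : Set G)) g' (hg' : g' ∈ normalizer (R i : Set G)),
      pr (R i) ⟨g, hg⟩ = pr (R i) ⟨g', hg'⟩ → ∀ s, φ g s = φ g' s := by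
    intro g hg g' hg' h s
    apply hv
    rw [← hφ g hg s, ← hφ g' hg' s]
    have h1 := (pr_eq_pr hg hg').1 h
    have h2 := b.conj_R h1 (hR s)
    calc g * v s 0 * g⁻¹ = g * (g⁻¹ * g' * v s 0 * (g⁻¹ * g')⁻¹) * g⁻¹ := by rw [h2]
      _ = _ := by group
  have hmul : ∀ g ∈ normalizer (R i : Set G), ∀ g' ∈ normalizer (R i : Set G), ∀ s,
      φ (g * g') s = φ g (φ g' s) := by
    intro g hg g' hg' s
    apply hv
    rw [← hφ _ (mul_mem hg hg') s, ← hφ g hg, ← hφ g' hg']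
    group
  have hone : ∀ s, φ 1 s = s := by
    intro s
    apply hv
    rw [← hφ 1 (one_mem _) s]
    group
  have hadd : ∀ g ∈ normalizer (R i : Set G), ∀ s s', φ g (s + s') = φ g s + φ g s' := by
    intro g hg s s'
    apply hv
    rw [hva, ← hφ g hg, ← hφ g hg, ← hφ g hg, hva]
    group
  let Φ : ∀ g, g ∈ normalizer (R i : Set G) → (F ≃+ F) := fun g hg =>
    { toFun := φ g
      invFun := φ g⁻¹
      left_inv := fun s => by rw [← hmul g⁻¹ (inv_mem hg) g hg, inv_mul_cancel, hone]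
      right_inv := fun s => by rw [← hmul g hg g⁻¹ (inv_mem hg), mul_inv_cancel, hone]
      map_add' := hadd g hg }
  have hex : ∀ h : HQ (R i), ∃ ψ : F ≃+ F, ∀ g (hg : g ∈ normalizer (R i : Set G)), pr (R i) ⟨g, hg⟩ = h →
      ∀ s, φ g s = ψ s := by
    intro h
    obtain ⟨g0, hg0, rfl⟩ := exists_pr h
    exact ⟨Φ g0 hg0, fun g hg h s => hcong g hg g0 hg0 h s⟩
  choose ρ hρ using hex
  refine ⟨ρ, fun β => ?_, fun h h' β => ?_, fun g hg β => ?_⟩
  · rw [← hρ 1 1 (one_mem _) (map_one (pr (R i))), hone]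
  · obtain ⟨g, hg, rfl⟩ := exists_pr h
    obtain ⟨g', hg', rfl⟩ := exists_pr h'
    rw [← hρ _ g hg rfl, ← hρ _ g' hg' rfl, ← hmul g hg g' hg']
    exact (hρ _ (g * g') (mul_mem hg hg') (map_mul (pr (R i)) ⟨g, hg⟩ ⟨g', hg'⟩) β).symm
  · rw [hφ g hg, hρ _ g hg rfl]

/-- **the `F`-structure on `W i / Z(W i)`** -/
theorem MZ.exists_fq [Finite G] [Finite F] (hF : ∃ a : F, a ≠ 0 ∧ a ≠ 1) (m : MZ V R i M p) (b : BT V R)
    (c : Coord V R i j v w1 w2) (τ : TorD V R i j v t) :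
    ∃ (_ : Module F M) (f : M →ₗ[F] M →ₗ[F] F) (e : F →ₗ[F] M) (ω : M →ₗ[F] F) (σ : HQ (R i) →* RingAut F)
      (κ : HQ (R i) → F), Fq V R i v M p f e ω σ κ := by
  obtain ⟨ρ, ρ1, ρm, hρ⟩ := exists_rho b c
  obtain ⟨f, hf⟩ := m.exists_form b c
  have h2F : ∀ a : F, a + a = 0 := fun a => by
    have h := b.V_sq _ (c.v_mem a 0)
    have h1 := c.v_add a 0 a 0
    rw [h] at h1
    exact (c.v_one _ _ h1).1
  have hv : ∀ s s', v s 0 = v s' 0 → s = s' := fun s s' h => (c.v_inj h).1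
  have hva : ∀ s s', v (s + s') 0 = v s 0 * v s' 0 := fun s s' => by
    have h := c.v_add s 0 s' 0
    rwa [add_zero] at h
  have hvW : ∀ β γ, v β γ ∈ WW V (R i) := fun β γ => V_le_WW V (R i) (c.v_mem β γ)
  have hR : ∀ s, v s 0 ∈ R i := fun s => (c.mem_R1 _).2 ⟨s, rfl⟩
  -- the line
  let e : F →+ M :=
    { toFun := fun γ => p (v 0 γ)
      map_zero' := by rw [c.v_zero, m.p_one]
      map_add' := fun γ γ' => by
        have h := c.v_add 0 γ 0 γ'
        rw [add_zero] at h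
        rw [h, m.p_mul _ (hvW 0 γ) _ (hvW 0 γ')] }
  have he : ∀ γ, e γ = p (v 0 γ) := fun γ => rfl
  have he' : ∀ β γ, p (v β γ) = e γ := by
    intro β γ
    have h := c.v_add β 0 0 γ
    rw [add_zero, zero_add] at h
    rw [h, m.p_mul _ (hvW β 0) _ (hvW 0 γ), m.p_R b (hR β), zero_add]
    rfl
  -- `ω`
  have hω0 : ∀ a : M, ∃ s : F, ∀ x ∈ WW V (R i), p x = a → ∀ β γ, x * v β γ * x⁻¹ = v (β + s * γ) γ := by
    intro a
    obtain ⟨x, hx, rfl⟩ := m.p_surj a
    obtain ⟨s, hs⟩ := c.W1_act x hx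
    refine ⟨s, fun x' hx' h β γ => ?_⟩
    have k1 := (m.p_eq_iff hx' hx).1 h
    have k2 : Commute (x' * x⁻¹) (v (β + s * γ) γ) := (mem_centralizer_iff.1 k1.2 _ (hvW _ _)).symm
    calc x' * v β γ * x'⁻¹ = (x' * x⁻¹) * (x * v β γ * x⁻¹) * (x' * x⁻¹)⁻¹ := by group
      _ = v (β + s * γ) γ := by rw [hs, k2.eq, mul_inv_cancel_right]
  choose ω0 hω0 using hω0
  have hω : ∀ x ∈ WW V (R i), ∀ β γ, x * v β γ * x⁻¹ = v (β + ω0 (p x) * γ) γ := fun x hx => hω0 _ x hx rfl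
  have hωu : ∀ x ∈ WW V (R i), ∀ s, (x * v 0 1 * x⁻¹ = v s 1) → ω0 (p x) = s := by
    intro x hx s h
    rw [hω x hx, zero_add, mul_one] at h
    exact (c.v_inj h).1
  let ω : M →+ F := AddMonoidHom.mk' ω0 (by
    intro a a'
    obtain ⟨x, hx, rfl⟩ := m.p_surj a
    obtain ⟨y, hy, rfl⟩ := m.p_surj a'
    rw [← m.p_mul x hx y hy]
    apply hωu _ (mul_mem hx hy)
    calc x * y * v 0 1 * (x * y)⁻¹ = x * (y * v 0 1 * y⁻¹) * x⁻¹ := by group
      _ = _ := by rw [hω y hy, hω x hx]; congr 1; ring)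
  have hωω : ∀ a, ω a = ω0 a := fun a => rfl
  have fe : ∀ x γ, f x (e γ) = ω x * γ := by
    intro a γ
    obtain ⟨x, hx, rfl⟩ := m.p_surj a
    apply hv
    rw [he, ← hf x hx _ (hvW 0 γ), hω x hx, zero_add, hωω]
    have h := c.v_add (ω0 (p x) * γ) 0 0 γ
    rw [add_zero, zero_add] at h
    rw [h, mul_inv_cancel_right]
  have falt : ∀ a, f a a = 0 := by
    intro a
    obtain ⟨x, hx, rfl⟩ := m.p_surj a
    apply hv
    rw [← hf x hx x hx, c.v_zero]
    group
  have fsymm : ∀ a a', f a a' = f a' a := by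
    intro a a'
    have h := falt (a + a')
    rw [map_add, map_add, AddMonoidHom.add_apply, AddMonoidHom.add_apply, falt, falt, zero_add, add_zero] at h
    have h2 := h2F (f a a')
    rw [← h2] at h
    exact (add_right_cancel h).symm
  have fnd : ∀ a, (∀ a', f a a' = 0) → a = 0 := by
    intro a h
    obtain ⟨x, hx, rfl⟩ := m.p_surj a
    rw [m.p_ker x hx]
    refine mem_inf.2 ⟨hx, ?_⟩
    rw [mem_centralizer_iff]
    intro w hw
    have h1 := hf x hx w hw
    rw [h, c.v_zero, mul_inv_eq_one, mul_inv_eq_iff_eq_mul] at h1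
    exact h1.symm
  have fact : ∀ (h : HQ (R i)) a a', f (h • a) (h • a') = ρ h (f a a') := by
    intro h a a'
    obtain ⟨g, hg, rfl⟩ := exists_pr h
    obtain ⟨x, hx, rfl⟩ := m.p_surj a
    obtain ⟨y, hy, rfl⟩ := m.p_surj a'
    have hN := normalizer_le_WW V (R i) hg
    apply hv
    rw [m.p_act g hg x hx, m.p_act g hg y hy,
      ← hf _ (conj_mem_of_normalizer hN hx) _ (conj_mem_of_normalizer hN hy), ← hρ g hg, ← hf x hx y hy]
    group
  let T : Fˣ → HQ (R i) := fun a => pr (R i) ⟨t a, τ.normR a.ne_zero⟩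
  have hTv : ∀ (a : Fˣ) β γ, t a * v β γ * (t a)⁻¹ = v ((a : F) * β) ((a : F)⁻¹ * γ) :=
    fun a β γ => τ.act _ _ _ a.ne_zero
  let A : Set (HQ (R i)) := {h | ∃ u ∈ UU V R j, ∃ hu : u ∈ normalizer (R i : Set G), pr (R i) ⟨u, hu⟩ = h}
  have hd : FqMod.Dat ρ f e ω T A (m.sb (DD V R)) :=
    { ρone := ρ1
      ρmul := ρm
      symm := fsymm
      nd := fnd
      act := fact
      fe := fe
      span := by
        intro L hL
        apply m.gen
        rintro h _ ⟨x, hx, hxW, rfl⟩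
        obtain ⟨β, γ, rfl⟩ := (c.mem_V x).1 hx
        rw [he']
        exact hL h γ
      ωne := by
        refine ⟨p (w1 1), ?_⟩
        have h1 : ω (p (w1 1)) = 1 := by
          apply hωu _ (c.w1_mem 1)
          rw [c.w1_act, zero_add, mul_one]
        rw [h1]
        exact one_ne_zero
      tρ := by
        intro a β
        apply hv
        rw [← hρ _ (τ.normR a.ne_zero), hTv, mul_zero]
      te := by
        intro a γ
        refine ⟨(a : F)⁻¹ * γ, ?_⟩
        rw [he, he, m.p_act _ _ _ (hvW 0 γ), hTv, mul_zero]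
      tD := by
        rintro a _ ⟨d, hd, hdW, rfl⟩
        rw [m.smul_sub _ hdW]
        obtain ⟨β, γ, h⟩ := (c.mem_V _).1 (b.XD (τ.memX _ a.ne_zero) hd)
        refine ⟨γ, ?_⟩
        rw [← h, he']
      Aρ := by
        rintro _ ⟨u, hu, huN, rfl⟩ β
        apply hv
        rw [← hρ u huN, ← mem_centralizer_iff.1 (UU_le_cen j hu) _ (c.v_mem β 0), mul_inv_cancel_right]
      surj := by
        intro a ha a' ha'
        obtain ⟨x, hx, rfl⟩ := m.p_surj a
        obtain ⟨y, hy, rfl⟩ := m.p_surj a'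
        have hxU : x ∉ UU V R i := by
          intro h
          apply ha
          apply hωu x hx
          rw [← mem_centralizer_iff.1 (UU_le_cen i h) _ (c.v_mem 0 1), mul_inv_cancel_right]
        have hyU : y ∈ UU V R i := by
          refine mem_inf.2 ⟨hy, ?_⟩
          rw [mem_centralizer_iff]
          intro z hz
          obtain ⟨β, γ, rfl⟩ := (c.mem_V z).1 hz
          have h1 := hω y hy β γ
          rw [← hωω, ha', zero_mul, add_zero, mul_inv_eq_iff_eq_mul] at h1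
          exact h1.symm
        obtain ⟨u, hu, huD⟩ := b.surj (Ne.symm c.ne) hx hxU (inv_mem hyU)
        have huN := b.cen_le_N i (UU_le_cen j hu)
        refine ⟨pr (R i) ⟨u, huN⟩, ⟨u, hu, huN, rfl⟩, ?_⟩
        have hcW := MZ.comm_mem_W (V := V) huN hx
        rw [m.smul_sub huN hx, ← neg_sub, sub_eq_add_neg, ← m.p_inv hy, ← m.p_mul _ hcW _ (inv_mem hy)]
        refine neg_mem (m.p_mem (mul_mem hcW (inv_mem hy)) ?_)
        have e1 : (u * x * u⁻¹ * x⁻¹) * y⁻¹ = (x * u * x⁻¹ * u⁻¹)⁻¹ * y⁻¹ := by group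
        rw [e1]
        exact huD }
  obtain ⟨md, σ, g1, g2, g3, g4, g5, g6, -, -⟩ := hd.exists_module hF
  let fl : M →ₗ[F] M →ₗ[F] F := LinearMap.mk₂ F (fun x y => f x y)
    (fun x x' y => by rw [map_add]; rfl) (fun a x y => g1 a x y) (fun x y y' => map_add _ _ _)
    (fun a x y => g2 a x y)
  let el : F →ₗ[F] M := { e with map_smul' := fun a γ => g5 a γ }
  let ωl : M →ₗ[F] F := { ω with map_smul' := fun a x => g6 a x }
  have hρσ : ∀ h β, ρ h β = ρ h 1 * σ h β := by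
    intro h β
    have h1 := g3 h β 1
    rw [mul_one] at h1
    rw [h1, mul_comm]
  refine ⟨md, fl, el, ωl, σ, fun h => ρ h 1, ?_⟩
  exact
    { toMZ := m
      f_eq := hf
      e_eq := he'
      ω_eq := hω
      fe := fe
      symm := fsymm
      alt := falt
      nd := fnd
      semi := g4
      act := fun h x y => (fact h x y).trans (hρσ h _)
      R_act := fun g hg β => (hρ g hg β).trans (by rw [hρσ])
      κne := fun h h0 => one_ne_zero ((ρ h).map_eq_zero_iff.1 h0) }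

end fq

end Cfsg.Agent.Omega.HOne.ModZ
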