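import Cfsg.Agent.Omega.BTwo.Conj

/-!
# II.0h1, nonsplit case: a common Sylow 2-subgroup

`V, V'` a mutual pair with Sylow 2-subgroups `S, S'`, `H ≥ S, S'` (`= N(U) ∩ N(U') ∩ N([V, V'])`), `M ≥ H`
(`= N(U')`), `W = ⟨V'^M⟩`.  Every `X ∈ V^H` which does not commute with `V'` induces the root group `A'` on `V'` and
`W = V' C_W(X)`.  Then all these `X` act in the same way on `W`, so the noncommuting graph between `V^H` and `V'^H` is a
disjoint union of complete bipartite graphs, and there is `V'^h`, not commuting with `V`, normalised by `S`.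
-/

set_option autoImplicit false

namespace Cfsg.Agent.Omega.HOne.NSPar

open Subgroup Cfsg.Agent.Omega.BTwo

variable {G : Type*} [Group G]

/-- `X` and `Y` commute elementwise. -/
def Com (X Y : Subgroup G) : Prop := ∀ x ∈ X, ∀ y ∈ Y, x * y = y * x

theorem com_cj {g : G} {X Y : Subgroup G} : Com (cj g X) (cj g Y) ↔ Com X Y := by
  constructor
  · intro h x hx y hy
    have h1 := h _ (conj_mem_cj hx) _ (conj_mem_cj hy)
    have e1 : g * x * g⁻¹ * (g * y * g⁻¹) = g * (x * y) * g⁻¹ := by group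
    have e2 : g * y * g⁻¹ * (g * x * g⁻¹) = g * (y * x) * g⁻¹ := by group
    rw [e1, e2] at h1
    exact mul_left_cancel (mul_right_cancel h1)
  · rintro h _ ⟨x, hx, rfl⟩ _ ⟨y, hy, rfl⟩
    have h1 := h x hx y hy
    change g * x * g⁻¹ * (g * y * g⁻¹) = g * y * g⁻¹ * (g * x * g⁻¹)
    calc g * x * g⁻¹ * (g * y * g⁻¹) = g * (x * y) * g⁻¹ := by group
      _ = g * (y * x) * g⁻¹ := by rw [h1]
      _ = _ := by group

/-- **Common Sylow subgroup**: if the noncommuting graph between `V^H` and `V'^H` is a disjoint union of complete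
bipartite graphs, there is `V'^k`, not commuting with `V`, normalised by `S`. -/
theorem common_sylow [Finite G] {H V V' : Subgroup G} (S S' : Sylow 2 G) (hSH : (S : Subgroup G) ≤ H)
    (hSV : (S : Subgroup G) ≤ normalizer (V : Set G)) (hSH' : (S' : Subgroup G) ≤ H)
    (hSV' : (S' : Subgroup G) ≤ normalizer (V' : Set G)) (hne : ¬ Com V V')
    (hnb : ∀ h ∈ H, ¬ Com (cj h V) V' → ∀ k ∈ H, (Com (cj h V) (cj k V') ↔ Com V (cj k V'))) :
    ∃ k ∈ H, cj k (S' : Subgroup G) = S ∧ ¬ Com V (cj k V') := by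
  have key : ∀ h ∈ H, ∀ k : G, Com (cj h V) (cj k V') ↔ Com V (cj (h⁻¹ * k) V') := by
    intro h _ k
    rw [cj_mul h⁻¹ k, ← com_cj (g := h) (X := V), cj_cj_inv]
  let K : Subgroup G :=
    { carrier := {h | h ∈ H ∧ ∀ k ∈ H, (Com (cj h V) (cj k V') ↔ Com V (cj k V'))}
      one_mem' := ⟨one_mem _, fun k _ => by rw [cj_one]⟩
      mul_mem' := by
        rintro a b ⟨ha, ha'⟩ ⟨hb, hb'⟩
        refine ⟨mul_mem ha hb, fun k hk => ?_⟩
        have e : Com (cj (a * b) V) (cj k V') ↔ Com (cj b V) (cj (a⁻¹ * k) V') := by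
          rw [cj_mul a b, cj_mul a⁻¹ k, ← com_cj (g := a) (X := cj b V), cj_cj_inv]
        rw [e, hb' _ (mul_mem (inv_mem ha) hk), ← key a ha, ha' k hk]
      inv_mem' := by
        rintro a ⟨ha, ha'⟩
        refine ⟨inv_mem ha, fun k hk => ?_⟩
        rw [key _ (inv_mem ha), inv_inv, ← ha' _ (mul_mem ha hk), key a ha, inv_mul_cancel_left] }
  have hSK : (S : Subgroup G) ≤ K := by
    intro s hs
    refine ⟨hSH hs, fun k _ => ?_⟩
    rw [cj_eq_self_iff.2 (hSV hs)]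
  have hSK' : (S' : Subgroup G) ≤ K := by
    intro s hs
    refine ⟨hSH' hs, hnb s (hSH' hs) ?_⟩
    intro h
    apply hne
    have h1 : Com (cj s V) (cj s V') := by rwa [cj_eq_self_iff.2 (hSV' hs)]
    exact com_cj.1 h1
  -- both are Sylow in `K`
  let T : Sylow 2 K := S.subtype hSK
  let T' : Sylow 2 K := S'.subtype hSK'
  obtain ⟨k, hk⟩ := MulAction.exists_smul_eq K T' T
  have h1 : cj (k : G) (S' : Subgroup G) = S := by
    have h2 := congrArg (fun Q : Sylow 2 K => (Q : Subgroup K).map K.subtype) hk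
    simp only [Sylow.coe_subgroup_smul] at h2
    have h3 : ∀ X : Subgroup G, X ≤ K → (X.subgroupOf K).map K.subtype = X := fun X hX => by
      rw [subgroupOf_map_subtype, inf_eq_left.2 hX]
    have h4 : ((T : Sylow 2 K) : Subgroup K) = (S : Subgroup G).subgroupOf K := rfl
    have h5 : ((T' : Sylow 2 K) : Subgroup K) = (S' : Subgroup G).subgroupOf K := rfl
    rw [h4, h5, h3 _ hSK] at h2
    rw [← h2]
    ext x
    rw [mem_cj, mem_map]
    constructor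
    · intro hx
      refine ⟨k * ⟨(k : G)⁻¹ * x * k, hSK' hx⟩ * k⁻¹, ?_, ?_⟩
      · rw [Subgroup.mem_smul_pointwise_iff_exists]
        exact ⟨⟨(k : G)⁻¹ * x * k, hSK' hx⟩, hx, rfl⟩
      · simp only [subtype_apply, coe_mul, coe_inv]
        group
    · rintro ⟨y, hy, rfl⟩
      rw [Subgroup.mem_smul_pointwise_iff_exists] at hy
      obtain ⟨s, hs, rfl⟩ := hy
      have e : (k : G)⁻¹ * (K.subtype (MulAut.conj k • s)) * k = s := by
        simp only [subtype_apply, MulAut.smul_def, MulAut.conj_apply, coe_mul, coe_inv]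
        group
      rw [e]
      exact hs
  refine ⟨k, k.2.1, h1, ?_⟩
  rw [← k.2.2 _ k.2.1, com_cj]
  exact hne

/-- The data on the side of `V'`: `W = ⟨V'^M⟩`, `β : V' → F` the coordinate of `V' / [V, V']`, `κ (β v) a = [v, x_a]`. -/
structure Dat {F : Type*} [Field F] (H M V V' W U : Subgroup G) (β : G → F) (κ : F → F → G) : Prop where
  HM : H ≤ M
  VH : V ≤ H
  WM : ∀ g ∈ M, ∀ w ∈ W, g * w * g⁻¹ ∈ W
  Wc : ∀ w ∈ W, ∀ w' ∈ W, w * w' = w' * w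
  VW : V' ≤ W
  UV : U ≤ V'
  β_mul : ∀ v ∈ V', ∀ w ∈ V', β (v * w) = β v + β w
  κ_mem : ∀ b a, κ b a ∈ V'
  κ_add : ∀ b b' a, κ (b + b') a = κ b a * κ b' a
  κ_ne : ∀ b a, b ≠ 0 → a ≠ 0 → κ b a ≠ 1
  βκ : ∀ b a, β (κ b a) = 0
  /-- `X` induces all of `A'` -/
  all : ∀ h ∈ H, ¬ Com (cj h V) V' → ∀ a : F, ∃ x ∈ cj h V, ∀ v ∈ V', x * v * x⁻¹ = κ (β v) a * v
  /-- `X` induces only `A'` -/
  only : ∀ h ∈ H, ¬ Com (cj h V) V' → ∀ x ∈ cj h V, ∃ a : F, ∀ v ∈ V', x * v * x⁻¹ = κ (β v) a * v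
  /-- `W = V' C_W(X)` -/
  dec : ∀ h ∈ H, ¬ Com (cj h V) V' → ∀ w ∈ W, ∃ v ∈ V', ∃ c ∈ W, w = v * c ∧ ∀ x ∈ cj h V, x * c = c * x
  /-- elements of `SL₂(F)` -/
  sl : ∀ l : F, ∃ f ∈ M, (∀ v ∈ V', f * v * f⁻¹ ∈ V') ∧ (∀ w ∈ W, f * w * f⁻¹ * w⁻¹ ∈ V') ∧
    ∀ b a, β (f * κ b a * f⁻¹) = l * (b * a)
  /-- the quadratic part of `κ` -/
  sq : ∃ m : F, m ≠ 0 ∧ (∀ b, κ b 1 * κ (m * b) m⁻¹ ∈ U) ∧ ∀ b, b ≠ 0 → κ b 1 * κ (m * b) m⁻¹ ≠ 1
  /-- `O₂(M / C_M(W)) = 1` -/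
  cor : ∀ y ∈ M, (∀ w ∈ W, y * w * y⁻¹ * w⁻¹ ∈ U) → (∀ u ∈ U, y * u = u * y) → ∀ w ∈ W, y * w = w * y

namespace Dat

variable {F : Type*} [Field F] {H M V V' W U : Subgroup G} {β : G → F} {κ : F → F → G}

theorem κ_zero (d : Dat H M V V' W U β κ) (a : F) : κ 0 a = 1 := by
  have h := d.κ_add 0 0 a
  rw [add_zero] at h
  exact left_eq_mul.1 h

theorem β_one (d : Dat H M V V' W U β κ) : β 1 = 0 := by
  have h := d.β_mul 1 (one_mem _) 1 (one_mem _)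
  rw [mul_one] at h
  exact left_eq_add.1 h

theorem β_inv (d : Dat H M V V' W U β κ) {v : G} (hv : v ∈ V') : β v⁻¹ = - β v := by
  have h := d.β_mul v hv v⁻¹ (inv_mem hv)
  rw [mul_inv_cancel, d.β_one] at h
  exact (neg_eq_of_add_eq_zero_right h.symm).symm

theorem κ_neg (d : Dat H M V V' W U β κ) (b a : F) : κ (-b) a = (κ b a)⁻¹ := by
  have h := d.κ_add b (-b) a
  rw [add_neg_cancel, d.κ_zero] at h
  exact (inv_eq_of_mul_eq_one_right h.symm).symm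

theorem κ_sub (d : Dat H M V V' W U β κ) (b b' a : F) : κ (b - b') a = κ b a * (κ b' a)⁻¹ := by
  rw [sub_eq_add_neg, d.κ_add, d.κ_neg]

/-- the coordinate `β_X : W → F` -/
theorem exists_beta (d : Dat H M V V' W U β κ) {h : G} (hh : h ∈ H) (hne : ¬ Com (cj h V) V') :
    ∃ B : G → F, (∀ v ∈ V', B v = β v) ∧ (∀ w ∈ W, ∀ v ∈ V', B (v * w) = β v + B w) ∧
      (∀ w ∈ W, B w = 0 → ∀ x ∈ cj h V, x * w = w * x) ∧
      (∀ w ∈ W, (∀ x ∈ cj h V, x * w = w * x) → B w = 0) ∧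
      ∀ a : F, ∀ x ∈ cj h V, (∀ v ∈ V', x * v * x⁻¹ = κ (β v) a * v) →
        ∀ w ∈ W, x * w * x⁻¹ = κ (B w) a * w := by
  classical
  let X := cj h V
  -- `v ∈ V'` commuting with `X` has `β v = 0`
  have h0 : ∀ v ∈ V', (∀ x ∈ cj h V, x * v = v * x) → β v = 0 := by
    intro v hv hc
    by_contra hb
    obtain ⟨x, hx, e⟩ := d.all h hh hne 1
    have h1 := e v hv
    rw [hc x hx, mul_inv_cancel_right] at h1
    exact d.κ_ne _ _ hb one_ne_zero (right_eq_mul.1 h1)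
  have hdec := d.dec h hh hne
  let B : G → F := fun w => if hw : w ∈ W then β (hdec w hw).choose else 0
  have key : ∀ v ∈ V', ∀ c ∈ W, (∀ x ∈ cj h V, x * c = c * x) → B (v * c) = β v := by
    intro v hv c hc hcc
    have hw : v * c ∈ W := mul_mem (d.VW hv) hc
    have e : B (v * c) = β (hdec _ hw).choose := dif_pos hw
    rw [e]
    obtain ⟨hv', c', hc', e', hcc'⟩ := (hdec _ hw).choose_spec
    set v' := (hdec _ hw).choose
    have h1 : v'⁻¹ * v = c' * c⁻¹ := by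
      rw [inv_mul_eq_iff_eq_mul, ← mul_assoc, ← e', mul_inv_cancel_right]
    have h2 : β (v'⁻¹ * v) = 0 := h0 _ (mul_mem (inv_mem hv') hv) fun x hx => by
      rw [h1]
      have h3 := hcc x hx
      have h4 := hcc' x hx
      have h5 : x * c⁻¹ = c⁻¹ * x := by
        rw [eq_inv_mul_iff_mul_eq, ← mul_assoc, ← h3, mul_inv_cancel_right]
      calc x * (c' * c⁻¹) = x * c' * c⁻¹ := by group
        _ = c' * (x * c⁻¹) := by rw [h4]; group
        _ = c' * c⁻¹ * x := by rw [h5]; group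
    rw [d.β_mul _ (inv_mem hv') _ hv, d.β_inv hv'] at h2
    linear_combination -h2
  refine ⟨B, fun v hv => ?_, ?_, ?_, ?_, ?_⟩
  · have := key v hv 1 (one_mem _) (fun x _ => by rw [mul_one, one_mul])
    rwa [mul_one] at this
  · intro w hw v hv
    obtain ⟨v', hv', c, hc, rfl, hcc⟩ := hdec w hw
    rw [← mul_assoc, key _ (mul_mem hv hv') c hc hcc, key v' hv' c hc hcc, d.β_mul v hv v' hv']
  · intro w hw hB x hx
    obtain ⟨v, hv, c, hc, rfl, hcc⟩ := hdec w hw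
    rw [key v hv c hc hcc] at hB
    obtain ⟨a, ha⟩ := d.only h hh hne x hx
    have h1 := ha v hv
    rw [hB, d.κ_zero, one_mul] at h1
    have h2 : x * v = v * x := mul_inv_eq_iff_eq_mul.1 h1
    calc x * (v * c) = x * v * c := by group
      _ = v * (x * c) := by rw [h2]; group
      _ = v * c * x := by rw [hcc x hx]; group
  · intro w hw hcw
    obtain ⟨v, hv, c, hc, rfl, hcc⟩ := hdec w hw
    rw [key v hv c hc hcc]
    apply h0 v hv
    intro x hx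
    have h1 := hcw x hx
    have h2 := hcc x hx
    have h3 : x * v * c = v * x * c := by
      calc x * v * c = x * (v * c) := by group
        _ = v * (c * x) := by rw [h1]; group
        _ = v * x * c := by rw [← h2]; group
    exact mul_right_cancel h3
  · intro a x hx ha w hw
    obtain ⟨v, hv, c, hc, rfl, hcc⟩ := hdec w hw
    rw [key v hv c hc hcc]
    have h1 : x * c * x⁻¹ = c := by rw [hcc x hx, mul_inv_cancel_right]
    calc x * (v * c) * x⁻¹ = (x * v * x⁻¹) * (x * c * x⁻¹) := by group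
      _ = κ (β v) a * v * c := by rw [h1, ha v hv]
      _ = _ := by group

/-- **Uniqueness**: `X ∈ V^H` not commuting with `V'` acts on `W` like `V`. -/
theorem uniq (d : Dat H M V V' W U β κ) (hne0 : ¬ Com V V') {h : G} (hh : h ∈ H) (hne : ¬ Com (cj h V) V')
    {w₀ : G} (hw₀ : w₀ ∈ W) : (∀ x ∈ cj h V, x * w₀ = w₀ * x) ↔ ∀ x ∈ V, x * w₀ = w₀ * x := by
  have hne1 : ¬ Com (cj 1 V) V' := by rwa [cj_one]
  obtain ⟨B₀, b01, b02, b03, b04, b05⟩ := d.exists_beta (one_mem H) hne1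
  obtain ⟨B, b1, b2, b3, b4, b5⟩ := d.exists_beta hh hne
  rw [cj_one] at b03 b04 b05
  suffices hs : B w₀ = B₀ w₀ by
    constructor
    · intro hc
      exact b03 w₀ hw₀ (by rw [← hs]; exact b4 w₀ hw₀ hc)
    · intro hc
      exact b3 w₀ hw₀ (by rw [hs]; exact b04 w₀ hw₀ hc)
  by_contra hcon
  let δ : G → F := fun w => B w - B₀ w
  have hδV : ∀ v ∈ V', δ v = 0 := fun v hv => by
    change B v - B₀ v = 0
    rw [b1 v hv, b01 v hv, sub_self]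
  have hδ : ∀ w ∈ W, ∀ v ∈ V', δ (v * w) = δ w := fun w hw v hv => by
    change B (v * w) - B₀ (v * w) = B w - B₀ w
    rw [b2 w hw v hv, b02 w hw v hv]; ring
  have hMV : ∀ x ∈ V, x ∈ M := fun x hx => d.HM (d.VH hx)
  have hMX : ∀ x ∈ cj h V, x ∈ M := by
    rintro _ ⟨x, hx, rfl⟩
    exact d.HM (mul_mem (mul_mem hh (d.VH hx)) (inv_mem hh))
  -- elements of `V` inducing `a`
  have hall : ∀ a : F, ∃ x ∈ V, (∀ v ∈ V', x * v * x⁻¹ = κ (β v) a * v) ∧ ∀ w ∈ W, x * w * x⁻¹ = κ (B₀ w) a * w := by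
    intro a
    obtain ⟨x, hx, e⟩ := d.all 1 (one_mem _) hne1 a
    rw [cj_one] at hx
    exact ⟨x, hx, e, b05 a x hx e⟩
  -- inverse action
  have hinv : ∀ (x : G) (a : F) (C : G → F), (∀ v ∈ V', C v = β v) → (∀ w ∈ W, x * w * x⁻¹ = κ (C w) a * w) →
      ∀ w ∈ W, x⁻¹ * w * x = (κ (C w) a)⁻¹ * w := by
    intro x a C hC hx w hw
    have h1 : x * κ (C w) a * x⁻¹ = κ (C w) a := by
      rw [hx _ (d.VW (d.κ_mem _ _)), hC _ (d.κ_mem _ _), d.βκ, d.κ_zero, one_mul]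
    have h2 : x * ((κ (C w) a)⁻¹ * w) * x⁻¹ = w := by
      calc x * ((κ (C w) a)⁻¹ * w) * x⁻¹ = (x * κ (C w) a * x⁻¹)⁻¹ * (x * w * x⁻¹) := by group
        _ = w := by rw [h1, hx w hw]; group
    calc x⁻¹ * w * x = x⁻¹ * (x * ((κ (C w) a)⁻¹ * w) * x⁻¹) * x := by rw [h2]
      _ = _ := by group
  -- `b` acts as `w ↦ κ (δ w) 1 w`
  obtain ⟨b, hbM, hb⟩ : ∃ b ∈ M, ∀ w ∈ W, b * w * b⁻¹ = κ (δ w) 1 * w := by
    obtain ⟨x, hx, e, e'⟩ := hall 1
    obtain ⟨x₁, hx₁, e₁⟩ := d.all h hh hne 1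
    have e₁' := b5 1 x₁ hx₁ e₁
    refine ⟨x⁻¹ * x₁, mul_mem (inv_mem (hMV x hx)) (hMX x₁ hx₁), fun w hw => ?_⟩
    have i1 := hinv x 1 B₀ b01 e' w hw
    have i2 := hinv x 1 B₀ b01 e' _ (d.VW (d.κ_mem (B w) 1))
    rw [b01 _ (d.κ_mem _ _), d.βκ, d.κ_zero, inv_one, one_mul] at i2
    calc x⁻¹ * x₁ * w * (x⁻¹ * x₁)⁻¹ = x⁻¹ * (x₁ * w * x₁⁻¹) * x := by group
      _ = (x⁻¹ * κ (B w) 1 * x) * (x⁻¹ * w * x) := by rw [e₁' w hw]; group
      _ = κ (B w) 1 * (κ (B₀ w) 1)⁻¹ * w := by rw [i1, i2]; group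
      _ = _ := by rw [← d.κ_sub]
  -- `y_l` centralises `V'` and moves `V`
  have hy : ∀ l : F, ∃ y ∈ M, (∀ v ∈ V', y * v * y⁻¹ = v) ∧
      ∀ w ∈ W, ∃ t ∈ V', y * w * y⁻¹ = t * w ∧ β t = l * δ w := by
    intro l
    obtain ⟨f, hf, f1, f2, f3⟩ := d.sl l
    have hfi : ∀ w ∈ W, f⁻¹ * w * f ∈ W := fun w hw => by
      have := d.WM f⁻¹ (inv_mem hf) w hw
      rwa [inv_inv] at this
    have hδf : ∀ w ∈ W, δ (f⁻¹ * w * f) = δ w := by
      intro w hw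
      have h1 := f2 _ (hfi w hw)
      have e : w = (f * (f⁻¹ * w * f) * f⁻¹ * (f⁻¹ * w * f)⁻¹) * (f⁻¹ * w * f) := by group
      conv_rhs => rw [e]
      rw [hδ _ (hfi w hw) _ h1]
    have hact : ∀ w ∈ W, f * b * f⁻¹ * w * (f * b * f⁻¹)⁻¹ = (f * κ (δ w) 1 * f⁻¹) * w := by
      intro w hw
      calc f * b * f⁻¹ * w * (f * b * f⁻¹)⁻¹ = f * (b * (f⁻¹ * w * f) * b⁻¹) * f⁻¹ := by group
        _ = f * (κ (δ (f⁻¹ * w * f)) 1 * (f⁻¹ * w * f)) * f⁻¹ := by rw [hb _ (hfi w hw)]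
        _ = _ := by rw [hδf w hw]; group
    refine ⟨f * b * f⁻¹, mul_mem (mul_mem hf hbM) (inv_mem hf), fun v hv => ?_, fun w hw => ?_⟩
    · rw [hact v (d.VW hv), hδV v hv, d.κ_zero, mul_one, mul_inv_cancel, one_mul]
    · exact ⟨_, f1 _ (d.κ_mem _ _), hact w hw, by rw [f3, mul_one]⟩
  -- `x_{l,a}` acts as `w ↦ κ (B₀ w - l δ w) a w`
  have hx : ∀ l a : F, ∃ x ∈ M, ∀ w ∈ W, x * w * x⁻¹ = κ (B₀ w - l * δ w) a * w := by
    intro l a
    obtain ⟨x, hx, e, e'⟩ := hall a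
    obtain ⟨y, hyM, y1, y2⟩ := hy l
    refine ⟨y * x * y⁻¹, mul_mem (mul_mem hyM (hMV x hx)) (inv_mem hyM), fun w hw => ?_⟩
    obtain ⟨t, ht, et, bt⟩ := y2 w hw
    have h1 : y⁻¹ * w * y = t⁻¹ * w := by
      have h2 : y * t⁻¹ * y⁻¹ = t⁻¹ := y1 _ (inv_mem ht)
      have h3 : y * (t⁻¹ * w) * y⁻¹ = w := by
        calc y * (t⁻¹ * w) * y⁻¹ = (y * t⁻¹ * y⁻¹) * (y * w * y⁻¹) := by group
          _ = w := by rw [h2, et]; group
      calc y⁻¹ * w * y = y⁻¹ * (y * (t⁻¹ * w) * y⁻¹) * y := by rw [h3]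
        _ = _ := by group
    have h4 : B₀ (t⁻¹ * w) = B₀ w - l * δ w := by
      rw [b02 w hw _ (inv_mem ht), d.β_inv ht, bt]; ring
    have h5 : x * (y⁻¹ * w * y) * x⁻¹ = κ (B₀ w - l * δ w) a * (y⁻¹ * w * y) := by
      rw [h1, e' _ (mul_mem (d.VW (inv_mem ht)) hw), h4]
    have h6 := y1 _ (d.κ_mem (B₀ w - l * δ w) a)
    calc y * x * y⁻¹ * w * (y * x * y⁻¹)⁻¹ = y * (x * (y⁻¹ * w * y) * x⁻¹) * y⁻¹ := by group
      _ = (y * κ (B₀ w - l * δ w) a * y⁻¹) * w := by rw [h5]; group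
      _ = _ := by rw [h6]
  -- `b_{l,a}` acts as `w ↦ κ (l δ w) a w`
  have hb2 : ∀ l a : F, ∃ y ∈ M, ∀ w ∈ W, y * w * y⁻¹ = κ (l * δ w) a * w := by
    intro l a
    obtain ⟨x, hxV, e, e'⟩ := hall a
    obtain ⟨x', hx'M, e2⟩ := hx (-l) a
    refine ⟨x⁻¹ * x', mul_mem (inv_mem (hMV x hxV)) hx'M, fun w hw => ?_⟩
    have i1 := hinv x a B₀ b01 e' w hw
    have i2 := hinv x a B₀ b01 e' _ (d.VW (d.κ_mem (B₀ w - -l * δ w) a))
    rw [b01 _ (d.κ_mem _ _), d.βκ, d.κ_zero, inv_one, one_mul] at i2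
    calc x⁻¹ * x' * w * (x⁻¹ * x')⁻¹ = x⁻¹ * (x' * w * x'⁻¹) * x := by group
      _ = (x⁻¹ * κ (B₀ w - -l * δ w) a * x) * (x⁻¹ * w * x) := by rw [e2 w hw]; group
      _ = κ (B₀ w - -l * δ w) a * (κ (B₀ w) a)⁻¹ * w := by rw [i1, i2]; group
      _ = κ (l * δ w) a * w := by
          rw [← d.κ_sub]
          congr 2
          ring
  obtain ⟨m, hm0, m1, m2⟩ := d.sq
  obtain ⟨y₁, hy₁, e₁⟩ := hb2 1 1
  obtain ⟨y₂, hy₂, e₂⟩ := hb2 m m⁻¹
  have hact : ∀ w ∈ W, y₁ * y₂ * w * (y₁ * y₂)⁻¹ = κ (δ w) 1 * κ (m * δ w) m⁻¹ * w := by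
    intro w hw
    have h1 := e₁ _ (d.VW (d.κ_mem (m * δ w) m⁻¹))
    rw [hδV _ (d.κ_mem _ _), mul_zero, d.κ_zero, one_mul] at h1
    have h2 := e₁ w hw
    rw [one_mul] at h2
    have hc := d.Wc _ (d.VW (d.κ_mem (m * δ w) m⁻¹)) _ (d.VW (d.κ_mem (δ w) 1))
    calc y₁ * y₂ * w * (y₁ * y₂)⁻¹ = y₁ * (y₂ * w * y₂⁻¹) * y₁⁻¹ := by group
      _ = (y₁ * κ (m * δ w) m⁻¹ * y₁⁻¹) * (y₁ * w * y₁⁻¹) := by rw [e₂ w hw]; group
      _ = κ (m * δ w) m⁻¹ * κ (δ w) 1 * w := by rw [h1, h2]; group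
      _ = _ := by rw [hc]
  have hcen := d.cor (y₁ * y₂) (mul_mem hy₁ hy₂) (fun w hw => by
      rw [hact w hw, mul_inv_cancel_right]
      exact m1 _) (fun u hu => by
      have h1 := hact u (d.VW (d.UV hu))
      rw [hδV u (d.UV hu), mul_zero, d.κ_zero, d.κ_zero, one_mul, one_mul] at h1
      exact mul_inv_eq_iff_eq_mul.1 h1) w₀ hw₀
  have h1 := hact w₀ hw₀
  rw [hcen, mul_inv_cancel_right] at h1
  exact m2 (δ w₀) (sub_ne_zero.2 hcon) (right_eq_mul.1 h1)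

/-- **The common Sylow 2-subgroup.** -/
theorem common [Finite G] (d : Dat H M V V' W U β κ) (S S' : Sylow 2 G) (hSH : (S : Subgroup G) ≤ H)
    (hSV : (S : Subgroup G) ≤ normalizer (V : Set G)) (hSH' : (S' : Subgroup G) ≤ H)
    (hSV' : (S' : Subgroup G) ≤ normalizer (V' : Set G)) (hne : ¬ Com V V') :
    ∃ k ∈ H, cj k (S' : Subgroup G) = S ∧ ¬ Com V (cj k V') := by
  refine common_sylow S S' hSH hSV hSH' hSV' hne fun h hh hhne k hk => ?_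
  have hkW : ∀ v ∈ cj k V', v ∈ W := by
    rintro _ ⟨v, hv, rfl⟩
    exact d.WM k (d.HM hk) v (d.VW hv)
  constructor
  · intro hc x hx v hv
    exact (d.uniq hne hh hhne (hkW v hv)).1 (fun x hx => hc x hx v hv) x hx
  · intro hc x hx v hv
    exact (d.uniq hne hh hhne (hkW v hv)).2 (fun x hx => hc x hx v hv) x hx

end Dat

end Cfsg.Agent.Omega.HOne.NSPar
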