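import Cfsg.Agent.Omega.HOne.NSPair
import Cfsg.Agent.Omega.HOne.NSParity

/-!
# II.0h1, nonsplit case: the instance of `NSPar.Dat`
-/

set_option autoImplicit false
set_option linter.unusedSectionVars false

namespace Cfsg.Agent.Omega.HOne.NSDat

open Subgroup Cfsg.Agent.Lib.SL2Mat Cfsg.Agent.Omega.NatPair Cfsg.Agent.Omega.HOne.NSMod
open Cfsg.Agent.Omega.HOne.NSSide Cfsg.Agent.Omega.HOne.NSPair Cfsg.Agent.Omega.HOne.NSPar Cfsg.Agent.Omega.BTwo

universe u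

variable {G : Type u} [Group G] {F : Type} [Field F]

/-- surjectivity from the index of the kernel -/
theorem surj_of_index [Finite F] {Q K : Subgroup G} {f : G → F} (hm : ∀ u ∈ Q, ∀ v ∈ Q, f (u * v) = f u + f v)
    (hK : ∀ u ∈ Q, u ∈ K ↔ f u = 0) (h : K.relIndex Q = Nat.card F) : ∀ a, ∃ u ∈ Q, f u = a := by
  have h1' : f 1 = 0 := (hK 1 (one_mem Q)).1 (one_mem K)
  let φ : Q →* Multiplicative F :=
    { toFun := fun u => Multiplicative.ofAdd (f u)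
      map_one' := by
        change Multiplicative.ofAdd (f ((1 : Q) : G)) = 1
        rw [coe_one, h1']; rfl
      map_mul' := fun u v => by
        change Multiplicative.ofAdd (f ((u : G) * v)) = _
        rw [hm u u.2 v v.2]; rfl }
  have h1 : K.subgroupOf Q = φ.ker := by
    ext u
    rw [mem_subgroupOf, hK u u.2, MonoidHom.mem_ker]
    exact Iff.rfl
  have h2 : φ.range = ⊤ := by
    apply eq_top_of_card_eq
    rw [← index_ker, ← h1]
    change K.relIndex Q = _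
    rw [h]; rfl
  intro a
  have h3 : Multiplicative.ofAdd a ∈ φ.range := by rw [h2]; exact mem_top _
  obtain ⟨u, hu⟩ := h3
  exact ⟨u, u.2, hu⟩

/-- index of the kernel of a surjective additive coordinate -/
theorem index_of_surj [Finite F] {Q K : Subgroup G} {f : G → F} (hm : ∀ u ∈ Q, ∀ v ∈ Q, f (u * v) = f u + f v)
    (hs : ∀ a, ∃ u ∈ Q, f u = a) (hK : ∀ u ∈ Q, u ∈ K ↔ f u = 0) : K.relIndex Q = Nat.card F := by
  have h1' : f 1 = 0 := (hK 1 (one_mem Q)).1 (one_mem K)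
  let φ : Q →* Multiplicative F :=
    { toFun := fun u => Multiplicative.ofAdd (f u)
      map_one' := by
        change Multiplicative.ofAdd (f ((1 : Q) : G)) = 1
        rw [coe_one, h1']; rfl
      map_mul' := fun u v => by
        change Multiplicative.ofAdd (f ((u : G) * v)) = _
        rw [hm u u.2 v v.2]; rfl }
  have h1 : K.subgroupOf Q = φ.ker := by
    ext u
    rw [mem_subgroupOf, hK u u.2, MonoidHom.mem_ker]
    exact Iff.rfl
  have h2 : φ.range = ⊤ := by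
    rw [MonoidHom.range_eq_top]
    intro a
    obtain ⟨u, hu, h⟩ := hs a.toAdd
    exact ⟨⟨u, hu⟩, congrArg Multiplicative.ofAdd h⟩
  rw [relIndex, h1, index_ker, h2, card_top]
  rfl

theorem relIndex_centralizer_cj (g : G) (X Y : Subgroup G) :
    (centralizer (cj g X : Set G)).relIndex (cj g Y) = (centralizer (X : Set G)).relIndex Y := by
  rw [centralizer_cj]
  exact relIndex_map_map_of_injective _ _ (MulAut.conj g).injective

section side

variable {S S' P P' V V' D D' : Subgroup G} {π π' : G → Fin 2 → F} {e f g e' f' g' : F → G} {N N' : Subgroup G}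

/-- an element of `S` centralising `e(F)` acts on `V` like an element of `V'` -/
theorem act_of (p : PairF S S' P P' V V' D D' π π' e f g e' f' g' N N') {x : G} (hx : x ∈ S)
    (hc : ∀ z, x * e z = e z * x) :
    ∃ t : F, ∀ v ∈ V, x * v * x⁻¹ = e (t ^ 2 * π v 0) * g (t * π v 0) * v := by
  have hxP := p.s.SP hx
  obtain ⟨b, hb⟩ := p.s.lin x hx fun v hv h0 => by
    -- `v = e (π v 1) d`
    have h1 : (e (π v 1))⁻¹ * v ∈ D := (p.s.r.ker _ (mul_mem (inv_mem (p.φ.eV _)) hv)).1 (by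
      rw [p.s.r.mul _ (inv_mem (p.φ.eV _)) _ hv, p.s.r.map_inv (p.φ.eV _), p.φ.eπ]
      apply ext2
      · simp [h0]
      · simp)
    have h2 := p.s.r.Dn x hxP _ h1
    have h3 : x * v * x⁻¹ = e (π v 1) * (x * ((e (π v 1))⁻¹ * v) * x⁻¹) := by
      have h4 := hc (π v 1)
      calc x * v * x⁻¹ = (x * e (π v 1)) * ((e (π v 1))⁻¹ * v) * x⁻¹ := by group
        _ = _ := by rw [h4]; group
    rw [h3, p.s.r.mul _ (p.φ.eV _) _ (p.s.r.DV h2), (p.s.r.ker _ (p.s.r.DV h2)).2 h2, p.φ.eπ, add_zero]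
    apply ext2
    · simp [h0]
    · simp
  obtain ⟨t, rfl⟩ := p.sq b
  obtain ⟨a, ha, hal⟩ := p.s.full (t ^ 2)
  refine ⟨t, fun v hv => ?_⟩
  rw [← p.φ.act t a hal v hv]
  have haS := p.s.AS ha
  have h1 := p.s.sec (a⁻¹ * x) (mul_mem (inv_mem haS) hx) (fun v hv => by
    have hxv := p.s.r.Vn x hxP v hv
    have h2 := (p.s.r.is_inv hal).act _ hxv
    have e1 : a⁻¹ * (x * v * x⁻¹) * a⁻¹⁻¹ = a⁻¹ * x * v * (a⁻¹ * x)⁻¹ := by group
    rw [e1, hb v hv, ap_inv_ap] at h2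
    exact h2) v hv
  calc x * v * x⁻¹ = a * (a⁻¹ * x * v) * x⁻¹ := by group
    _ = a * (v * (a⁻¹ * x)) * x⁻¹ := by rw [h1]
    _ = _ := by group

/-- `C_V(Q)` for `Q ≤ S` centralising `e(F)`, not commuting with `V` -/
theorem cen_of (p : PairF S S' P P' V V' D D' π π' e f g e' f' g' N N') {Q : Subgroup G} (hQ : Q ≤ S)
    (hc : ∀ x ∈ Q, ∀ z, x * e z = e z * x) (hne : ¬ Com Q V) {v : G} (hv : v ∈ V) :
    v ∈ centralizer (Q : Set G) ↔ π v 0 = 0 := by
  rw [mem_centralizer_iff]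
  constructor
  · intro h
    by_contra h0
    apply hne
    intro x hx w hw
    obtain ⟨t, ht⟩ := act_of p (hQ hx) (hc x hx)
    have h1 := ht v hv
    rw [h x hx, mul_inv_cancel_right] at h1
    have h2 : e 0 * g 0 = e (t ^ 2 * π v 0) * g (t * π v 0) := by
      rw [p.φ.e0, p.φ.g0, mul_one]
      exact right_eq_mul.1 h1 |>.symm
    have h3 := (p.φ.eg_inj p.s.r h2).1
    have h4 : t = 0 := by
      rcases mul_eq_zero.1 h3.symm with h4 | h4
      · exact pow_eq_zero_iff two_ne_zero |>.1 h4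
      · exact absurd h4 h0
    have h5 := ht w hw
    rw [h4, zero_pow two_ne_zero, zero_mul, p.φ.e0, p.φ.g0, one_mul, one_mul] at h5
    exact mul_inv_eq_iff_eq_mul.1 h5
  · intro h0 x hx
    obtain ⟨t, ht⟩ := act_of p (hQ hx) (hc x hx)
    have h1 := ht v hv
    rw [h0, mul_zero, mul_zero, p.φ.e0, p.φ.g0, one_mul, one_mul] at h1
    exact mul_inv_eq_iff_eq_mul.1 h1

theorem index_of [Finite F] (p : PairF S S' P P' V V' D D' π π' e f g e' f' g' N N') {Q : Subgroup G} (hQ : Q ≤ S)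
    (hc : ∀ x ∈ Q, ∀ z, x * e z = e z * x) (hne : ¬ Com Q V) :
    (centralizer (Q : Set G)).relIndex V = Nat.card F :=
  index_of_surj (f := fun v => π v 0) (fun u hu v hv => by rw [p.s.r.mul u hu v hv]; rfl)
    (fun a => ⟨f a, p.φ.fV a, by rw [p.φ.fπ]; rfl⟩) fun v hv => cen_of p hQ hc hne hv

/-- `Q ≤ S` centralising `e(F)` with `|Q : C_Q(V)| = |F|` induces everything -/
theorem full_of [Finite F] (p : PairF S S' P P' V V' D D' π π' e f g e' f' g' N N') {Q : Subgroup G} (hQ : Q ≤ S)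
    (hc : ∀ x ∈ Q, ∀ z, x * e z = e z * x) (hi : (centralizer (V : Set G)).relIndex Q = Nat.card F) (t : F) :
    ∃ x ∈ Q, ∀ v ∈ V, x * v * x⁻¹ = e (t ^ 2 * π v 0) * g (t * π v 0) * v := by
  classical
  let τ : G → F := fun x => if h : x ∈ Q then (act_of p (hQ h) (hc x h)).choose else 0
  have hτ : ∀ x ∈ Q, ∀ v ∈ V, x * v * x⁻¹ = e (τ x ^ 2 * π v 0) * g (τ x * π v 0) * v := by
    intro x hx v hv
    have h1 : τ x = (act_of p (hQ hx) (hc x hx)).choose := dif_pos hx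
    rw [h1]
    exact (act_of p (hQ hx) (hc x hx)).choose_spec v hv
  have hf0 : π (f 1) 0 = 1 := by rw [p.φ.fπ]; rfl
  have two := p.s.r.two
  have hsqi : ∀ a b : F, a ^ 2 = b ^ 2 → a = b := by
    intro a b hab
    have h1 : (a - b) ^ 2 = 0 := by linear_combination hab + (b ^ 2 - a * b) * two
    exact sub_eq_zero.1 (pow_eq_zero_iff two_ne_zero |>.1 h1)
  have hadd : ∀ x ∈ Q, ∀ y ∈ Q, τ (x * y) = τ x + τ y := by
    intro x hx y hy
    have h1 := hτ _ (mul_mem hx hy) (f 1) (p.φ.fV 1)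
    have h2 := hτ y hy (f 1) (p.φ.fV 1)
    have h3 := hτ x hx (f 1) (p.φ.fV 1)
    have hR : ∀ a b, x * (e a * g b) * x⁻¹ = e a * g b := by
      intro a b
      have hV : e a * g b ∈ V := mul_mem (p.φ.eV _) (p.φ.gV p.s.r _)
      rw [hτ x hx _ hV, p.φ.egπ p.s.r]
      simp [p.φ.e0, p.φ.g0]
    rw [hf0, mul_one, mul_one] at h1 h2 h3
    have e1 : x * y * f 1 * (x * y)⁻¹ = x * (y * f 1 * y⁻¹) * x⁻¹ := by group
    have e2 : x * (e (τ y ^ 2) * g (τ y) * f 1) * x⁻¹ = (x * (e (τ y ^ 2) * g (τ y)) * x⁻¹) * (x * f 1 * x⁻¹) := by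
      group
    rw [e1, h2, e2, hR, h3, ← mul_assoc] at h1
    have h4 : e (τ y ^ 2) * g (τ y) * (e (τ x ^ 2) * g (τ x)) = e (τ (x * y) ^ 2) * g (τ (x * y)) := mul_right_cancel h1
    have h5 : e (τ y ^ 2) * g (τ y) * (e (τ x ^ 2) * g (τ x)) = e (τ y ^ 2 + τ x ^ 2) * g (τ y + τ x) := by
      have c1 := p.s.r.Vc _ (p.φ.gV p.s.r (τ y)) _ (p.φ.eV (τ x ^ 2))
      rw [p.φ.e_add, p.φ.g_add]
      calc e (τ y ^ 2) * g (τ y) * (e (τ x ^ 2) * g (τ x)) = e (τ y ^ 2) * (g (τ y) * e (τ x ^ 2)) * g (τ x) := by group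
        _ = _ := by rw [c1]; group
    rw [h5] at h4
    have h6 := (p.φ.eg_inj p.s.r h4).1
    apply hsqi
    rw [← h6]
    linear_combination (-(τ x * τ y)) * two
  have hker : ∀ x ∈ Q, x ∈ centralizer (V : Set G) ↔ τ x = 0 := by
    intro x hx
    rw [mem_centralizer_iff]
    constructor
    · intro h
      have h1 := hτ x hx (f 1) (p.φ.fV 1)
      rw [← h _ (p.φ.fV 1), mul_inv_cancel_right, hf0, mul_one, mul_one] at h1
      have h2 : e 0 * g 0 = e (τ x ^ 2) * g (τ x) := by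
        rw [p.φ.e0, p.φ.g0, mul_one]
        exact right_eq_mul.1 h1 |>.symm
      exact pow_eq_zero_iff two_ne_zero |>.1 (p.φ.eg_inj p.s.r h2).1.symm
    · intro h v hv
      have h1 := hτ x hx v hv
      rw [h, zero_pow two_ne_zero, zero_mul, p.φ.e0, p.φ.g0, one_mul, one_mul] at h1
      exact (mul_inv_eq_iff_eq_mul.1 h1).symm
  obtain ⟨x, hx, hxt⟩ := surj_of_index hadd hker hi t
  refine ⟨x, hx, fun v hv => ?_⟩
  rw [← hxt]
  exact hτ x hx v hv

/-- **The instance of `Dat`.** -/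
theorem exists_dat [Finite F] (p : PairF S S' P P' V V' D D' π π' e f g e' f' g' N N')
    (hg' : ∀ y, g' y = 1 → y = 0)
    {H M W O : Subgroup G} (HM : H ≤ M) (VO : V ≤ O) (WO : W ≤ O) (OS : O ≤ S) (OS' : O ≤ S') (OH : O ≤ H)
    (HO : ∀ h ∈ H, ∀ x ∈ O, h * x * h⁻¹ ∈ O)
    (WM : ∀ g ∈ M, ∀ w ∈ W, g * w * g⁻¹ ∈ W) (Wc : ∀ w ∈ W, ∀ w' ∈ W, w * w' = w' * w) (VW : V' ≤ W)
    (HR' : ∀ h ∈ H, ∀ z, ∃ z', h * e' z * h⁻¹ = e' z') (PM : P' ≤ M)
    (cor : ∀ y ∈ M, (∀ w ∈ W, y * w * y⁻¹ * w⁻¹ ∈ p.φ'.U) → (∀ u ∈ p.φ'.U, y * u = u * y) →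
      ∀ w ∈ W, y * w = w * y) :
    ∃ (β : G → F) (κ : F → F → G), Dat H M V V' W p.φ'.U β κ := by
  classical
  choose r hr using p.sq
  have two := p.s.r.two
  have hsqi : ∀ a b : F, a ^ 2 = b ^ 2 → a = b := by
    intro a b hab
    have h1 : (a - b) ^ 2 = 0 := by linear_combination hab + (b ^ 2 - a * b) * two
    exact sub_eq_zero.1 (pow_eq_zero_iff two_ne_zero |>.1 h1)
  have hrsq : ∀ t, r (t ^ 2) = t := fun t => hsqi _ _ (hr _).symm
  have eN' := p.eg_mem.1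
  have e'N := p.symm.eg_mem.1
  have e'V : ∀ z, e' z ∈ V := fun z => p.φ.NV p.s.r (e'N z)
  have eV' : ∀ z, e z ∈ V' := fun z => p.φ'.NV p.s'.r (eN' z)
  have hXO : ∀ h ∈ H, cj h V ≤ O := by
    rintro h hh _ ⟨v, hv, rfl⟩
    exact HO h hh v (VO hv)
  have hXe : ∀ h ∈ H, ∀ x ∈ cj h V, ∀ z, x * e' z = e' z * x := by
    rintro h hh _ ⟨v, hv, rfl⟩ z
    obtain ⟨z', hz'⟩ := HR' h⁻¹ (inv_mem hh) z
    have h1 := p.s.r.Vc v hv _ (e'V z')
    rw [← hz', inv_inv] at h1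
    change h * v * h⁻¹ * e' z = e' z * (h * v * h⁻¹)
    calc h * v * h⁻¹ * e' z = h * (v * (h⁻¹ * e' z * h)) * h⁻¹ := by group
      _ = h * (h⁻¹ * e' z * h * v) * h⁻¹ := by rw [h1]
      _ = _ := by group
  have hYW : ∀ h ∈ H, cj h⁻¹ V' ≤ W := by
    rintro h hh _ ⟨v, hv, rfl⟩
    exact WM _ (HM (inv_mem hh)) v (VW hv)
  have hWe : ∀ w ∈ W, ∀ z, w * e z = e z * w := fun w hw z => Wc w hw _ (VW (eV' z))
  -- the two indices
  have idx1 : ∀ h ∈ H, ¬ Com (cj h V) V' → (centralizer (V : Set G)).relIndex (cj h⁻¹ V') = Nat.card F := by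
    intro h hh hne
    have h1 := index_of p.symm ((hXO h hh).trans OS') (hXe h hh) hne
    rw [← relIndex_centralizer_cj h⁻¹, cj_inv_cj] at h1
    exact h1
  have idx2 : ∀ h ∈ H, ¬ Com (cj h V) V' → (centralizer (V' : Set G)).relIndex (cj h V) = Nat.card F := by
    intro h hh hne
    have hne' : ¬ Com (cj h⁻¹ V') V := by
      intro hc
      apply hne
      have h1 : Com (cj h (cj h⁻¹ V')) (cj h V) := com_cj.2 hc
      rw [cj_cj_inv] at h1
      exact fun x hx y hy => (h1 y hy x hx).symm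
    have h1 := index_of p (((hYW h hh).trans WO).trans OS) (fun w hw => hWe w (hYW h hh hw)) hne'
    rw [← relIndex_centralizer_cj h, cj_cj_inv] at h1
    exact h1
  have hall : ∀ h ∈ H, ¬ Com (cj h V) V' → ∀ t : F, ∃ x ∈ cj h V, ∀ v ∈ V',
      x * v * x⁻¹ = e' (t ^ 2 * π' v 0) * g' (t * π' v 0) * v := fun h hh hne t =>
    full_of p.symm ((hXO h hh).trans OS') (hXe h hh) (idx2 h hh hne) t
  have honly : ∀ h ∈ H, ∀ x ∈ cj h V, ∃ t : F, ∀ v ∈ V',
      x * v * x⁻¹ = e' (t ^ 2 * π' v 0) * g' (t * π' v 0) * v := fun h hh x hx =>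
    act_of p.symm (((hXO h hh).trans OS') hx) (hXe h hh x hx)
  have hdec : ∀ h ∈ H, ¬ Com (cj h V) V' → ∀ w ∈ W, ∃ v ∈ V', ∃ c ∈ W, w = v * c ∧ ∀ x ∈ cj h V, x * c = c * x := by
    intro h hh hne w hw
    have hw' : h⁻¹ * w * h ∈ W := by
      have := WM h⁻¹ (HM (inv_mem hh)) w hw
      rwa [inv_inv] at this
    obtain ⟨t, ht⟩ := act_of p (OS (WO hw')) (hWe _ hw')
    obtain ⟨y, hy, hyt⟩ := full_of p (((hYW h hh).trans WO).trans OS) (fun w hw => hWe w (hYW h hh hw))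
      (idx1 h hh hne) t
    have hyV' : h * y * h⁻¹ ∈ V' := by
      obtain ⟨v, hv, e1⟩ := hy
      have e2 : h⁻¹ * v * h = y := by
        rw [← e1]; simp
      rw [← e2]
      have e3 : h * (h⁻¹ * v * h) * h⁻¹ = v := by group
      rw [e3]; exact hv
    have hcW : h * (y⁻¹ * (h⁻¹ * w * h)) * h⁻¹ ∈ W :=
      WM h (HM hh) _ (mul_mem (inv_mem (hYW h hh hy)) hw')
    refine ⟨_, hyV', _, hcW, by group, ?_⟩
    rintro _ ⟨v, hv, rfl⟩
    have e1 : y⁻¹ * (h⁻¹ * w * h) * v = v * (y⁻¹ * (h⁻¹ * w * h)) := by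
      have e2 : h⁻¹ * w * h * v * (h⁻¹ * w * h)⁻¹ = y * v * y⁻¹ := by rw [ht v hv, hyt v hv]
      have e3 : h⁻¹ * w * h * v = y * v * y⁻¹ * (h⁻¹ * w * h) := by rw [← e2]; group
      calc y⁻¹ * (h⁻¹ * w * h) * v = y⁻¹ * (h⁻¹ * w * h * v) := by group
        _ = _ := by rw [e3]; group
    change h * v * h⁻¹ * (h * (y⁻¹ * (h⁻¹ * w * h)) * h⁻¹) = h * (y⁻¹ * (h⁻¹ * w * h)) * h⁻¹ * (h * v * h⁻¹)
    calc h * v * h⁻¹ * (h * (y⁻¹ * (h⁻¹ * w * h)) * h⁻¹) = h * (v * (y⁻¹ * (h⁻¹ * w * h))) * h⁻¹ := by group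
      _ = h * (y⁻¹ * (h⁻¹ * w * h) * v) * h⁻¹ := by rw [e1]
      _ = _ := by group
  refine ⟨fun v => π' v 0, fun b a => e' (a * b) * g' (r a * b), ?_⟩
  have hπκ : ∀ b a, π' (e' (a * b) * g' (r a * b)) = ![0, a * b] := fun b a => p.φ'.egπ p.s'.r _ _
  refine
    { HM := HM
      VH := VO.trans OH
      WM := WM
      Wc := Wc
      VW := VW
      UV := ?_
      β_mul := fun v hv w hw => by rw [p.s'.r.mul v hv w hw]; rfl
      κ_mem := fun b a => mul_mem (p.φ'.eV _) (p.φ'.gV p.s'.r _)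
      κ_add := ?_
      κ_ne := ?_
      βκ := fun b a => by rw [hπκ]; rfl
      all := ?_
      only := ?_
      dec := hdec
      sl := ?_
      sq := ?_
      cor := cor }
  · rintro _ ⟨y, rfl⟩
    exact p.φ'.gV p.s'.r y
  · intro b b' a
    rw [mul_add, mul_add, p.φ'.e_add, p.φ'.g_add]
    have c1 := p.s'.r.Vc _ (p.φ'.gV p.s'.r (r a * b)) _ (p.φ'.eV (a * b'))
    calc e' (a * b) * e' (a * b') * (g' (r a * b) * g' (r a * b'))
        = e' (a * b) * (e' (a * b') * g' (r a * b)) * g' (r a * b') := by group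
      _ = e' (a * b) * (g' (r a * b) * e' (a * b')) * g' (r a * b') := by rw [c1]
      _ = _ := by group
  · intro b a hb ha h
    have h1 := hπκ b a
    rw [h, p.s'.r.map_one] at h1
    have h2 : a * b = 0 := by simpa using (congrFun h1 1).symm
    rcases mul_eq_zero.1 h2 with h3 | h3
    · exact ha h3
    · exact hb h3
  · intro h hh hne a
    obtain ⟨x, hx, hx'⟩ := hall h hh hne (r a)
    refine ⟨x, hx, fun v hv => ?_⟩
    rw [hx' v hv, ← hr a]
  · intro h hh _ x hx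
    obtain ⟨t, ht⟩ := honly h hh x hx
    refine ⟨t ^ 2, fun v hv => ?_⟩
    rw [ht v hv, hrsq]
  · intro l
    obtain ⟨n, hn⟩ := p.s'.r.is_lift (wm (1 : F) one_ne_zero)
    obtain ⟨x, hx, hxl⟩ := p.s'.full (-l)
    have hne1 : ¬ Com (cj 1 V) V' := by
      rw [cj_one]
      intro hc
      obtain ⟨y, hy, hyl⟩ := p.s'.full 1
      have h1 := hyl.act (f' 1) (p.φ'.fV 1)
      rw [hc y hy _ (p.φ'.fV 1), mul_inv_cancel_right, p.φ'.fπ, ap_lo] at h1
      have := congrFun h1 1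
      simp at this
    have hdV : ∀ w ∈ W, ∀ x ∈ V, x * w * x⁻¹ * w⁻¹ ∈ V' := by
      intro w hw x hx
      obtain ⟨v, hv, c, hc, rfl, hcc⟩ := hdec 1 (one_mem _) hne1 w hw
      rw [cj_one] at hcc
      have h1 := hcc x hx
      have h2 : x * (v * c) * x⁻¹ * (v * c)⁻¹ = x * v * x⁻¹ * v⁻¹ := by
        calc x * (v * c) * x⁻¹ * (v * c)⁻¹ = x * v * x⁻¹ * (x * c) * x⁻¹ * c⁻¹ * v⁻¹ := by group
          _ = _ := by rw [h1]; group
      rw [h2]
      exact mul_mem (p.s'.r.Vn x (p.s'.SP (p.s'.AS hx)) v hv) (inv_mem hv)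
    have hf := p.s'.r.is_mul (p.s'.r.is_mul hn hxl) (p.s'.r.is_inv hn)
    have h3 : wm (1 : F) one_ne_zero * lo (-l) * (wm (1 : F) one_ne_zero)⁻¹ = up l := by
      have h4 := wm_lo (1 : F) (-l) one_ne_zero
      rw [one_pow, mul_one, neg_neg] at h4
      rw [h4, mul_inv_cancel_right]
    rw [h3] at hf
    refine ⟨n * x * n⁻¹, PM hf.mem, fun v hv => p.s'.r.Vn _ hf.mem v hv, fun w hw => ?_, fun b a => ?_⟩
    · have hw' : n⁻¹ * w * n ∈ W := by
        have := WM n⁻¹ (PM (inv_mem hn.mem)) w hw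
        rwa [inv_inv] at this
      have h5 := p.s'.r.Vn n hn.mem _ (hdV _ hw' x hx)
      have h6 : n * (x * (n⁻¹ * w * n) * x⁻¹ * (n⁻¹ * w * n)⁻¹) * n⁻¹ = n * x * n⁻¹ * w * (n * x * n⁻¹)⁻¹ * w⁻¹ := by
        group
      rwa [h6] at h5
    · have h5 := hf.act _ (mul_mem (p.φ'.eV (a * b)) (p.φ'.gV p.s'.r (r a * b)))
      change π' _ 0 = _
      rw [h5, hπκ, ap_zero']
      simp [mul_comm a b]
  · obtain ⟨ω, hω0, hω1⟩ := p.ω
    have hr1 : r 1 = 1 := by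
      have := hrsq 1
      rwa [one_pow] at this
    have hkey : ∀ b, e' (1 * b) * g' (r 1 * b) * (e' (ω⁻¹ * (ω * b)) * g' (r ω⁻¹ * (ω * b))) =
        g' ((1 + r ω⁻¹ * ω) * b) := by
      intro b
      have e1 : ω⁻¹ * (ω * b) = b := by field_simp
      rw [hr1, one_mul, e1]
      have c1 := p.s'.r.Vc _ (p.φ'.gV p.s'.r b) _ (p.φ'.eV b)
      have e2 : (1 + r ω⁻¹ * ω) * b = b + r ω⁻¹ * (ω * b) := by ring
      calc e' b * g' b * (e' b * g' (r ω⁻¹ * (ω * b))) = e' b * (g' b * e' b) * g' (r ω⁻¹ * (ω * b)) := by group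
        _ = (e' b * e' b) * (g' b * g' (r ω⁻¹ * (ω * b))) := by rw [c1]; group
        _ = _ := by rw [p.s'.r.Vs _ (p.φ'.eV b), one_mul, ← p.φ'.g_add, e2]
    refine ⟨ω, hω0, fun b => ⟨_, hkey b⟩, fun b hb h => ?_⟩
    change e' (1 * b) * g' (r 1 * b) * (e' (ω⁻¹ * (ω * b)) * g' (r ω⁻¹ * (ω * b))) = 1 at h
    rw [hkey] at h
    have h1 := hg' _ h
    rcases mul_eq_zero.1 h1 with h2 | h2
    · apply hω1
      have h3 : r ω⁻¹ * ω = 1 := by linear_combination h2 - two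
      have h4 : (r ω⁻¹ * ω) ^ 2 = ω := by
        rw [mul_pow, ← hr]
        field_simp
      rw [← h4, h3, one_pow]
    · exact hb h2

end side

end Cfsg.Agent.Omega.HOne.NSDat
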