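import Cfsg.Agent.StdSz.EquivMaps

/-!
# The functional equation of the nonsplit case of (h1) (step (2) of THEOREM NS of helper19)

`F` a finite field of characteristic 2 with at least four elements, `φ, ψ` injective additive maps, `l, m` additive
maps `F → F` with `φ z * ψ t = l (z * t ^ 2) + m (z * t)` for all `z, t`. Then `m = 0` or `l = 0`, and all maps are
multiples of powers of the Frobenius map (`functional`).
-/

set_option autoImplicit false
set_option linter.unusedSectionVars false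

namespace Cfsg.Agent.Omega.HOne.NSFun

open Cfsg.Agent.StdSz.EquivMaps

variable {F : Type*} [Field F] [Fintype F]

/-- the successor modulo `n` -/
def sc {n : ℕ} (i : Fin n) : Fin n := ⟨((i : ℕ) + 1) % n, Nat.mod_lt _ i.pos⟩

theorem sc_ne {n : ℕ} (hn : 2 ≤ n) (i : Fin n) : sc i ≠ i := by
  intro h
  have h1 : ((i : ℕ) + 1) % n = i := congrArg Fin.val h
  have h2 := i.2
  rcases Nat.lt_or_ge ((i : ℕ) + 1) n with h3 | h3
  · rw [Nat.mod_eq_of_lt h3] at h1; omega
  · have h4 : (i : ℕ) + 1 = n := by omega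
    rw [h4, Nat.mod_self] at h1; omega

theorem sc_inj {n : ℕ} {i j : Fin n} (h : sc i = sc j) : i = j := by
  have h1 : ((i : ℕ) + 1) % n = ((j : ℕ) + 1) % n := congrArg Fin.val h
  have hi := i.2
  have hj := j.2
  apply Fin.ext
  rcases Nat.lt_or_ge ((i : ℕ) + 1) n with h3 | h3 <;> rcases Nat.lt_or_ge ((j : ℕ) + 1) n with h4 | h4
  · rw [Nat.mod_eq_of_lt h3, Nat.mod_eq_of_lt h4] at h1; omega
  · have h5 : (j : ℕ) + 1 = n := by omega
    rw [Nat.mod_eq_of_lt h3, h5, Nat.mod_self] at h1; omega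
  · have h5 : (i : ℕ) + 1 = n := by omega
    rw [Nat.mod_eq_of_lt h4, h5, Nat.mod_self] at h1; omega
  · omega

theorem pow_sc {n : ℕ} (hn : Fintype.card F = 2 ^ n) (t : F) (i : Fin n) :
    (t ^ 2) ^ (2 ^ (i : ℕ)) = t ^ (2 ^ ((sc i : Fin n) : ℕ)) := by
  rw [← pow_mul, ← pow_succ']
  have hi := i.2
  show t ^ 2 ^ ((i : ℕ) + 1) = t ^ 2 ^ (((i : ℕ) + 1) % n)
  rcases Nat.lt_or_ge ((i : ℕ) + 1) n with h3 | h3
  · rw [Nat.mod_eq_of_lt h3]
  · have h4 : (i : ℕ) + 1 = n := by omega
    rw [h4, Nat.mod_self, pow_zero, pow_one, ← hn, FiniteField.pow_card]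

/-- powers of the Frobenius map are surjective -/
theorem frob_surj {n : ℕ} (hn : Fintype.card F = 2 ^ n) (i : ℕ) (y : F) : ∃ x : F, x ^ (2 ^ i) = y := by
  have := charP_two hn
  have : Fact (Nat.Prime 2) := ⟨Nat.prime_two⟩
  have h1 : Function.Injective (fun x : F => x ^ (2 ^ i)) := by
    intro x y h
    have h2 : (iterateFrobenius F 2 i) x = (iterateFrobenius F 2 i) y := by
      rw [iterateFrobenius_def, iterateFrobenius_def]; exact h
    exact (iterateFrobenius F 2 i).injective h2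
  exact (Finite.injective_iff_surjective.1 h1) y

/-- a linearized polynomial with two adjacent coefficients is not injective -/
theorem not_inj {n : ℕ} (hn : Fintype.card F = 2 ^ n) (hn2 : 2 ≤ n) {f : F → F} {e : Fin n → F}
    (hf : ∀ x, f x = ∑ i, e i * x ^ (2 ^ (i : ℕ))) (hinj : Function.Injective f) {i : Fin n}
    (h0 : ∀ k, k ≠ i → k ≠ sc i → e k = 0) (h1 : e i ≠ 0) (h2 : e (sc i) ≠ 0) : False := by
  classical
  have := charP_two hn
  obtain ⟨x, hx⟩ := frob_surj hn (i : ℕ) (e i / e (sc i))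
  have h3 : ∀ y, f y = e i * y ^ (2 ^ (i : ℕ)) + e (sc i) * y ^ (2 ^ ((sc i : Fin n) : ℕ)) := by
    intro y
    rw [hf, Finset.sum_eq_add i (sc i) (sc_ne hn2 i).symm]
    · intro c _ hc
      rw [h0 c hc.1 hc.2, zero_mul]
    · intro h; exact absurd (Finset.mem_univ _) h
    · intro h; exact absurd (Finset.mem_univ _) h
  have h4 : x ≠ 0 := by
    rintro rfl
    rw [zero_pow (pow_ne_zero _ two_ne_zero)] at hx
    exact div_ne_zero h1 h2 hx.symm
  have h5 : f x = 0 := by
    rw [h3, ← pow_sc hn, ← pow_mul, mul_comm 2, pow_mul, hx]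
    have h6 : e (sc i) * (e i / e (sc i)) ^ 2 = e i * (e i / e (sc i)) := by
      field_simp
    rw [h6]
    exact CharTwo.add_self_eq_zero _
  have h6 : f 0 = 0 := by
    rw [h3, zero_pow (pow_ne_zero _ two_ne_zero), zero_pow (pow_ne_zero _ two_ne_zero), mul_zero, mul_zero, add_zero]
  exact h4 (hinj (h5.trans h6.symm))

theorem single {n : ℕ} {f : F → F} {e : Fin n → F}
    (hf : ∀ x, f x = ∑ i, e i * x ^ (2 ^ (i : ℕ))) {i : Fin n} (h0 : ∀ k, k ≠ i → e k = 0) (x : F) :
    f x = e i * x ^ (2 ^ (i : ℕ)) := by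
  classical
  rw [hf, Finset.sum_eq_single i]
  · intro k _ hk; rw [h0 k hk, zero_mul]
  · intro h; exact absurd (Finset.mem_univ _) h

theorem exists_ne {n : ℕ} {f : F → F} {e : Fin n → F}
    (hf : ∀ x, f x = ∑ i, e i * x ^ (2 ^ (i : ℕ))) (hinj : Function.Injective f) : ∃ i, e i ≠ 0 := by
  by_contra h
  push Not at h
  have h1 : ∀ x, f x = 0 := by
    intro x
    rw [hf]
    exact Finset.sum_eq_zero fun i _ => by rw [h i, zero_mul]
  exact zero_ne_one (hinj ((h1 0).trans (h1 1).symm))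

/-- **The functional equation.** -/
theorem functional {n : ℕ} (hn : Fintype.card F = 2 ^ n) (hn2 : 2 ≤ n) {φ ψ l m : F → F}
    (φa : ∀ x y, φ (x + y) = φ x + φ y) (ψa : ∀ x y, ψ (x + y) = ψ x + ψ y)
    (la : ∀ x y, l (x + y) = l x + l y) (ma : ∀ x y, m (x + y) = m x + m y)
    (φi : Function.Injective φ) (ψi : Function.Injective ψ)
    (h : ∀ z t, φ z * ψ t = l (z * t ^ 2) + m (z * t)) :
    ∃ (i : ℕ) (c d : F), c ≠ 0 ∧ d ≠ 0 ∧ (∀ z, φ z = d * z ^ (2 ^ i)) ∧
      ((∀ t, ψ t = c * (t ^ 2) ^ (2 ^ i)) ∧ (∀ x, l x = c * d * x ^ (2 ^ i)) ∧ (∀ x, m x = 0) ∨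
       (∀ t, ψ t = c * t ^ (2 ^ i)) ∧ (∀ x, m x = c * d * x ^ (2 ^ i)) ∧ (∀ x, l x = 0)) := by
  classical
  have := charP_two hn
  obtain ⟨d, hd⟩ := exists_coeff hn hn2 φ φa
  obtain ⟨c, hc⟩ := exists_coeff hn hn2 ψ ψa
  obtain ⟨a, ha⟩ := exists_coeff hn hn2 l la
  obtain ⟨b, hb⟩ := exists_coeff hn hn2 m ma
  have key : (fun i j => d i * c j) =
      fun i j : Fin n => (if j = sc i then a i else 0) + (if j = i then b i else 0) := by
    apply coeff₂_unique hn hn2
    intro x y
    have e1 : ∑ i, ∑ j, d i * c j * (x ^ (2 ^ (i : ℕ)) * y ^ (2 ^ (j : ℕ))) = φ x * ψ y := by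
      rw [hd, hc, Finset.sum_mul_sum]
      exact Finset.sum_congr rfl fun i _ => Finset.sum_congr rfl fun j _ => by ring
    have e2 : ∑ i, ∑ j, ((if j = sc i then a i else 0) + (if j = i then b i else 0)) *
        (x ^ (2 ^ (i : ℕ)) * y ^ (2 ^ (j : ℕ))) = l (x * y ^ 2) + m (x * y) := by
      rw [ha, hb, ← Finset.sum_add_distrib]
      refine Finset.sum_congr rfl fun i _ => ?_
      simp only [add_mul, Finset.sum_add_distrib, ite_mul, zero_mul, Finset.sum_ite_eq', Finset.mem_univ, if_true]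
      rw [mul_pow, mul_pow, pow_sc hn]
    rw [e1, e2]; exact h x y
  have key' : ∀ i j : Fin n, d i * c j = (if j = sc i then a i else 0) + (if j = i then b i else 0) :=
    fun i j => congrFun (congrFun key i) j
  have hzero : ∀ i j, d i ≠ 0 → c j ≠ 0 → j = i ∨ j = sc i := by
    intro i j hi hj
    by_contra hne
    push Not at hne
    have h1 := key' i j
    rw [if_neg hne.2, if_neg hne.1, add_zero] at h1
    exact mul_ne_zero hi hj h1
  obtain ⟨i, hi⟩ := exists_ne hd φi
  obtain ⟨j, hj⟩ := exists_ne hc ψi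
  -- one coefficient of `φ`
  have hd1 : ∀ k, k ≠ i → d k = 0 := by
    intro k hk
    by_contra hdk
    have h1 := hzero i j hi hj
    have h2 := hzero k j hdk hj
    have h3 : (i = sc k ∧ j = i) ∨ (k = sc i ∧ j = k) := by
      rcases h1 with h1 | h1 <;> rcases h2 with h2 | h2
      · exact absurd (h2.symm.trans h1) hk
      · left; exact ⟨h1.symm.trans h2, h1⟩
      · right; exact ⟨h2.symm.trans h1, h2⟩
      · exact absurd (sc_inj (h2.symm.trans h1)) hk
    rcases h3 with ⟨h3, h4⟩ | ⟨h3, h4⟩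
    · refine not_inj hn hn2 hd φi (i := k) ?_ hdk (h3 ▸ hi)
      intro r hr hr'
      by_contra hdr
      rcases hzero r j hdr hj with h5 | h5
      · exact hr' (h5.symm.trans (h4.trans h3))
      · exact hr (sc_inj (h5.symm.trans (h4.trans h3)))
    · refine not_inj hn hn2 hd φi (i := i) ?_ hi (h3 ▸ hdk)
      intro r hr hr'
      by_contra hdr
      rcases hzero r j hdr hj with h5 | h5
      · exact hr' (h5.symm.trans (h4.trans h3))
      · exact hr (sc_inj (h5.symm.trans (h4.trans h3)))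
  -- one coefficient of `ψ`
  have hc1 : ∀ k, k ≠ j → c k = 0 := by
    intro k hk
    by_contra hck
    have h1 := hzero i j hi hj
    have h2 := hzero i k hi hck
    have h3 : c i ≠ 0 ∧ c (sc i) ≠ 0 := by
      rcases h1 with h1 | h1 <;> rcases h2 with h2 | h2
      · exact absurd (h2.trans h1.symm) hk
      · exact ⟨h1 ▸ hj, h2 ▸ hck⟩
      · exact ⟨h2 ▸ hck, h1 ▸ hj⟩
      · exact absurd (h2.trans h1.symm) hk
    refine not_inj hn hn2 hc ψi (i := i) ?_ h3.1 h3.2
    intro r hr hr'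
    by_contra hcr
    rcases hzero i r hi hcr with h5 | h5
    · exact hr h5
    · exact hr' h5
  have hφ : ∀ z, φ z = d i * z ^ (2 ^ (i : ℕ)) := fun z => single hd hd1 z
  refine ⟨i, c j, d i, hj, hi, hφ, ?_⟩
  have hni := sc_ne hn2 i
  rcases hzero i j hi hj with h1 | h1
  · -- `l = 0`
    subst h1
    right
    have ha0 : ∀ k, a k = 0 := by
      intro k
      have h2 := key' k (sc k)
      rw [if_pos rfl, if_neg (sc_ne hn2 k), add_zero] at h2
      rw [← h2]
      by_cases hk : k = j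
      · subst hk; rw [hc1 _ hni, mul_zero]
      · rw [hd1 k hk, zero_mul]
    have hb0 : ∀ k, k ≠ j → b k = 0 := by
      intro k hk
      have h2 := key' k k
      rw [if_neg (sc_ne hn2 k).symm, if_pos rfl, zero_add, hd1 k hk, zero_mul] at h2
      exact h2.symm
    have hbj : b j = c j * d j := by
      have h2 := key' j j
      rw [if_neg (sc_ne hn2 j).symm, if_pos rfl, zero_add] at h2
      rw [← h2, mul_comm]
    refine ⟨fun t => single hc hc1 t, fun x => ?_, fun x => ?_⟩
    · rw [single hb hb0, hbj]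
    · rw [ha]
      exact Finset.sum_eq_zero fun k _ => by rw [ha0, zero_mul]
  · left
    have hb0 : ∀ k, b k = 0 := by
      intro k
      have h2 := key' k k
      rw [if_neg (sc_ne hn2 k).symm, if_pos rfl, zero_add] at h2
      rw [← h2]
      by_cases hk : k = i
      · subst hk; rw [hc1 k (by rw [h1]; exact hni.symm), mul_zero]
      · rw [hd1 k hk, zero_mul]
    have ha0 : ∀ k, k ≠ i → a k = 0 := by
      intro k hk
      have h2 := key' k (sc k)
      rw [if_pos rfl, if_neg (sc_ne hn2 k), add_zero, hd1 k hk, zero_mul] at h2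
      exact h2.symm
    have hai : a i = c j * d i := by
      have h2 := key' i (sc i)
      rw [if_pos rfl, if_neg hni, add_zero] at h2
      rw [← h2, h1, mul_comm]
    refine ⟨fun t => ?_, fun x => ?_, fun x => ?_⟩
    · rw [single hc hc1, h1, pow_sc hn]
    · rw [single ha ha0, hai]
    · rw [hb]
      exact Finset.sum_eq_zero fun k _ => by rw [hb0, zero_mul]

/-- the two cases: `m = 0` and `l` bijective, or `l = 0` and `m` bijective -/
theorem cases {n : ℕ} (hn : Fintype.card F = 2 ^ n) (hn2 : 2 ≤ n) {φ ψ l m : F → F}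
    (φa : ∀ x y, φ (x + y) = φ x + φ y) (ψa : ∀ x y, ψ (x + y) = ψ x + ψ y)
    (la : ∀ x y, l (x + y) = l x + l y) (ma : ∀ x y, m (x + y) = m x + m y)
    (φi : Function.Injective φ) (ψi : Function.Injective ψ)
    (h : ∀ z t, φ z * ψ t = l (z * t ^ 2) + m (z * t)) :
    ((∀ x, m x = 0) ∧ Function.Bijective l) ∨ ((∀ x, l x = 0) ∧ Function.Bijective m) := by
  have h1 : ψ 1 ≠ 0 := by
    intro h0
    have h2 : ψ 0 = 0 := by
      have h3 := ψa 0 0
      rw [add_zero] at h3
      exact left_eq_add.1 h3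
    exact one_ne_zero (ψi (h0.trans h2.symm))
  have h2 : ∀ z, φ z * ψ 1 = l z + m z := by
    intro z
    have h3 := h z 1
    rwa [one_pow, mul_one] at h3
  have h3 : Function.Injective fun z => φ z * ψ 1 := fun x y hxy => φi (mul_right_cancel₀ h1 hxy)
  obtain ⟨i, c, d, -, -, -, ⟨-, -, hm⟩ | ⟨-, -, hl⟩⟩ := functional hn hn2 φa ψa la ma φi ψi h
  · left
    refine ⟨hm, Finite.injective_iff_bijective.1 fun x y hxy => h3 ?_⟩
    show φ x * ψ 1 = φ y * ψ 1
    rw [h2, h2, hm, hm, hxy]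
  · right
    refine ⟨hl, Finite.injective_iff_bijective.1 fun x y hxy => h3 ?_⟩
    show φ x * ψ 1 = φ y * ψ 1
    rw [h2, h2, hl, hl, hxy]

end Cfsg.Agent.Omega.HOne.NSFun
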