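import Cfsg.Agent.Omega.NatPair.Mod

/-!
# II.0h1, nonsplit case: the module `V` with `V / D` natural, `D` centralised

`Rig P V D π` : `V` elementary abelian, `V / D` a natural `SL₂(F)`-module for `P` (coordinates `π`), every element of
`SL₂(F)` is induced by an element of `P` centralising `D`, and elements of `P` centralising `D` and `V / D` centralise `V`.

`Rig.form` : there are additive `e, f : F → V`, `g : F → D` with `π (e z) = (0, z)`, `π (f z) = (z, 0)` such that every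
`x ∈ P` centralising `D` and inducing `lo (t²)` on `V / D` acts as `v ↦ e (t² β) g (t β) v`, `β = π v 0`; `g(F)` is
`P`-invariant; if `g = 1` then `V` splits.
-/

set_option autoImplicit false
set_option linter.unusedSectionVars false

namespace Cfsg.Agent.Omega.HOne.NSMod

open Subgroup Cfsg.Agent.Omega.NatPair Cfsg.Agent.Lib.SL2Mat

variable {G : Type*} [Group G] {F : Type*} [Field F]

/-- `V / D` is natural for `P`, `D` centralised. -/
structure Rig (P V D : Subgroup G) (π : G → Fin 2 → F) : Prop where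
  DV : D ≤ V
  Vn : ∀ p ∈ P, ∀ v ∈ V, p * v * p⁻¹ ∈ V
  Dn : ∀ p ∈ P, ∀ v ∈ D, p * v * p⁻¹ ∈ D
  Vc : ∀ v ∈ V, ∀ w ∈ V, v * w = w * v
  Vs : ∀ v ∈ V, v * v = 1
  mul : ∀ v ∈ V, ∀ w ∈ V, π (v * w) = π v + π w
  surj : ∀ x : Fin 2 → F, ∃ v ∈ V, π v = x
  ker : ∀ v ∈ V, π v = 0 ↔ v ∈ D
  lift : ∀ A : Matrix.SpecialLinearGroup (Fin 2) F, ∃ g ∈ P, (∀ v ∈ V, π (g * v * g⁻¹) = ap A (π v)) ∧
    ∀ d ∈ D, g * d = d * g
  norm : ∀ g ∈ P, ∀ h ∈ P, ∀ A : Matrix.SpecialLinearGroup (Fin 2) F,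
    (∀ v ∈ V, π (h * v * h⁻¹) = ap A (π v)) → ∃ B : Matrix.SpecialLinearGroup (Fin 2) F,
      ∀ v ∈ V, π (g * h * g⁻¹ * v * (g * h * g⁻¹)⁻¹) = ap B (π v)
  rig : ∀ g ∈ P, (∀ d ∈ D, g * d = d * g) → (∀ v ∈ V, π (g * v * g⁻¹) = π v) → ∀ v ∈ V, g * v = v * g

/-- `x` centralises `D` and induces `A` on `V / D`. -/
structure Is (P V D : Subgroup G) (π : G → Fin 2 → F) (x : G) (A : Matrix.SpecialLinearGroup (Fin 2) F) : Prop where
  mem : x ∈ P
  act : ∀ v ∈ V, π (x * v * x⁻¹) = ap A (π v)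
  cen : ∀ d ∈ D, x * d = d * x

variable {P V D : Subgroup G} {π : G → Fin 2 → F}

theorem ap_lo (a : F) (x : Fin 2 → F) : ap (lo a) x = ![x 0, a * x 0 + x 1] := by
  apply ext2
  · rw [ap_zero']; simp
  · rw [ap_one']; simp

theorem ap_dg (a : F) (ha : a ≠ 0) (x : Fin 2 → F) : ap (dg a ha) x = ![a * x 0, a⁻¹ * x 1] := by
  apply ext2
  · rw [ap_zero']; simp
  · rw [ap_one']; simp

theorem ap_wm (a : F) (ha : a ≠ 0) (x : Fin 2 → F) : ap (wm a ha) x = ![a * x 1, -a⁻¹ * x 0] := by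
  apply ext2
  · rw [ap_zero']; simp
  · rw [ap_one']; simp

namespace Rig

variable (r : Rig P V D π)

include r

theorem map_one : π 1 = 0 := (r.ker 1 (one_mem V)).2 (one_mem D)

theorem inv {v : G} (hv : v ∈ V) : v⁻¹ = v := inv_eq_of_mul_eq_one_left (r.Vs v hv)

theorem map_inv {v : G} (hv : v ∈ V) : π v⁻¹ = - π v := by
  have := r.mul v hv v⁻¹ (inv_mem hv)
  rw [mul_inv_cancel, r.map_one] at this
  exact (neg_eq_of_add_eq_zero_right this.symm).symm

theorem two : (2 : F) = 0 := by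
  obtain ⟨v, hv, hx⟩ := r.surj ![1, 0]
  have h1 := r.mul v hv v hv
  rw [r.Vs v hv, r.map_one, hx] at h1
  have h2 := congrFun h1 0
  simp only [Pi.zero_apply, Pi.add_apply, Matrix.cons_val_zero] at h2
  rw [← one_add_one_eq_two, ← h2]

theorem is_lift (A : Matrix.SpecialLinearGroup (Fin 2) F) : ∃ x, Is P V D π x A := by
  obtain ⟨g, hg, h1, h2⟩ := r.lift A
  exact ⟨g, hg, h1, h2⟩

theorem is_mul {x y : G} {A B : Matrix.SpecialLinearGroup (Fin 2) F} (hx : Is P V D π x A) (hy : Is P V D π y B) :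
    Is P V D π (x * y) (A * B) where
  mem := mul_mem hx.mem hy.mem
  act v hv := by
    have e : x * y * v * (x * y)⁻¹ = x * (y * v * y⁻¹) * x⁻¹ := by group
    rw [e, hx.act _ (r.Vn y hy.mem v hv), hy.act v hv, ap_mul]
  cen d hd := by
    rw [mul_assoc, hy.cen d hd, ← mul_assoc, hx.cen d hd, mul_assoc]

theorem is_inv {x : G} {A : Matrix.SpecialLinearGroup (Fin 2) F} (hx : Is P V D π x A) : Is P V D π x⁻¹ A⁻¹ where
  mem := inv_mem hx.mem
  act v hv := by
    have h1 := hx.act _ (r.Vn x⁻¹ (inv_mem hx.mem) v hv)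
    have e : x * (x⁻¹ * v * x⁻¹⁻¹) * x⁻¹ = v := by group
    rw [e] at h1
    rw [h1, ap_inv_ap]
  cen d hd := by
    have h1 := hx.cen d hd
    calc x⁻¹ * d = x⁻¹ * (d * x) * x⁻¹ := by group
      _ = x⁻¹ * (x * d) * x⁻¹ := by rw [h1]
      _ = _ := by group

theorem is_one : Is P V D π 1 1 where
  mem := one_mem _
  act v _ := by rw [one_mul, inv_one, mul_one, ap_one]
  cen d _ := by rw [one_mul, mul_one]

/-- the action of `x` on `V` is determined by the matrix -/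
theorem is_eq {x y : G} {A : Matrix.SpecialLinearGroup (Fin 2) F} (hx : Is P V D π x A) (hy : Is P V D π y A) :
    ∀ v ∈ V, x * v * x⁻¹ = y * v * y⁻¹ := by
  have h1 := r.is_mul (r.is_inv hy) hx
  rw [inv_mul_cancel] at h1
  intro v hv
  have h2 := r.rig _ h1.mem h1.cen (fun v hv => by rw [h1.act v hv, ap_one]) v hv
  have h3 : x * v = y * v * (y⁻¹ * x) := by
    calc x * v = y * (y⁻¹ * x * v) := by group
      _ = y * (v * (y⁻¹ * x)) := by rw [h2]
      _ = _ := by group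
  rw [h3]; group

theorem is_conj {p x : G} {A : Matrix.SpecialLinearGroup (Fin 2) F} (hp : p ∈ P) (hx : Is P V D π x A) :
    ∃ B, Is P V D π (p * x * p⁻¹) B := by
  obtain ⟨B, hB⟩ := r.norm p hp x hx.mem A hx.act
  refine ⟨B, mul_mem (mul_mem hp hx.mem) (inv_mem hp), hB, fun d hd => ?_⟩
  have h1 := hx.cen _ (r.Dn p⁻¹ (inv_mem hp) d hd)
  rw [inv_inv] at h1
  calc p * x * p⁻¹ * d = p * (x * (p⁻¹ * d * p)) * p⁻¹ := by group
    _ = p * (p⁻¹ * d * p * x) * p⁻¹ := by rw [h1]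
    _ = _ := by group

omit r in
/-- `[x, v]` -/
def cm (x v : G) : G := x * v * x⁻¹ * v⁻¹

theorem cm_mem {x : G} (hx : x ∈ P) {v : G} (hv : v ∈ V) : cm x v ∈ V := mul_mem (r.Vn x hx v hv) (inv_mem hv)

theorem cm_add {x : G} (hx : x ∈ P) {v w : G} (hv : v ∈ V) (hw : w ∈ V) : cm x (v * w) = cm x v * cm x w := by
  have h1 := r.Vc _ (inv_mem hv) _ (r.cm_mem hx hw)
  calc cm x (v * w) = x * v * x⁻¹ * (cm x w * v⁻¹) := by unfold cm; group
    _ = x * v * x⁻¹ * (v⁻¹ * cm x w) := by rw [h1]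
    _ = _ := by unfold cm; group

theorem cm_D {x : G} {A : Matrix.SpecialLinearGroup (Fin 2) F} (hx : Is P V D π x A) {d : G} (hd : d ∈ D) :
    cm x d = 1 := by
  unfold cm
  rw [hx.cen d hd]; group

theorem π_cm {x : G} {A : Matrix.SpecialLinearGroup (Fin 2) F} (hx : Is P V D π x A) {v : G} (hv : v ∈ V) :
    π (cm x v) = ap A (π v) - π v := by
  unfold cm
  rw [r.mul _ (r.Vn x hx.mem v hv) _ (inv_mem hv), hx.act v hv, r.map_inv hv, sub_eq_add_neg]

/-- two elements of `V` with the same image have the same `[x, v]` -/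
theorem cm_eq {x : G} {A : Matrix.SpecialLinearGroup (Fin 2) F} (hx : Is P V D π x A) {v w : G} (hv : v ∈ V)
    (hw : w ∈ V) (h : π v = π w) : cm x v = cm x w := by
  have h1 : v * w⁻¹ ∈ D := (r.ker _ (mul_mem hv (inv_mem hw))).1 (by
    rw [r.mul v hv _ (inv_mem hw), r.map_inv hw, h, add_neg_cancel])
  have h2 := r.cm_add hx.mem (r.DV h1) hw
  rw [inv_mul_cancel_right, r.cm_D hx h1, one_mul] at h2
  exact h2

/-- the complement `[V, t]` of `D`, `t` inducing `dg ω`, `ω ≠ 1`: the section `s` -/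
theorem exists_sec {ω : F} (h0 : ω ≠ 0) (h1 : ω ≠ 1) :
    ∃ s : (Fin 2 → F) → G, (∀ x, s x ∈ V) ∧ (∀ x, π (s x) = x) ∧ (∀ x y, s (x + y) = s x * s y) ∧
      (∀ t, Is P V D π t (dg ω h0) → ∀ v ∈ V, cm t v = s (π (cm t v))) ∧
      (∀ x, ∀ t, Is P V D π t (dg ω h0) → ∃ v ∈ V, cm t v = s x) := by
  obtain ⟨t, ht⟩ := r.is_lift (dg ω h0)
  have hω : ω - 1 ≠ 0 := sub_ne_zero.2 h1
  have hω' : ω⁻¹ - 1 ≠ 0 := sub_ne_zero.2 fun h => h1 (inv_eq_one.1 h)
  let y : (Fin 2 → F) → (Fin 2 → F) := fun x => ![(ω - 1)⁻¹ * x 0, (ω⁻¹ - 1)⁻¹ * x 1]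
  have hy : ∀ x, ap (dg ω h0) (y x) - y x = x := by
    intro x
    rw [ap_dg]
    apply ext2
    · change ω * ((ω - 1)⁻¹ * x 0) - (ω - 1)⁻¹ * x 0 = x 0
      have : ω * ((ω - 1)⁻¹ * x 0) - (ω - 1)⁻¹ * x 0 = (ω - 1) * (ω - 1)⁻¹ * x 0 := by ring
      rw [this, mul_inv_cancel₀ hω, one_mul]
    · change ω⁻¹ * ((ω⁻¹ - 1)⁻¹ * x 1) - (ω⁻¹ - 1)⁻¹ * x 1 = x 1
      have : ω⁻¹ * ((ω⁻¹ - 1)⁻¹ * x 1) - (ω⁻¹ - 1)⁻¹ * x 1 = (ω⁻¹ - 1) * (ω⁻¹ - 1)⁻¹ * x 1 := by ring
      rw [this, mul_inv_cancel₀ hω', one_mul]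
  have hyi : ∀ x x', ap (dg ω h0) x - x = ap (dg ω h0) x' - x' → x = x' := by
    intro x x' h
    rw [ap_dg, ap_dg] at h
    have e0 := congrFun h 0
    have e1 := congrFun h 1
    simp only [Pi.sub_apply, Matrix.cons_val_zero, Matrix.cons_val_one] at e0 e1
    apply ext2
    · apply mul_left_cancel₀ hω
      linear_combination e0
    · apply mul_left_cancel₀ hω'
      linear_combination e1
  choose u hu huπ using r.surj
  let s : (Fin 2 → F) → G := fun x => cm t (u (y x))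
  have hsπ : ∀ x, π (s x) = x := fun x => by
    rw [r.π_cm ht (hu _), huπ, hy]
  have hsV : ∀ x, s x ∈ V := fun x => r.cm_mem ht.mem (hu _)
  have hkey : ∀ v ∈ V, cm t v = s (π (cm t v)) := by
    intro v hv
    apply r.cm_eq ht hv (hu _)
    rw [huπ]
    apply hyi
    rw [hy, r.π_cm ht hv]
  refine ⟨s, hsV, hsπ, fun x x' => ?_, fun t' ht' v hv => ?_, fun x t' ht' => ⟨u (y x), hu _, ?_⟩⟩
  · change cm t _ = cm t _ * cm t _
    rw [← r.cm_add ht.mem (hu _) (hu _)]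
    apply r.cm_eq ht (hu _) (mul_mem (hu _) (hu _))
    rw [r.mul _ (hu _) _ (hu _), huπ, huπ, huπ]
    apply ext2 <;> simp [y] <;> ring
  · have e : cm t' v = cm t v := by
      unfold cm; rw [r.is_eq ht' ht v hv]
    rw [e]
    exact hkey v hv
  · unfold cm
    rw [r.is_eq ht' ht _ (hu _)]
    rfl

end Rig

/-- The coordinates of `V`. -/
structure Form (P V D : Subgroup G) (π : G → Fin 2 → F) (e f g : F → G) (N : Subgroup G) : Prop where
  eV : ∀ z, e z ∈ V
  fV : ∀ z, f z ∈ V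
  gD : ∀ z, g z ∈ D
  eπ : ∀ z, π (e z) = ![0, z]
  fπ : ∀ z, π (f z) = ![z, 0]
  e_add : ∀ x y, e (x + y) = e x * e y
  f_add : ∀ x y, f (x + y) = f x * f y
  g_add : ∀ x y, g (x + y) = g x * g y
  act : ∀ t x, Is P V D π x (lo (t ^ 2)) → ∀ v ∈ V, x * v * x⁻¹ = e (t ^ 2 * π v 0) * g (t * π v 0) * v
  gP : ∀ p ∈ P, ∀ y, ∃ y', p * g y * p⁻¹ = g y'
  mN : ∀ z, z ∈ N ↔ ∃ a b y, z = e a * f b * g y
  cN : ∀ x A, Is P V D π x A → ∀ v ∈ V, x * v * x⁻¹ * v⁻¹ ∈ N
  ND : ∀ z ∈ N, z ∈ D → ∃ y, z = g y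
  NP : ∀ p ∈ P, ∀ z ∈ N, p * z * p⁻¹ ∈ N

namespace Rig

variable (r : Rig P V D π)

include r

/-- **The module formula.** -/
theorem form [Finite G] (hsq : ∀ b : F, ∃ t, b = t ^ 2) (hω : ∃ ω : F, ω ≠ 0 ∧ ω ≠ 1)
    (hcen : ∀ b x, Is P V D π x (lo b) → ∀ v ∈ V, π v 0 = 0 → x * v = v * x) :
    ∃ (e f g : F → G) (N : Subgroup G), Form P V D π e f g N := by
  obtain ⟨ω, h0, h1⟩ := hω
  obtain ⟨s, sV, sπ, sadd, st, st'⟩ := r.exists_sec h0 h1
  obtain ⟨t, ht⟩ := r.is_lift (dg ω h0)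
  have h2 := r.two
  have hneg : ∀ x : F, -x = x := fun x => by linear_combination (-x) * h2
  have hVc := r.Vc
  have s0 : s 0 = 1 := by
    have := sadd 0 0
    rw [add_zero] at this
    exact left_eq_mul.1 this
  -- `I`
  have hI : ∀ x A, Is P V D π x A → (A * dg ω h0 * A⁻¹ = dg ω h0 ∨ A * dg ω h0 * A⁻¹ = (dg ω h0)⁻¹) → ∀ u,
      x * s u * x⁻¹ = s (ap A u) := by
    intro x A hx hA u
    obtain ⟨v, hv, e1⟩ := st' u t ht
    have hxv : x * v * x⁻¹ ∈ V := r.Vn x hx.mem v hv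
    have e2 : x * s u * x⁻¹ = cm (x * t * x⁻¹) (x * v * x⁻¹) := by rw [← e1]; unfold cm; group
    have hxt := r.is_mul (r.is_mul hx ht) (r.is_inv hx)
    have e3 : π (x * s u * x⁻¹) = ap A u := by rw [hx.act _ (sV u), sπ]
    rcases hA with hA | hA
    · rw [hA] at hxt
      have e4 := st _ hxt _ hxv
      rw [← e2, e3] at e4
      exact e4
    · rw [hA] at hxt
      have ht' := r.is_inv hxt
      rw [inv_inv] at ht'
      obtain ⟨t', ht'd⟩ : ∃ t', t' = (x * t * x⁻¹)⁻¹ := ⟨_, rfl⟩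
      rw [← ht'd] at ht'
      have hw : t'⁻¹ * (x * v * x⁻¹) * t' ∈ V := by
        have := r.Vn t'⁻¹ (inv_mem ht'.mem) _ hxv
        rwa [inv_inv] at this
      have e4 : cm t' (t'⁻¹ * (x * v * x⁻¹) * t') = (x * s u * x⁻¹)⁻¹ := by
        rw [e2, ht'd]; unfold cm; group
      rw [r.inv (r.Vn x hx.mem _ (sV u))] at e4
      have e5 := st _ ht' _ hw
      rw [e4, e3] at e5
      exact e5
  have hdg : ∀ (a : F) (ha : a ≠ 0), dg a ha * dg ω h0 * (dg a ha)⁻¹ = dg ω h0 := by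
    intro a ha
    rw [mul_inv_eq_iff_eq_mul]
    apply ext_ent <;> simp [ent_mul] <;> ring
  have hwm : wm (1 : F) one_ne_zero * dg ω h0 * (wm (1 : F) one_ne_zero)⁻¹ = (dg ω h0)⁻¹ := by
    rw [mul_inv_eq_iff_eq_mul, ← mul_right_inj (dg ω h0), mul_inv_cancel_left]
    apply ext_ent <;> simp [ent_mul, h0]
  let e : F → G := fun z => s ![0, z]
  let f : F → G := fun z => s ![z, 0]
  have e_add : ∀ x y, e (x + y) = e x * e y := fun x y => by
    change s _ = s _ * s _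
    rw [← sadd]
    congr 1
    apply ext2 <;> simp
  have f_add : ∀ x y, f (x + y) = f x * f y := fun x y => by
    change s _ = s _ * s _
    rw [← sadd]
    congr 1
    apply ext2 <;> simp
  have e0 : e 0 = 1 := by
    have := e_add 0 0
    rw [add_zero] at this
    exact left_eq_mul.1 this
  have f0 : f 0 = 1 := by
    have := f_add 0 0
    rw [add_zero] at this
    exact left_eq_mul.1 this
  have sef : ∀ u, s u = e (u 1) * f (u 0) := fun u => by
    change s u = s _ * s _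
    rw [← sadd]
    congr 1
    apply ext2 <;> simp
  -- torus
  have dge : ∀ (a : F) (ha : a ≠ 0) (x : G), Is P V D π x (dg a ha) → ∀ z, x * e z * x⁻¹ = e (a⁻¹ * z) ∧
      x * f z * x⁻¹ = f (a * z) := by
    intro a ha x hx z
    constructor
    · rw [hI x _ hx (Or.inl (hdg a ha)), ap_dg]
      congr 1
      apply ext2 <;> simp
    · rw [hI x _ hx (Or.inl (hdg a ha)), ap_dg]
      congr 1
      apply ext2 <;> simp
  -- `cm x (f z)` for `x` of type `lo b`
  have hγ : ∀ b x, Is P V D π x (lo b) → ∀ z, (e (b * z))⁻¹ * cm x (f z) ∈ D := by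
    intro b x hx z
    rw [← r.ker _ (mul_mem (inv_mem (sV _)) (r.cm_mem hx.mem (sV _))),
      r.mul _ (inv_mem (sV _)) _ (r.cm_mem hx.mem (sV _)), r.map_inv (sV _), r.π_cm hx (sV _), sπ, sπ, ap_lo]
    apply ext2 <;> simp
  choose l hl using fun b : F => r.is_lift (lo b)
  let γ : F → F → G := fun b z => (e (b * z))⁻¹ * cm (l b) (f z)
  have hγD : ∀ b z, γ b z ∈ D := fun b z => hγ b _ (hl b) z
  have hcm : ∀ b x, Is P V D π x (lo b) → ∀ z, cm x (f z) = e (b * z) * γ b z := by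
    intro b x hx z
    have : cm x (f z) = cm (l b) (f z) := by unfold cm; rw [r.is_eq hx (hl b) _ (sV _)]
    rw [this]
    change _ = e (b * z) * ((e (b * z))⁻¹ * _)
    rw [mul_inv_cancel_left]
  have hγz : ∀ b z z', γ b (z + z') = γ b z * γ b z' := by
    intro b z z'
    change (e (b * (z + z')))⁻¹ * cm (l b) (f (z + z')) = _
    rw [f_add, r.cm_add (hl b).mem (sV _) (sV _), mul_add, e_add, hcm b _ (hl b), hcm b _ (hl b)]
    have m1 := sV ![0, b * z]
    have m2 := sV ![0, b * z']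
    have m3 := r.DV (hγD b z)
    have c1 := hVc _ m3 _ m2
    have c2 := hVc _ m1 _ m2
    change γ b z * e (b * z') = e (b * z') * γ b z at c1
    change e (b * z) * e (b * z') = e (b * z') * e (b * z) at c2
    calc (e (b * z) * e (b * z'))⁻¹ * (e (b * z) * γ b z * (e (b * z') * γ b z'))
        = (e (b * z) * e (b * z'))⁻¹ * (e (b * z) * (γ b z * e (b * z')) * γ b z') := by group
      _ = (e (b * z) * e (b * z'))⁻¹ * (e (b * z) * (e (b * z') * γ b z) * γ b z') := by rw [c1]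
      _ = _ := by group
  have hγt : ∀ a (_ : a ≠ 0) b z, γ (b * a⁻¹ ^ 2) (a * z) = γ b z := by
    intro a ha b z
    obtain ⟨y, hy⟩ := r.is_lift (dg a ha)
    have hyl := r.is_mul (r.is_mul hy (hl b)) (r.is_inv hy)
    have e1 : dg a ha * lo b * (dg a ha)⁻¹ = lo (b * a⁻¹ ^ 2) := by
      rw [mul_inv_eq_iff_eq_mul]
      apply ext_ent <;> simp [ent_mul]
      field_simp
    rw [e1] at hyl
    have e2 : y * cm (l b) (f z) * y⁻¹ = cm (y * l b * y⁻¹) (y * f z * y⁻¹) := by unfold cm; group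
    rw [(dge a ha y hy z).2, hcm _ _ hyl, hcm b _ (hl b)] at e2
    have e3 : y * (e (b * z) * γ b z) * y⁻¹ = (y * e (b * z) * y⁻¹) * γ b z := by
      have := hy.cen _ (hγD b z)
      calc y * (e (b * z) * γ b z) * y⁻¹ = (y * e (b * z) * y⁻¹) * (y * γ b z * y⁻¹) := by group
        _ = _ := by rw [this]; group
    rw [e3, (dge a ha y hy _).1] at e2
    have e4 : a⁻¹ * (b * z) = b * a⁻¹ ^ 2 * (a * z) := by field_simp
    rw [e4] at e2
    exact (mul_left_cancel e2).symm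
  let g : F → G := fun y => γ 1 y
  have gD : ∀ y, g y ∈ D := fun y => hγD 1 y
  have g_add : ∀ x y, g (x + y) = g x * g y := fun x y => hγz 1 x y
  have g0 : g 0 = 1 := by
    have := g_add 0 0
    rw [add_zero] at this
    exact left_eq_mul.1 this
  have hγ0 : ∀ z, γ 0 z = 1 := by
    intro z
    change (e (0 * z))⁻¹ * cm (l 0) (f z) = 1
    have h3 : cm (l 0) (f z) = cm 1 (f z) := by
      unfold cm
      have := hl 0
      rw [lo_zero] at this
      rw [r.is_eq this r.is_one _ (sV _)]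
    rw [h3, zero_mul, e0]
    unfold cm; group
  have hγsq : ∀ a z, γ (a ^ 2) z = g (a * z) := by
    intro a z
    by_cases ha : a = 0
    · subst ha
      rw [zero_pow two_ne_zero, hγ0, zero_mul, g0]
    · rw [← hγt a ha]
      change _ = γ 1 (a * z)
      congr 1
      field_simp
  have hact : ∀ t x, Is P V D π x (lo (t ^ 2)) → ∀ v ∈ V, cm x v = e (t ^ 2 * π v 0) * g (t * π v 0) := by
    intro t x hx v hv
    have e1 : cm x v = cm x (f (π v 0) * e (π v 1)) := by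
      apply r.cm_eq hx hv (mul_mem (sV _) (sV _))
      rw [r.mul _ (sV _) _ (sV _), sπ, sπ]
      apply ext2 <;> simp
    have e2 : cm x (e (π v 1)) = 1 := by
      have h3 : x * e (π v 1) = e (π v 1) * x := hcen _ x hx _ (sV _) (by rw [sπ]; simp)
      unfold cm
      rw [h3]
      group
    rw [e1, r.cm_add hx.mem (sV _) (sV _), e2, mul_one, hcm _ x hx, hγsq]
  have hDc : ∀ d ∈ D, ∀ v ∈ V, d * v = v * d := fun d hd v hv => hVc d (r.DV hd) v hv
  -- `N`
  have smul : ∀ a b y a' b' y', (e a * f b * g y) * (e a' * f b' * g y') = e (a + a') * f (b + b') * g (y + y') := by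
    intro a b y a' b' y'
    rw [e_add, f_add, g_add]
    have c1 := hDc _ (gD y) _ (mul_mem (sV ![0, a']) (sV ![b', 0]))
    change g y * (e a' * f b') = (e a' * f b') * g y at c1
    have c2 := hVc _ (sV ![b, 0]) _ (sV ![0, a'])
    change f b * e a' = e a' * f b at c2
    calc (e a * f b * g y) * (e a' * f b' * g y') = e a * f b * (g y * (e a' * f b')) * g y' := by group
      _ = e a * f b * ((e a' * f b') * g y) * g y' := by rw [c1]
      _ = e a * (f b * e a') * f b' * g y * g y' := by group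
      _ = e a * (e a' * f b) * f b' * g y * g y' := by rw [c2]
      _ = _ := by group
  let N : Subgroup G :=
    { carrier := {z | ∃ a b y, z = e a * f b * g y}
      one_mem' := ⟨0, 0, 0, by rw [e0, f0, g0]; simp⟩
      mul_mem' := by
        rintro _ _ ⟨a, b, y, rfl⟩ ⟨a', b', y', rfl⟩
        exact ⟨_, _, _, smul _ _ _ _ _ _⟩
      inv_mem' := by
        rintro _ ⟨a, b, y, rfl⟩
        have h3 : e a * f b * g y ∈ V := mul_mem (mul_mem (sV _) (sV _)) (r.DV (gD y))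
        exact ⟨a, b, y, r.inv h3⟩ }
  have hNs : ∀ u, s u ∈ N := fun u => ⟨u 1, u 0, 0, by rw [g0, mul_one, ← sef]⟩
  have hNg : ∀ y, g y ∈ N := fun y => ⟨0, 0, y, by rw [e0, f0]; simp⟩
  -- `SL₂` acts on `N`
  have hN1 : ∀ x A, Is P V D π x A → (∀ u, x * s u * x⁻¹ ∈ N) → ∀ z ∈ N, x * z * x⁻¹ ∈ N := by
    rintro x A hx hs z ⟨a, b, y, rfl⟩
    have h3 := hx.cen _ (gD y)
    have h4 : x * (e a * f b * g y) * x⁻¹ = (x * e a * x⁻¹) * (x * f b * x⁻¹) * (x * g y * x⁻¹) := by group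
    rw [h4, h3, mul_inv_cancel_right]
    exact mul_mem (mul_mem (hs _) (hs _)) (hNg y)
  let K : Subgroup (Matrix.SpecialLinearGroup (Fin 2) F) :=
    { carrier := {A | ∀ x, Is P V D π x A → ∀ z ∈ N, x * z * x⁻¹ ∈ N}
      one_mem' := fun x hx z hz => by
        have hzV : z ∈ V := by
          obtain ⟨a, b, y, rfl⟩ := hz
          exact mul_mem (mul_mem (sV _) (sV _)) (r.DV (gD y))
        rw [r.is_eq hx r.is_one z hzV, one_mul, inv_one, mul_one]
        exact hz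
      mul_mem' := by
        intro A B hA hB x hx z hz
        obtain ⟨y, hy⟩ := r.is_lift B
        have h3 := r.is_mul hx (r.is_inv hy)
        rw [mul_inv_cancel_right] at h3
        have h4 := hA _ h3 _ (hB y hy z hz)
        have h5 : x * y⁻¹ * (y * z * y⁻¹) * (x * y⁻¹)⁻¹ = x * z * x⁻¹ := by group
        rwa [h5] at h4
      inv_mem' := by
        intro A hA x hx z hz
        have h3 := r.is_inv hx
        rw [inv_inv] at h3
        have h4 := hA _ h3
        have h5 : Function.Surjective (fun w : N => (⟨x⁻¹ * w * x⁻¹⁻¹, h4 w w.2⟩ : N)) := by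
          apply Finite.surjective_of_injective
          intro a b hab
          have h6 : x⁻¹ * (a : G) * x⁻¹⁻¹ = x⁻¹ * b * x⁻¹⁻¹ := congrArg Subtype.val hab
          exact Subtype.ext (mul_left_cancel (mul_right_cancel h6))
        obtain ⟨w, hw⟩ := h5 ⟨z, hz⟩
        have h6 : x⁻¹ * (w : G) * x⁻¹⁻¹ = z := congrArg Subtype.val hw
        have h7 : x * z * x⁻¹ = w := by rw [← h6]; group
        rw [h7]
        exact w.2 }
  have hlo : ∀ b, lo b ∈ K := by
    intro b x hx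
    obtain ⟨a, rfl⟩ := hsq b
    refine hN1 x _ hx fun u => ?_
    have h3 := hact a x hx _ (sV u)
    have h4 : x * s u * x⁻¹ = cm x (s u) * s u := by unfold cm; group
    rw [h4, h3]
    exact mul_mem (mul_mem (hNs _) (hNg _)) (hNs _)
  have hwmK : wm (1 : F) one_ne_zero ∈ K := by
    intro x hx
    refine hN1 x _ hx fun u => ?_
    rw [hI x _ hx (Or.inr hwm)]
    exact hNs _
  have hup : ∀ b, up b ∈ K := by
    intro b
    have h3 := wm_lo (1 : F) (-b) one_ne_zero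
    rw [one_pow, mul_one, neg_neg] at h3
    have h4 : up b = wm (1 : F) one_ne_zero * lo (-b) * (wm (1 : F) one_ne_zero)⁻¹ := by
      rw [h3, mul_inv_cancel_right]
    rw [h4]
    exact mul_mem (mul_mem hwmK (hlo _)) (inv_mem hwmK)
  have hK : ∀ A, A ∈ K := by
    intro A
    obtain ⟨a, b, c, d, rfl⟩ := exists_up_lo A
    exact mul_mem (mul_mem (mul_mem (hup _) (hlo _)) (hup _)) (hlo _)
  have hcN : ∀ x A, Is P V D π x A → ∀ v ∈ V, cm x v ∈ N := by
    intro x A hx v hv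
    have h3 : cm x v = cm x (s (π v)) := r.cm_eq hx hv (sV _) (sπ _).symm
    rw [h3]
    exact mul_mem (hK A x hx _ (hNs _)) (inv_mem (hNs _))
  have hND : ∀ z ∈ N, z ∈ D → ∃ y, z = g y := by
    rintro _ ⟨a, b, y, rfl⟩ hD
    have h3 : π (e a * f b * g y) = 0 :=
      (r.ker _ (mul_mem (mul_mem (sV _) (sV _)) (r.DV (gD y)))).2 hD
    rw [r.mul _ (mul_mem (sV _) (sV _)) _ (r.DV (gD y)), r.mul _ (sV _) _ (sV _), sπ, sπ,
      (r.ker _ (r.DV (gD y))).2 (gD y)] at h3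
    have h4 := congrFun h3 0
    have h5 := congrFun h3 1
    simp at h4 h5
    subst h4 h5
    exact ⟨y, by rw [e0, f0]; simp⟩
  have hgP : ∀ p ∈ P, ∀ y, ∃ y', p * g y * p⁻¹ = g y' := by
    intro p hp y
    obtain ⟨x, hx⟩ := r.is_lift (lo (1 ^ 2 : F))
    have h3 := hact 1 x hx (f y) (sV _)
    have hfy : π (f y) 0 = y := by
      change π (s _) 0 = y
      rw [sπ]; simp
    rw [hfy, one_pow, one_mul] at h3
    obtain ⟨v, hv, h4⟩ := st' ![0, y] t ht
    have h5 : g y = (cm t v)⁻¹ * cm x (f y) := by rw [h3, h4]; change g y = (e y)⁻¹ * _; group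
    have h6 : p * g y * p⁻¹ = (cm (p * t * p⁻¹) (p * v * p⁻¹))⁻¹ * cm (p * x * p⁻¹) (p * f y * p⁻¹) := by
      rw [h5]; unfold cm; group
    obtain ⟨B, hB⟩ := r.is_conj hp ht
    obtain ⟨B', hB'⟩ := r.is_conj hp hx
    apply hND
    · rw [h6]
      exact mul_mem (inv_mem (hcN _ _ hB _ (r.Vn p hp v hv))) (hcN _ _ hB' _ (r.Vn p hp _ (sV _)))
    · exact r.Dn p hp _ (gD y)
  refine ⟨e, f, g, N, fun z => sV _, fun z => sV _, gD, fun z => sπ _, fun z => sπ _, e_add, f_add, g_add,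
    fun a x hx v hv => ?_, hgP, fun z => Iff.rfl, fun x A hx v hv => hcN x A hx v hv, hND, fun p hp z hz => ?_⟩
  · have h3 := hact a x hx v hv
    have h4 : x * v * x⁻¹ = cm x v * v := by unfold cm; group
    rw [h4, h3]
  · obtain ⟨a, b, y, rfl⟩ := hz
    obtain ⟨v, hv, h4⟩ := st' ![b, a] t ht
    have h5 : e a * f b = cm t v := by
      rw [h4, sef]; simp
    obtain ⟨y', hy'⟩ := hgP p hp y
    obtain ⟨B, hB⟩ := r.is_conj hp ht
    have h6 : p * (e a * f b * g y) * p⁻¹ = cm (p * t * p⁻¹) (p * v * p⁻¹) * (p * g y * p⁻¹) := by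
      rw [h5]; unfold cm; group
    rw [h6, hy']
    exact mul_mem (hcN _ _ hB _ (r.Vn p hp v hv)) (hNg _)

end Rig

end Cfsg.Agent.Omega.HOne.NSMod
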