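import Cfsg.Agent.Omega.HOne.PairP
import Cfsg.Agent.Omega.FFOne.Exit
import Cfsg.Agent.Omega.CloseA.CharTwo

/-!
# Two members of `P*(S)` over one `S` which do not commute: the structure `FFOne.Mut`

`P₁, P₂ ∈ P*(S)`, `V_{P₁}`, `V_{P₂}` natural (one factor), `[V_{P₁}, V_{P₂}] ≠ 1`.

* `K0` : the elements of `P` which centralise `Q / V` and `V / D` form a normal 2-subgroup of `P`;
* `side`, `off`, `core`, `mut` : the fields of `FFOne.Mut`;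
* `cent_o2` : `C_G(O₂(P)) ≤ O₂(P)`;
* `exit` : `S = Q₁Q₂` is of type `L₃(q)` or `Sp₄(q)`, or `q = 4` and `Q₁Q₂` is of type `L₃(4)`.
-/

set_option autoImplicit false
set_option linter.unusedSectionVars false

namespace Cfsg.Agent.Omega.HOne.NSMut

open Subgroup Cfsg Cfsg.Agent.ZN Cfsg.Agent.Omega.MinPar
open Cfsg.Agent.Omega.FrameFF Cfsg.Agent.Lib.SL2Mat Cfsg.Agent.Omega.NatPair
open Cfsg.Agent.Omega.FFOne (NatTwo QuadOver Side Off Mut LL)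
open Cfsg.Agent.MinSimple.VModule (oddGen zl_comm zl_sq zc_le zc_comm zc_sq mem_zc le_normalizer_zl
  le_normalizer_oddGen le_normalizer_o2 o2_isPGroup mem_oddGen le_o2)
open Cfsg.Agent.MinSimple.MinParabolic (IsMinPar)

universe u

variable {G : Type u} [Group G]

/-! ### Natural modules -/

theorem natTwo {F : Type} [Field F] {P V D : Subgroup G} (M : NatOver F P V D) : NatTwo P V D M.e where
  mul := M.mul
  surj := M.surj
  ker := M.ker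
  lift A := by
    obtain ⟨g, hg, h1, -⟩ := M.lift A
    exact ⟨g, hg, h1⟩
  norm := M.norm

theorem quadOver {F : Type} [Field F] {P V D A : Subgroup G} {M : NatOver F P V D} {w : Fin 2 → F}
    (q : QuadP M A w) : QuadOver V A M.e w where
  ne := q.ne
  lin := q.lin
  full := q.full
  cent v hv h a ha := ((q.cent v hv).2 h a ha).symm

/-! ### Elements of odd order -/

/-- an element of odd order commutes with `x` if its square does -/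
theorem comm_of_sq {g x : G} (ho : Odd (orderOf g)) (h : g * g * x = x * (g * g)) : g * x = x * g := by
  obtain ⟨m, hm⟩ := ho
  have h1 : Commute (g ^ 2) x := by rw [pow_two]; exact h
  have h2 : Commute ((g ^ 2) ^ (m + 1)) x := h1.pow_left _
  have h3 : (g ^ 2) ^ (m + 1) = g := by
    rw [← pow_mul]
    have e : 2 * (m + 1) = orderOf g + 1 := by omega
    rw [e, pow_succ, pow_orderOf_eq_one, one_mul]
  rw [h3] at h2
  exact h2

/-- the elements of `P` which centralise `Q / V` and `V / D` -/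
def K0 (P Q V D : Subgroup G) (hQ : ∀ g ∈ P, ∀ x ∈ Q, g * x * g⁻¹ ∈ Q) (hV : ∀ g ∈ P, ∀ x ∈ V, g * x * g⁻¹ ∈ V)
    (hD : ∀ g ∈ P, ∀ x ∈ D, g * x * g⁻¹ ∈ D) : Subgroup G where
  carrier := {g | g ∈ P ∧ (∀ x ∈ Q, g * x * g⁻¹ * x⁻¹ ∈ V) ∧ ∀ v ∈ V, g * v * g⁻¹ * v⁻¹ ∈ D}
  one_mem' := ⟨one_mem _, fun x _ => by simp, fun x _ => by simp⟩
  mul_mem' := by
    rintro a b ⟨ha, ha1, ha2⟩ ⟨hb, hb1, hb2⟩
    refine ⟨mul_mem ha hb, fun x hx => ?_, fun x hx => ?_⟩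
    · have e : a * b * x * (a * b)⁻¹ * x⁻¹ = (a * (b * x * b⁻¹ * x⁻¹) * a⁻¹) * (a * x * a⁻¹ * x⁻¹) := by group
      rw [e]
      exact mul_mem (hV a ha _ (hb1 x hx)) (ha1 x hx)
    · have e : a * b * x * (a * b)⁻¹ * x⁻¹ = (a * (b * x * b⁻¹ * x⁻¹) * a⁻¹) * (a * x * a⁻¹ * x⁻¹) := by group
      rw [e]
      exact mul_mem (hD a ha _ (hb2 x hx)) (ha2 x hx)
  inv_mem' := by
    rintro a ⟨ha, ha1, ha2⟩
    refine ⟨inv_mem ha, fun x hx => ?_, fun x hx => ?_⟩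
    · have h1 := ha1 _ (hQ a⁻¹ (inv_mem ha) x hx)
      have e : a⁻¹ * x * a⁻¹⁻¹ * x⁻¹ = (a * (a⁻¹ * x * a⁻¹⁻¹) * a⁻¹ * (a⁻¹ * x * a⁻¹⁻¹)⁻¹)⁻¹ := by group
      rw [e]
      exact inv_mem h1
    · have h1 := ha2 _ (hV a⁻¹ (inv_mem ha) x hx)
      have e : a⁻¹ * x * a⁻¹⁻¹ * x⁻¹ = (a * (a⁻¹ * x * a⁻¹⁻¹) * a⁻¹ * (a⁻¹ * x * a⁻¹⁻¹)⁻¹)⁻¹ := by group
      rw [e]
      exact inv_mem h1

/-- **Elements of `P` which centralise `Q / V` and `V / D` lie in `Q`**, `Q = O₂(P) ≥ C_P(Q)`, `D` centralised by the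
elements of odd order of `P`. -/
theorem mem_of_K0 [Finite G] {P V D : Subgroup G} (hDV : D ≤ V)
    (hV : ∀ g ∈ P, ∀ x ∈ V, g * x * g⁻¹ ∈ V)
    (hD : ∀ g ∈ P, ∀ x ∈ D, g * x * g⁻¹ ∈ D) (hsq : ∀ v ∈ V, v * v = 1)
    (hodd : ∀ g ∈ P, Odd (orderOf g) → ∀ d ∈ D, g * d = d * g)
    (hcen : P ⊓ centralizer (o2 P : Set G) ≤ o2 P) {g : G} (hg : g ∈ P)
    (h1 : ∀ x ∈ o2 P, g * x * g⁻¹ * x⁻¹ ∈ V) (h2 : ∀ v ∈ V, g * v * g⁻¹ * v⁻¹ ∈ D) : g ∈ o2 P := by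
  have hQ : ∀ g ∈ P, ∀ x ∈ o2 P, g * x * g⁻¹ ∈ o2 P := fun g hg x hx =>
    (mem_normalizer_iff.1 (le_normalizer_o2 P hg) x).1 hx
  have hVc : ∀ a ∈ V, ∀ b ∈ V, a * b = b * a := by
    intro a ha b hb
    have h3 := hsq _ (mul_mem ha hb)
    have h4 := hsq a ha
    have h5 := hsq b hb
    calc a * b = a * (a * b * (a * b)) * b := by rw [h3]; group
      _ = (a * a) * b * a * (b * b) := by group
      _ = b * a := by rw [h4, h5]; group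
  -- an element of odd order of `K0` is trivial
  have key : ∀ g ∈ K0 P (o2 P) V D hQ hV hD, Odd (orderOf g) → g = 1 := by
    rintro g ⟨hg, g1, g2⟩ ho
    -- `g` centralises `V`
    have c1 : ∀ v ∈ V, g * v = v * g := by
      intro v hv
      refine comm_of_sq ho ?_
      have hb := g2 v hv
      set b := g * v * g⁻¹ * v⁻¹ with hbdef
      have e1 : g * v * g⁻¹ = b * v := by rw [hbdef]; group
      have e2 : g * b * g⁻¹ = b := by rw [hodd g hg ho b hb, mul_inv_cancel_right]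
      have e3 : g * g * v * (g * g)⁻¹ = v := by
        calc g * g * v * (g * g)⁻¹ = g * (g * v * g⁻¹) * g⁻¹ := by group
          _ = g * (b * v) * g⁻¹ := by rw [e1]
          _ = (g * b * g⁻¹) * (g * v * g⁻¹) := by group
          _ = (b * b) * v := by rw [e2, e1]; group
          _ = v := by rw [hsq b (hDV hb), one_mul]
      exact mul_inv_eq_iff_eq_mul.1 e3
    have c2 : ∀ x ∈ o2 P, g * x = x * g := by
      intro x hx
      refine comm_of_sq ho ?_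
      have hb := g1 x hx
      set b := g * x * g⁻¹ * x⁻¹ with hbdef
      have e1 : g * x * g⁻¹ = b * x := by rw [hbdef]; group
      have e2 : g * b * g⁻¹ = b := by rw [c1 b hb, mul_inv_cancel_right]
      have e3 : g * g * x * (g * g)⁻¹ = x := by
        calc g * g * x * (g * g)⁻¹ = g * (g * x * g⁻¹) * g⁻¹ := by group
          _ = g * (b * x) * g⁻¹ := by rw [e1]
          _ = (g * b * g⁻¹) * (g * x * g⁻¹) := by group
          _ = (b * b) * x := by rw [e2, e1]; group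
          _ = x := by rw [hsq b hb, one_mul]
      exact mul_inv_eq_iff_eq_mul.1 e3
    have h3 : g ∈ o2 P := hcen ⟨hg, mem_centralizer_iff.2 fun x hx => (c2 x hx).symm⟩
    obtain ⟨k, hk⟩ := o2_isPGroup P ⟨g, h3⟩
    have hk' : g ^ 2 ^ k = 1 := by simpa using congrArg Subtype.val hk
    have h4 : orderOf g ∣ 2 ^ k := orderOf_dvd_of_pow_eq_one hk'
    have h5 : orderOf g = 1 := by
      obtain ⟨j, -, hj⟩ := (Nat.dvd_prime_pow Nat.prime_two).1 h4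
      rcases Nat.eq_zero_or_pos j with h6 | h6
      · rw [hj, h6, pow_zero]
      · exfalso
        rw [hj] at ho
        exact (Nat.not_even_iff_odd.2 ho) ((Nat.even_pow.2 ⟨even_two, h6.ne'⟩))
    exact orderOf_eq_one_iff.1 h5
  have hp : IsPGroup 2 (K0 P (o2 P) V D hQ hV hD) := by
    rintro ⟨g, hg⟩
    obtain ⟨k, m, hm, e⟩ := Nat.exists_eq_two_pow_mul_odd (n := orderOf g) (orderOf_pos g).ne'
    refine ⟨k, Subtype.ext ?_⟩
    change g ^ 2 ^ k = 1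
    refine key _ (pow_mem hg _) ?_
    rw [orderOf_pow' g (pow_ne_zero k two_ne_zero), e, Nat.gcd_mul_right_left, Nat.mul_div_cancel_left _ (by positivity)]
    exact hm
  have hle : K0 P (o2 P) V D hQ hV hD ≤ P := fun g hg => hg.1
  have hn : P ≤ normalizer (K0 P (o2 P) V D hQ hV hD : Set G) := by
    intro p hp'
    refine SQ1.FFOne.mem_norm_of ?_
    rintro g ⟨hg, g1, g2⟩
    refine ⟨mul_mem (mul_mem hp' hg) (inv_mem hp'), fun x hx => ?_, fun x hx => ?_⟩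
    · have h3 := hV p hp' _ (g1 _ (hQ p⁻¹ (inv_mem hp') x hx))
      have e : p * g * p⁻¹ * x * (p * g * p⁻¹)⁻¹ * x⁻¹ =
          p * (g * (p⁻¹ * x * p⁻¹⁻¹) * g⁻¹ * (p⁻¹ * x * p⁻¹⁻¹)⁻¹) * p⁻¹ := by group
      rw [e]
      exact h3
    · have h3 := hD p hp' _ (g2 _ (hV p⁻¹ (inv_mem hp') x hx))
      have e : p * g * p⁻¹ * x * (p * g * p⁻¹)⁻¹ * x⁻¹ =
          p * (g * (p⁻¹ * x * p⁻¹⁻¹) * g⁻¹ * (p⁻¹ * x * p⁻¹⁻¹)⁻¹) * p⁻¹ := by group
      rw [e]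
      exact h3
  exact le_o2 hle hp hn ⟨hg, h1, h2⟩

/-! ### The fields of `Mut` -/

section par

variable [Finite G] (hG : IsCharacteristicTwoType G) (S : Sylow 2 G) {P : Subgroup G}
  (h : IsParS (S : Subgroup G) P)

include hG h

theorem zl_mul_self {v : G} (hv : v ∈ zl (S : Subgroup G) P) : v * v = 1 := by
  rw [← pow_two]
  exact zc_sq _ _ (h.isLoc.zl_le S hG hv)

theorem zl_le_o2 : zl (S : Subgroup G) P ≤ o2 P := (h.isLoc.zl_le S hG).trans (zc_le _)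

theorem o2_comm {x v : G} (hx : x ∈ o2 P) (hv : v ∈ zl (S : Subgroup G) P) : x * v = v * x :=
  (mem_zc.1 (h.isLoc.zl_le S hG hv)).2.1 x hx

theorem mem_o2_of {x : G} (hx : x ∈ (S : Subgroup G)) (hc : ∀ v ∈ zl (S : Subgroup G) P, x * v = v * x) :
    x ∈ o2 P := by
  rw [← IsParS.inf_centralizer S hG h]
  exact ⟨hx, mem_centralizer_iff.2 fun v hv => (hc v hv).symm⟩

/-- **`Side`** -/
theorem side : Side P (S : Subgroup G) (o2 P) (zl (S : Subgroup G) P) where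
  SP := h.le
  QS := h.isLoc.o2_le S
  VQ := zl_le_o2 hG S h
  Qn _ hg x hx := (mem_normalizer_iff.1 (le_normalizer_o2 P hg) x).1 hx
  Vn _ hg _ hx := conj_mem_zl hg hx
  sq _ hv := zl_mul_self hG S h hv
  cen _ hx hc := mem_o2_of hG S h hx hc
  com _ hx _ hv := o2_comm hG S h hx hv

/-- `C_G(O₂(P)) ≤ O₂(P)` -/
theorem cent_o2 {g : G} (hg : ∀ u ∈ o2 P, g * u = u * g) : g ∈ o2 P := by
  have h1 := (h.isLoc.normalizer_o2 S).char2 S hG
  have h2 : o2 (normalizer (o2 P : Set G)) ≤ o2 P := o2_le_o2 S h.le (le_normalizer_o2 P)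
  refine h2 (h1 ⟨?_, ?_⟩)
  · exact centralizer_le_normalizer _ (mem_centralizer_iff.2 fun u hu => (hg u hu).symm)
  · exact mem_centralizer_iff.2 fun u hu => (hg u (h2 hu)).symm

/-- `x ∈ S`, `[V, x] ≤ C_V(A)` implies `x ∈ A Q` -/
theorem act {F : Type} [Field F] [Finite F] [CharP F 2]
    {M : NatOver F P (zl (S : Subgroup G) P) (cv (S : Subgroup G) P)} {A : Subgroup G} (hAS : A ≤ (S : Subgroup G))
    {w : Fin 2 → F} (q : QuadP M A w) {x : G} (hx : x ∈ (S : Subgroup G))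
    (hc : ∀ v ∈ zl (S : Subgroup G) P, x * v * x⁻¹ * v⁻¹ ∈ centralizer (A : Set G)) :
    ∃ y ∈ A, ∃ q ∈ o2 P, x = y * q := by
  set N := toSec M (cv_le _ _) (fun _ hh _ hv => conj_mem_zl hh hv) (fun _ hh _ hv => conj_mem_cv hh hv)
  have hπ : ∀ g, N.π g = M.e g := fun g => rfl
  have hxP := h.le hx
  -- the action
  have hw := q.ne
  have hco : ∀ z : Fin 2 → F, ∃ c : F, N.act x z - z = c • w := by
    intro z
    obtain ⟨v, hv, rfl⟩ := M.surj z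
    have h1 := conj_mem_zl (S := (S : Subgroup G)) hxP hv
    have h2 : x * v * x⁻¹ * v⁻¹ ∈ zl (S : Subgroup G) P := mul_mem h1 (inv_mem hv)
    have h3 : N.act x (M.e v) - M.e v = M.e (x * v * x⁻¹ * v⁻¹) := by
      have e := N.act_π hxP hv
      rw [hπ, hπ] at e
      rw [e]
      exact (N.map_div h1 hv).symm
    rw [h3]
    exact (q.cent _ h2).1 fun a ha => mem_centralizer_iff.1 (hc v hv) a ha
  obtain ⟨s, hs⟩ := N.exists_semi hxP
  have hadd := fun y z => N.act_add hxP y z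
  -- a vector off the line
  obtain ⟨D, hD⟩ := exists_ap_e hw
  let y₀ : Fin 2 → F := ap D ![0, 1]
  have hy₀ : dt w y₀ ≠ 0 := by
    have h1 := det_eq D
    rw [← hD]
    change dt (ap D ![1, 0]) (ap D ![0, 1]) ≠ 0
    unfold dt
    rw [ap_zero', ap_zero', ap_one', ap_one']
    simp only [Matrix.cons_val_zero, Matrix.cons_val_one, mul_one, mul_zero, add_zero, zero_add]
    intro h2
    rw [show ent D 0 0 * ent D 1 1 - ent D 1 0 * ent D 0 1 = ent D 0 0 * ent D 1 1 - ent D 0 1 * ent D 1 0 by ring,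
      h1] at h2
    exact one_ne_zero h2
  have hs1 : ∀ c : F, s c = c := by
    intro c
    obtain ⟨a, ha⟩ := hco y₀
    obtain ⟨b, hb⟩ := hco (c • y₀)
    rw [hs] at hb
    have e1 : N.act x y₀ = y₀ + a • w := by rw [← ha]; abel
    rw [e1, smul_add, smul_smul] at hb
    have e2 : (s c - c) • y₀ = (b - s c * a) • w := by
      rw [sub_smul, sub_smul, ← hb]; abel
    by_contra hne
    have h3 : s c - c ≠ 0 := sub_ne_zero.2 hne
    have h4 : dt w ((s c - c) • y₀) = 0 := by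
      rw [e2]
      simp only [dt, Pi.smul_apply, smul_eq_mul]; ring
    rw [dt_smul] at h4
    rcases mul_eq_zero.1 h4 with h5 | h5
    · exact h3 h5
    · exact hy₀ h5
  have hlin : ∀ (c : F) z, N.act x (c • z) = c • N.act x z := fun c z => by rw [hs, hs1]
  -- `x w = w`
  have hxw : N.act x w = w := by
    obtain ⟨c, hc'⟩ := hco w
    have e1 : N.act x w = (1 + c) • w := by
      rw [add_smul, one_smul, ← hc']; abel
    have e2 : ∀ k : ℕ, N.act (x ^ k) w = (1 + c) ^ k • w := by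
      intro k
      induction k with
      | zero => rw [pow_zero, pow_zero, one_smul, N.act_one]
      | succ k ih =>
        rw [pow_succ', N.act_mul hxP (pow_mem hxP k), ih, hlin, e1, smul_smul, pow_succ]
    obtain ⟨k, hk⟩ := S.isPGroup' ⟨x, hx⟩
    have hk' : x ^ 2 ^ k = 1 := by simpa using congrArg Subtype.val hk
    have e3 := e2 (2 ^ k)
    rw [hk', N.act_one] at e3
    have e4 : ((1 + c) ^ 2 ^ k - 1) • w = 0 := by rw [sub_smul, one_smul, ← e3, sub_self]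
    have e5 : (1 + c) ^ 2 ^ k - 1 = 0 := (smul_eq_zero.1 e4).resolve_right hw
    have e6 : ((1 + c) - 1) ^ 2 ^ k = 0 := by
      rw [sub_pow_char_pow, one_pow, e5]
    have e7 : (1 + c) - 1 = 0 := pow_eq_zero_iff (pow_ne_zero k two_ne_zero) |>.1 e6
    rw [e1, sub_eq_zero.1 e7, one_smul]
  obtain ⟨B, hB⟩ := exists_of_fix hw (N.act x) hadd hlin hxw hco
  have hBw : ap B w = w := by rw [← hB, hxw]
  obtain ⟨y, hy, hy'⟩ := q.full B hBw
  have hyS := hAS hy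
  refine ⟨y, hy, y⁻¹ * x, ?_, by group⟩
  have hyx : y⁻¹ * x ∈ (S : Subgroup G) := mul_mem (inv_mem hyS) hx
  refine mem_o2_of hG S h hyx (comm_of_sec hG S h M hyx ?_)
  intro v hv
  have h1 := conj_mem_zl (S := (S : Subgroup G)) (h.le hyx) hv
  rw [← M.ker _ (mul_mem h1 (inv_mem hv))]
  have e1 : M.e (y⁻¹ * x * v * (y⁻¹ * x)⁻¹) = M.e v := by
    have e2 := N.act_π (h.le hyx) hv
    rw [hπ, hπ] at e2
    rw [← e2, N.act_mul (inv_mem (h.le hyS)) hxP, hB]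
    have e3 := N.act_π (h.le hyS) hv
    rw [hπ, hπ, hy' v hv] at e3
    rw [← e3, N.act_inv_act (h.le hyS)]
  have e4 : M.e (y⁻¹ * x * v * (y⁻¹ * x)⁻¹ * v⁻¹) = M.e (y⁻¹ * x * v * (y⁻¹ * x)⁻¹) - M.e v := N.map_div h1 hv
  rw [e4, e1, sub_self]

/-- `C_V(⟨A^P⟩) ≤ D` -/
theorem inf_le_cv {F : Type} [Field F] [Finite F] [CharP F 2]
    {M : NatOver F P (zl (S : Subgroup G) P) (cv (S : Subgroup G) P)} {A : Subgroup G}
    {w : Fin 2 → F} (q : QuadP M A w) {v : G} (hv : v ∈ zl (S : Subgroup G) P)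
    (hc : ∀ g ∈ P, ∀ a ∈ A, v * (g * a * g⁻¹) = g * a * g⁻¹ * v) : v ∈ cv (S : Subgroup G) P := by
  have hw := q.ne
  have hy : ∃ y : Fin 2 → F, dt w y ≠ 0 := by
    by_contra hcon
    push Not at hcon
    have h1 := hcon ![0, 1]
    have h2 := hcon ![1, 0]
    simp only [dt, Matrix.cons_val_zero, Matrix.cons_val_one, mul_one, mul_zero, sub_zero, zero_sub] at h1 h2
    exact hw (ext2 (by simpa using h1) (by simpa using h2))
  obtain ⟨y, hy⟩ := hy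
  have hy0 : y ≠ 0 := by
    rintro rfl
    exact hy (by simp [dt])
  obtain ⟨C, hC⟩ := exists_ap hw hy0
  obtain ⟨g, hg, hg', -⟩ := M.lift C
  rw [← M.ker v hv]
  have h1 : ∃ c : F, M.e v = c • w := (q.cent v hv).1 fun a ha => by
    have := hc 1 (one_mem _) a ha
    rw [one_mul, inv_one, mul_one] at this
    exact this.symm
  have hv' := conj_mem_zl (S := (S : Subgroup G)) (inv_mem hg) hv
  have h2 : ∃ c : F, M.e (g⁻¹ * v * g⁻¹⁻¹) = c • w := (q.cent _ hv').1 fun a ha => by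
    have := hc g hg a ha
    calc a * (g⁻¹ * v * g⁻¹⁻¹) = g⁻¹ * (g * a * g⁻¹ * v) * g := by group
      _ = g⁻¹ * (v * (g * a * g⁻¹)) * g := by rw [this]
      _ = _ := by group
  obtain ⟨c, hc1⟩ := h1
  obtain ⟨d, hd⟩ := h2
  have h3 := hg' _ hv'
  have e1 : g * (g⁻¹ * v * g⁻¹⁻¹) * g⁻¹ = v := by group
  rw [e1, hd, ap_smul, hC] at h3
  have h4 : dt w (d • y) = 0 := by
    rw [← h3, hc1]
    simp only [dt, Pi.smul_apply, smul_eq_mul]; ring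
  rw [dt_smul] at h4
  have h5 : d = 0 := (mul_eq_zero.1 h4).resolve_right hy
  rw [h3, h5, zero_smul]

omit hG h in
/-- `|V : D| = q²` -/
theorem relIndex_cv {F : Type} [Field F] [Finite F]
    (M : NatOver F P (zl (S : Subgroup G) P) (cv (S : Subgroup G) P)) :
    (cv (S : Subgroup G) P).relIndex (zl (S : Subgroup G) P) = Nat.card F * Nat.card F := by
  let φ : zl (S : Subgroup G) P →* Multiplicative (Fin 2 → F) :=
    MonoidHom.mk' (fun v => Multiplicative.ofAdd (M.e v)) (fun v w => by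
      rw [← ofAdd_add]
      exact congrArg Multiplicative.ofAdd (M.mul v v.2 w w.2))
  have hφs : Function.Surjective φ := by
    intro x
    obtain ⟨v, hv, hx⟩ := M.surj (Multiplicative.toAdd x)
    exact ⟨⟨v, hv⟩, by
      change Multiplicative.ofAdd (M.e v) = x
      rw [hx]; rfl⟩
  have h1 : (cv (S : Subgroup G) P).subgroupOf (zl (S : Subgroup G) P) = φ.ker := by
    ext u
    rw [mem_subgroupOf, ← M.ker _ u.2, MonoidHom.mem_ker]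
    exact Iff.rfl
  have h2 : φ.range = ⊤ := MonoidHom.range_eq_top.2 hφs
  rw [relIndex, h1, index_ker, h2, card_top]
  have h4 : Nat.card (Multiplicative (Fin 2 → F)) = Nat.card (Fin 2 → F) :=
    Nat.card_congr Multiplicative.toAdd
  rw [h4, Nat.card_fun]
  simp [pow_two]

/-- `P = ⟨A^P⟩ S` -/
theorem gen {A : Subgroup G} (hAS : A ≤ (S : Subgroup G))
    (hne : ∃ a ∈ A, ∃ v ∈ zl (S : Subgroup G) P, a * v ≠ v * a) (K : Subgroup G) (hSK : (S : Subgroup G) ≤ K)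
    (hK : ∀ g ∈ P, ∀ x ∈ A, g * x * g⁻¹ ∈ K) : P ≤ K := by
  let N : Subgroup G := closure {x | ∃ p ∈ P, ∃ a ∈ A, x = p * a * p⁻¹}
  have hNP : N ≤ P := by
    rw [closure_le]
    rintro _ ⟨p, hp, a, ha, rfl⟩
    exact mul_mem (mul_mem hp (h.le (hAS ha))) (inv_mem hp)
  have hn : P ≤ normalizer (N : Set G) := by
    intro p hp
    refine SQ1.FFOne.mem_norm_of fun k hk => ?_
    have h1 : N ≤ N.comap (MulAut.conj p).toMonoidHom := by
      conv_lhs => rw [show N = closure {x | ∃ p ∈ P, ∃ a ∈ A, x = p * a * p⁻¹} from rfl]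
      rw [closure_le]
      rintro _ ⟨g, hg, a, ha, rfl⟩
      change p * (g * a * g⁻¹) * p⁻¹ ∈ N
      exact subset_closure ⟨p * g, mul_mem hp hg, a, ha, by group⟩
    exact h1 hk
  rcases h.toIsPar.sup_eq_or_inf_le S hNP hn with h1 | h1
  · rw [← h1]
    refine sup_le ?_ hSK
    rw [closure_le]
    rintro _ ⟨p, hp, a, ha, rfl⟩
    exact hK p hp a ha
  · exfalso
    obtain ⟨a, ha, v, hv, hav⟩ := hne
    have h2 : a ∈ o2 P := h1 ⟨hAS ha, subset_closure ⟨1, one_mem _, a, ha, by group⟩⟩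
    exact hav (o2_comm hG S h h2 hv)

end par

section pair

variable [Finite G] (hG : IsCharacteristicTwoType G) (S : Sylow 2 G) {P₁ P₂ : Subgroup G}
  (h₁ : IsParS (S : Subgroup G) P₁) (h₂ : IsParS (S : Subgroup G) P₂)
  {F₁ F₂ : Type} [Field F₁] [Finite F₁] [CharP F₁ 2] [Field F₂] [Finite F₂] [CharP F₂ 2]
  {M₁ : NatOver F₁ P₁ (zl (S : Subgroup G) P₁) (cv (S : Subgroup G) P₁)}
  {M₂ : NatOver F₂ P₂ (zl (S : Subgroup G) P₂) (cv (S : Subgroup G) P₂)} {w₁ : Fin 2 → F₁} {w₂ : Fin 2 → F₂}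
  (q₁ : QuadP M₁ (zl (S : Subgroup G) P₂) w₁) (q₂ : QuadP M₂ (zl (S : Subgroup G) P₁) w₂)

include hG h₁ h₂

/-- no nontrivial subgroup of `S` is normal in `P₁` and `P₂` -/
theorem core (hne : ⁅zl (S : Subgroup G) P₁, zl (S : Subgroup G) P₂⁆ ≠ ⊥) (X : Subgroup G)
    (hX : X ≤ (S : Subgroup G)) (h1 : ∀ g ∈ P₁, ∀ x ∈ X, g * x * g⁻¹ ∈ X)
    (h2 : ∀ g ∈ P₂, ∀ x ∈ X, g * x * g⁻¹ ∈ X) : X = ⊥ := by
  by_contra hX1
  have hn : P₁ ⊔ P₂ ≤ normalizer (X : Set G) :=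
    sup_le (fun g hg => SQ1.FFOne.mem_norm_of (h1 g hg)) fun g hg => SQ1.FFOne.mem_norm_of (h2 g hg)
  have hL : IsLoc (S : Subgroup G) (P₁ ⊔ P₂) :=
    isLoc_of_le_normalizer S (h₁.le.trans le_sup_left) (S.isPGroup'.to_le hX) hX1 hn
  have h3 := hL.zl_le S hG
  have h4 : zl (S : Subgroup G) P₁ ≤ zl (S : Subgroup G) (P₁ ⊔ P₂) :=
    MinSimple.VModule.zl_le (MinSimple.VModule.zc_le_zl _ _) (le_sup_left.trans (le_normalizer_zl _ _))
  have h5 : zl (S : Subgroup G) P₂ ≤ zl (S : Subgroup G) (P₁ ⊔ P₂) :=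
    MinSimple.VModule.zl_le (MinSimple.VModule.zc_le_zl _ _) (le_sup_right.trans (le_normalizer_zl _ _))
  apply hne
  rw [commutator_eq_bot_iff_le_centralizer]
  intro v hv
  exact mem_centralizer_iff.2 fun a ha => zc_comm _ _ (h3 (h5 ha)) _ (h3 (h4 hv))

include q₂

/-- `Q₁ = V₁ (Q₁ ∩ Q₂)` -/
theorem dec {x : G} (hx : x ∈ o2 P₁) : ∃ v ∈ zl (S : Subgroup G) P₁, ∃ y ∈ o2 P₂, x = v * y := by
  have s₁ := side hG S h₁
  have s₂ := side hG S h₂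
  refine act hG S h₂ (s₁.VQ.trans s₁.QS) q₂ (s₁.QS hx) fun v hv => ?_
  rw [mem_centralizer_iff]
  have hvS : v ∈ (S : Subgroup G) := s₂.QS (s₂.VQ hv)
  have h3 : x * v * x⁻¹ * v⁻¹ ∈ o2 P₁ := by
    have e : x * v * x⁻¹ * v⁻¹ = x * (v * x⁻¹ * v⁻¹) := by group
    rw [e]
    exact mul_mem hx (s₁.Qn v (h₁.le hvS) _ (inv_mem hx))
  exact fun u hu => (s₁.com _ h3 u hu).symm

/-- `[Q₁, ⟨V₂^{P₁}⟩] ≤ V₁` -/
theorem comm_le {l : G} (hl : l ∈ closure {x | ∃ p ∈ P₁, ∃ a ∈ zl (S : Subgroup G) P₂, x = p * a * p⁻¹}) :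
    l ∈ P₁ ∧ ∀ x ∈ o2 P₁, l * x * l⁻¹ * x⁻¹ ∈ zl (S : Subgroup G) P₁ := by
  have s₁ := side hG S h₁
  have s₂ := side hG S h₂
  have hA : ∀ a ∈ zl (S : Subgroup G) P₂, a ∈ P₁ := fun a ha => h₁.le (s₂.QS (s₂.VQ ha))
  let K : Subgroup G :=
    { carrier := {g | g ∈ P₁ ∧ ∀ x ∈ o2 P₁, g * x * g⁻¹ * x⁻¹ ∈ zl (S : Subgroup G) P₁}
      one_mem' := ⟨one_mem _, fun x _ => by simp⟩
      mul_mem' := by
        rintro a b ⟨ha, ha1⟩ ⟨hb, hb1⟩
        refine ⟨mul_mem ha hb, fun x hx => ?_⟩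
        have e : a * b * x * (a * b)⁻¹ * x⁻¹ = (a * (b * x * b⁻¹ * x⁻¹) * a⁻¹) * (a * x * a⁻¹ * x⁻¹) := by group
        rw [e]
        exact mul_mem (s₁.Vn a ha _ (hb1 x hx)) (ha1 x hx)
      inv_mem' := by
        rintro a ⟨ha, ha1⟩
        refine ⟨inv_mem ha, fun x hx => ?_⟩
        have h1 := ha1 _ (s₁.Qn a⁻¹ (inv_mem ha) x hx)
        have e : a⁻¹ * x * a⁻¹⁻¹ * x⁻¹ = (a * (a⁻¹ * x * a⁻¹⁻¹) * a⁻¹ * (a⁻¹ * x * a⁻¹⁻¹)⁻¹)⁻¹ := by group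
        rw [e]
        exact inv_mem h1 }
  have hK : closure {x | ∃ p ∈ P₁, ∃ a ∈ zl (S : Subgroup G) P₂, x = p * a * p⁻¹} ≤ K := by
    rw [closure_le]
    rintro _ ⟨p, hp, a, ha, rfl⟩
    have haP := hA a ha
    refine ⟨mul_mem (mul_mem hp haP) (inv_mem hp), fun x hx => ?_⟩
    have hx' := s₁.Qn p⁻¹ (inv_mem hp) x hx
    obtain ⟨v, hv, y, hy, e⟩ := dec hG S h₁ h₂ q₂ hx'
    have hay : a * y * a⁻¹ * y⁻¹ = 1 := by
      have := s₂.com y hy a ha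
      rw [← this]; group
    have e1 : a * (p⁻¹ * x * p⁻¹⁻¹) * a⁻¹ * (p⁻¹ * x * p⁻¹⁻¹)⁻¹ = a * v * a⁻¹ * v⁻¹ := by
      rw [e]
      calc a * (v * y) * a⁻¹ * (v * y)⁻¹ = (a * v * a⁻¹) * (a * y * a⁻¹ * y⁻¹) * v⁻¹ := by group
        _ = _ := by rw [hay]; group
    have e2 : p * a * p⁻¹ * x * (p * a * p⁻¹)⁻¹ * x⁻¹ =
        p * (a * (p⁻¹ * x * p⁻¹⁻¹) * a⁻¹ * (p⁻¹ * x * p⁻¹⁻¹)⁻¹) * p⁻¹ := by group
    rw [e2, e1]
    exact s₁.Vn p hp _ (mul_mem (s₁.Vn a haP v hv) (inv_mem hv))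
  exact hK hl

include q₁

/-- **two conjugates of `V₂` generate `⟨V₂^{P₁}⟩` modulo `Q₁`** -/
theorem two : ∃ g ∈ P₁, ∀ K : Subgroup G, zl (S : Subgroup G) P₂ ≤ K →
    (∀ x ∈ zl (S : Subgroup G) P₂, g * x * g⁻¹ ∈ K) → o2 P₁ ≤ K →
    ∀ h ∈ P₁, ∀ x ∈ zl (S : Subgroup G) P₂, h * x * h⁻¹ ∈ K := by
  have s₁ := side hG S h₁
  have s₂ := side hG S h₂
  have hA : ∀ a ∈ zl (S : Subgroup G) P₂, a ∈ P₁ := fun a ha => h₁.le (s₂.QS (s₂.VQ ha))
  have he0 : (![0, 1] : Fin 2 → F₁) ≠ 0 := fun h => by simpa using congrFun h 1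
  obtain ⟨D, hD⟩ := exists_ap_e q₁.ne
  have hDe : ap D ![0, 1] ≠ 0 := by
    intro h0
    apply he0
    have := ap_inv_ap D ![0, 1]
    rw [h0] at this
    rw [← this]
    ext i
    fin_cases i
    · change ap D⁻¹ 0 0 = 0
      rw [ap_zero']; simp
    · change ap D⁻¹ 0 1 = 0
      rw [ap_one']; simp
  obtain ⟨E, hE⟩ := exists_ap q₁.ne hDe
  obtain ⟨g, hg, hg', -⟩ := M₁.lift E
  refine ⟨g, hg, fun K hK1 hK2 hK3 h hh x hx => ?_⟩
  -- `T = ⟨V₂, V₂^g⟩`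
  let T : Subgroup G := K ⊓ closure {x | ∃ p ∈ P₁, ∃ a ∈ zl (S : Subgroup G) P₂, x = p * a * p⁻¹}
  have hTP : ∀ t ∈ T, t ∈ P₁ := fun t ht => (comm_le hG S h₁ h₂ q₂ ht.2).1
  have hgi : ∀ v ∈ zl (S : Subgroup G) P₁, M₁.e (g⁻¹ * v * g⁻¹⁻¹) = ap E⁻¹ (M₁.e v) := by
    intro v hv
    have h1 := hg' _ (s₁.Vn g⁻¹ (inv_mem hg) v hv)
    have e1 : g * (g⁻¹ * v * g⁻¹⁻¹) * g⁻¹ = v := by group
    rw [e1] at h1
    rw [h1, ap_inv_ap]
  let KT : Subgroup (Matrix.SpecialLinearGroup (Fin 2) F₁) :=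
    { carrier := {B | ∃ l ∈ T, ∀ v ∈ zl (S : Subgroup G) P₁, M₁.e (l * v * l⁻¹) = ap B (M₁.e v)}
      one_mem' := ⟨1, one_mem _, fun v _ => by rw [ap_one]; simp⟩
      mul_mem' := by
        rintro B B' ⟨g, hg, hB⟩ ⟨g', hg', hB'⟩
        refine ⟨g * g', mul_mem hg hg', fun v hv => ?_⟩
        have e1 : g * g' * v * (g * g')⁻¹ = g * (g' * v * g'⁻¹) * g⁻¹ := by group
        rw [e1, hB _ (s₁.Vn g' (hTP _ hg') v hv), hB' v hv, ap_mul]
      inv_mem' := by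
        rintro B ⟨g, hg, hB⟩
        refine ⟨g⁻¹, inv_mem hg, fun v hv => ?_⟩
        have h1 := hB _ (s₁.Vn g⁻¹ (inv_mem (hTP _ hg)) v hv)
        have e1 : g * (g⁻¹ * v * g⁻¹⁻¹) * g⁻¹ = v := by group
        rw [e1] at h1
        rw [h1, ap_inv_ap] }
  have hKT1 : ∀ B, ap B w₁ = w₁ → B ∈ KT := by
    intro B hB
    obtain ⟨a, ha, ha'⟩ := q₁.full B hB
    exact ⟨a, ⟨hK1 ha, subset_closure ⟨1, one_mem _, a, ha, by group⟩⟩, ha'⟩
  have hKT2 : ∀ B, ap B w₁ = w₁ → E * B * E⁻¹ ∈ KT := by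
    intro B hB
    obtain ⟨a, ha, ha'⟩ := q₁.full B hB
    refine ⟨g * a * g⁻¹, ⟨hK2 a ha, subset_closure ⟨g, hg, a, ha, rfl⟩⟩, fun v hv => ?_⟩
    have hv1 := s₁.Vn g⁻¹ (inv_mem hg) v hv
    have hv2 := s₁.Vn a (hA a ha) _ hv1
    have e1 : g * a * g⁻¹ * v * (g * a * g⁻¹)⁻¹ = g * (a * (g⁻¹ * v * g⁻¹⁻¹) * a⁻¹) * g⁻¹ := by group
    rw [e1, hg' _ hv2, ha' _ hv1, hgi v hv, ap_mul, ap_mul]
  have hall : ∀ B, B ∈ KT := by
    intro B
    have h1 : D⁻¹ * B * D ∈ KT.comap (MulAut.conj D).toMonoidHom := by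
      refine FFOne.mem_of_lo_up _ (fun b => ?_) (fun b => ?_) _
      · change D * lo b * D⁻¹ ∈ KT
        have h2 := hKT2 (E⁻¹ * (D * lo b * D⁻¹) * E) (by
          rw [ap_mul, ap_mul, hE, ap_mul, ap_mul, ap_inv_ap, FFOne.ap_lo_e, ← hE, ap_inv_ap])
        have e1 : E * (E⁻¹ * (D * lo b * D⁻¹) * E) * E⁻¹ = D * lo b * D⁻¹ := by group
        rwa [e1] at h2
      · change D * up b * D⁻¹ ∈ KT
        exact hKT1 _ (by rw [← hD, ap_mul, ap_mul, ap_inv_ap, ap_up_e])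
    change D * (D⁻¹ * B * D) * D⁻¹ ∈ KT at h1
    have e1 : D * (D⁻¹ * B * D) * D⁻¹ = B := by group
    rwa [e1] at h1
  -- the element `h x h⁻¹`
  have hl : h * x * h⁻¹ ∈ closure {x | ∃ p ∈ P₁, ∃ a ∈ zl (S : Subgroup G) P₂, x = p * a * p⁻¹} :=
    subset_closure ⟨h, hh, x, hx, rfl⟩
  obtain ⟨B, -, hB⟩ := q₁.lin x hx
  obtain ⟨B', hB'⟩ := M₁.norm h hh x (hA x hx) B hB
  obtain ⟨t, ht, ht'⟩ := hall B'
  have htl : t⁻¹ * (h * x * h⁻¹) ∈ closure {x | ∃ p ∈ P₁, ∃ a ∈ zl (S : Subgroup G) P₂, x = p * a * p⁻¹} :=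
    mul_mem (inv_mem ht.2) hl
  obtain ⟨hP, hcm⟩ := comm_le hG S h₁ h₂ q₂ htl
  have h3 : t⁻¹ * (h * x * h⁻¹) ∈ o2 P₁ := by
    refine mem_of_K0 (cv_le _ _) s₁.Vn (fun g hg x hx => conj_mem_cv hg hx) s₁.sq ?_ (h₁.isLoc.char2 S hG) hP hcm ?_
    · intro g hg ho d hd
      exact mem_centralizer_iff.1 hd.2 g (mem_oddGen hg ho)
    · intro v hv
      have hv1 := s₁.Vn _ hP v hv
      rw [← M₁.ker _ (mul_mem hv1 (inv_mem hv))]
      have e1 : M₁.e (t⁻¹ * (h * x * h⁻¹) * v * (t⁻¹ * (h * x * h⁻¹))⁻¹) = M₁.e v := by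
        have hv2 := s₁.Vn (h * x * h⁻¹) (comm_le hG S h₁ h₂ q₂ hl).1 v hv
        have hv3 := s₁.Vn t⁻¹ (inv_mem (hTP t ht)) _ hv2
        have e2 := ht' _ hv3
        have e3 : t * (t⁻¹ * (h * x * h⁻¹ * v * (h * x * h⁻¹)⁻¹) * t⁻¹⁻¹) * t⁻¹ =
            h * x * h⁻¹ * v * (h * x * h⁻¹)⁻¹ := by group
        rw [e3, hB' v hv] at e2
        have e4 : t⁻¹ * (h * x * h⁻¹) * v * (t⁻¹ * (h * x * h⁻¹))⁻¹ =
            t⁻¹ * (h * x * h⁻¹ * v * (h * x * h⁻¹)⁻¹) * t⁻¹⁻¹ := by group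
        rw [e4]
        have e5 := congrArg (ap B'⁻¹) e2
        rw [ap_inv_ap, ap_inv_ap] at e5
        exact e5.symm
      have e2 := M₁.mul _ (mul_mem hv1 (inv_mem hv)) v hv
      rw [inv_mul_cancel_right, e1] at e2
      exact (left_eq_add.1 (by rw [add_comm]; exact e2))
  have h4 : h * x * h⁻¹ = t * (t⁻¹ * (h * x * h⁻¹)) := by group
  rw [h4]
  exact mul_mem ht.1 (hK3 h3)

/-- **`Off`** -/
theorem off : Off P₁ (S : Subgroup G) (o2 P₁) (zl (S : Subgroup G) P₁) (zl (S : Subgroup G) P₂) (Nat.card F₁) where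
  idx := by
    rw [← q₁.idxV, relIndex, relIndex, inf_comm, inf_subgroupOf_right]
  act _ hx hc := act hG S h₁ ((side hG S h₂).VQ.trans (side hG S h₂).QS) q₁ hx hc
  two := two hG S h₁ h₂ q₁ q₂
  full := by
    rw [← relIndex_cv S M₁]
    refine relIndex_le_of_le_left ?_ index_ne_zero_of_finite
    rintro v ⟨hv, hc⟩
    refine inf_le_cv hG S h₁ q₁ hv fun g hg a ha => ?_
    have h1 := mem_iInf.1 hc ⟨g, hg⟩
    exact (mem_centralizer_iff.1 h1 _ ⟨a, ha, rfl⟩).symm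
  gen := by
    refine gen hG S h₁ ((side hG S h₂).VQ.trans (side hG S h₂).QS) ?_
    by_contra hcon
    push Not at hcon
    obtain ⟨B, hB1, hB2⟩ : ∃ B, ap B w₁ = w₁ ∧ ∃ v ∈ zl (S : Subgroup G) P₁, ap B (M₁.e v) ≠ M₁.e v := by
      obtain ⟨D, hD⟩ := exists_ap_e q₁.ne
      refine ⟨D * up 1 * D⁻¹, by rw [← hD, ap_mul, ap_mul, ap_inv_ap, ap_up_e], ?_⟩
      obtain ⟨v, hv, hv'⟩ := M₁.surj (ap D ![0, 1])
      refine ⟨v, hv, fun h0 => ?_⟩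
      rw [hv', ap_mul, ap_mul, ap_inv_ap] at h0
      have h1 := congrArg (ap D⁻¹) h0
      rw [ap_inv_ap, ap_inv_ap] at h1
      have h2 := congrFun h1 0
      rw [ap_zero', up_00, up_01] at h2
      simp at h2
    obtain ⟨v, hv, hv'⟩ := hB2
    obtain ⟨a, ha, ha'⟩ := q₁.full B hB1
    apply hv'
    rw [← ha' v hv, hcon a ha v hv, mul_inv_cancel_right]

end pair

/-- **The structure `Mut`** for two members of `P*(S)` which do not commute. -/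
theorem exists_mut [Finite G] (hG : IsCharacteristicTwoType G) (S : Sylow 2 G) {P₁ P₂ : Subgroup G}
    (h₁ : IsParS (S : Subgroup G) P₁) (h₂ : IsParS (S : Subgroup G) P₂)
    {F₁ F₂ : Type} [Field F₁] [Finite F₁] [CharP F₁ 2] [Field F₂] [Finite F₂] [CharP F₂ 2]
    (M₁ : NatOver F₁ P₁ (zl (S : Subgroup G) P₁) (cv (S : Subgroup G) P₁))
    (M₂ : NatOver F₂ P₂ (zl (S : Subgroup G) P₂) (cv (S : Subgroup G) P₂))
    (hne : ⁅zl (S : Subgroup G) P₁, zl (S : Subgroup G) P₂⁆ ≠ ⊥) :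
    Mut P₁ P₂ (S : Subgroup G) (o2 P₁) (o2 P₂) (zl (S : Subgroup G) P₁) (zl (S : Subgroup G) P₂) (Nat.card F₁) ∧
      (∃ w, QuadP M₁ (zl (S : Subgroup G) P₂) w) ∧ ∃ w, QuadP M₂ (zl (S : Subgroup G) P₁) w := by
  have s₁ := side hG S h₁
  have s₂ := side hG S h₂
  obtain ⟨hc, ⟨w₁, q₁⟩, ⟨w₂, q₂⟩⟩ := pairPar hG S h₁ S h₂ M₁ M₂ (s₂.VQ.trans s₂.QS) (s₁.VQ.trans s₁.QS) hne
  refine ⟨⟨s₁, s₂, off hG S h₁ h₂ q₁ q₂, ?_, core hG S h₁ h₂ hne⟩, ⟨w₁, q₁⟩, ⟨w₂, q₂⟩⟩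
  rw [hc]
  exact off hG S h₂ h₁ q₂ q₁

/-- **`S = Q₁Q₂` is of type `L₃(q)` or `Sp₄(q)`, or `q = 4` and `Q₁Q₂` is of type `L₃(4)`.** -/
theorem exit [Finite G] (hG : IsCharacteristicTwoType G) (S : Sylow 2 G) {P₁ P₂ : Subgroup G}
    (h₁ : IsParS (S : Subgroup G) P₁) (h₂ : IsParS (S : Subgroup G) P₂)
    {F₁ F₂ : Type} [Field F₁] [Finite F₁] [CharP F₁ 2] [Field F₂] [Finite F₂] [CharP F₂ 2]
    (M₁ : NatOver F₁ P₁ (zl (S : Subgroup G) P₁) (cv (S : Subgroup G) P₁))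
    (M₂ : NatOver F₂ P₂ (zl (S : Subgroup G) P₂) (cv (S : Subgroup G) P₂))
    (hne : ⁅zl (S : Subgroup G) P₁, zl (S : Subgroup G) P₂⁆ ≠ ⊥) (hF : 2 < Nat.card F₁) :
    (∃ X Y Z : G → F₁, CloseA.Co3 (o2 P₁) (o2 P₂) (o2 P₁ ⊓ o2 P₂) X Y Z ∧
        ((S : Subgroup G) = o2 P₁ ⊔ o2 P₂ ∨ Nat.card F₁ = 4)) ∨
      ∃ (C₁ C₂ : Subgroup G) (X Y Z Z' : G → F₁),
        CloseA.Co4 (o2 P₁) (o2 P₂) (o2 P₁ ⊓ o2 P₂) C₁ C₂ X Y Z Z' ∧ (S : Subgroup G) = o2 P₁ ⊔ o2 P₂ := by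
  obtain ⟨m, ⟨w₁, q₁⟩, ⟨w₂, q₂⟩⟩ := exists_mut hG S h₁ h₂ M₁ M₂ hne
  rcases m.exit (fun g hg => cent_o2 hG S h₁ hg) (fun g hg => cent_o2 hG S h₂ hg)
    (natTwo M₁) (quadOver q₁) (cv_le _ _) (fun p hp d hd => conj_mem_cv hp hd)
    (natTwo M₂) (quadOver q₂) (cv_le _ _) (fun p hp d hd => conj_mem_cv hp hd) hF
    (CloseA.CTs_of hG _ _) with h | ⟨X, Y, Z, Z', h, h'⟩
  · exact Or.inl h
  · exact Or.inr ⟨_, _, X, Y, Z, Z', h, h'⟩

end Cfsg.Agent.Omega.HOne.NSMut
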