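import Cfsg.Agent.Omega.HOne.NSSide
import Cfsg.Agent.Omega.FFOne.Alg

/-!
# II.0h1, nonsplit case: the functional equation

`PairF` : both sides of a mutual pair with coordinates `e, f, g` and `e', f', g'` (`Form`).
`PairF.dich` : `g(F) = g'(F)`, or `e(F) = g'(F)`, `e'(F) = g(F)` and `g, g'` are injective.
`PairF.norm_e` : in the second case `S` normalises `e(F)`.
-/

set_option autoImplicit false
set_option linter.unusedSectionVars false

namespace Cfsg.Agent.Omega.HOne.NSPair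

open Subgroup Cfsg.Agent.Lib.SL2Mat Cfsg.Agent.Omega.NatPair Cfsg.Agent.Omega.HOne.NSMod
open Cfsg.Agent.Omega.HOne.NSSide

universe u

variable {G : Type u} [Group G] {F : Type} [Field F]

/-- elements inducing `lo b` centralise `C_V(A)` -/
theorem _root_.Cfsg.Agent.Omega.HOne.NSSide.SideS.hcen {S P V D A : Subgroup G} {π : G → Fin 2 → F} (s : SideS S P V D A π) (b : F) (x : G)
    (hx : Is P V D π x (lo b)) (v : G) (hv : v ∈ V) (h0 : π v 0 = 0) : x * v = v * x := by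
  obtain ⟨a, ha, ha'⟩ := s.full b
  have h1 := s.r.is_eq hx ha' v hv
  have h2 := (s.cen v hv).2 h0 a ha
  rw [h2, mul_inv_cancel_right] at h1
  exact mul_inv_eq_iff_eq_mul.1 h1

theorem _root_.Cfsg.Agent.Omega.HOne.NSSide.SideS.exists_form [Finite G] {S P V D A : Subgroup G} {π : G → Fin 2 → F} (s : SideS S P V D A π)
    (hsq : ∀ b : F, ∃ t, b = t ^ 2) (hω : ∃ ω : F, ω ≠ 0 ∧ ω ≠ 1) :
    ∃ (e f g : F → G) (N : Subgroup G), Form P V D π e f g N :=
  s.r.form hsq hω (s.hcen)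

/-- Both sides. -/
structure PairF (S S' P P' V V' D D' : Subgroup G) (π π' : G → Fin 2 → F) (e f g e' f' g' : F → G)
    (N N' : Subgroup G) : Prop where
  s : SideS S P V D V' π
  s' : SideS S' P' V' D' V π'
  φ : Form P V D π e f g N
  φ' : Form P' V' D' π' e' f' g' N'
  sq : ∀ b : F, ∃ t, b = t ^ 2
  ω : ∃ ω : F, ω ≠ 0 ∧ ω ≠ 1

section form

variable {P V D N : Subgroup G} {π : G → Fin 2 → F} {e f g : F → G}

theorem _root_.Cfsg.Agent.Omega.HOne.NSMod.Form.e0 (φ : Form P V D π e f g N) : e 0 = 1 := by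
  have := φ.e_add 0 0
  rw [add_zero] at this
  exact left_eq_mul.1 this

theorem _root_.Cfsg.Agent.Omega.HOne.NSMod.Form.g0 (φ : Form P V D π e f g N) : g 0 = 1 := by
  have := φ.g_add 0 0
  rw [add_zero] at this
  exact left_eq_mul.1 this

theorem _root_.Cfsg.Agent.Omega.HOne.NSMod.Form.f0 (φ : Form P V D π e f g N) : f 0 = 1 := by
  have := φ.f_add 0 0
  rw [add_zero] at this
  exact left_eq_mul.1 this

/-- `g(F)` -/
def _root_.Cfsg.Agent.Omega.HOne.NSMod.Form.U (φ : Form P V D π e f g N) : Subgroup G where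
  carrier := {x | ∃ y, x = g y}
  one_mem' := ⟨0, φ.g0.symm⟩
  mul_mem' := by
    rintro _ _ ⟨y, rfl⟩ ⟨y', rfl⟩
    exact ⟨y + y', (φ.g_add y y').symm⟩
  inv_mem' := by
    rintro _ ⟨y, rfl⟩
    refine ⟨-y, ?_⟩
    rw [inv_eq_iff_mul_eq_one, ← φ.g_add, add_neg_cancel, φ.g0]

theorem _root_.Cfsg.Agent.Omega.HOne.NSMod.Form.mem_U (φ : Form P V D π e f g N) {x : G} : x ∈ φ.U ↔ ∃ y, x = g y := Iff.rfl

variable (r : Rig P V D π)

include r in
theorem _root_.Cfsg.Agent.Omega.HOne.NSMod.Form.e_inj (φ : Form P V D π e f g N) {x y : F} (h : e x = e y) : x = y := by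
  have h1 := φ.eπ x
  rw [h, φ.eπ y] at h1
  simpa using (congrFun h1 1).symm

include r in
theorem _root_.Cfsg.Agent.Omega.HOne.NSMod.Form.gV (φ : Form P V D π e f g N) (y : F) : g y ∈ V := r.DV (φ.gD y)

include r in
theorem _root_.Cfsg.Agent.Omega.HOne.NSMod.Form.gπ (φ : Form P V D π e f g N) (y : F) : π (g y) = 0 := (r.ker _ (r.DV (φ.gD y))).2 (φ.gD y)

include r in
theorem _root_.Cfsg.Agent.Omega.HOne.NSMod.Form.egπ (φ : Form P V D π e f g N) (x y : F) : π (e x * g y) = ![0, x] := by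
  rw [r.mul _ (φ.eV x) _ (φ.gV r y), φ.eπ, φ.gπ r, add_zero]

include r in
theorem _root_.Cfsg.Agent.Omega.HOne.NSMod.Form.eg_inj (φ : Form P V D π e f g N) {x y x' y' : F} (h : e x * g y = e x' * g y') : x = x' ∧ g y = g y' := by
  have h1 := φ.egπ r x y
  rw [h, φ.egπ r x' y'] at h1
  have h2 : x' = x := by simpa using congrFun h1 1
  subst h2
  exact ⟨rfl, mul_left_cancel h⟩

include r in
theorem _root_.Cfsg.Agent.Omega.HOne.NSMod.Form.NV (φ : Form P V D π e f g N) : N ≤ V := by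
  intro z hz
  obtain ⟨a, b, y, rfl⟩ := (φ.mN z).1 hz
  exact mul_mem (mul_mem (φ.eV _) (φ.fV _)) (φ.gV r y)

theorem _root_.Cfsg.Agent.Omega.HOne.NSMod.Form.eN (φ : Form P V D π e f g N) (x : F) : e x ∈ N :=
  (φ.mN _).2 ⟨x, 0, 0, by rw [φ.f0, φ.g0, mul_one, mul_one]⟩

theorem _root_.Cfsg.Agent.Omega.HOne.NSMod.Form.gN (φ : Form P V D π e f g N) (y : F) : g y ∈ N :=
  (φ.mN _).2 ⟨0, 0, y, by rw [φ.e0, φ.f0, mul_one, one_mul]⟩

end form

namespace PairF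

variable {S S' P P' V V' D D' : Subgroup G} {π π' : G → Fin 2 → F} {e f g e' f' g' : F → G} {N N' : Subgroup G}

theorem symm (p : PairF S S' P P' V V' D D' π π' e f g e' f' g' N N') :
    PairF S' S P' P V' V D' D π' π e' f' g' e f g N' N := ⟨p.s', p.s, p.φ', p.φ, p.sq, p.ω⟩

/-- the parameter of the action of `f' c` on `V` -/
theorem exists_psi (p : PairF S S' P P' V V' D D' π π' e f g e' f' g' N N') :
    ∃ ψ : F → F, (∀ c, Is P V D π (f' c) (lo (ψ c ^ 2))) ∧ (∀ c c', ψ (c + c') = ψ c + ψ c') ∧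
      Function.Injective ψ := by
  have h2 := p.s.r.two
  have hex : ∀ c, ∃ t, Is P V D π (f' c) (lo (t ^ 2)) := by
    intro c
    obtain ⟨b, hb⟩ := p.s.typ _ (p.φ'.fV c)
    obtain ⟨t, rfl⟩ := p.sq b
    exact ⟨t, hb⟩
  choose ψ hψ using hex
  -- uniqueness
  have hu : ∀ x (b b' : F), Is P V D π x (lo b) → Is P V D π x (lo b') → b = b' := by
    intro x b b' h h'
    have e1 := h.act (f 1) (p.φ.fV 1)
    have e2 := h'.act (f 1) (p.φ.fV 1)
    rw [e1, p.φ.fπ, ap_lo, ap_lo] at e2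
    simpa using congrFun e2 1
  have hsqi : ∀ a b : F, a ^ 2 = b ^ 2 → a = b := by
    intro a b hab
    have h1 : (a - b) ^ 2 = 0 := by linear_combination hab + (b ^ 2 - a * b) * h2
    exact sub_eq_zero.1 (pow_eq_zero_iff two_ne_zero |>.1 h1)
  have hadd : ∀ c c', ψ (c + c') = ψ c + ψ c' := by
    intro c c'
    have h3 := p.s.r.is_mul (hψ c) (hψ c')
    rw [← p.φ'.f_add, lo_mul] at h3
    have h4 := hu _ _ _ (hψ (c + c')) h3
    apply hsqi
    rw [h4]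
    linear_combination (-(ψ c * ψ c')) * h2
  refine ⟨ψ, hψ, hadd, ?_⟩
  have h0 : ψ 0 = 0 := by
    have := hadd 0 0
    rw [add_zero] at this
    exact left_eq_add.1 this
  have hker : ∀ c, ψ c = 0 → c = 0 := by
    intro c hc
    have h3 := hψ c
    rw [hc, zero_pow two_ne_zero, lo_zero] at h3
    have h4 := p.s.r.rig _ h3.mem h3.cen (fun v hv => by rw [h3.act v hv, ap_one])
    have h5 := (p.s'.cen _ (p.φ'.fV c)).1 fun a ha => (h4 a ha).symm
    rw [p.φ'.fπ] at h5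
    simpa using h5
  intro c c' h
  have h3 : ψ (c - c') = 0 := by
    have h4 := hadd (c - c') c'
    rw [sub_add_cancel, h] at h4
    exact right_eq_add.1 h4
  exact sub_eq_zero.1 (hker _ h3)

theorem comm_eq (p : PairF S S' P P' V V' D D' π π' e f g e' f' g' N N') {ψ φ : F → F}
    (hψ : ∀ c, Is P V D π (f' c) (lo (ψ c ^ 2))) (hφ : ∀ b, Is P' V' D' π' (f b) (lo (φ b ^ 2))) (b c : F) :
    e (ψ c ^ 2 * b) * g (ψ c * b) = e' (φ b ^ 2 * c) * g' (φ b * c) := by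
  have h1 := p.φ.act _ _ (hψ c) _ (p.φ.fV b)
  have h2 := p.φ'.act _ _ (hφ b) _ (p.φ'.fV c)
  rw [p.φ.fπ] at h1
  rw [p.φ'.fπ] at h2
  simp only [Matrix.cons_val_zero] at h1 h2
  have h3 : e (ψ c ^ 2 * b) * g (ψ c * b) = f' c * f b * (f' c)⁻¹ * (f b)⁻¹ := by rw [h1]; group
  have h4 : e' (φ b ^ 2 * c) * g' (φ b * c) = f b * f' c * (f b)⁻¹ * (f' c)⁻¹ := by rw [h2]; group
  have h5 : (e' (φ b ^ 2 * c) * g' (φ b * c))⁻¹ = e (ψ c ^ 2 * b) * g (ψ c * b) := by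
    rw [h3, h4]; group
  rw [← h5, p.s'.r.inv (mul_mem (p.φ'.eV _) (p.φ'.gV p.s'.r _))]

variable [Finite F]

/-- `e(F), g(F) ≤ N'` -/
theorem eg_mem (p : PairF S S' P P' V V' D D' π π' e f g e' f' g' N N') : (∀ z, e z ∈ N') ∧ ∀ y, g y ∈ N' := by
  obtain ⟨ψ, hψ, hψa, hψi⟩ := p.exists_psi
  obtain ⟨φ, hφ, -, -⟩ := p.symm.exists_psi
  have hψs : Function.Surjective ψ := Finite.surjective_of_injective hψi
  have h1 : ∀ t b, e (t ^ 2 * b) * g (t * b) ∈ N' := by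
    intro t b
    obtain ⟨c, rfl⟩ := hψs t
    rw [p.comm_eq hψ hφ]
    exact mul_mem (p.φ'.eN _) (p.φ'.gN _)
  have h2 : ∀ t k : F, t ≠ 0 → e (t * k) * g k ∈ N' := by
    intro t k ht
    have := h1 t (k / t)
    have e1 : t ^ 2 * (k / t) = t * k := by field_simp
    have e2 : t * (k / t) = k := by field_simp
    rwa [e1, e2] at this
  obtain ⟨ω, hω0, hω1⟩ := p.ω
  have two := p.s.r.two
  have hω : 1 + ω ≠ 0 := fun h => hω1 (by linear_combination h - two)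
  have h3 : ∀ z, e z ∈ N' := by
    intro z
    set k := z / (1 + ω) with hk
    have h4 := mul_mem (h2 1 k one_ne_zero) (inv_mem (h2 ω k hω0))
    have h5 : e (1 * k) * g k * (e (ω * k) * g k)⁻¹ = e z := by
      rw [p.s.r.inv (mul_mem (p.φ.eV _) (p.φ.gV p.s.r _))]
      have c1 := p.s.r.Vc _ (p.φ.gV p.s.r k) _ (p.φ.eV (ω * k))
      calc e (1 * k) * g k * (e (ω * k) * g k) = e (1 * k) * (g k * e (ω * k)) * g k := by group
        _ = e (1 * k) * e (ω * k) * (g k * g k) := by rw [c1]; group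
        _ = e z := by
          rw [p.s.r.Vs _ (p.φ.gV p.s.r k), mul_one, ← p.φ.e_add]
          congr 1
          rw [hk]; field_simp
    rwa [h5] at h4
  refine ⟨h3, fun y => ?_⟩
  have h4 := mul_mem (inv_mem (h3 (1 * y))) (h2 1 y one_ne_zero)
  rwa [inv_mul_cancel_left] at h4

/-- elements of `V ∩ V'` have first coordinate zero -/
theorem pi_zero (p : PairF S S' P P' V V' D D' π π' e f g e' f' g' N N') {z : G} (hz : z ∈ V) (hz' : z ∈ V') :
    π' z 0 = 0 := (p.s'.cen z hz').1 fun a ha => p.s.r.Vc a ha z hz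

/-- **The dichotomy (one side).** -/
theorem dich₁ (p : PairF S S' P P' V V' D D' π π' e f g e' f' g' N N') :
    (∀ y, ∃ y', g y = g' y') ∨ ((∀ z, ∃ y', e z = g' y') ∧ ∀ y, g y = 1 → y = 0) := by
  obtain ⟨ψ, hψ, hψa, hψi⟩ := p.exists_psi
  obtain ⟨φ, hφ, hφa, hφi⟩ := p.symm.exists_psi
  obtain ⟨heN, hgN⟩ := p.eg_mem
  have hNV := p.φ'.NV p.s'.r
  have two := p.s.r.two
  let m : F →+ F := AddMonoidHom.mk' (fun y => π' (g y) 1) fun x y => by
    rw [p.φ.g_add, p.s'.r.mul _ (hNV (hgN x)) _ (hNV (hgN y))]; rfl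
  let l : F →+ F := AddMonoidHom.mk' (fun y => π' (e y) 1) fun x y => by
    rw [p.φ.e_add, p.s'.r.mul _ (hNV (heN x)) _ (hNV (heN y))]; rfl
  let ψe : F ≃+ F := AddEquiv.ofBijective (AddMonoidHom.mk' ψ hψa) ⟨hψi, Finite.surjective_of_injective hψi⟩
  let φ2 : F →+ F := AddMonoidHom.mk' (fun b => φ b ^ 2) fun x y => by
    rw [hφa]; linear_combination (φ x * φ y) * two
  have hsqi : ∀ a b : F, a ^ 2 = b ^ 2 → a = b := by
    intro a b hab
    have h1 : (a - b) ^ 2 = 0 := by linear_combination hab + (b ^ 2 - a * b) * two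
    exact sub_eq_zero.1 (pow_eq_zero_iff two_ne_zero |>.1 h1)
  have hφ2 : Function.Injective φ2 := fun x y h => hφi (hsqi _ _ h)
  have heq : ∀ x y, m (x * y) + l (x * x * y) = ψe.symm x * φ2 y := by
    intro x y
    obtain ⟨c, rfl⟩ := ψe.surjective x
    rw [AddEquiv.symm_apply_apply]
    have h1 := p.comm_eq hψ hφ y c
    have h2 := congrArg (fun z => π' z 1) h1
    rw [p.φ'.egπ p.s'.r, p.s'.r.mul _ (hNV (heN _)) _ (hNV (hgN _))] at h2
    simp only [Pi.add_apply, Matrix.cons_val_one] at h2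
    change m (ψ c * y) + l (ψ c * ψ c * y) = c * φ y ^ 2
    rw [← pow_two]
    change π' (g (ψ c * y)) 1 + π' (e (ψ c ^ 2 * y)) 1 = _
    rw [add_comm, h2]
    exact mul_comm _ _
  rcases FFOne.kernel_trick m l (ψe.symm : F →+ F) φ2 ψe.symm.injective hφ2 heq with hm | hl
  · left
    intro y
    apply p.φ'.ND _ (hgN y)
    rw [← p.s'.r.ker _ (hNV (hgN y))]
    apply ext2
    · exact p.pi_zero (p.φ.gV p.s.r y) (hNV (hgN y))
    · exact DFunLike.congr_fun hm y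
  · right
    refine ⟨fun z => ?_, fun y hy => ?_⟩
    · apply p.φ'.ND _ (heN z)
      rw [← p.s'.r.ker _ (hNV (heN z))]
      apply ext2
      · exact p.pi_zero (p.φ.eV z) (hNV (heN z))
      · exact DFunLike.congr_fun hl z
    · by_contra hy0
      have h1 := heq 1 y
      rw [hl, one_mul, AddMonoidHom.zero_apply, add_zero] at h1
      change π' (g y) 1 = _ at h1
      rw [hy, p.s'.r.map_one] at h1
      rcases mul_eq_zero.1 h1.symm with h2 | h2
      · exact one_ne_zero ((map_eq_zero_iff ψe.symm ψe.symm.injective).1 h2)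
      · exact hy0 (hφ2 (h2.trans (map_zero φ2).symm))

/-- **The dichotomy.** -/
theorem dich (p : PairF S S' P P' V V' D D' π π' e f g e' f' g' N N') :
    ((∀ y, ∃ y', g y = g' y') ∧ ∀ y, ∃ y', g' y = g y') ∨
    ((∀ z, ∃ y', e z = g' y') ∧ (∀ z, ∃ y', e' z = g y') ∧ (∀ y, g y = 1 → y = 0) ∧ ∀ y, g' y = 1 → y = 0) := by
  rcases p.dich₁ with h1 | ⟨h1, h2⟩ <;> rcases p.symm.dich₁ with h3 | ⟨h3, h4⟩
  · exact Or.inl ⟨h1, h3⟩
  · exfalso
    obtain ⟨y, hy⟩ := h3 1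
    obtain ⟨y', hy'⟩ := h1 y
    have h5 := p.φ'.eπ 1
    rw [hy, hy', p.φ'.gπ p.s'.r] at h5
    simpa using congrFun h5 1
  · exfalso
    obtain ⟨y, hy⟩ := h1 1
    obtain ⟨y', hy'⟩ := h3 y
    have h5 := p.φ.eπ 1
    rw [hy, hy', p.φ.gπ p.s.r] at h5
    simpa using congrFun h5 1
  · exact Or.inr ⟨h1, h3, h2, h4⟩

omit [Finite F] in
/-- `S` normalises `e(F)` if `g` is injective -/
theorem norm_e (p : PairF S S' P P' V V' D D' π π' e f g e' f' g' N N') (hg : ∀ y, g y = 1 → y = 0)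
    {s : G} (hs : s ∈ S) (z : F) : ∃ z', s * e z * s⁻¹ = e z' := by
  have hsP := p.s.SP hs
  have hgi : ∀ y y', g y = g y' → y = y' := by
    intro y y' h
    have h1 := p.φ.g_add (y - y') y'
    rw [sub_add_cancel, h] at h1
    exact sub_eq_zero.1 (hg _ (right_eq_mul.1 h1))
  -- conjugates of elements inducing `lo b`
  have hconj : ∀ s ∈ S, ∀ a ∈ V', ∃ t, Is P V D π (s * a * s⁻¹) (lo (t ^ 2)) := by
    intro s hs a ha
    obtain ⟨b, hb⟩ := p.s.typ a ha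
    obtain ⟨B, hB⟩ := p.s.r.is_conj (p.s.SP hs) hb
    obtain ⟨b', rfl⟩ := p.s.fz _ (mul_mem (mul_mem hs (p.s.AS ha)) (inv_mem hs)) B hB
    obtain ⟨t, rfl⟩ := p.sq b'
    exact ⟨t, hB⟩
  have hw : s * e z * s⁻¹ ∈ N := p.φ.NP s hsP _ (p.φ.eN z)
  have hwV : s * e z * s⁻¹ ∈ V := p.φ.NV p.s.r hw
  have hw0 : π (s * e z * s⁻¹) 0 = 0 := by
    refine (p.s.cen _ hwV).1 fun a ha => ?_
    obtain ⟨t, ht⟩ := hconj s⁻¹ (inv_mem hs) a ha
    rw [inv_inv] at ht
    have h1 := p.s.hcen _ _ ht (e z) (p.φ.eV z) (by rw [p.φ.eπ]; simp)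
    calc a * (s * e z * s⁻¹) = s * (s⁻¹ * a * s * e z) * s⁻¹ := by group
      _ = s * (e z * (s⁻¹ * a * s)) * s⁻¹ := by rw [h1]
      _ = _ := by group
  obtain ⟨a, b, y, hwe⟩ := (p.φ.mN _).1 hw
  have hb : b = 0 := by
    rw [hwe, p.s.r.mul _ (mul_mem (p.φ.eV _) (p.φ.fV _)) _ (p.φ.gV p.s.r _), p.s.r.mul _ (p.φ.eV _) _ (p.φ.fV _),
      p.φ.eπ, p.φ.fπ, p.φ.gπ p.s.r] at hw0
    simpa using hw0
  rw [hb, p.φ.f0, mul_one] at hwe
  by_cases hy : y = 0
  · exact ⟨a, by rw [hwe, hy, p.φ.g0, mul_one]⟩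
  exfalso
  have hwz : z = 0 → False := by
    rintro rfl
    rw [p.φ.e0, mul_one, mul_inv_cancel] at hwe
    have h1 : e 0 * g 0 = e a * g y := by rw [← hwe, p.φ.e0, p.φ.g0, mul_one]
    exact hy (hgi _ _ ((p.φ.eg_inj p.s.r h1).2)).symm
  by_cases ha : a = 0
  · rw [ha, p.φ.e0, one_mul] at hwe
    obtain ⟨y', hy'⟩ := p.φ.gP s⁻¹ (inv_mem hsP) y
    have h1 : e z = g y' := by rw [← hy', ← hwe]; group
    have h2 := p.φ.eπ z
    rw [h1, p.φ.gπ p.s.r] at h2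
    exact hwz (by simpa using (congrFun h2 1).symm)
  · obtain ⟨x, hx, hxl⟩ := p.s.full ((a / y) ^ 2)
    have h1 := p.φ.act _ _ hxl (f (y ^ 2 / a)) (p.φ.fV _)
    rw [p.φ.fπ] at h1
    simp only [Matrix.cons_val_zero] at h1
    have e1 : (a / y) ^ 2 * (y ^ 2 / a) = a := by field_simp
    have e2 : a / y * (y ^ 2 / a) = y := by field_simp
    rw [e1, e2] at h1
    obtain ⟨t, ht⟩ := hconj s⁻¹ (inv_mem hs) x hx
    rw [inv_inv] at ht
    have hfV : s⁻¹ * f (y ^ 2 / a) * s ∈ V := by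
      have := p.s.r.Vn s⁻¹ (inv_mem hsP) _ (p.φ.fV (y ^ 2 / a))
      rwa [inv_inv] at this
    have h2 := p.φ.act _ _ ht _ hfV
    have h3 : e z * g 0 = e (t ^ 2 * π (s⁻¹ * f (y ^ 2 / a) * s) 0) * g (t * π (s⁻¹ * f (y ^ 2 / a) * s) 0) := by
      have h4 : e z = s⁻¹ * (e a * g y) * s := by rw [← hwe]; group
      have h5 : e a * g y = x * f (y ^ 2 / a) * x⁻¹ * (f (y ^ 2 / a))⁻¹ := by rw [h1]; group
      rw [p.φ.g0, mul_one, h4, h5]
      calc s⁻¹ * (x * f (y ^ 2 / a) * x⁻¹ * (f (y ^ 2 / a))⁻¹) * s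
          = (s⁻¹ * x * s * (s⁻¹ * f (y ^ 2 / a) * s) * (s⁻¹ * x * s)⁻¹) * (s⁻¹ * f (y ^ 2 / a) * s)⁻¹ := by group
        _ = _ := by rw [h2]; group
    obtain ⟨h6, h7⟩ := p.φ.eg_inj p.s.r h3
    have h8 := hg _ (h7.symm.trans p.φ.g0)
    rcases mul_eq_zero.1 h8 with h9 | h9
    · exact hwz (by rw [h6, h9]; ring)
    · exact hwz (by rw [h6, h9]; ring)

end PairF

end Cfsg.Agent.Omega.HOne.NSPair
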