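import Cfsg.Agent.Omega.HOne.Both
import Cfsg.Agent.Omega.NatPair.Norm

/-!
# The normal form of a minimal non-free mutual pair of one type (socket `NormH`)

LEMMA NORM (helper989) for `N = [V_P, O²(P)]`: either all of `N_G(N)` normalises the `SL₂(F)`, or `|F| = 4` and `N_G(N)`
fuses the lines with all the other subgroups of order 4 (`A₇` on `2⁴`).  In the second case there is `P' ∈ P*(S)`,
`P' ≤ P`, with `V_{P'} = L × C_V(O²(P))`, `L` the `S`-invariant line, and a mutual pair of type `(P', P')`.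
-/

set_option autoImplicit false
set_option linter.unusedSectionVars false

namespace Cfsg.Agent.Omega.HOne

open Subgroup Cfsg Cfsg.Agent.ZN Cfsg.Agent.Omega.MinPar Cfsg.Agent.Omega.Frame
open Cfsg.Agent.Omega.FrameFF Cfsg.Agent.Lib.SL2Mat
open Cfsg.Agent.MinSimple.VModule (mem_zc oddGen oddGen_le le_normalizer_zl)
open Cfsg.Agent.MinSimple
open Cfsg.Agent.Omega.HOne.Main (vx SplitPar NonFree Same NormH)
open Cfsg.Agent.Omega.Mix (RMod RMutual)
open Cfsg.Agent.Omega.MixOne (Spl exists_spl exists_move)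
open Cfsg.Agent.Omega.NatPair (PreMod NatMod ap ap_smul)
open Cfsg.Agent.Omega.BTwo (cj mem_cj conj_mem_cj cj_mono QQ)
open scoped Pointwise commutatorElement

universe u

variable {G : Type u} [Group G] [Finite G]

/-! ### Subgroups of order four -/

theorem four_le {L Y : Subgroup G} (h4 : Nat.card L = 4) {a b : G} (ha : a ∈ L) (hb : b ∈ L) (ha1 : a ≠ 1)
    (hb1 : b ≠ 1) (hab : a ≠ b) (haY : a ∈ Y) (hbY : b ∈ Y) : L ≤ Y := by
  have h1 : 3 ≤ Nat.card ↥(L ⊓ Y) := by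
    have h2 : ({1, a, b} : Set G).ncard = 3 := by
      rw [Set.ncard_insert_of_notMem (by simp [Ne.symm ha1, Ne.symm hb1]), Set.ncard_pair hab]
    rw [← h2, ← SetLike.coe_sort_coe, Nat.card_coe_set_eq]
    refine Set.ncard_le_ncard ?_ (Set.toFinite _)
    rintro x (rfl | rfl | rfl)
    · exact one_mem _
    · exact ⟨ha, haY⟩
    · exact ⟨hb, hbY⟩
  have h2 : Nat.card ↥(L ⊓ Y) ∣ 4 := h4 ▸ card_dvd_of_le inf_le_left
  have h3 : Nat.card ↥(L ⊓ Y) = 4 := by
    have h5 : Nat.card ↥(L ⊓ Y) ≤ 4 := Nat.le_of_dvd (by norm_num) h2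
    interval_cases h : Nat.card ↥(L ⊓ Y)
    · norm_num at h2
    · rfl
  have h4' := Subgroup.eq_of_le_of_card_ge (inf_le_left : L ⊓ Y ≤ L) (by rw [h3, h4])
  exact inf_eq_left.1 h4'

theorem four_mem {L : Subgroup G} (h4 : Nat.card L = 4) {a b : G} (ha : a ∈ L) (hb : b ∈ L) (ha1 : a ≠ 1)
    (hb1 : b ≠ 1) (hab : a ≠ b) (hc : a * b = b * a) (ha2 : a * a = 1) (hb2 : b * b = 1) {x : G} (hx : x ∈ L) :
    x = 1 ∨ x = a ∨ x = b ∨ x = a * b := by
  -- the subgroup `{1, a, b, ab}`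
  let Y : Subgroup G :=
    { carrier := {x | x = 1 ∨ x = a ∨ x = b ∨ x = a * b}
      mul_mem' := by
        have e1 : a * (a * b) = b := by rw [← mul_assoc, ha2, one_mul]
        have e2 : b * (a * b) = a := by rw [hc, ← mul_assoc, hb2, one_mul]
        have e3 : a * b * a = b := by rw [hc, mul_assoc, ha2, mul_one]
        have e4 : a * b * b = a := by rw [mul_assoc, hb2, mul_one]
        have e5 : a * b * (a * b) = 1 := by rw [← mul_assoc, e3, hb2]
        rintro x y (rfl | rfl | rfl | rfl) (rfl | rfl | rfl | rfl)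
        · left; rw [one_mul]
        · right; left; rw [one_mul]
        · right; right; left; rw [one_mul]
        · right; right; right; rw [one_mul]
        · right; left; rw [mul_one]
        · left; exact ha2
        · right; right; right; rfl
        · right; right; left; exact e1
        · right; right; left; rw [mul_one]
        · right; right; right; exact hc.symm
        · left; exact hb2
        · right; left; exact e2
        · right; right; right; rw [mul_one]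
        · right; right; left; exact e3
        · right; left; exact e4
        · left; exact e5
      one_mem' := Or.inl rfl
      inv_mem' := by
        have e5 : (a * b)⁻¹ = a * b := by
          rw [inv_eq_iff_mul_eq_one, mul_assoc, ← mul_assoc b, ← hc, mul_assoc a b b, hb2, mul_one, ha2]
        rintro x (rfl | rfl | rfl | rfl)
        · left; rw [inv_one]
        · right; left; rw [inv_eq_iff_mul_eq_one]; exact ha2
        · right; right; left; rw [inv_eq_iff_mul_eq_one]; exact hb2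
        · right; right; right; exact e5 }
  have h1 : L ≤ Y := four_le h4 ha hb ha1 hb1 hab (Or.inr (Or.inl rfl)) (Or.inr (Or.inr (Or.inl rfl)))
  exact h1 hx

/-! ### The pre-natural module -/

section pre

variable {S P : Subgroup G} {F : Type} [Field F] [CharP F 2]
  (M : NatOver F P (zl S P) (cv S P)) (hs : SplitPar S P)

/-- `N = F²` -/
noncomputable def preMod : PreMod F (vx S P) where
  e := (rmod M hs).e
  e_add := (rmod M hs).e_add
  e_inj := (rmod M hs).e_inj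
  mem_iff := (rmod M hs).mem_iff
  lift := (rmod M hs).lift

theorem line_preMod (w : Fin 2 → F) : (preMod M hs).line w = (rmod M hs).line w := rfl

theorem nm_of_mem {s : G} (hs' : s ∈ P) : (preMod M hs).Nm s := fun h A hA =>
  (rmod M hs).norm s (le_NP hs') h A hA

end pre

/-! ### `[C_H(Y), V] ≤ O₂(H)` -/

/-- `V ≤ O₂(C_G(Ω₁(Z(T))))`, `T ≤ H`, `Y = ⟨Ω₁(Z(T))^H⟩`: `[V, C_H(Y)] ≤ O₂(H)` -/
theorem comm_mem_o2 {T H V : Subgroup G} (hVH : V ≤ H) (hI : V ≤ o2 (centralizer (zc T : Set G))) {v e : G}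
    (hv : v ∈ V) (he : e ∈ H) (hec : e ∈ centralizer (zl T H : Set G)) : v * e * v⁻¹ * e⁻¹ ∈ o2 H := by
  set E : Subgroup G := H ⊓ centralizer (zl T H : Set G) with hE
  have hEH : E ≤ H := inf_le_left
  have hEn : H ≤ normalizer (E : Set G) :=
    (le_inf le_normalizer ((le_normalizer_zl T H).trans (BTwo.normalizer_le_normalizer_centralizer _))).trans
      inf_normalizer_le_normalizer_inf
  have hEC : E ≤ centralizer (zc T : Set G) :=
    inf_le_right.trans (centralizer_le (VModule.zc_le_zl _ _))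
  have heE : e ∈ E := ⟨he, hec⟩
  have h1 : v * e * v⁻¹ * e⁻¹ ∈ E := mul_mem ((mem_normalizer_iff.1 (hEn (hVH hv)) e).1 heE) (inv_mem heE)
  have h2 : v * e * v⁻¹ * e⁻¹ ∈ o2 (centralizer (zc T : Set G)) := by
    have h3 : e * v⁻¹ * e⁻¹ ∈ o2 (centralizer (zc T : Set G)) :=
      (mem_normalizer_iff.1 (VModule.le_normalizer_o2 _ (hEC heE)) _).1 (inv_mem (hI hv))
    have e1 : v * e * v⁻¹ * e⁻¹ = v * (e * v⁻¹ * e⁻¹) := by group
    rw [e1]
    exact mul_mem (hI hv) h3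
  have h3 : E ⊓ o2 (centralizer (zc T : Set G)) ≤ o2 H := by
    refine BTwo.le_O2_of_isSubnormal (inf_le_left.trans hEH)
      ((BTwo.O2_isPGroup (centralizer (zc T : Set G))).to_le inf_le_right)
      (BTwo.subnormal_step inf_le_left (BTwo.subnormal_step hEH (BTwo.subnormal_self H)
        fun h hh n hn => (mem_normalizer_iff.1 (hEn hh) n).1 hn) ?_)
    rintro b hb a ⟨ha1, ha2⟩
    exact mem_inf.2 ⟨E.mul_mem (E.mul_mem hb ha1) (E.inv_mem hb),
      (mem_normalizer_iff.1 (VModule.le_normalizer_o2 _ (hEC hb)) a).1 ha2⟩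
  exact h3 ⟨h1, h2⟩

/-! ### The exceptional case -/

section exc

variable (S : Sylow 2 G) {P : Subgroup G} {F : Type} [Field F] [Finite F] [CharP F 2]
  (M : NatOver F P (zl (S : Subgroup G) P) (cv (S : Subgroup G) P)) (hs : SplitPar (S : Subgroup G) P)

/-- the data of the exceptional case: `L` the line of `w₀`, normalised by `S`, `C_N(S) = {1, r} ≤ L` -/
structure ExcD (w₀ : Fin 2 → F) (r : G) : Prop where
  card : Nat.card F = 4
  ne : w₀ ≠ 0
  SL : (S : Subgroup G) ≤ normalizer (((rmod M hs).line w₀ : Subgroup G) : Set G)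
  rL : r ∈ (rmod M hs).line w₀
  r1 : r ≠ 1
  rS : ∀ s ∈ (S : Subgroup G), s * r = r * s
  fix : ∀ n ∈ vx (S : Subgroup G) P, (∀ s ∈ (S : Subgroup G), s * n = n * s) → n = 1 ∨ n = r
  fuse : ∀ ρ ∈ vx (S : Subgroup G) P, ρ ≠ 1 → ∀ v ∈ vx (S : Subgroup G) P,
    ∃ a ∈ normalizer (vx (S : Subgroup G) P : Set G), a * r * a⁻¹ = ρ ∧ v ∈ cj a ((rmod M hs).line w₀)

/-- an element of `N(N)` normalising the line, which moves `r` to `r'` -/
theorem exists_torus_move {w₀ : Fin 2 → F} (hw : w₀ ≠ 0) {r r' : G} (hr : r ∈ (rmod M hs).line w₀) (hr1 : r ≠ 1)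
    (hr' : r' ∈ (rmod M hs).line w₀) (hr1' : r' ≠ 1) :
    ∃ B : Matrix.SpecialLinearGroup (Fin 2) F, (∃ c : F, c ≠ 0 ∧ ap B w₀ = c • w₀) ∧
      ∀ l, (rmod M hs).Ind l B → l * r * l⁻¹ = r' := by
  obtain ⟨c₀, rfl⟩ := hr
  obtain ⟨c, rfl⟩ := hr'
  have hc₀ : c₀ ≠ 0 := by
    rintro rfl
    rw [zero_smul, (rmod M hs).e_zero] at hr1
    exact hr1 rfl
  have hc : c ≠ 0 := by
    rintro rfl
    rw [zero_smul, (rmod M hs).e_zero] at hr1'
    exact hr1' rfl
  obtain ⟨l, B, hl, hB⟩ := (rmod M hs).exists_torus hw (div_ne_zero hc hc₀)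
  refine ⟨B, ⟨_, div_ne_zero hc hc₀, hB⟩, fun l hl => ?_⟩
  rw [hl, ap_smul, hB, smul_smul, mul_div_cancel₀ _ hc₀]

theorem excD_of (X : (preMod M hs).Exc (S : Subgroup G)) : ∃ w₀ r, ExcD S M hs w₀ r := by
  obtain ⟨w₀, hw₀, hSL, hle, hc⟩ := X.point
  rw [line_preMod] at hSL hle
  obtain ⟨⟨r, hr⟩, hr1, hru⟩ := (Nat.card_eq_two_iff' (1 : ↥(vx (S : Subgroup G) P ⊓ centralizer ((S : Subgroup G) : Set G)))).1 hc
  have hr1' : r ≠ 1 := fun h => hr1 (Subtype.ext h)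
  refine ⟨w₀, r, X.card, hw₀, hSL, hle hr, hr1', fun s hs' => mem_centralizer_iff.1 hr.2 s hs', ?_, ?_⟩
  · intro n hn hnS
    by_cases hn1 : n = 1
    · exact Or.inl hn1
    · right
      have h1 := hru ⟨n, hn, mem_centralizer_iff.2 fun s hs' => hnS s hs'⟩ fun h => hn1 (congrArg Subtype.val h)
      exact congrArg Subtype.val h1
  · -- fusion
    intro ρ hρ hρ1 v hv
    obtain ⟨x, rfl⟩ := ((rmod M hs).mem_iff ρ).1 hρ
    have hx : x ≠ 0 := fun h => hρ1 (by rw [h, (rmod M hs).e_zero])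
    obtain ⟨A, hA⟩ := NatPair.exists_ap hw₀ hx
    obtain ⟨k, hk⟩ := (rmod M hs).lift A
    have hk' : (rmod M hs).Ind k A := hk
    have hkL : cj k ((rmod M hs).line w₀) = (rmod M hs).line x := by
      have := Mix.RMod.cj_line_of_ind (rmod M hs) hk' w₀
      rw [hA] at this
      exact this
    have hkN : k ∈ normalizer (vx (S : Subgroup G) P : Set G) := NP_le ((rmod M hs).mem_normalizer hk')
    have hρl : (rmod M hs).e x ∈ (rmod M hs).line x := ⟨1, by rw [one_smul]⟩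
    have hex : ∃ a ∈ normalizer (vx (S : Subgroup G) P : Set G), (rmod M hs).e x ∈ cj a ((rmod M hs).line w₀) ∧
        v ∈ cj a ((rmod M hs).line w₀) := by
      by_cases hvl : v ∈ (rmod M hs).line x
      · exact ⟨k, hkN, by rw [hkL]; exact hρl, by rw [hkL]; exact hvl⟩
      · obtain ⟨g, hg, h1, h2⟩ := X.fuse x hx _ hρl hρ1 v hv hvl
        refine ⟨g * k, mul_mem hg hkN, ?_, ?_⟩
        · rw [BTwo.cj_mul, hkL]; exact h1
        · rw [BTwo.cj_mul, hkL]; exact h2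
    obtain ⟨a, ha, h1, h2⟩ := hex
    rw [mem_cj] at h1
    have h3 : a⁻¹ * (rmod M hs).e x * a ≠ 1 := by
      intro h
      apply hρ1
      calc (rmod M hs).e x = a * (a⁻¹ * (rmod M hs).e x * a) * a⁻¹ := by group
        _ = 1 := by rw [h]; group
    obtain ⟨B, ⟨c, hc0, hB⟩, hB'⟩ := exists_torus_move S M hs hw₀ (hle hr) hr1' h1 h3
    obtain ⟨l, hl⟩ := (rmod M hs).lift B
    have hl' : (rmod M hs).Ind l B := hl
    have hlN : l ∈ normalizer (vx (S : Subgroup G) P : Set G) := NP_le ((rmod M hs).mem_normalizer hl')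
    have hlL : cj l ((rmod M hs).line w₀) = (rmod M hs).line w₀ :=
      BTwo.cj_eq_self_iff.2 (mem_normalizer_line_of _ hl' hc0 hB)
    refine ⟨a * l, mul_mem ha hlN, ?_, ?_⟩
    · have h4 := hB' l hl'
      calc a * l * r * (a * l)⁻¹ = a * (l * r * l⁻¹) * a⁻¹ := by group
        _ = (rmod M hs).e x := by rw [h4]; group
    · rw [BTwo.cj_mul, hlL]; exact h2

variable {S M hs} {w₀ : Fin 2 → F} {r : G} (E : ExcD S M hs w₀ r)

include E

theorem ExcD.card_line : Nat.card ((rmod M hs).line w₀) = 4 := by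
  rw [(rmod M hs).card_line E.ne, E.card]

theorem ExcD.rN : r ∈ vx (S : Subgroup G) P := (rmod M hs).line_le w₀ E.rL

theorem ExcD.rV : r ∈ zl (S : Subgroup G) P := vx_le _ _ E.rN

/-- the element `c ≠ 0, 1` of `F` -/
theorem ExcD.exists_ne : ∃ r' ∈ (rmod M hs).line w₀, r' ≠ 1 ∧ r' ≠ r := by
  by_contra hcon
  push Not at hcon
  have h1 : (rmod M hs).line w₀ ≤ zpowers r := by
    intro x hx
    by_cases hx1 : x = 1
    · rw [hx1]; exact one_mem _
    · rw [hcon x hx hx1]; exact mem_zpowers r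
  have h2 := Subgroup.card_le_of_le h1
  have h3 : r ^ 2 = 1 := by
    rw [pow_two]
    exact (rmod M hs).sq E.rN
  rw [E.card_line, Nat.card_zpowers] at h2
  have h4 := orderOf_le_of_pow_eq_one (by norm_num) h3
  omega

variable (hG : IsCharacteristicTwoType G) (h : IsParS (S : Subgroup G) P)

include hG h in
/-- `r ∈ Z(S)` -/
theorem ExcD.r_zc : r ∈ zc (S : Subgroup G) :=
  mem_zc.2 ⟨zl_le_self hG S h E.rV, E.rS, by rw [pow_two]; exact zl_sq' hG S h E.rV⟩

include hG h in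
/-- **`V ≤ O₂(C_G(r))`**, `D ≤ Z(O₂(C_G(r)))` -/
theorem ExcD.le_o2 (hI : zl (S : Subgroup G) P ≤ o2 (centralizer (zc (S : Subgroup G) : Set G))) :
    zl (S : Subgroup G) P ≤ o2 (centralizer ({r} : Set G)) ∧
      cv (S : Subgroup G) P ≤ zc (o2 (centralizer ({r} : Set G))) := by
  set H := centralizer ({r} : Set G) with hH
  have hSH : (S : Subgroup G) ≤ H := fun s hs' => mem_centralizer_singleton_iff.2 (E.rS s hs')
  have hVS := zl_le_self hG S h
  have hr2 : r * r = 1 := zl_sq' hG S h E.rV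
  have hRn : H ≤ normalizer (zpowers r : Set G) := by
    intro x hx
    have h1 := mem_centralizer_singleton_iff.1 hx
    rw [mem_normalizer_iff]
    intro y
    have key : ∀ x : G, x * r = r * x → ∀ y ∈ zpowers r, x * y * x⁻¹ ∈ zpowers r := by
      rintro x h1 _ ⟨n, rfl⟩
      have h2 : x * r ^ n = r ^ n * x := (Commute.zpow_right h1 n)
      change x * r ^ n * x⁻¹ ∈ _
      rw [h2, mul_inv_cancel_right]
      exact ⟨n, rfl⟩
    constructor
    · exact key x h1 y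
    · intro hy
      have h2 : x⁻¹ * r = r * x⁻¹ := by rw [inv_mul_eq_iff_eq_mul, ← mul_assoc, h1, mul_inv_cancel_right]
      have h3 := key x⁻¹ h2 _ hy
      have e : x⁻¹ * (x * y * x⁻¹) * x⁻¹⁻¹ = y := by group
      rwa [e] at h3
  have hz : IsPGroup 2 (zpowers r) := (S.isPGroup').to_le (zpowers_le.2 (hVS E.rV))
  have hz1 : zpowers r ≠ ⊥ := fun h => E.r1 (zpowers_eq_bot.1 h)
  have hL : IsLoc (S : Subgroup G) H := isLoc_of_le_normalizer S hSH hz hz1 hRn
  set Y := zl (S : Subgroup G) H with hY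
  have hYz : Y ≤ zc (o2 H) := hL.zl_le S hG
  have hYn : H ≤ normalizer (Y : Set G) := le_normalizer_zl _ _
  have hYS : Y ≤ (S : Subgroup G) := (hYz.trans (VModule.zc_le _)).trans (hL.o2_le S)
  have hYP : Y ≤ P := hYS.trans h.le
  have hYc : ∀ x ∈ Y, ∀ y ∈ Y, x * y = y * x := fun x hx y hy => VModule.zc_comm _ _ (hYz hx) _ (hYz hy)
  have hrY : r ∈ Y := VModule.zc_le_zl _ _ (E.r_zc hG h)
  have hNH : vx (S : Subgroup G) P ≤ H := ((vx_le _ _).trans hVS).trans hSH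
  -- `N ∩ Y ≤ ⟨r⟩` or `N ≤ Y`
  have hkey : ∀ x ∈ vx (S : Subgroup G) P, x ∈ Y → x ∉ zpowers r → vx (S : Subgroup G) P ≤ Y := by
    intro x hx hxY hxr v hv
    by_cases hvr : v ∈ zpowers r
    · exact (zpowers_le.2 hrY) hvr
    obtain ⟨a, -, ha1, ha2⟩ := E.fuse r E.rN E.r1 x hx
    obtain ⟨b, -, hb1, hb2⟩ := E.fuse r E.rN E.r1 v hv
    have haH : a ∈ H := mem_centralizer_singleton_iff.2 (mul_inv_eq_iff_eq_mul.1 ha1)
    have hbH : b ∈ H := mem_centralizer_singleton_iff.2 (mul_inv_eq_iff_eq_mul.1 hb1)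
    have hcard : Nat.card (cj a ((rmod M hs).line w₀)) = 4 := by rw [BTwo.card_cj, E.card_line]
    have hra : r ∈ cj a ((rmod M hs).line w₀) := ⟨r, E.rL, ha1⟩
    have h1 : cj a ((rmod M hs).line w₀) ≤ Y := four_le hcard hra ha2 E.r1
      (fun h => hxr (by rw [h]; exact one_mem _)) (fun h => hxr (by rw [← h]; exact mem_zpowers r)) hrY hxY
    have h2 : (rmod M hs).line w₀ ≤ Y := by
      intro y hy
      have h3 := h1 (conj_mem_cj hy)
      have h4 := (mem_normalizer_iff.1 (hYn (inv_mem haH)) _).1 h3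
      have e : a⁻¹ * (a * y * a⁻¹) * a⁻¹⁻¹ = y := by group
      rwa [e] at h4
    rw [mem_cj] at hb2
    have h5 := (mem_normalizer_iff.1 (hYn hbH) _).1 (h2 hb2)
    have e : b * (b⁻¹ * v * b) * b⁻¹ = v := by group
    rwa [e] at h5
  have hNY : ∀ n ∈ vx (S : Subgroup G) P, ∀ y ∈ Y, n * y * n⁻¹ * y⁻¹ ∈ zpowers r := by
    intro n hn y hy
    by_cases hle : vx (S : Subgroup G) P ≤ Y
    · have h1 := hYc n (hle hn) y hy
      rw [h1, mul_inv_cancel_right, mul_inv_cancel]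
      exact one_mem _
    · by_contra hcon
      apply hle
      refine hkey (n * y * n⁻¹ * y⁻¹) ?_ ?_ hcon
      · have h1 : y * n⁻¹ * y⁻¹ ∈ vx (S : Subgroup G) P := conj_mem_vx (hYP hy) (inv_mem hn)
        have e : n * y * n⁻¹ * y⁻¹ = n * (y * n⁻¹ * y⁻¹) := by group
        rw [e]
        exact mul_mem hn h1
      · exact mul_mem ((mem_normalizer_iff.1 (hYn (hNH hn)) y).1 hy) (inv_mem hy)
  have hPD := le_centralizer_cv hG S h M hs
  have hVY : ∀ v ∈ zl (S : Subgroup G) P, ∀ y ∈ Y, v * y * v⁻¹ * y⁻¹ ∈ zpowers r := by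
    intro v hv y hy
    obtain ⟨n, hn, d, hd, rfl⟩ := exists_mul M hv
    have h1 : d * y = y * d := mem_centralizer_iff.1 (hPD (hYP hy)) d hd
    have e : n * d * y * (n * d)⁻¹ * y⁻¹ = n * (d * y * d⁻¹) * n⁻¹ * y⁻¹ := by group
    rw [e, h1, mul_inv_cancel_right]
    exact hNY n hn y hy
  refine ⟨le_o2_of_series S hSH hVS ?_ hYn hRn ?_ hVY ?_,
    ((cv_le_zc hG S h M hs).trans (VModule.zc_le_zl _ _)).trans hYz⟩
  · intro x hx
    exact zl_sq' hG S h ((zpowers_le.2 E.rV) hx)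
  · intro v hv x hx
    exact zl_comm' hG S h hv ((zpowers_le.2 E.rV) hx)
  · intro v hv e he hec
    exact comm_mem_o2 (hVS.trans hSH) hI hv he hec

include hG h in
/-- **the parabolic `P'`**: `V_{P'} = L × D` -/
theorem ExcD.exists_par : ∃ P' : Subgroup G, IsParS (S : Subgroup G) P' ∧
    zl (S : Subgroup G) P' = (rmod M hs).line w₀ ⊔ cv (S : Subgroup G) P ∧
    cv (S : Subgroup G) P ≤ cv (S : Subgroup G) P' := by
  set L := (rmod M hs).line w₀ with hL
  have hSP := h.le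
  have hLN : L ≤ vx (S : Subgroup G) P := (rmod M hs).line_le w₀
  have hVS := zl_le_self hG S h
  have hPD := le_centralizer_cv hG S h M hs
  have hrz := E.r_zc hG h
  -- `C_N(S) = {1, r}` is normalised by `N_P(S)`
  have hconj : ∀ x ∈ P, x ∈ normalizer ((S : Subgroup G) : Set G) → x * r = r * x := by
    intro x hx hxS
    have h1 : x * r * x⁻¹ ∈ vx (S : Subgroup G) P := conj_mem_vx hx E.rN
    have h2 : ∀ s ∈ (S : Subgroup G), s * (x * r * x⁻¹) = (x * r * x⁻¹) * s := by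
      intro s hs'
      have h3 : x⁻¹ * s * x ∈ (S : Subgroup G) := by
        have := (mem_normalizer_iff.1 (inv_mem hxS) s).1 hs'
        rwa [inv_inv] at this
      have h4 := E.rS _ h3
      calc s * (x * r * x⁻¹) = x * ((x⁻¹ * s * x) * r) * x⁻¹ := by group
        _ = x * (r * (x⁻¹ * s * x)) * x⁻¹ := by rw [h4]
        _ = (x * r * x⁻¹) * s := by group
    rcases E.fix _ h1 h2 with h3 | h3
    · exfalso
      apply E.r1
      calc r = x⁻¹ * (x * r * x⁻¹) * x := by group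
        _ = 1 := by rw [h3]; group
    · exact mul_inv_eq_iff_eq_mul.1 h3
  set H₁ : Subgroup G := P ⊓ normalizer (L : Set G) with hH₁
  have hSH₁ : (S : Subgroup G) ≤ H₁ := le_inf hSP E.SL
  have hL₁ : IsLoc (S : Subgroup G) H₁ := h.isLoc.of_le S hSH₁ inf_le_left
  obtain ⟨r', hr', hr1', hrr'⟩ := E.exists_ne
  obtain ⟨P', hP', hP'H, hP'r⟩ := hL₁.exists_not_le S (M := centralizer ({r} : Set G))
    (fun x hx => mem_centralizer_singleton_iff.2 (hconj x hx.1.1 hx.2)) (by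
      intro hle
      obtain ⟨B, ⟨c, hc0, hB⟩, hB'⟩ := exists_torus_move S M hs E.ne E.rL E.r1 hr' hr1'
      obtain ⟨l, hl, hlB⟩ := rmod_lift M hs B
      have h1 : l ∈ H₁ := ⟨hl, mem_normalizer_line_of _ hlB hc0 hB⟩
      have h2 := mem_centralizer_singleton_iff.1 (hle h1)
      apply hrr'
      rw [← hB' l hlB, h2, mul_inv_cancel_right])
  have hP'P : P' ≤ P := hP'H.trans inf_le_left
  have hP'L : P' ≤ normalizer (L : Set G) := hP'H.trans inf_le_right
  obtain ⟨p, hp, hpr⟩ : ∃ p ∈ P', p * r ≠ r * p := by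
    by_contra hcon
    push Not at hcon
    exact hP'r fun x hx => mem_centralizer_singleton_iff.2 (hcon x hx)
  have hstar : IsParS (S : Subgroup G) P' := by
    refine ⟨hP', fun hz => ?_⟩
    have h1 : p * r * p⁻¹ ∈ zc (S : Subgroup G) := (mem_normalizer_iff.1 (hz hp) r).1 hrz
    have h2 : p * r * p⁻¹ ∈ vx (S : Subgroup G) P := conj_mem_vx (hP'P hp) E.rN
    rcases E.fix _ h2 (mem_zc.1 h1).2.1 with h3 | h3
    · apply E.r1
      calc r = p⁻¹ * (p * r * p⁻¹) * p := by group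
        _ = 1 := by rw [h3]; group
    · exact hpr (mul_inv_eq_iff_eq_mul.1 h3)
  have hDz : cv (S : Subgroup G) P ≤ zl (S : Subgroup G) P' :=
    (cv_le_zc hG S h M hs).trans (VModule.zc_le_zl _ _)
  refine ⟨P', hstar, le_antisymm ?_ ?_, ?_⟩
  · apply VModule.zl_le
    · intro z hz
      obtain ⟨n, hn, d, hd, rfl⟩ := exists_mul M (VModule.zc_le_zl _ P hz)
      have hn' : n ∈ zc (S : Subgroup G) := by
        have := mul_mem hz (inv_mem (cv_le_zc hG S h M hs hd))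
        rwa [mul_inv_cancel_right] at this
      refine mul_mem (le_sup_left (a := L) ?_) (le_sup_right (a := L) hd)
      rcases E.fix n hn (mem_zc.1 hn').2.1 with h3 | h3
      · rw [h3]; exact one_mem L
      · rw [h3]; exact E.rL
    · exact (le_inf hP'L (hP'P.trans (le_normalizer_cv _ _))).trans
        (normalizer_inf_normalizer_le_normalizer_sup _ _)
  · refine sup_le ?_ hDz
    have hrY : r ∈ zl (S : Subgroup G) P' := VModule.zc_le_zl _ _ hrz
    have hr2 : p * r * p⁻¹ ∈ zl (S : Subgroup G) P' := conj_mem_zl hp hrY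
    refine four_le E.card_line E.rL ((mem_normalizer_iff.1 (hP'L hp) r).1 E.rL) E.r1 ?_ ?_ hrY hr2
    · intro h1
      apply E.r1
      calc r = p⁻¹ * (p * r * p⁻¹) * p := by group
        _ = 1 := by rw [h1]; group
    · intro h1
      exact hpr (mul_inv_eq_iff_eq_mul.1 h1.symm)
  · intro d hd
    refine mem_inf.2 ⟨hDz hd, ?_⟩
    rw [mem_centralizer_iff]
    intro x hx
    exact (mem_centralizer_iff.1 (hPD (hP'P (oddGen_le _ hx))) d hd).symm

include hG h in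
theorem ExcD.comm_D (hI : zl (S : Subgroup G) P ≤ o2 (centralizer (zc (S : Subgroup G) : Set G))) {a c ρ : G}
    (ha : a * r * a⁻¹ = ρ) (hc : c * r * c⁻¹ = ρ) {x : G} (hx : x ∈ cj a (zl (S : Subgroup G) P)) {d : G}
    (hd : d ∈ cj c (cv (S : Subgroup G) P)) : x * d = d * x := by
  obtain ⟨h1, h2⟩ := E.le_o2 hG h hI
  obtain ⟨v, hv, rfl⟩ := hx
  obtain ⟨e, he, rfl⟩ := hd
  have hg : c⁻¹ * a ∈ centralizer ({r} : Set G) := by
    rw [mem_centralizer_singleton_iff]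
    calc c⁻¹ * a * r = c⁻¹ * (a * r * a⁻¹) * a := by group
      _ = c⁻¹ * (c * r * c⁻¹) * a := by rw [ha, hc]
      _ = r * (c⁻¹ * a) := by group
  have h3 : c⁻¹ * a * v * (c⁻¹ * a)⁻¹ ∈ o2 (centralizer ({r} : Set G)) :=
    (mem_normalizer_iff.1 (VModule.le_normalizer_o2 _ hg) v).1 (h1 hv)
  have h4 : c⁻¹ * a * v * (c⁻¹ * a)⁻¹ * e = e * (c⁻¹ * a * v * (c⁻¹ * a)⁻¹) := (mem_zc.1 (h2 he)).2.1 _ h3
  change a * v * a⁻¹ * (c * e * c⁻¹) = c * e * c⁻¹ * (a * v * a⁻¹)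
  calc a * v * a⁻¹ * (c * e * c⁻¹) = c * (c⁻¹ * a * v * (c⁻¹ * a)⁻¹ * e) * c⁻¹ := by group
    _ = c * (e * (c⁻¹ * a * v * (c⁻¹ * a)⁻¹)) * c⁻¹ := by rw [h4]
    _ = c * e * c⁻¹ * (a * v * a⁻¹) := by group

/-- commutators of `{1, ρ, v, ρv}` and `{1, ρ, v', ρv'}` -/
theorem comm_four {ρ v v' l l' : G} (hv : v * v' * v⁻¹ * v'⁻¹ = ρ) (h1 : v * ρ = ρ * v) (h2 : v' * ρ = ρ * v')
    (hl : l = 1 ∨ l = ρ ∨ l = v ∨ l = ρ * v) (hl' : l' = 1 ∨ l' = ρ ∨ l' = v' ∨ l' = ρ * v') :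
    l * l' * l⁻¹ * l'⁻¹ = 1 ∨ l * l' * l⁻¹ * l'⁻¹ = ρ := by
  have c1 : Commute ρ v := h1.symm
  have c2 : Commute ρ v' := h2.symm
  have one_of : ∀ {x y : G}, Commute x y → x * y * x⁻¹ * y⁻¹ = 1 := fun {x y} h => by
    rw [h.eq, mul_inv_cancel_right, mul_inv_cancel]
  rcases hl with rfl | rfl | rfl | rfl <;> rcases hl' with rfl | rfl | rfl | rfl
  · left; exact one_of (Commute.one_left _)
  · left; exact one_of (Commute.one_left _)
  · left; exact one_of (Commute.one_left _)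
  · left; exact one_of (Commute.one_left _)
  · left; exact one_of (Commute.one_right _)
  · left; exact one_of (Commute.refl _)
  · left; exact one_of c2
  · left; exact one_of ((Commute.refl _).mul_right c2)
  · left; exact one_of (Commute.one_right _)
  · left; exact one_of c1.symm
  · right; exact hv
  · right
    calc l * (ρ * v') * l⁻¹ * (ρ * v')⁻¹ = (l * ρ) * v' * l⁻¹ * v'⁻¹ * ρ⁻¹ := by group
      _ = ρ * (l * v' * l⁻¹ * v'⁻¹) * ρ⁻¹ := by rw [h1]; group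
      _ = ρ := by rw [hv]; group
  · left; exact one_of (Commute.one_right _)
  · left; exact one_of ((Commute.refl _).mul_left c1.symm)
  · right
    calc ρ * v * l' * (ρ * v)⁻¹ * l'⁻¹ = ρ * (v * l' * v⁻¹) * (ρ⁻¹ * l'⁻¹) := by group
      _ = ρ * (v * l' * v⁻¹) * (l'⁻¹ * ρ⁻¹) := by
        have h5 : ρ⁻¹ * l'⁻¹ = l'⁻¹ * ρ⁻¹ := (c2.inv_inv).eq
        rw [h5]
      _ = ρ * (v * l' * v⁻¹ * l'⁻¹) * ρ⁻¹ := by group
      _ = ρ := by rw [hv]; group
  · right
    calc ρ * v * (ρ * v') * (ρ * v)⁻¹ * (ρ * v')⁻¹ = ρ * (v * ρ) * v' * v⁻¹ * ρ⁻¹ * v'⁻¹ * ρ⁻¹ := by group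
      _ = ρ * (ρ * v) * v' * v⁻¹ * (ρ⁻¹ * v'⁻¹) * ρ⁻¹ := by rw [h1]; group
      _ = ρ * (ρ * v) * v' * v⁻¹ * (v'⁻¹ * ρ⁻¹) * ρ⁻¹ := by
        have h5 : ρ⁻¹ * v'⁻¹ = v'⁻¹ * ρ⁻¹ := (c2.inv_inv).eq
        rw [h5]
      _ = ρ * ρ * (v * v' * v⁻¹ * v'⁻¹) * ρ⁻¹ * ρ⁻¹ := by group
      _ = ρ := by rw [hv]; group

theorem mem_sup_LD (hVP : zl (S : Subgroup G) P ≤ P) {x : G}
    (hx : x ∈ (rmod M hs).line w₀ ⊔ cv (S : Subgroup G) P) :
    ∃ l ∈ (rmod M hs).line w₀, ∃ d ∈ cv (S : Subgroup G) P, x = l * d := by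
  have h1 : (rmod M hs).line w₀ ≤ normalizer (cv (S : Subgroup G) P : Set G) :=
    ((((rmod M hs).line_le w₀).trans (vx_le _ _)).trans hVP).trans (le_normalizer_cv _ _)
  rw [← SetLike.mem_coe, coe_mul_of_left_le_normalizer_right _ _ h1, Set.mem_mul] at hx
  obtain ⟨l, hl, d, hd, rfl⟩ := hx
  exact ⟨l, hl, d, hd, rfl⟩

include hG h in
/-- **(EX1)** for `C_V(O²(P)) ≠ 1` -/
theorem ExcD.exists_pair (hI : zl (S : Subgroup G) P ≤ o2 (centralizer (zc (S : Subgroup G) : Set G)))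
    (hne : cv (S : Subgroup G) P ≠ ⊥) {y : G} (hy1 : cj y (zl (S : Subgroup G) P) ≤ (S : Subgroup G))
    (hy2 : zl (S : Subgroup G) P ≤ cj y (S : Subgroup G)) {v v' : G} (hv : v ∈ vx (S : Subgroup G) P)
    (hv' : v' ∈ cj y (vx (S : Subgroup G) P)) (hvv : v * v' ≠ v' * v) :
    ∃ (P' : Subgroup G) (g' : G), NonFree (S : Subgroup G) P' P' g' ∧
      Nat.card (zl (S : Subgroup G) P') < Nat.card (zl (S : Subgroup G) P) := by
  set L := (rmod M hs).line w₀ with hL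
  have hPD := le_centralizer_cv hG S h M hs
  have hVP : zl (S : Subgroup G) P ≤ P := (zl_le_self hG S h).trans h.le
  have hLN : L ≤ vx (S : Subgroup G) P := (rmod M hs).line_le w₀
  -- `ρ = [v, v'] ∈ N ∩ N^y`
  have n1 : cj y (vx (S : Subgroup G) P) ≤ normalizer (vx (S : Subgroup G) P : Set G) :=
    ((((cj_mono (vx_le _ _)).trans hy1).trans h.le)).trans (le_normalizer_vx _ _)
  have n2 : vx (S : Subgroup G) P ≤ normalizer (cj y (vx (S : Subgroup G) P) : Set G) := by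
    rw [BTwo.normalizer_cj]
    exact (((vx_le _ _).trans hy2).trans (cj_mono h.le)).trans (cj_mono (le_normalizer_vx _ _))
  obtain ⟨ρ, hρ⟩ : ∃ ρ, v * v' * v⁻¹ * v'⁻¹ = ρ := ⟨_, rfl⟩
  have hρN : ρ ∈ vx (S : Subgroup G) P := by
    rw [← hρ]
    have h1 := (mem_normalizer_iff.1 (n1 hv') _).1 (inv_mem hv)
    have e : v * v' * v⁻¹ * v'⁻¹ = v * (v' * v⁻¹ * v'⁻¹) := by group
    rw [e]; exact mul_mem hv h1
  have hρN' : ρ ∈ cj y (vx (S : Subgroup G) P) := by
    rw [← hρ]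
    exact mul_mem ((mem_normalizer_iff.1 (n2 hv) _).1 hv') (inv_mem hv')
  have hρ1 : ρ ≠ 1 := by
    intro h1
    apply hvv
    rw [h1, mul_inv_eq_one, mul_inv_eq_iff_eq_mul] at hρ
    exact hρ
  have cN : ∀ x ∈ vx (S : Subgroup G) P, ∀ z ∈ vx (S : Subgroup G) P, x * z = z * x := fun x hx z hz =>
    (rmod M hs).comm hx hz
  have cN' : ∀ x ∈ cj y (vx (S : Subgroup G) P), ∀ z ∈ cj y (vx (S : Subgroup G) P), x * z = z * x := by
    rintro _ ⟨x, hx, rfl⟩ _ ⟨z, hz, rfl⟩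
    change y * x * y⁻¹ * (y * z * y⁻¹) = y * z * y⁻¹ * (y * x * y⁻¹)
    calc y * x * y⁻¹ * (y * z * y⁻¹) = y * (x * z) * y⁻¹ := by group
      _ = y * (z * x) * y⁻¹ := by rw [cN x hx z hz]
      _ = y * z * y⁻¹ * (y * x * y⁻¹) := by group
  have sN : ∀ x ∈ vx (S : Subgroup G) P, x * x = 1 := fun x hx => (rmod M hs).sq hx
  have sN' : ∀ x ∈ cj y (vx (S : Subgroup G) P), x * x = 1 := by
    rintro _ ⟨x, hx, rfl⟩
    change y * x * y⁻¹ * (y * x * y⁻¹) = 1
    calc y * x * y⁻¹ * (y * x * y⁻¹) = y * (x * x) * y⁻¹ := by group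
      _ = 1 := by rw [sN x hx]; group
  have hv1 : v ≠ 1 := by rintro rfl; exact hvv (by rw [one_mul, mul_one])
  have hv1' : v' ≠ 1 := by rintro rfl; exact hvv (by rw [one_mul, mul_one])
  have hρv : ρ ≠ v := fun h1 => hvv (by rw [← h1]; exact cN' _ hρN' _ hv')
  have hρv' : ρ ≠ v' := fun h1 => hvv (by rw [← h1]; exact cN _ hv _ hρN)
  -- the conjugates of `L`
  obtain ⟨a, haN, ha, hva⟩ := E.fuse ρ hρN hρ1 v hv
  obtain ⟨b, hbN, hb, hvb⟩ := E.fuse (y⁻¹ * ρ * y) (mem_cj.1 hρN') (by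
    intro h1
    apply hρ1
    calc ρ = y * (y⁻¹ * ρ * y) * y⁻¹ := by group
      _ = 1 := by rw [h1]; group) (y⁻¹ * v' * y) (mem_cj.1 hv')
  obtain ⟨c, hc⟩ : ∃ c, c = y * b := ⟨_, rfl⟩
  have hcr : c * r * c⁻¹ = ρ := by
    calc c * r * c⁻¹ = y * (b * r * b⁻¹) * y⁻¹ := by rw [hc]; group
      _ = ρ := by rw [hb]; group
  have hvc : v' ∈ cj c L := by
    rw [mem_cj] at hvb ⊢
    have e : c⁻¹ * v' * c = b⁻¹ * (y⁻¹ * v' * y) * b := by rw [hc]; group
    rwa [e]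
  have hρa : ρ ∈ cj a L := ⟨r, E.rL, ha⟩
  have hρc : ρ ∈ cj c L := ⟨r, E.rL, hcr⟩
  have hcardL := E.card_line
  obtain ⟨P', hstar, hzl, hcv⟩ := E.exists_par hG h
  set Z' := zl (S : Subgroup G) P' with hZ'
  have hLZ : L ≤ Z' := by rw [hzl]; exact le_sup_left
  have hZV : Z' ≤ zl (S : Subgroup G) P := by
    rw [hzl]; exact sup_le (hLN.trans (vx_le _ _)) (cv_le _ _)
  -- commutators of `Z'^a` and `Z'^c`
  have key : ∀ x ∈ cj a Z', ∀ z ∈ cj c Z', x * z * x⁻¹ * z⁻¹ = 1 ∨ x * z * x⁻¹ * z⁻¹ = ρ := by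
    rintro _ ⟨x, hx, rfl⟩ _ ⟨z, hz, rfl⟩
    have hx' := hx
    have hz' := hz
    rw [SetLike.mem_coe, hzl] at hx' hz'
    obtain ⟨l, hl, d, hd, rfl⟩ := mem_sup_LD E hVP hx'
    obtain ⟨l', hl', d', hd', rfl⟩ := mem_sup_LD E hVP hz'
    change a * (l * d) * a⁻¹ * (c * (l' * d') * c⁻¹) * (a * (l * d) * a⁻¹)⁻¹ * (c * (l' * d') * c⁻¹)⁻¹ = 1 ∨
      a * (l * d) * a⁻¹ * (c * (l' * d') * c⁻¹) * (a * (l * d) * a⁻¹)⁻¹ * (c * (l' * d') * c⁻¹)⁻¹ = ρ
    obtain ⟨A, hA⟩ : ∃ A, A = a * l * a⁻¹ := ⟨_, rfl⟩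
    obtain ⟨A', hA'⟩ : ∃ A', A' = c * l' * c⁻¹ := ⟨_, rfl⟩
    obtain ⟨D, hD⟩ : ∃ D, D = a * d * a⁻¹ := ⟨_, rfl⟩
    obtain ⟨D', hD'⟩ : ∃ D', D' = c * d' * c⁻¹ := ⟨_, rfl⟩
    have hAL : A ∈ cj a L := by rw [hA]; exact conj_mem_cj hl
    have hAL' : A' ∈ cj c L := by rw [hA']; exact conj_mem_cj hl'
    have hDD : D ∈ cj a (cv (S : Subgroup G) P) := by rw [hD]; exact conj_mem_cj hd
    have hDD' : D' ∈ cj c (cv (S : Subgroup G) P) := by rw [hD']; exact conj_mem_cj hd'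
    have hAV : A ∈ cj a (zl (S : Subgroup G) P) := cj_mono (hLN.trans (vx_le _ _)) hAL
    have hzV : A' * D' ∈ cj c (zl (S : Subgroup G) P) :=
      mul_mem (cj_mono (hLN.trans (vx_le _ _)) hAL') (cj_mono (cv_le _ _) hDD')
    have q1 : A' * D' * D = D * (A' * D') := E.comm_D hG h hI hcr ha hzV hDD
    have q2 : A * D' = D' * A := E.comm_D hG h hI ha hcr hAV hDD'
    have e1 : a * (l * d) * a⁻¹ = A * D := by rw [hA, hD]; group
    have e2 : c * (l' * d') * c⁻¹ = A' * D' := by rw [hA', hD']; group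
    have e3 : A * D * (A' * D') * (A * D)⁻¹ * (A' * D')⁻¹ = A * A' * A⁻¹ * A'⁻¹ := by
      calc A * D * (A' * D') * (A * D)⁻¹ * (A' * D')⁻¹ = A * (D * (A' * D')) * D⁻¹ * A⁻¹ * (A' * D')⁻¹ := by group
        _ = A * (A' * D' * D) * D⁻¹ * A⁻¹ * (A' * D')⁻¹ := by rw [q1]
        _ = A * A' * (D' * A⁻¹) * (A' * D')⁻¹ := by group
        _ = A * A' * (A⁻¹ * D') * (A' * D')⁻¹ := by
          have h5 : D' * A⁻¹ = A⁻¹ * D' := (Commute.inv_left (show Commute A D' from q2)).eq.symm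
          rw [h5]
        _ = A * A' * A⁻¹ * A'⁻¹ := by group
    rw [e1, e2, e3]
    refine comm_four E hρ (cN _ hv _ hρN) (cN' _ hv' _ hρN')
      (four_mem (by rw [BTwo.card_cj, hcardL]) hρa hva hρ1 hv1 hρv (cN _ hρN _ hv) (sN _ hρN) (sN _ hv) hAL)
      (four_mem (by rw [BTwo.card_cj, hcardL]) hρc hvc hρ1 hv1' hρv' (cN' _ hρN' _ hv') (sN' _ hρN') (sN' _ hv') hAL')
  have hρZa : ρ ∈ cj a Z' := cj_mono hLZ hρa
  have hρZc : ρ ∈ cj c Z' := cj_mono hLZ hρc
  have m1 : cj a Z' ≤ normalizer (cj c Z' : Set G) := by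
    intro x hx
    refine SQ1.FFOne.mem_norm_of fun z hz => ?_
    have e : x * z * x⁻¹ = x * z * x⁻¹ * z⁻¹ * z := by group
    rw [e]
    rcases key x hx z hz with h1 | h1
    · rw [h1, one_mul]; exact hz
    · rw [h1]; exact mul_mem hρZc hz
  have m2 : cj c Z' ≤ normalizer (cj a Z' : Set G) := by
    intro z hz
    refine SQ1.FFOne.mem_norm_of fun x hx => ?_
    have e : z * x * z⁻¹ = (x * z * x⁻¹ * z⁻¹)⁻¹ * x := by group
    rw [e]
    rcases key x hx z hz with h1 | h1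
    · rw [h1, inv_one, one_mul]; exact hx
    · rw [h1]; exact mul_mem (inv_mem hρZa) hx
  refine ⟨P', a⁻¹ * c, ⟨⟨hstar, hstar, ?_, ?_, ?_⟩, ?_, ?_⟩, ?_⟩
  · change Z' ≤ normalizer (cj (a⁻¹ * c) Z' : Set G)
    have := cj_mono (g := a⁻¹) m1
    rwa [BTwo.cj_inv_cj, ← BTwo.normalizer_cj, ← BTwo.cj_mul] at this
  · change cj (a⁻¹ * c) Z' ≤ normalizer (Z' : Set G)
    have := cj_mono (g := a⁻¹) m2
    rwa [← BTwo.normalizer_cj, BTwo.cj_inv_cj, ← BTwo.cj_mul] at this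
  · intro h0
    have h1 : ⁅a⁻¹ * v * a, (a⁻¹ * c) * (c⁻¹ * v' * c) * (a⁻¹ * c)⁻¹⁆ ∈
        ⁅Z', MulAut.conj (a⁻¹ * c) • Z'⁆ := commutator_mem_commutator (hLZ (mem_cj.1 hva))
      ⟨_, hLZ (mem_cj.1 hvc), rfl⟩
    rw [h0, mem_bot, commutatorElement_eq_one_iff_mul_comm] at h1
    apply hvv
    calc v * v' = a * (a⁻¹ * v * a * ((a⁻¹ * c) * (c⁻¹ * v' * c) * (a⁻¹ * c)⁻¹)) * a⁻¹ := by group
      _ = a * ((a⁻¹ * c) * (c⁻¹ * v' * c) * (a⁻¹ * c)⁻¹ * (a⁻¹ * v * a)) * a⁻¹ := by rw [h1]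
      _ = v' * v := by group
  · exact fun h0 => hne (le_bot_iff.1 (h0 ▸ hcv))
  · exact fun h0 => hne (le_bot_iff.1 (h0 ▸ hcv))
  · by_contra hcon
    push Not at hcon
    have hEq : Z' = zl (S : Subgroup G) P := Subgroup.eq_of_le_of_card_ge hZV hcon
    have hNL : vx (S : Subgroup G) P ≤ L := by
      intro n hn
      have h1 : n ∈ L ⊔ cv (S : Subgroup G) P := by
        rw [← hzl, hEq]; exact vx_le _ _ hn
      obtain ⟨l, hl, d, hd, rfl⟩ := mem_sup_LD E hVP h1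
      have h2 : d ∈ vx (S : Subgroup G) P ⊓ cv (S : Subgroup G) P := by
        refine ⟨?_, hd⟩
        have := mul_mem (inv_mem (hLN hl)) hn
        rwa [inv_mul_cancel_left] at this
      rw [hs, mem_bot] at h2
      rw [h2, mul_one]
      exact hl
    have h3 := Subgroup.card_le_of_le hNL
    rw [hcardL, (rmod M hs).card_V, E.card] at h3
    norm_num at h3

end exc

/-! ### The socket -/

/-- **the socket `NormH`** -/
theorem normH (K : Cls.{u}) : NormH K := by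
  intro G _ _ hG _ S _ hAll hS hs P g hnf hmin
  obtain ⟨F, _, _, _, ⟨M⟩⟩ := (hS P P g hnf.mp).1
  have hsp : SplitPar (S : Subgroup G) P := (hs P P g hnf.mp).1
  have h : IsParS (S : Subgroup G) P := hnf.mp.star₁
  have hc := hG.char2
  obtain ⟨y, hy1, hy2, v, hv, w, hw, hvw⟩ := exists_move S hc hnf.mp
  obtain ⟨K₁, M₁, s₁⟩ := exists_spl hc h M hsp
  have s₂ := s₁.conj y
  have hSP : (S : Subgroup G) ≤ P := h.le
  have hSP' : ((y • S : Sylow 2 G) : Subgroup G) ≤ cj y P := by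
    rw [Mix.coe_smul_eq]; exact cj_mono hSP
  -- `N`, `N^y` do not commute
  obtain ⟨n, hn, d, hd, rfl⟩ := s₁.dec v hv
  obtain ⟨n', hn', d', hd', rfl⟩ := s₂.dec w hw
  have c1 : ∀ z ∈ cj y (zl (S : Subgroup G) P), ∀ d ∈ cv (S : Subgroup G) P, d * z = z * d := fun z hz d hd =>
    mem_centralizer_iff.1 (s₁.cen (hSP (hy1 hz))) d hd
  have c2 : ∀ z ∈ zl (S : Subgroup G) P, ∀ d ∈ cj y (cv (S : Subgroup G) P), d * z = z * d := fun z hz d hd => by
    refine mem_centralizer_iff.1 (s₂.cen (hSP' ?_)) d hd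
    rw [Mix.coe_smul_eq]; exact hy2 hz
  have hnn : n * n' ≠ n' * n := by
    intro h
    apply hvw
    have e1 := c1 _ hw d hd
    have e2 := c2 n (s₁.NV hn) d' hd'
    calc n * d * (n' * d') = n * (d * (n' * d')) := by group
      _ = n * (n' * d' * d) := by rw [e1]
      _ = n * n' * d' * d := by group
      _ = n' * (n * d') * d := by rw [h]; group
      _ = n' * (d' * n) * d := by rw [e2]
      _ = n' * d' * (n * d) := by group
  have hn'' : n' ∈ cj y (vx (S : Subgroup G) P) := hn'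
  rcases (preMod M hsp).dich S (hSP.trans (le_normalizer_vx _ _)) (fun s hs' => nm_of_mem M hsp (hSP hs')) with
    hgood | hexc
  · refine ⟨y, F, inferInstance, inferInstance, inferInstance, vx (S : Subgroup G) P,
      (preMod M hsp).toNatMod hgood, ?_⟩
    have hmut : RMutual (vx (S : Subgroup G) P) (cj y (vx (S : Subgroup G) P)) K₁ (cj y K₁) :=
      ⟨(s₂.NV.trans hy1).trans (hSP.trans s₁.PK), (s₁.NV.trans hy2).trans (by
        have := hSP'.trans s₂.PK
        rwa [Mix.coe_smul_eq] at this), n, hn, n', hn', hnn⟩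
    obtain ⟨-, u, u', hu, -, hl, -⟩ := Mix.pair M₁ (M₁.conj y) hmut
    obtain ⟨T₁, hT₁P, hT₁R⟩ := s₁.exists_sylow S hSP hu.ne
    rw [← hl] at hT₁R
    have hR2 : IsPGroup 2 ↥(vx (S : Subgroup G) P ⊓ cj y (vx (S : Subgroup G) P)) :=
      s₁.N_pGroup.to_le inf_le_left
    have hR1 : vx (S : Subgroup G) P ⊓ cj y (vx (S : Subgroup G) P) ≠ ⊥ := by
      have h1 := M₁.line_ne_bot hu.ne
      rw [← hl] at h1
      exact h1
    have hVQ := s₁.V_le_Q hT₁P hu.ne (R := vx (S : Subgroup G) P ⊓ cj y (vx (S : Subgroup G) P)) hl hT₁R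
      (Mix.char2_normalizer hc hR2 hR1)
    exact
      { mp := ⟨h, h, by
          change _ ≤ normalizer (cj y _ : Set G)
          rw [BTwo.normalizer_cj]
          exact hy2.trans ((cj_mono hSP).trans (cj_mono (le_normalizer_zl _ _))),
          (hy1.trans hSP).trans (le_normalizer_zl _ _), by
          intro h0
          have h1 := commutator_mem_commutator (s₁.NV hn)
            (show n' ∈ MulAut.conj y • zl (S : Subgroup G) P from s₂.NV hn')
          rw [h0, mem_bot, commutatorElement_eq_one_iff_mul_comm] at h1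
          exact hnn h1⟩
        N_eq := rfl
        inf := hsp
        sup := sup_eq M
        ne := hnf.ne₁
        cen := le_centralizer_cv hc S h M hsp
        le := le_normalizer_vx _ _
        lift := rmod_lift M hsp
        pair := ⟨((s₂.NV.trans hy1).trans hSP).trans (le_normalizer_vx _ _), by
          change _ ≤ normalizer (cj y _ : Set G)
          rw [BTwo.normalizer_cj]
          exact ((vx_le _ _).trans hy2).trans ((cj_mono hSP).trans (cj_mono (le_normalizer_vx _ _))),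
          n, hn, n', hn', hnn⟩
        VQ := (vx_le _ _).trans hVQ
        min := hmin }
  · exfalso
    obtain ⟨w₀, r, E⟩ := excD_of S M hsp hexc
    obtain ⟨P', g', h1, h2⟩ := E.exists_pair hc h (hAll P h) hnf.ne₁ hy1 hy2 hn hn'' hnn
    exact absurd (hmin P' g' h1) (not_le.2 h2)

end Cfsg.Agent.Omega.HOne
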