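import Mathlib

/-!
# II.0h1, SPLIT (bb #14148 section 4, #14405): `M' = W / Z(W)` is an irreducible `E T`-module, abstract form

`H` acts on `M` (`= W₁ / Z(W₁)`), `E` normal in `H`, `A ≤ E` (quadratic-like group), `T` the torus, flag `e ≤ D ≤ P = e^⊥`, `f` the
form.  `Dat.top` : every nonzero subgroup of `M` which is invariant under `E` and `T` is `M`.  No weights, `q = 4` included.
-/

set_option autoImplicit false

namespace Cfsg.Agent.Omega.HOne.SimpleMod

variable {H : Type*} [Group H] {M : Type*} [AddCommGroup M] [DistribMulAction H M] {B : Type*} [AddCommGroup B]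

/-- invariance of a subgroup of `M` -/
def Inv (K : Subgroup H) (L : AddSubgroup M) : Prop := ∀ g ∈ K, ∀ x ∈ L, g • x ∈ L

/-- the data of section 4 -/
structure Dat (A E T : Subgroup H) (e D P : AddSubgroup M) (f : M → M → B) : Prop where
  normal : ∀ g ∈ E, ∀ h : H, h * g * h⁻¹ ∈ E
  A_le : A ≤ E
  /-- `E = ⟨A^E⟩` -/
  gen : ∀ K : Subgroup H, A ≤ K → (∀ g ∈ E, ∀ k ∈ K, g * k * g⁻¹ ∈ K) → E ≤ K
  sq : ∀ a ∈ A, a * a = 1
  eD : e ≤ D
  DP : D ≤ P
  ene : e ≠ ⊥
  A2 : ∀ a ∈ A, ∀ m ∈ P, a • m - m ∈ D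
  A1 : ∀ a ∈ A, ∀ m, a • m - m ∈ P
  A3 : ∀ a ∈ A, ∀ m ∈ D, a • m - m ∈ e
  A4 : ∀ a ∈ A, ∀ m ∈ e, a • m = m
  surj : ∀ m ∉ P, ∀ x ∈ P, ∃ a ∈ A, x - (a • m - m) ∈ D
  ker0 : ∀ d ∈ D, (∀ a ∈ A, a • d = d) → d ∈ e
  Tinv : ∀ t ∈ T, ∀ y ∈ e, t • y ∈ e
  Te : ∀ L : AddSubgroup M, Inv T L → L ≤ e → L = ⊥ ∨ L = e
  TP : ∀ L : AddSubgroup M, Inv T L → L ≤ P ∨ L ⊔ P = ⊤
  fadd : ∀ x y z, f x (y + z) = f x y + f x z
  fadd' : ∀ x y z, f (x + y) z = f x z + f y z
  fnd : ∀ x, (∀ y, f x y = 0) → x = 0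
  fA : ∀ a ∈ A, ∀ x y, f (a • x) (a • y) = f x y
  fH : ∀ (h : H) x y, f x y = 0 → f (h • x) (h • y) = 0
  fP : ∀ x ∈ P, ∀ y ∈ e, f x y = 0
  fPP : ∀ x, (∀ y ∈ P, f x y = 0) → x ∈ e
  fDD : ∀ x ∈ D, ∀ y ∈ D, f x y = 0
  span : ∀ L : AddSubgroup M, (∀ h : H, ∀ y ∈ e, h • y ∈ L) → L = ⊤
  /-- `C_A(M) = 1` -/
  faithful : ∀ a ∈ A, (∀ m : M, a • m = m) → a = 1
  /-- the image of `Z(W₂)` -/
  AZ : ∃ a ∈ A, a ≠ 1 ∧ ∀ d ∈ D, a • d = d

namespace Dat

variable {A E T : Subgroup H} {e D P : AddSubgroup M} {f : M → M → B} (d : Dat A E T e D P f)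
include d

theorem f_zero (x : M) : f x 0 = 0 := by
  have h := d.fadd x 0 0
  rw [add_zero] at h
  exact left_eq_add.1 h

theorem f_neg (x y : M) : f x (-y) = - f x y := by
  have h := d.fadd x y (-y)
  rw [add_neg_cancel, d.f_zero] at h
  exact (neg_eq_of_add_eq_zero_right h.symm).symm

theorem f_sub (x y z : M) : f x (y - z) = f x y - f x z := by
  rw [sub_eq_add_neg, d.fadd, d.f_neg, ← sub_eq_add_neg]

theorem f_zero' (y : M) : f 0 y = 0 := by
  have h := d.fadd' 0 0 y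
  rw [add_zero] at h
  exact left_eq_add.1 h

theorem f_neg' (x y : M) : f (-x) y = - f x y := by
  have h := d.fadd' x (-x) y
  rw [add_neg_cancel, d.f_zero'] at h
  exact (neg_eq_of_add_eq_zero_right h.symm).symm

theorem f_sub' (x y z : M) : f (x - y) z = f x z - f y z := by
  rw [sub_eq_add_neg, d.fadd', d.f_neg', ← sub_eq_add_neg]

theorem adj {a : H} (ha : a ∈ A) (x y : M) : f (a • x - x) y = f x (a • y - y) := by
  rw [d.f_sub', d.f_sub, sub_left_inj]
  have h := d.fA a ha (a • x) y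
  rw [smul_smul, d.sq a ha, one_smul] at h
  exact h.symm

/-- if `A` centralises an `E`-invariant subgroup, so does `E` -/
theorem cen_E {L : AddSubgroup M} (hL : Inv E L) (h : ∀ a ∈ A, ∀ x ∈ L, a • x = x) :
    ∀ g ∈ E, ∀ x ∈ L, g • x = x := by
  let K : Subgroup H :=
    { carrier := {k | ∀ x ∈ L, k • x = x}
      one_mem' := fun x _ => one_smul _ x
      mul_mem' := fun {a b} ha hb x hx => by rw [mul_smul, hb x hx, ha x hx]
      inv_mem' := fun {a} ha x hx => by rw [inv_smul_eq_iff, ha x hx] }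
  refine fun g hg => d.gen K (fun a ha => h a ha) ?_ hg
  intro g hg k hk x hx
  have h1 : g⁻¹ • x ∈ L := hL _ (inv_mem hg) x hx
  rw [mul_smul, mul_smul, hk _ h1, smul_inv_smul]

/-- (4.1) -/
theorem fix_E {m : M} (hm : ∀ g ∈ E, g • m = m) : m = 0 := by
  let C : AddSubgroup M :=
    { carrier := {m | ∀ g ∈ E, g • m = m}
      zero_mem' := fun g _ => smul_zero g
      add_mem' := fun {x y} hx hy g hg => by rw [smul_add, hx g hg, hy g hg]
      neg_mem' := fun {x} hx g hg => by rw [smul_neg, hx g hg] }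
  have hC : ∀ h : H, ∀ x ∈ C, h • x ∈ C := by
    intro h x hx g hg
    have h1 := hx (h⁻¹ * g * h) (by simpa using d.normal g hg h⁻¹)
    rw [mul_smul, mul_smul, inv_smul_eq_iff] at h1
    exact h1
  by_cases h : C ≤ P
  · apply d.fnd
    have key : ∀ x ∈ C, ∀ y, f x y = 0 := by
      intro x hx y
      let L : AddSubgroup M :=
        { carrier := {y | f x y = 0}
          zero_mem' := d.f_zero x
          add_mem' := fun {y z} hy hz => by
            change f x (y + z) = 0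
            rw [d.fadd, (show f x y = 0 from hy), (show f x z = 0 from hz), add_zero]
          neg_mem' := fun {y} hy => by
            change f x (-y) = 0
            rw [d.f_neg, (show f x y = 0 from hy), neg_zero] }
      have hL : L = ⊤ := d.span L (by
        intro g y hy
        have h2 := d.fH g (g⁻¹ • x) y (d.fP _ (h (hC _ x hx)) y hy)
        rwa [smul_inv_smul] at h2)
      have : y ∈ L := by rw [hL]; trivial
      exact this
    exact key m hm
  · obtain ⟨c, hc, hcP⟩ := Set.not_subset.1 (fun h' => h h')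
    exfalso
    have h' := (d.TP C (fun t _ x hx => hC t x hx)).resolve_left h
    obtain ⟨a, ha, ha1, haD⟩ := d.AZ
    have hPD : P ≤ D := by
      intro x hx
      obtain ⟨a', ha', h1⟩ := d.surj c hcP x hx
      rwa [hc a' (d.A_le ha'), sub_self, sub_zero] at h1
    have hPe : P ≤ e := fun x hx => d.fPP x fun y hy => d.fDD x (hPD hx) y (hPD hy)
    refine ha1 (d.faithful a ha fun m => ?_)
    have hm : m ∈ C ⊔ P := by rw [h']; trivial
    obtain ⟨x, hx, y, hy, rfl⟩ := AddSubgroup.mem_sup.1 hm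
    rw [smul_add, hx a (d.A_le ha), d.A4 a ha y (hPe hy)]

theorem sub_mem_of_inv {K : Subgroup H} {L : AddSubgroup M} (hL : Inv K L) {g : H} (hg : g ∈ K) {x : M} (hx : x ∈ L) :
    g • x - x ∈ L := by
  have _ := d
  exact L.sub_mem (hL g hg x hx) hx

/-- (4.3): a nonzero `E T`-invariant subgroup contains `e` -/
theorem e_le {L : AddSubgroup M} (hE : Inv E L) (hT : Inv T L) (hL : L ≠ ⊥) : e ≤ L := by
  have hAL : Inv A L := fun a ha => hE a (d.A_le ha)
  have heT : Inv T (e ⊓ L) := fun t ht x hx => ⟨d.Tinv t ht x hx.1, hT t ht x hx.2⟩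
  rcases d.Te (e ⊓ L) heT inf_le_left with h0 | h0
  swap
  · exact inf_eq_left.1 h0
  exfalso
  have h0' : ∀ x ∈ e, x ∈ L → x = 0 := fun x h1 h2 => by
    have : x ∈ e ⊓ L := ⟨h1, h2⟩
    rw [h0] at this
    exact AddSubgroup.mem_bot.1 this
  -- `L ⊓ D = 0`
  have h1 : ∀ x ∈ L, x ∈ D → x = 0 := by
    intro x hx hxD
    refine h0' x (d.ker0 x hxD fun a ha => ?_) hx
    exact sub_eq_zero.1 (h0' _ (d.A3 a ha x hxD) (d.sub_mem_of_inv hAL ha hx))
  -- `[L ⊓ P, A] = 0`
  have h2 : ∀ x ∈ L, x ∈ P → ∀ a ∈ A, a • x = x := fun x hx hxP a ha =>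
    sub_eq_zero.1 (h1 _ (d.sub_mem_of_inv hAL ha hx) (d.A2 a ha x hxP))
  -- `L` is not contained in `P`
  have h3 : ¬ L ≤ P := by
    intro h
    have h4 := d.cen_E hE fun a ha x hx => h2 x hx (h hx) a ha
    apply hL
    rw [eq_bot_iff]
    intro x hx
    exact d.fix_E fun g hg => h4 g hg x hx
  obtain ⟨m₀, hm₀, hm₀P⟩ := Set.not_subset.1 (fun h' => h3 h')
  have h4 := (d.TP L hT).resolve_left h3
  -- `M = L + D`
  have h5 : ∀ m : M, ∃ x ∈ L, ∃ y ∈ D, x + y = m := by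
    intro m
    have hm : m ∈ L ⊔ P := by rw [h4]; trivial
    obtain ⟨x, hx, y, hy, rfl⟩ := AddSubgroup.mem_sup.1 hm
    obtain ⟨a, ha, h6⟩ := d.surj m₀ hm₀P y hy
    exact ⟨x + (a • m₀ - m₀), L.add_mem hx (d.sub_mem_of_inv hAL ha hm₀), _, h6, by abel⟩
  obtain ⟨a, ha, ha1, haD⟩ := d.AZ
  refine ha1 (d.faithful a ha fun m => ?_)
  -- `a` centralises `L`
  have h6 : ∀ x ∈ L, a • x = x := by
    intro x hx
    refine sub_eq_zero.1 (h0' _ (d.fPP _ fun y hy => ?_) (d.sub_mem_of_inv hAL ha hx))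
    obtain ⟨z, hz, w, hw, rfl⟩ := h5 y
    have hzP : z ∈ P := by
      have := P.sub_mem hy (d.DP hw)
      rwa [add_sub_cancel_right] at this
    rw [d.fadd, d.adj ha, d.adj ha, h2 z hz hzP a ha, haD w hw, sub_self, sub_self, d.f_zero, add_zero]
  obtain ⟨x, hx, y, hy, rfl⟩ := h5 m
  rw [smul_add, h6 x hx, haD y hy]

/-- the `E`-span of `e` -/
def M1 (E : Subgroup H) (e : AddSubgroup M) : AddSubgroup M :=
  AddSubgroup.closure {x | ∃ g ∈ E, ∃ y ∈ e, g • y = x}

omit d in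
theorem mem_M1 {g : H} (hg : g ∈ E) {y : M} (hy : y ∈ e) : g • y ∈ M1 E e :=
  AddSubgroup.subset_closure ⟨g, hg, y, hy, rfl⟩

omit d in
theorem e_le_M1 : e ≤ M1 E e := fun y hy => by
  have := mem_M1 (one_mem E) hy
  rwa [one_smul] at this

omit d in
theorem M1_le {L : AddSubgroup M} (hL : Inv E L) (he : e ≤ L) : M1 E e ≤ L := by
  rw [M1, AddSubgroup.closure_le]
  rintro _ ⟨g, hg, y, hy, rfl⟩
  exact hL g hg y (he hy)

omit d in
theorem inv_closure {K : Subgroup H} {S : Set M} (h : ∀ g ∈ K, ∀ x ∈ S, g • x ∈ AddSubgroup.closure S) :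
    Inv K (AddSubgroup.closure S) := by
  intro g hg x hx
  induction hx using AddSubgroup.closure_induction with
  | mem x hx => exact h g hg x hx
  | zero => rw [smul_zero]; exact zero_mem _
  | add x y _ _ ihx ihy => rw [smul_add]; exact add_mem ihx ihy
  | neg x _ ih => rw [smul_neg]; exact neg_mem ih

omit d in
theorem M1_invE : Inv E (M1 E e) := inv_closure (by
  rintro g hg _ ⟨g', hg', y, hy, rfl⟩
  rw [smul_smul]
  exact mem_M1 (mul_mem hg hg') hy)

theorem M1_invT : Inv T (M1 E e) := inv_closure (by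
  rintro t ht _ ⟨g, hg, y, hy, rfl⟩
  have h1 : t • g • y = (t * g * t⁻¹) • t • y := by rw [smul_smul, smul_smul, inv_mul_cancel_right]
  rw [h1]
  exact mem_M1 (d.normal g hg t) (d.Tinv t ht y hy))

/-- the translate of a subgroup -/
def tr (x : H) (S : AddSubgroup M) : AddSubgroup M := S.map (DistribSMul.toAddMonoidHom M x)

omit d in
theorem mem_tr {x : H} {S : AddSubgroup M} {m : M} : m ∈ tr x S ↔ x⁻¹ • m ∈ S := by
  constructor
  · rintro ⟨y, hy, rfl⟩
    change x⁻¹ • x • y ∈ S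
    rwa [inv_smul_smul]
  · intro h
    exact ⟨_, h, by change x • x⁻¹ • m = m; rw [smul_inv_smul]⟩

theorem tr_inv {x : H} {S : AddSubgroup M} (hS : Inv E S) : Inv E (tr x S) := by
  intro g hg m hm
  rw [mem_tr] at hm ⊢
  have := hS _ (d.normal g hg x⁻¹) _ hm
  rw [inv_inv, smul_smul] at this
  rwa [show x⁻¹ * g * x * x⁻¹ = x⁻¹ * g by group, mul_smul] at this

omit d in
theorem tr_tr (x y : H) (S : AddSubgroup M) : tr x (tr y S) = tr (x * y) S := by
  ext m
  rw [mem_tr, mem_tr, mem_tr, smul_smul, mul_inv_rev]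

omit d in
theorem tr_one (S : AddSubgroup M) : tr (1 : H) S = S := by
  ext m
  rw [mem_tr, inv_one, one_smul]

omit d in
theorem tr_mono {x : H} {S S' : AddSubgroup M} (h : S ≤ S') : tr x S ≤ tr x S' := by
  intro m hm
  rw [mem_tr] at hm ⊢
  exact h hm

/-- a minimal `E`-invariant subgroup -/
def Min (E : Subgroup H) (S : AddSubgroup M) : Prop :=
  S ≠ ⊥ ∧ Inv E S ∧ ∀ L : AddSubgroup M, Inv E L → L ≤ S → L = ⊥ ∨ L = S

theorem tr_min {x : H} {S : AddSubgroup M} (hS : Min E S) : Min E (tr x S) := by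
  refine ⟨fun h => hS.1 ?_, d.tr_inv hS.2.1, fun L hL hLS => ?_⟩
  · rw [eq_bot_iff]
    intro y hy
    have : x • y ∈ tr x S := by rw [mem_tr, inv_smul_smul]; exact hy
    rw [h, AddSubgroup.mem_bot, smul_eq_zero_iff_eq] at this
    exact this
  · have h1 := hS.2.2 (tr x⁻¹ L) (d.tr_inv hL) (by
      have := tr_mono (x := x⁻¹) hLS
      rwa [tr_tr, inv_mul_cancel, tr_one] at this)
    rcases h1 with h1 | h1
    · left
      have : tr x (tr x⁻¹ L) = tr x ⊥ := by rw [h1]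
      rw [tr_tr, mul_inv_cancel, tr_one] at this
      rw [this, eq_bot_iff]
      intro m hm
      rw [mem_tr, AddSubgroup.mem_bot, smul_eq_zero_iff_eq] at hm
      exact hm
    · right
      have : tr x (tr x⁻¹ L) = tr x S := by rw [h1]
      rwa [tr_tr, mul_inv_cancel, tr_one] at this

theorem exists_min [Finite M] {L : AddSubgroup M} (hL : Inv E L) (h0 : L ≠ ⊥) : ∃ S, Min E S ∧ S ≤ L := by
  have _ := d
  obtain ⟨S, ⟨hS1, hS2, hS3⟩, hmin⟩ := exists_minimal_of_wellFoundedLT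
    (fun S : AddSubgroup M => S ≠ ⊥ ∧ Inv E S ∧ S ≤ L) ⟨L, h0, hL, le_rfl⟩
  refine ⟨S, ⟨hS1, hS2, fun L' hL' hle => ?_⟩, hS3⟩
  by_cases h : L' = ⊥
  · exact Or.inl h
  · exact Or.inr (le_antisymm hle (hmin ⟨h, hL', hle.trans hS3⟩ hle))

omit d in
theorem inv_sup {K : Subgroup H} {L L' : AddSubgroup M} (h : Inv K L) (h' : Inv K L') : Inv K (L ⊔ L') := by
  intro g hg m hm
  obtain ⟨x, hx, y, hy, rfl⟩ := AddSubgroup.mem_sup.1 hm
  rw [smul_add]
  exact add_mem (AddSubgroup.mem_sup_left (h g hg x hx)) (AddSubgroup.mem_sup_right (h' g hg y hy))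

omit d in
theorem inv_inf {K : Subgroup H} {L L' : AddSubgroup M} (h : Inv K L) (h' : Inv K L') : Inv K (L ⊓ L') :=
  fun g hg m hm => ⟨h g hg m hm.1, h' g hg m hm.2⟩

/-- there is a minimal `E`-invariant `S ≤ M1` such that `M` is generated by its translates -/
theorem exists_S [Finite M] : ∃ S : AddSubgroup M, Min E S ∧ S ≤ M1 E e ∧
    ∀ L : AddSubgroup M, (∀ x : H, tr x S ≤ L) → L = ⊤ := by
  have hne : M1 E e ≠ ⊥ := fun h => d.ene (by
    rw [eq_bot_iff, ← h]
    exact e_le_M1)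
  obtain ⟨S, hS, hSM⟩ := d.exists_min (M1_invE (e := e)) hne
  refine ⟨S, hS, hSM, fun L hL => ?_⟩
  -- the sum of the `T`-translates of `S`
  let S' : AddSubgroup M := ⨆ t : T, tr (t : H) S
  have hS'E : Inv E S' := by
    intro g hg m hm
    refine AddSubgroup.iSup_induction (fun t : T => tr (t : H) S) (C := fun m => g • m ∈ S') hm ?_ ?_ ?_
    · intro t x hx
      exact (le_iSup (fun t : T => tr (t : H) S) t) (d.tr_inv hS.2.1 g hg x hx)
    · rw [smul_zero]; exact zero_mem _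
    · intro x y hx hy
      rw [smul_add]; exact add_mem hx hy
  have hS'T : Inv T S' := by
    intro g hg m hm
    refine AddSubgroup.iSup_induction (fun t : T => tr (t : H) S) (C := fun m => g • m ∈ S') hm ?_ ?_ ?_
    · intro t x hx
      refine (le_iSup (fun t : T => tr (t : H) S) (⟨g, hg⟩ * t)) ?_
      rw [mem_tr] at hx ⊢
      change ((g * t : H))⁻¹ • g • x ∈ S
      rwa [mul_inv_rev, mul_smul, inv_smul_smul]
    · rw [smul_zero]; exact zero_mem _
    · intro x y hx hy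
      rw [smul_add]; exact add_mem hx hy
  have hS'0 : S' ≠ ⊥ := by
    intro h
    apply hS.1
    rw [eq_bot_iff, ← h]
    have := le_iSup (fun t : T => tr (t : H) S) 1
    rwa [OneMemClass.coe_one, tr_one] at this
  have h1 : e ≤ S' := d.e_le hS'E hS'T hS'0
  refine d.span L fun h y hy => ?_
  have h2 := h1 hy
  refine AddSubgroup.iSup_induction (fun t : T => tr (t : H) S) (C := fun m => h • m ∈ L) h2 ?_ ?_ ?_
  · intro t x hx
    refine hL (h * t) ?_
    rw [mem_tr] at hx ⊢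
    rwa [mul_inv_rev, mul_smul, inv_smul_smul]
  · rw [smul_zero]; exact zero_mem _
  · intro x y hx hy
    rw [smul_add]; exact add_mem hx hy

/-- `M1` has an `E`-invariant complement -/
theorem exists_compl [Finite M] : ∃ C : AddSubgroup M, Inv E C ∧ C ⊓ M1 E e = ⊥ ∧ C ⊔ M1 E e = ⊤ := by
  obtain ⟨S, hS, hSM, hgen⟩ := d.exists_S
  obtain ⟨C, ⟨hC1, hC2⟩, hmax⟩ := exists_maximal_of_wellFoundedGT
    (fun C : AddSubgroup M => Inv E C ∧ C ⊓ M1 E e = ⊥) ⟨⊥, fun g _ x hx => by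
      rw [AddSubgroup.mem_bot] at hx ⊢; rw [hx, smul_zero], bot_inf_eq _⟩
  refine ⟨C, hC1, hC2, hgen _ fun x => ?_⟩
  by_contra hx
  have hm := d.tr_min (x := x) hS
  have h1 := hm.2.2 _ (inv_inf hm.2.1 (inv_sup hC1 (M1_invE (e := e)))) inf_le_left
  have h2 : tr x S ⊓ (C ⊔ M1 E e) = ⊥ := h1.resolve_right fun h => hx (inf_eq_left.1 h)
  have h3 : (C ⊔ tr x S) ⊓ M1 E e = ⊥ := by
    rw [eq_bot_iff]
    rintro m ⟨hm1, hm2⟩
    obtain ⟨c, hc, s, hs, rfl⟩ := AddSubgroup.mem_sup.1 hm1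
    have h4 : s ∈ tr x S ⊓ (C ⊔ M1 E e) := ⟨hs, by
      have := add_mem (neg_mem (AddSubgroup.mem_sup_left hc : c ∈ C ⊔ M1 E e)) (AddSubgroup.mem_sup_right hm2)
      rwa [neg_add_cancel_left] at this⟩
    rw [h2, AddSubgroup.mem_bot] at h4
    subst h4
    have h5 : c ∈ C ⊓ M1 E e := ⟨hc, by simpa using hm2⟩
    rw [hC2, AddSubgroup.mem_bot] at h5
    rw [h5, add_zero]
    exact zero_mem _
  have h4 := hmax ⟨inv_sup hC1 hm.2.1, h3⟩ le_sup_left
  exact hx ((le_sup_right.trans h4).trans le_sup_left)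

/-- (4.4): `M` is the `E`-span of `e` -/
theorem M1_eq_top [Finite M] [Finite T] (hodd : Odd (Nat.card T)) (h2 : ∀ m : M, m + m = 0) : M1 E e = ⊤ := by
  classical
  obtain ⟨C, hCE, hC0, hCtop⟩ := d.exists_compl
  have _ : Fintype T := Fintype.ofFinite T
  -- the projection
  have hdec : ∀ m : M, ∃ c ∈ C, ∃ x ∈ M1 E e, c + x = m := fun m =>
    AddSubgroup.mem_sup.1 (by rw [hCtop]; trivial)
  choose c hc π hπ hcπ using hdec
  have huniq : ∀ {m c' x' : M}, c' ∈ C → x' ∈ M1 E e → c' + x' = m → π m = x' := by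
    intro m c' x' hc' hx' h
    have h3 : π m - x' = c' - c m := by
      have h4 := (hcπ m).trans h.symm
      rw [sub_eq_sub_iff_add_eq_add, add_comm (π m), h4]
    have h4 : π m - x' ∈ C ⊓ M1 E e := ⟨by rw [h3]; exact AddSubgroup.sub_mem _ hc' (hc m), AddSubgroup.sub_mem _ (hπ m) hx'⟩
    rw [hC0, AddSubgroup.mem_bot] at h4
    exact sub_eq_zero.1 h4
  have hadd : ∀ x y, π (x + y) = π x + π y := fun x y =>
    huniq (add_mem (hc x) (hc y)) (add_mem (hπ x) (hπ y)) (by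
      rw [add_add_add_comm, hcπ, hcπ])
  have hE : ∀ g ∈ E, ∀ x, π (g • x) = g • π x := fun g hg x =>
    huniq (hCE g hg _ (hc x)) (M1_invE g hg _ (hπ x)) (by rw [← smul_add, hcπ])
  have hid : ∀ x ∈ M1 E e, π x = x := fun x hx => huniq (zero_mem _) hx (zero_add x)
  -- its average
  let ρ : M → M := fun x => ∑ t : T, (t : H)⁻¹ • π ((t : H) • x)
  have hρadd : ∀ x y, ρ (x + y) = ρ x + ρ y := by
    intro x y
    simp only [ρ, smul_add, hadd, Finset.sum_add_distrib]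
  have hρ1 : ∀ x, ρ x ∈ M1 E e := fun x =>
    sum_mem fun t _ => d.M1_invT _ (inv_mem t.2) _ (hπ _)
  have hρid : ∀ x ∈ M1 E e, ρ x = x := by
    intro x hx
    have h3 : ∀ t : T, (t : H)⁻¹ • π ((t : H) • x) = x := fun t => by
      rw [hid _ (d.M1_invT _ t.2 _ hx), inv_smul_smul]
    simp only [ρ, h3, Finset.sum_const, Finset.card_univ]
    obtain ⟨k, hk⟩ := hodd
    rw [← Nat.card_eq_fintype_card, hk, add_smul, one_smul, mul_comm, mul_smul, two_smul, h2, smul_zero, zero_add]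
  have hρE : ∀ g ∈ E, ∀ x, ρ (g • x) = g • ρ x := by
    intro g hg x
    simp only [ρ, Finset.smul_sum]
    refine Finset.sum_congr rfl fun t _ => ?_
    have h3 : (t : H) • g • x = ((t : H) * g * (t : H)⁻¹) • (t : H) • x := by
      rw [smul_smul, smul_smul, inv_mul_cancel_right]
    rw [h3, hE _ (d.normal g hg t), smul_smul, smul_smul]
    congr 1
    group
  have hρT : ∀ s ∈ T, ∀ x, ρ (s • x) = s • ρ x := by
    intro s hs x
    simp only [ρ, Finset.smul_sum]
    refine Fintype.sum_bijective (fun t : T => t * ⟨s, hs⟩) (Group.mulRight_bijective _) _ _ fun t => ?_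
    rw [smul_smul, smul_smul]
    change (t : H)⁻¹ • π (((t : H) * s) • x) = (s * ((t : H) * s)⁻¹) • π (((t : H) * s) • x)
    rw [mul_inv_rev, mul_inv_cancel_left]
  -- its kernel
  let L : AddSubgroup M :=
    { carrier := {x | ρ x = 0}
      zero_mem' := by
        have h3 := hρadd 0 0
        rw [add_zero] at h3
        exact left_eq_add.1 h3
      add_mem' := fun {x y} hx hy => by
        change ρ (x + y) = 0
        rw [hρadd, (show ρ x = 0 from hx), (show ρ y = 0 from hy), add_zero]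
      neg_mem' := fun {x} hx => by
        have h3 : -x = x := neg_eq_of_add_eq_zero_left (h2 x)
        change ρ (-x) = 0
        rw [h3]; exact hx }
  have hL : L = ⊥ := by
    by_contra h0
    have h3 : e ≤ L := d.e_le (fun g hg x hx => by
      change ρ (g • x) = 0
      rw [hρE g hg, (show ρ x = 0 from hx), smul_zero]) (fun g hg x hx => by
      change ρ (g • x) = 0
      rw [hρT g hg, (show ρ x = 0 from hx), smul_zero]) h0
    apply d.ene
    rw [eq_bot_iff]
    intro y hy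
    rw [AddSubgroup.mem_bot, ← hρid y (e_le_M1 hy)]
    exact h3 hy
  rw [eq_top_iff]
  intro x _
  have h3 : x - ρ x ∈ L := by
    change ρ (x - ρ x) = 0
    have h4 := hρadd (x - ρ x) (ρ x)
    rw [sub_add_cancel, hρid _ (hρ1 x)] at h4
    exact right_eq_add.1 h4
  rw [hL, AddSubgroup.mem_bot, sub_eq_zero] at h3
  rw [h3]
  exact hρ1 x

/-- **(4)**: `M` is an irreducible `E T`-module. -/
theorem eq_top [Finite M] [Finite T] (hodd : Odd (Nat.card T)) (h2 : ∀ m : M, m + m = 0) {L : AddSubgroup M}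
    (hE : Inv E L) (hT : Inv T L) (hL : L ≠ ⊥) : L = ⊤ := by
  rw [eq_top_iff, ← d.M1_eq_top hodd h2]
  exact M1_le hE (d.e_le hE hT hL)

end Dat

end Cfsg.Agent.Omega.HOne.SimpleMod
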