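import Cfsg.Agent.Omega.HOne.EigOf
import Cfsg.Agent.Omega.HOne.SimpleMod

/-!
# `W i / Z(W i)` is an irreducible `E T`-module (II.0h1, split, `q ≥ 4`; bb #14148 section 4)

`Fq.dat`: instance of `SimpleMod.Dat` for every normal `E ≥ A` with `E = ⟨A^E⟩`; `Fq.fix_E`, `Fq.span_E`, `Fq.irred`.
`exists_fq'`: the frame exists.
-/

set_option autoImplicit false
set_option linter.unusedSectionVars false

namespace Cfsg.Agent.Omega.HOne.ModZ

open Subgroup Cfsg.Agent.Omega.BTwo Cfsg.Agent.Omega.Lie Cfsg.Agent.Omega.Lie.Quot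

universe u v w

variable {G : Type u} [Group G] {ι : Type w} {V : Subgroup G} {R : ι → Subgroup G} {i j : ι}
  {F : Type v} [Field F] {v : F → F → G} {w1 w2 t : F → G}

/-- **existence of the frame** -/
theorem exists_frame [Finite G] [Finite F] (hF : ∃ a : F, a ≠ 0 ∧ a ≠ 1) (b : BT V R) (c : Coord V R i j v w1 w2)
    (τ : TorD V R i j v t) :
    ∃ (M : Type u) (_ : AddCommGroup M) (_ : DistribMulAction (HQ (R i)) M) (p : G → M) (_ : Module F M)
      (f : M →ₗ[F] M →ₗ[F] F) (e : F →ₗ[F] M) (ω : M →ₗ[F] F) (σ : HQ (R i) →* RingAut F) (κ : HQ (R i) → F),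
      Fq V R i v M p f e ω σ κ := by
  obtain ⟨M, _, _, p, m⟩ := exists_MZ b i
  obtain ⟨_, f, e, ω, σ, κ, h⟩ := m.exists_fq hF b c τ
  exact ⟨M, _, _, p, _, f, e, ω, σ, κ, h⟩

namespace Fq

variable {M : Type u} [AddCommGroup M] [Module F M] [DistribMulAction (HQ (R i)) M] {p : G → M}
  {f : M →ₗ[F] M →ₗ[F] F} {e : F →ₗ[F] M} {ω : M →ₗ[F] F} {σ : HQ (R i) →* RingAut F} {κ : HQ (R i) → F}
  {N : Type u} [AddCommGroup N] [Module F N] {P1 P2 : G → N} [Finite F] [CharP F 2]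

/-- `A` is faithful on `W i / Z(W i)` -/
theorem al_faithful [Finite G] (q : Fq V R i v M p f e ω σ κ) (b : BTS V R) (c : Coord V R i j v w1 w2)
    (τ : TorD V R i j v t) (y : YPair V R i j w1 w2 N P1 P2) (hF : ∃ a : F, a ≠ 0 ∧ a ≠ 1)
    (hodd : Odd ((normalizer (V : Set G)).relIndex (normalizer (R i : Set G)))) {k : N}
    (h : ∀ x : M, al b.toBT y k • x = x) : k = 0 := by
  obtain ⟨u, hu, rfl⟩ := exists_u y k
  have hN := b.toBT.cen_le_N i (UU_le_cen j hu)
  have h1 : u ∈ DD V R := by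
    refine LemNS.faithful b hF c τ hodd hu fun w hw => ?_
    have h2 := h (p w)
    rw [← pr_U b.toBT y hu hN, ← sub_eq_zero, q.toMZ.smul_sub hN hw, q.p_ker _ (MZ.comm_mem_W hN hw)] at h2
    have h3 := inv_mem h2
    have e1 : (u * w * u⁻¹ * w⁻¹)⁻¹ = w * u * w⁻¹ * u⁻¹ := by group
    rw [e1] at h3
    exact h3
  exact ((y.mem_D _ (UU_le_YY j hu)).1 h1).2

/-- the element of `A` with coordinate in `N₀` -/
theorem exists_AZ (b : BT V R) (c : Coord V R i j v w1 w2) (y : YPair V R i j w1 w2 N P1 P2) {z : G}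
    (hz : z ∈ ZZ V R j) (hzD : z ∉ DD V R) : ∃ k ∈ N0 b c y, k ≠ 0 := by
  refine ⟨P2 z, mem_N0'.2 ⟨z, hz, rfl⟩, fun h => hzD ?_⟩
  have h1 := zU_le j hz
  exact (y.mem_D _ (UU_le_YY j h1)).2 ⟨(y.mem_U2 _ (UU_le_YY j h1)).1 h1, h⟩

/-- **the hypotheses of `SimpleMod`** -/
theorem dat [Finite G] (q : Fq V R i v M p f e ω σ κ) (b : BTS V R) (c : Coord V R i j v w1 w2)
    (τ : TorD V R i j v t) (y : YPair V R i j w1 w2 N P1 P2) (hF : ∃ a : F, a ≠ 0 ∧ a ≠ 1)
    (hodd : Odd ((normalizer (V : Set G)).relIndex (normalizer (R i : Set G))))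
    (hZ : ∃ z ∈ ZZ V R j, z ∉ DD V R) {E : Subgroup (HQ (R i))} [hE : E.Normal] (hA : AA V R i j ≤ E)
    (hgen : ∀ K : Subgroup (HQ (R i)), AA V R i j ≤ K → (∀ g ∈ E, ∀ k ∈ K, g * k * g⁻¹ ∈ K) → E ≤ K) :
    SimpleMod.Dat (AA V R i j) E (TT τ) (LinearMap.range e).toAddSubgroup
      (q.DS b.toBT c τ y hF).toAddSubgroup (LinearMap.ker ω).toAddSubgroup (fun x y => f x y) := by
  obtain ⟨π, Λ, h, -, -⟩ := q.exists_pre b c τ y hF
  have hij : i ≠ j := c.ne
  have hAk : ∀ a ∈ AA V R i j, ∃ k, ∀ x : M, a • x - x = q.AL b.toBT c y k x := by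
    intro a ha
    obtain ⟨k, rfl⟩ := (mem_AA b.toBT y).1 ha
    exact ⟨k, fun x => rfl⟩
  have hT : ∀ x ∈ TT τ, ∃ a : Fˣ, ∀ m : M, x • m = q.TL c τ a m := by
    intro x hx
    obtain ⟨a, ha, rfl⟩ := (mem_TT τ).1 hx
    exact ⟨Units.mk0 a ha, fun m => rfl⟩
  have hT' : ∀ a : Fˣ, ∃ x ∈ TT τ, ∀ m : M, x • m = q.TL c τ a m :=
    fun a => ⟨_, (mem_TT τ).2 ⟨a, a.ne_zero, rfl⟩, fun m => rfl⟩
  obtain ⟨m0, hm0⟩ := h.ω1
  exact
    { normal := fun g hg h' => hE.conj_mem g hg h'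
      A_le := hA
      gen := hgen
      sq := fun a ha => A_sq b.toBT hij ha
      eD := by
        rintro _ ⟨γ, rfl⟩
        exact h.eD γ
      DP := fun x hx => h.Dω x hx
      ene := by
        intro h1
        have h2 : e 1 ∈ (LinearMap.range e).toAddSubgroup := ⟨1, rfl⟩
        rw [h1, AddSubgroup.mem_bot] at h2
        exact one_ne_zero (h.e_inj 1 h2)
      A2 := by
        intro a ha m hm
        obtain ⟨k, hk⟩ := hAk a ha
        rw [hk]
        have h1 := h.Aπ k m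
        rw [show ω m = 0 from hm, zero_smul] at h1
        exact (h.πk _).1 h1
      A1 := by
        intro a ha m
        obtain ⟨k, hk⟩ := hAk a ha
        rw [hk]
        exact h.Aω k m
      A3 := by
        intro a ha m hm
        obtain ⟨k, hk⟩ := hAk a ha
        rw [hk, show q.AL b.toBT c y k m = _ from h.AΛ k ⟨m, hm⟩]
        exact ⟨_, rfl⟩
      A4 := by
        rintro a ha _ ⟨γ, rfl⟩
        obtain ⟨k, hk⟩ := hAk a ha
        rw [← sub_eq_zero, hk, h.Ae]
      surj := by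
        intro m hm x hx
        have hm' : ω m ≠ 0 := hm
        have hx' : ω x = 0 := hx
        obtain ⟨n, hn⟩ := (N0 b.toBT c y).mkQ_surjective (π ⟨x, hx'⟩)
        refine ⟨al b.toBT y ((ω m)⁻¹ • n), al_mem _ _ _, ?_⟩
        have h1 := h.Aπ ((ω m)⁻¹ • n) m
        rw [map_smul, smul_smul, mul_inv_cancel₀ hm', one_smul, hn] at h1
        have h2 : ω (x - q.AL b.toBT c y ((ω m)⁻¹ • n) m) = 0 := by rw [map_sub, hx', h.Aω, sub_zero]
        have h3 : π ⟨x - q.AL b.toBT c y ((ω m)⁻¹ • n) m, h2⟩ = 0 := by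
          have e1 : (⟨x - q.AL b.toBT c y ((ω m)⁻¹ • n) m, h2⟩ : LinearMap.ker ω) =
              ⟨x, hx'⟩ - ⟨_, h.Aω ((ω m)⁻¹ • n) m⟩ := rfl
          rw [e1, map_sub, h1, sub_self]
        exact (h.πk _).1 h3
      ker0 := by
        intro d hd hfix
        have h1 : Λ ⟨d, hd⟩ = 0 := by
          ext k
          have h2 := hfix _ (al_mem b.toBT y k)
          rw [← sub_eq_zero, show al b.toBT y k • d - d = _ from h.AΛ k ⟨d, hd⟩] at h2
          exact h.e_inj _ h2
        obtain ⟨γ, hγ⟩ := h.Λe _ h1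
        exact ⟨γ, hγ.symm⟩
      Tinv := by
        rintro x hx _ ⟨γ, rfl⟩
        obtain ⟨a, ha⟩ := hT x hx
        rw [ha, h.Te, ← LinearMap.map_smul e]
        exact ⟨_, rfl⟩
      Te := by
        intro L hL hLe
        by_cases h0 : L = ⊥
        · exact Or.inl h0
        · right
          apply le_antisymm hLe
          obtain ⟨⟨x, hx⟩, hx1⟩ := AddSubgroup.ne_bot_iff_exists_ne_zero.1 h0
          have hx0 : x ≠ 0 := fun h' => hx1 (Subtype.ext h')
          obtain ⟨γ, rfl⟩ := hLe hx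
          have hγ : γ ≠ 0 := fun h' => hx0 (by rw [h', map_zero])
          rintro _ ⟨δ, rfl⟩
          by_cases hδ : δ = 0
          · rw [hδ, map_zero]; exact zero_mem _
          · obtain ⟨x', hx', hx''⟩ := hT' (Units.mk0 (γ * δ⁻¹) (mul_ne_zero hγ (inv_ne_zero hδ)))
            have h1 := hL x' hx' _ hx
            rw [hx'', h.Te, ← LinearMap.map_smul e, Units.val_mk0, smul_eq_mul] at h1
            have e1 : (γ * δ⁻¹)⁻¹ * γ = δ := by field_simp
            rwa [e1] at h1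
      TP := by
        intro L hL
        by_cases hP : L ≤ (LinearMap.ker ω).toAddSubgroup
        · exact Or.inl hP
        · right
          obtain ⟨x, hx, hxP⟩ := Set.not_subset.1 (fun h' => hP h')
          have hx0 : ω x ≠ 0 := hxP
          rw [eq_top_iff]
          intro m _
          by_cases hm : ω m = 0
          · exact AddSubgroup.mem_sup_right hm
          · obtain ⟨r, hr⟩ : ∃ r : F, r ^ 2 = ω m * (ω x)⁻¹ := by
              have hinj : Function.Injective (fun r : F => r ^ 2) := by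
                intro r r' h'
                have h2 : (r - r') ^ 2 = 0 := by
                  have h3 : r ^ 2 = r' ^ 2 := h'
                  have h4 : (2 : F) = 0 := h.two
                  linear_combination h3 + (r' ^ 2 - r * r') * h4
                exact sub_eq_zero.1 (pow_eq_zero_iff (two_ne_zero)|>.1 h2)
              exact (Finite.surjective_of_injective hinj) _
            have hr0 : r ≠ 0 := by
              rintro rfl
              rw [zero_pow two_ne_zero] at hr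
              exact mul_ne_zero hm (inv_ne_zero hx0) hr.symm
            obtain ⟨x', hx', hx''⟩ := hT' (Units.mk0 r hr0)
            have h1 : x' • x ∈ L := hL x' hx' x hx
            have h2 : m - x' • x ∈ (LinearMap.ker ω).toAddSubgroup := by
              change ω (m - x' • x) = 0
              rw [map_sub, hx'', h.Tω, Units.val_mk0, hr, mul_assoc, inv_mul_cancel₀ hx0, mul_one, sub_self]
            have e1 : m = x' • x + (m - x' • x) := by abel
            rw [e1]
            exact AddSubgroup.add_mem_sup h1 h2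
      fadd := fun x y z => map_add _ _ _
      fadd' := fun x y z => by rw [map_add]; rfl
      fnd := q.nd
      fA := fun a ha x x' => by
        obtain ⟨k, rfl⟩ := (mem_AA b.toBT y).1 ha
        exact q.H0_isom c (q.al_H0 b.toBT c y k) x x'
      fH := fun h' x x' hx => by rw [q.act, hx, map_zero, mul_zero]
      fP := by
        rintro x hx _ ⟨γ, rfl⟩
        rw [h.fe, show ω x = 0 from hx, zero_mul]
      fPP := by
        intro x hx
        refine ⟨f x m0, ?_⟩
        rw [eq_comm, ← sub_eq_zero]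
        apply q.nd
        intro z
        rw [map_sub, LinearMap.sub_apply, h.symm (e _) z, h.fe]
        have h1 : f x (z - ω z • m0) = 0 := hx _ (by
          change ω (z - ω z • m0) = 0
          rw [map_sub, map_smul, hm0, smul_eq_mul, mul_one, sub_self])
        rw [map_sub, map_smul, smul_eq_mul] at h1
        exact h1
      fDD := fun x hx z hz => h.fDD x hx z hz
      span := fun L hL => q.toMZ.gen (fun h' a ha => hL h' a ((q.mem_e c).2 ha))
      faithful := by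
        intro a ha hfix
        obtain ⟨k, rfl⟩ := (mem_AA b.toBT y).1 ha
        rw [q.al_faithful b c τ y hF hodd hfix, al_zero]
      AZ := by
        obtain ⟨z, hz, hzD⟩ := hZ
        obtain ⟨k, hk, hk0⟩ := exists_AZ b.toBT c y hz hzD
        refine ⟨al b.toBT y k, al_mem _ _ _, ?_, ?_⟩
        · intro h1
          apply hk0
          apply q.al_faithful b c τ y hF hodd
          intro x
          rw [h1, one_smul]
        · intro d hd
          rw [← sub_eq_zero, show al b.toBT y k • d - d = _ from h.AΛ k ⟨d, hd⟩, h.Λ0 _ k hk, map_zero] }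

/-- `|T|` is odd -/
theorem odd_TT (b : BT V R) (τ : TorD V R i j v t) : Odd (Nat.card (TT τ)) := by
  have h1 := card_T b τ
  have h3 : Fintype F := Fintype.ofFinite F
  have h2 : Even (Nat.card F) := by
    rw [Nat.card_eq_fintype_card]
    exact Nat.even_iff.2 (FiniteField.even_card_of_char_two (ringChar.eq F 2))
  rcases Nat.even_or_odd (Nat.card (TT τ)) with h | h
  · exfalso
    rw [← h1] at h2
    exact (Nat.not_even_iff_odd.2 h.add_one) h2
  · exact h

section cor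

variable [Finite G] (q : Fq V R i v M p f e ω σ κ) (b : BTS V R) (c : Coord V R i j v w1 w2)
    (τ : TorD V R i j v t) (y : YPair V R i j w1 w2 N P1 P2) (hF : ∃ a : F, a ≠ 0 ∧ a ≠ 1)
    (hodd : Odd ((normalizer (V : Set G)).relIndex (normalizer (R i : Set G))))
    (hZ : ∃ z ∈ ZZ V R j, z ∉ DD V R) {E : Subgroup (HQ (R i))} [hE : E.Normal] (hA : AA V R i j ≤ E)
    (hgen : ∀ K : Subgroup (HQ (R i)), AA V R i j ≤ K → (∀ g ∈ E, ∀ k ∈ K, g * k * g⁻¹ ∈ K) → E ≤ K)
include q b c τ y hF hodd hZ hA hgen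

/-- `C_M(E) = 0` -/
theorem fix_E {m : M} (hm : ∀ g ∈ E, g • m = m) : m = 0 :=
  (q.dat b c τ y hF hodd hZ hA hgen).fix_E hm

/-- `e ≤ L` for every `E T`-invariant subgroup `L ≠ 0` -/
theorem e_le {L : AddSubgroup M} (hLE : ∀ g ∈ E, ∀ x ∈ L, g • x ∈ L) (hLT : ∀ g ∈ TT τ, ∀ x ∈ L, g • x ∈ L)
    (hL : L ≠ ⊥) (γ : F) : e γ ∈ L :=
  (q.dat b c τ y hF hodd hZ hA hgen).e_le hLE hLT hL ⟨γ, rfl⟩

/-- **`M = ⟨e^E⟩`** -/
theorem span_E {L : AddSubgroup M} (h : ∀ g ∈ E, ∀ γ, g • e γ ∈ L) : L = ⊤ := by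
  have := q.toMZ.finite_M
  have h1 := (q.dat b c τ y hF hodd hZ hA hgen).M1_eq_top (odd_TT b.toBT τ) (q.toMZ.two b.toBT)
  rw [eq_top_iff, ← h1]
  refine (AddSubgroup.closure_le _).2 ?_
  rintro _ ⟨g, hg, _, ⟨γ, rfl⟩, rfl⟩
  exact h g hg γ

/-- **`M` is an irreducible `E T`-module** -/
theorem irred {L : AddSubgroup M} (hLE : ∀ g ∈ E, ∀ x ∈ L, g • x ∈ L) (hLT : ∀ g ∈ TT τ, ∀ x ∈ L, g • x ∈ L)
    (hL : L ≠ ⊥) : L = ⊤ := by
  have := q.toMZ.finite_M
  exact (q.dat b c τ y hF hodd hZ hA hgen).eq_top (odd_TT b.toBT τ) (q.toMZ.two b.toBT) hLE hLT hL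

end cor

/-- **`Z(W j) D < U j`**: `N₀ ≠ N` -/
theorem N0_ne_top [Finite G] (q : Fq V R i v M p f e ω σ κ) (b : BTS V R) (c : Coord V R i j v w1 w2)
    (τ : TorD V R i j v t) (y : YPair V R i j w1 w2 N P1 P2) (hF : ∃ a : F, a ≠ 0 ∧ a ≠ 1)
    (hodd : Odd ((normalizer (V : Set G)).relIndex (normalizer (R i : Set G))))
    (hZ : ∃ z ∈ ZZ V R j, z ∉ DD V R) : N0 b.toBT c y ≠ ⊤ := by
  intro htop
  obtain ⟨π, Λ, h, -, -⟩ := q.exists_pre b c τ y hF
  obtain ⟨m0, hm0⟩ := h.ω1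
  -- `P = e`
  have hP : ∀ x, ω x = 0 → ∃ γ, x = e γ := by
    intro x hx
    have h1 : π ⟨x, hx⟩ = 0 := by
      obtain ⟨n, hn⟩ := (N0 b.toBT c y).mkQ_surjective (π ⟨x, hx⟩)
      rw [← hn, Submodule.mkQ_apply, Submodule.Quotient.mk_eq_zero, htop]
      trivial
    have h2 := (h.πk _).1 h1
    refine h.Λe ⟨x, h2⟩ ?_
    ext k
    exact h.Λ0 _ k (by rw [htop]; trivial)
  choose β hβ using fun k => hP _ (h.Aω k m0)
  have hT : ∀ a : Fˣ, ∃ γ, q.TL c τ a m0 = (a : F) ^ 2 • m0 + e γ := by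
    intro a
    obtain ⟨γ, hγ⟩ := hP (q.TL c τ a m0 - (a : F) ^ 2 • m0) (by
      rw [map_sub, map_smul, h.Tω, hm0, smul_eq_mul, sub_self])
    exact ⟨γ, by rw [← hγ]; abel⟩
  have hβT : ∀ (a : Fˣ) k, β ((a : F) • k) = (a : F) ^ 3 * β k := by
    intro a k
    obtain ⟨γ, hγ⟩ := hT a⁻¹
    have h1 := h.AT a⁻¹ k m0
    rw [hβ k, h.Te, hγ, map_add, map_smul, h.Ae, add_zero, ← LinearMap.map_smul e] at h1
    simp only [Units.val_inv_eq_inv_val, inv_inv] at h1
    rw [hβ, ← LinearMap.map_smul e] at h1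
    have h2 := h.e_inj _ (show e ((a : F) • β k - ((a : F)⁻¹ ^ 2) • β ((a : F) • k)) = 0 by
      rw [map_sub, h1, sub_self])
    rw [smul_eq_mul, smul_eq_mul, sub_eq_zero] at h2
    have h3 := a.ne_zero
    field_simp at h2
    linear_combination -h2
  have hβa : ∀ k k', β (k + k') = β k + β k' := by
    intro k k'
    have h1 := h.Aadd k k' m0
    rw [hβ, hβ, hβ, h.Ae, add_zero, ← map_add] at h1
    have h2 := h.e_inj _ (show e (β (k + k') - (β k + β k')) = 0 by rw [map_sub, h1, sub_self])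
    exact sub_eq_zero.1 h2
  obtain ⟨a, ha, ha1⟩ := hF
  have hβ0 : ∀ k, β k = 0 := by
    intro k
    have ha2 : (1 : F) + a ≠ 0 := by
      intro h'
      apply ha1
      linear_combination h' - h.two
    have h1 := hβa k (a • k)
    have h2 := hβT (Units.mk0 a ha) k
    have h3 := hβT (Units.mk0 (1 + a) ha2) k
    rw [Units.val_mk0] at h2 h3
    rw [add_smul, one_smul, h1, h2] at h3
    have h4 : a * (1 + a) * β k = 0 := by
      linear_combination (-1 : F) * h3 - (a + a ^ 2) * β k * h.two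
    rcases mul_eq_zero.1 h4 with h5 | h5
    · exact absurd h5 (mul_ne_zero ha ha2)
    · exact h5
  obtain ⟨z, hz, hzD⟩ := hZ
  obtain ⟨k, -, hk0⟩ := exists_AZ b.toBT c y hz hzD
  apply hk0
  apply q.al_faithful b c τ y ⟨a, ha, ha1⟩ hodd
  intro x
  obtain ⟨γ, hγ⟩ := hP (x - ω x • m0) (by rw [map_sub, map_smul, hm0, smul_eq_mul, mul_one, sub_self])
  have e1 : x = ω x • m0 + e γ := by rw [← hγ]; abel
  rw [← sub_eq_zero]
  change q.AL b.toBT c y k x = 0
  rw [e1, map_add, map_smul, h.Ae, hβ, hβ0, map_zero, smul_zero, add_zero]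

end Fq

end Cfsg.Agent.Omega.HOne.ModZ
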