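import Cfsg.Agent.Omega.HOne.CutT
import Cfsg.Agent.Omega.HOneQ.NormV
import Cfsg.Agent.Omega.HOneQ.ExcDead
import Cfsg.Agent.Omega.HOneQ.SitRS4

/-!
# The split chain over a 2-group `T`: `FrT`, `NVT`, `RsT` from the K-side data `KD`

* `KDT` : the K-side data of `E = ⟨A^H⟩` over `SitT`;
* `frT : KDT → FrT`, `nvT : KDT → NVT`, `rsT : KSideX → KDT → RsT`.
-/

set_option autoImplicit false
set_option linter.unusedSectionVars false

namespace Cfsg.Agent.Omega.HOne.TLift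

open Subgroup Cfsg Cfsg.Agent.ZN Cfsg.Agent.Omega.MinPar Cfsg.Agent.Omega.Frame
open Cfsg.Agent.Omega.NatPair (NatMod)
open Cfsg.Agent.Omega.BTwo Cfsg.Agent.Omega.Lie Cfsg.Agent.Omega.Lie.Quot Cfsg.Agent.Omega.Lie.End
open Cfsg.Agent.Omega.IIa4 (Lay)
open Cfsg.Agent.Omega.HOneQ.SylIOf (TSyl)
open Cfsg.Agent.Omega.HOneQ.ECen (SylI)
open Cfsg.Agent.Omega.HOneQ
open Cfsg.Agent.Omega.HOneQ.Fr (KD)

universe u

/-- **The K-side data** (helper951, helper466) -/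
def KDT : Prop :=
  ∀ (G : Type u) [Group G] [Finite G] (T : Subgroup G) (F : Type) [Field F] [Finite F] [CharP F 2] (N : Subgroup G)
    (M : NatMod F N), SitT T M → LayS N (pt M) F →
      ∀ (i j : Pt M) (v : F → F → G) (w1 w2 t : F → G), Coord N (pt M) i j v w1 w2 →
        ∀ (τ : TorD N (pt M) i j v t) (S : Subgroup (HQ (pt M i))), SylI τ S →
          ∃ (HE : Subgroup (HQ (pt M i))) (w : HQ (pt M i)),
            KD (ECen.EE N (pt M) i j) (S ⊓ ECen.EE N (pt M) i j) HE (AA N (pt M) i j) (TT τ) w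

/-- **`FrT`** -/
theorem frT (hk : KDT.{u}) : FrT.{u} := by
  intro G _ _ T F _ _ _ N M h hl i j hij x hx
  obtain ⟨v, w1, w2, c⟩ := h.exists_coord hij
  obtain ⟨t, τ⟩ := h.exists_torD c
  obtain ⟨T₁, hT₁⟩ := h.exists_T i
  have I := h.sylI c τ hT₁
  have l := hl i j v w1 w2 t c τ _ I
  obtain ⟨HE, w, k⟩ := hk G T F N M h hl i j v w1 w2 t c τ _ I
  obtain ⟨e, he, h1⟩ := Fr.frattini h.bts h.exists_ne c τ (h.odd i) (h.exists_ZZ' hij) I l.innC l.odd k hx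
  exact ⟨e, he, h1⟩

/-- **`NVT`** -/
theorem nvT (hk : KDT.{u}) : NVT.{u} := by
  intro G _ _ T F _ _ _ N M h hl _ i j hij x hx hA
  obtain ⟨v, w1, w2, c⟩ := h.exists_coord hij
  obtain ⟨t, τ⟩ := h.exists_torD c
  obtain ⟨T₁, hT₁⟩ := h.exists_T i
  have I := h.sylI c τ hT₁
  have l := hl i j v w1 w2 t c τ _ I
  obtain ⟨HE, w, k⟩ := hk G T F N M h hl i j v w1 w2 t c τ _ I
  exact NormV.normV h.bts h.exists_ne c τ (h.odd i) I l.innC l.odd k (h.exists_ZZ' hij) hx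
    fun a ha => BTwo.conj_mem_of_normalizer hA ha

/-- **`RsT`** -/
theorem rsT (hks : KSideX.{u}) (hk : KDT.{u}) : RsT.{u} := by
  intro G _ _ T F _ _ _ N M h hl hfr i j v w1 w2 t c τ hT
  have I := h.sylI c τ hT
  have l := hl i j v w1 w2 t c τ _ I
  obtain ⟨HE, w, k⟩ := hk G T F N M h hl i j v w1 w2 t c τ _ I
  have hUD : ¬ UU N (pt M) j ≤ DD N (pt M) := by
    obtain ⟨z, hz, h'⟩ := h.exists_ZZ' (i := i) (k := j) c.ne
    exact fun hle => h' (hle (zU_le j hz))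
  have hd := NormV.hd h.bts h.exists_ne c τ (h.odd i) I l.innC l.odd k hUD
  have hexc := ExcDead.not_kExc_lay h.bts (h.odd i) c τ
    (fun _ hg h' => ExcDead.nv_of_normE h.bt c τ h.exists_ne (h.odd i) hd hg h') I l
  obtain ⟨n, K, J, P, m, h1, h2, h3, h4⟩ := SitRS4.exists_rsx hks h.bt τ c.ne h.four (h.exists_ZZ' c.ne)
    (hfr i j c.ne) l hexc
  exact ⟨n, K, J, P, m, h1, h2, h3, fun a => (h4 a).2⟩

end Cfsg.Agent.Omega.HOne.TLift
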