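import Cfsg.Agent.Omega.NatPair.Mod

/-!
# Quadratic offenders acting semilinearly on `F²`, abstract form

`A` acts on `F²` by additive semilinear maps, quadratically and not trivially, `|F² : Fix| ≤ |A : K|` (`K` the
kernel, `Fix` the fixed vectors): then `A` induces exactly the transvections with axis a line `F w`, and
`Fix = F w`, `|A : K| = |F|`.
-/

set_option autoImplicit false

namespace Cfsg.Agent.Omega.HOne.QuadAbs

open Subgroup Cfsg.Agent.Lib.SL2Mat Cfsg.Agent.Omega.NatPair

variable {A : Type*} [Group A] {F : Type*} [Field F]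

/-- An action of `A` on `F²` by additive semilinear maps. -/
structure Act (act : A → (Fin 2 → F) → (Fin 2 → F)) : Prop where
  mul : ∀ a b x, act (a * b) x = act a (act b x)
  one : ∀ x, act 1 x = x
  add : ∀ a x y, act a (x + y) = act a x + act a y
  semi : ∀ a, ∃ s : F ≃+* F, ∀ (c : F) x, act a (c • x) = s c • act a x

namespace Act

variable {act : A → (Fin 2 → F) → (Fin 2 → F)} (h : Act act)
include h

theorem inv_act (a : A) (x : Fin 2 → F) : act a⁻¹ (act a x) = x := by
  rw [← h.mul, inv_mul_cancel, h.one]

theorem act_inv (a : A) (x : Fin 2 → F) : act a (act a⁻¹ x) = x := by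
  rw [← h.mul, mul_inv_cancel, h.one]

theorem zero (a : A) : act a 0 = 0 := by
  have := h.add a 0 0
  rw [add_zero] at this
  exact left_eq_add.1 this

theorem sub (a : A) (x y : Fin 2 → F) : act a (x - y) = act a x - act a y := by
  have := h.add a (x - y) y
  rw [sub_add_cancel] at this
  rw [this, add_sub_cancel_right]

theorem ne_zero {a : A} {x : Fin 2 → F} (hx : x ≠ 0) : act a x ≠ 0 := by
  intro h0
  apply hx
  rw [← h.inv_act a x, h0, h.zero]

/-- the kernel -/
def ker (h : Act act) : Subgroup A where
  carrier := {a | ∀ x, act a x = x}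
  mul_mem' := by
    intro a b ha hb x
    rw [h.mul, hb, ha]
  one_mem' := h.one
  inv_mem' := by
    intro a ha x
    nth_rewrite 1 [← ha x]
    exact h.inv_act a x

theorem mem_ker {a : A} : a ∈ h.ker ↔ ∀ x, act a x = x := Iff.rfl

/-- the field automorphism of `a` -/
noncomputable def sg (h : Act act) (a : A) : F ≃+* F := (h.semi a).choose

theorem sg_spec (a : A) (c : F) (x : Fin 2 → F) : act a (c • x) = h.sg a c • act a x :=
  (h.semi a).choose_spec c x

theorem sg_eq {a : A} {s : F ≃+* F} (hs : ∀ (c : F) x, act a (c • x) = s c • act a x) : h.sg a = s := by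
  ext c
  have hw : (![1, 0] : Fin 2 → F) ≠ 0 := by
    intro h
    have := congrFun h 0
    simp at this
  have h1 := h.sg_spec a c ![1, 0]
  rw [hs] at h1
  exact (smul_left_injective F (h.ne_zero (a := a) hw) h1).symm

/-- the homomorphism `A → Aut F` -/
noncomputable def sgHom (h : Act act) : A →* RingAut F where
  toFun := h.sg
  map_one' := by
    apply h.sg_eq
    intro c x
    show act 1 (c • x) = c • act 1 x
    rw [h.one, h.one]
  map_mul' a b := by
    apply h.sg_eq
    intro c x
    show act (a * b) (c • x) = h.sg a (h.sg b c) • act (a * b) x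
    rw [h.mul, h.mul, h.sg_spec, h.sg_spec]

/-- an element with nontrivial field automorphism fixes at most `q` vectors -/
theorem card_fix_le [Finite F] {a : A} {s : F ≃+* F}
    (hs : ∀ (c : F) x, act a (c • x) = s c • act a x) {c : F} (hc : s c ≠ c) {X : Set (Fin 2 → F)}
    (hX : ∀ x ∈ X, act a x = x) : Nat.card X ≤ Nat.card F := by
  have hinj : Function.Injective (fun p : X × X => (p.1.1 + c • p.2.1 : Fin 2 → F)) := by
    rintro ⟨⟨x, hx⟩, ⟨y, hy⟩⟩ ⟨⟨x', hx'⟩, ⟨y', hy'⟩⟩ he
    have h1 : x + c • y = x' + c • y' := he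
    have h2 := congrArg (act a) h1
    rw [h.add, h.add, hs, hs, hX x hx, hX y hy, hX x' hx', hX y' hy'] at h2
    have h3 : (s c - c) • (y - y') = 0 := by
      have e1 : x = x' + c • y' - c • y := by rw [← h1]; abel
      rw [e1] at h2
      have e2 : c • y' - c • y + s c • y = s c • y' := by
        have : x' + (c • y' - c • y + s c • y) = x' + s c • y' := by rw [← h2]; abel
        exact add_left_cancel this
      rw [sub_smul, smul_sub, smul_sub]
      have e3 : s c • y - c • y = s c • y' - c • y' := by
        rw [← e2]; abel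
      have e4 : s c • y - s c • y' - (c • y - c • y') = (s c • y - c • y) - (s c • y' - c • y') := by abel
      rw [e4, e3, sub_self]
    rcases smul_eq_zero.1 h3 with h4 | h4
    · exact absurd (sub_eq_zero.1 h4) hc
    · have h5 : y = y' := sub_eq_zero.1 h4
      subst h5
      have h6 : x = x' := add_right_cancel h1
      subst h6
      rfl
  have h1 := Nat.card_le_card_of_injective _ hinj
  rw [Nat.card_prod] at h1
  have h2 : Nat.card (Fin 2 → F) = Nat.card F * Nat.card F := by simp [Nat.card_fun, pow_two]
  rw [h2] at h1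
  by_contra hcon
  push Not at hcon
  have := Nat.mul_lt_mul_of_lt_of_le hcon hcon.le (lt_of_le_of_lt (Nat.zero_le _) hcon)
  omega

end Act

/-- The conclusion: `A` induces exactly the transvections with axis `F w`. -/
structure Quad (act : A → (Fin 2 → F) → (Fin 2 → F)) (K : Subgroup A) (w : Fin 2 → F) : Prop where
  ne : w ≠ 0
  lin : ∀ a, ∃ B, ap B w = w ∧ ∀ x, act a x = ap B x
  full : ∀ B, ap B w = w → ∃ a, ∀ x, act a x = ap B x
  fix : ∀ x, (∀ a, act a x = x) ↔ ∃ c : F, x = c • w
  comm : ∀ a x, ∃ c : F, act a x - x = c • w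
  comm' : ∀ c : F, ∃ a x, act a x - x = c • w
  index : K.index = Nat.card F
  reg : ∀ a, a ∉ K → ∀ x, act a x = x → ∃ c : F, x = c • w

/-- **quadratic offenders on `F²`** -/
theorem quad [Finite A] [Finite F] [CharP F 2] {act : A → (Fin 2 → F) → (Fin 2 → F)} (h : Act act)
    (hne : ∃ a x, act a x ≠ x) (hq : ∀ a b x, act b (act a x - x) = act a x - x)
    (hoff : Nat.card F ^ 2 ≤ h.ker.index * Nat.card {x : Fin 2 → F // ∀ a, act a x = x}) :
    ∃ w, Quad act h.ker w := by
  have hcardpos : 0 < Nat.card F := Nat.card_pos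
  by_cases hlin : ∃ a, (∃ x, act a x ≠ x) ∧ ∀ (c : F) x, act a (c • x) = c • act a x
  · obtain ⟨a, ⟨y, hy⟩, hal⟩ := hlin
    set w := act a y - y with hw
    have hw0 : w ≠ 0 := fun h => hy (sub_eq_zero.1 h)
    have hline : ∀ (c : F), ∀ b, act b (c • w) = c • w := by
      intro c b
      have h1 := hq a b (c • y)
      rwa [hal, ← smul_sub, ← hw] at h1
    have hfix1 : ∀ b, act b w = w := by
      intro b
      have := hline 1 b
      rwa [one_smul] at this
    have hbl : ∀ b, ∀ (c : F) x, act b (c • x) = c • act b x := by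
      intro b c x
      obtain ⟨s, hs⟩ := h.semi b
      have h1 : ∀ d : F, s d = d := by
        intro d
        have h2 := hline d b
        rw [hs, hfix1 b] at h2
        exact smul_left_injective F hw0 h2
      rw [hs, h1]
    have hfixa : ∀ x, act a x = x → ∃ c : F, x = c • w := by
      intro x hx
      by_contra hcon
      have h1 : dt w x ≠ 0 := fun h => hcon (exists_smul_of_dt hw0 h)
      exact hy (fix_all h1 (act a) (h.add a) hal (hfix1 a) hx y)
    have hcoord0 : ∀ b z, ∃ c : F, act b z - z = c • w := fun b z => hfixa (act b z - z) (hq b a z)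
    have hlin : ∀ b, ∃ B, ap B w = w ∧ ∀ x, act b x = ap B x := by
      intro b
      obtain ⟨B, hB⟩ := exists_of_fix hw0 (act b) (h.add b) (hbl b) (hfix1 b) (hcoord0 b)
      exact ⟨B, by rw [← hB, hfix1 b], hB⟩
    -- the fixed points
    have hfix : ∀ x, (∀ b, act b x = x) ↔ ∃ c : F, x = c • w := by
      intro x
      constructor
      · intro h
        exact hfixa x (h a)
      · rintro ⟨c, rfl⟩ b
        exact hline c b
    have hfc : Nat.card {x : Fin 2 → F // ∀ b, act b x = x} = Nat.card F := by
      refine (Nat.card_congr (Equiv.ofBijective (fun c : F => (⟨c • w, (hfix _).2 ⟨c, rfl⟩⟩ :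
        {x : Fin 2 → F // ∀ b, act b x = x})) ⟨?_, ?_⟩)).symm
      · intro c d hcd
        exact smul_left_injective F hw0 (congrArg Subtype.val hcd)
      · rintro ⟨x, hx⟩
        obtain ⟨c, rfl⟩ := (hfix x).1 hx
        exact ⟨c, rfl⟩
    -- the transvections
    choose τ hτ1 hτ2 using hlin
    obtain ⟨D, hD⟩ := exists_ap_e hw0
    let y₀ : Fin 2 → F := ap D ![0, 1]
    have hy₀ : dt w y₀ ≠ 0 := by
      have h1 := det_eq D
      rw [← hD]
      show dt (ap D ![1, 0]) (ap D ![0, 1]) ≠ 0
      unfold dt
      rw [ap_zero', ap_zero', ap_one', ap_one']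
      simp only [Matrix.cons_val_zero, Matrix.cons_val_one, mul_one, mul_zero, add_zero, zero_add]
      intro h2
      rw [show ent D 0 0 * ent D 1 1 - ent D 1 0 * ent D 0 1 = ent D 0 0 * ent D 1 1 - ent D 0 1 * ent D 1 0 by ring,
        h1] at h2
      exact one_ne_zero h2
    have hmove : ∀ B, ap B w = w → ∃ c : F, ap B y₀ - y₀ = c • w := by
      intro B hB
      have h1 : dt w (ap B y₀ - y₀) = 0 := by
        have h2 : dt (ap B w) (ap B y₀) = dt w y₀ := by
          unfold dt
          rw [ap_zero', ap_zero', ap_one', ap_one']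
          linear_combination (w 0 * y₀ 1 - w 1 * y₀ 0) * det_eq B
        rw [hB] at h2
        unfold dt at h2 ⊢
        rw [Pi.sub_apply, Pi.sub_apply]
        linear_combination h2
      exact exists_smul_of_dt hw0 h1
    have hdet : ∀ B B', ap B w = w → ap B' w = w → ap B y₀ = ap B' y₀ → B = B' := by
      intro B B' h1 h2 h3
      apply ap_inj
      intro x
      obtain ⟨α, β, rfl⟩ := exists_comb hy₀ x
      rw [ap_add, ap_add, ap_smul, ap_smul, ap_smul, ap_smul, h1, h2, h3]
    have hcv : ∀ b, b ∈ h.ker ↔ act b y₀ = y₀ := by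
      intro b
      rw [h.mem_ker]
      constructor
      · intro h
        exact h _
      · intro h0 x
        exact fix_all hy₀ (act b) (h.add b) (hbl b) (hfix1 b) h0 x
    -- the map `A → F`
    have hcoord : ∀ b, ∃ c : F, act b y₀ - y₀ = c • w := fun b => hcoord0 b y₀
    choose κ hκ using hcoord
    have hKiff : ∀ b b' : A, (QuotientGroup.mk b : A ⧸ h.ker) = QuotientGroup.mk b' ↔ κ b = κ b' := by
      intro b b'
      rw [QuotientGroup.eq, hcv, h.mul]
      have h2 : act b⁻¹ (act b' y₀) = y₀ ↔ act b' y₀ = act b y₀ := by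
        constructor
        · intro h0
          have := h.act_inv b (act b' y₀)
          rw [h0] at this
          exact this.symm
        · intro h0
          rw [h0, h.inv_act]
      rw [h2]
      constructor
      · intro h0
        have e1 := hκ b
        rw [← h0, hκ b'] at e1
        exact (smul_left_injective F hw0 e1).symm
      · intro h0
        have e1 := hκ b
        rw [h0, ← hκ b'] at e1
        exact (sub_left_injective e1).symm
    let κ' : A ⧸ h.ker → F := fun q => κ q.out
    have hκ' : ∀ b : A, κ' (QuotientGroup.mk b) = κ b := by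
      intro b
      exact (hKiff _ _).1 (QuotientGroup.out_eq' _)
    have hκinj : Function.Injective κ' := by
      intro q q' h0
      have h1 := (hKiff q.out q'.out).2 h0
      rwa [QuotientGroup.out_eq', QuotientGroup.out_eq'] at h1
    have hcle : h.ker.index ≤ Nat.card F := Nat.card_le_card_of_injective _ hκinj
    have hceq : h.ker.index = Nat.card F := by
      rw [hfc, pow_two] at hoff
      exact le_antisymm hcle (Nat.le_of_mul_le_mul_right hoff hcardpos)
    have hκbij : Function.Bijective κ' := by
      have : Nat.card (A ⧸ h.ker) = Nat.card F := hceq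
      exact (Nat.bijective_iff_injective_and_card _).2 ⟨hκinj, this⟩
    have hsurj : ∀ c : F, ∃ b, act b y₀ - y₀ = c • w := by
      intro c
      obtain ⟨q, hq'⟩ := hκbij.2 c
      refine ⟨q.out, ?_⟩
      rw [← hq', hκ]
    refine ⟨w, hw0, fun b => ⟨τ b, hτ1 b, hτ2 b⟩, ?_, hfix, hcoord0, ?_, hceq, ?_⟩
    · intro B hB
      obtain ⟨c, hc⟩ := hmove B hB
      obtain ⟨b, hb'⟩ := hsurj c
      refine ⟨b, ?_⟩
      have h1 : τ b = B := by
        apply hdet _ _ (hτ1 b) hB
        rw [← hτ2 b]
        have h2 : act b y₀ - y₀ = ap B y₀ - y₀ := by rw [hb', hc]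
        exact sub_left_injective h2
      rw [← h1]
      exact hτ2 b
    · intro c
      obtain ⟨b, hb'⟩ := hsurj c
      exact ⟨b, y₀, hb'⟩
    · intro b hb x hx
      by_contra hcon
      have h1 : dt w x ≠ 0 := fun h => hcon (exists_smul_of_dt hw0 h)
      exact hb (h.mem_ker.2 (fix_all h1 (act b) (h.add b) (hbl b) (hfix1 b) hx))
  · -- no nontrivial linear element
    exfalso
    push Not at hlin
    obtain ⟨a, x, hax⟩ := hne
    have hfield : ∀ b, ∀ s : F ≃+* F, (∀ (c : F) x, act b (c • x) = s c • act b x) → (∃ x, act b x ≠ x) →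
        ∃ c : F, s c ≠ c := by
      intro b s hs hbx
      by_contra hcon
      push Not at hcon
      obtain ⟨c, x, hcx⟩ := hlin b hbx
      apply hcx
      rw [hs, hcon]
    obtain ⟨s, hs⟩ := h.semi a
    obtain ⟨c, hc⟩ := hfield a s hs ⟨x, hax⟩
    have h2 : Nat.card {x : Fin 2 → F // ∀ a, act a x = x} ≤ Nat.card F := by
      refine h.card_fix_le hs hc (X := {x | ∀ a, act a x = x}) ?_
      intro x hx
      exact hx a
    have h3 : Nat.card F ≤ h.ker.index := by
      by_contra hcon
      push Not at hcon
      have : h.ker.index * Nat.card {x : Fin 2 → F // ∀ a, act a x = x} < Nat.card F * Nat.card F := by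
        calc _ ≤ h.ker.index * Nat.card F := Nat.mul_le_mul_left _ h2
          _ < _ := Nat.mul_lt_mul_of_pos_right hcon hcardpos
      rw [← pow_two] at this
      omega
    have hker : h.sgHom.ker ≤ h.ker := by
      intro b hb
      rw [h.mem_ker]
      intro x
      by_contra hcon
      have hb1 : h.sg b = 1 := hb
      obtain ⟨c, hc⟩ := hfield b (h.sg b) (fun c x => h.sg_spec b c x) ⟨x, hcon⟩
      apply hc
      rw [hb1]; rfl
    have h4 : h.ker.index ≤ Nat.card (F ≃+* F) := by
      have h5 : h.ker.index ∣ h.sgHom.ker.index := Subgroup.index_dvd_of_le hker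
      have h6 : h.sgHom.ker.index ≤ Nat.card (RingAut F) := by
        rw [Subgroup.index_ker]
        have : Finite (RingAut F) := Finite.of_injective (fun e : F ≃+* F => (e : F → F)) DFunLike.coe_injective
        exact Nat.card_le_card_of_injective _ (Subtype.val_injective (p := fun x => x ∈ h.sgHom.range))
      have h7 : 0 < h.sgHom.ker.index := Nat.pos_of_ne_zero Subgroup.index_ne_zero_of_finite
      exact (Nat.le_of_dvd h7 h5).trans h6
    have h5 := card_ringAut_lt F
    omega

end Cfsg.Agent.Omega.HOne.QuadAbs
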