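import Cfsg.Agent.Omega.HOne.Split

/-!
# The split case (h1), `q ≥ 4`: `C(W i) = Z(W i) C(X)`, `C(W i)` and `C(X)` abelian (#11929 (4), (5), (6))
-/

set_option autoImplicit false
set_option linter.style.haveILetI false

namespace Cfsg.Agent.Omega.HOne

open Subgroup Cfsg.Agent.Omega.BTwo
open scoped commutatorElement

variable {G : Type*} [Group G] {ι : Type*}

/-- **(4), abstract form** (= `RadAbs.cent_le` without the hypothesis on `E ∩ C`) -/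
theorem fix_of [Finite G] {p : ℕ} (hp : p.Prime) (hp2 : p ≠ 2) {W U V D E C : Subgroup G} {τ : G} {k : ℕ}
    (hC : ∀ c, c ∈ C ↔ ∀ w ∈ W, c * w = w * c) (hC2 : IsPGroup 2 C)
    (hUW : U ≤ W) (hVD : V ≤ D) (hDW : D ≤ W) (hDE : D ≤ E)
    (hEV : ∀ e ∈ E, ∀ v ∈ V, e * v = v * e) (hEW : ∀ e ∈ E, ∀ w ∈ W, e * w * e⁻¹ ∈ W)
    (hτ : τ ^ p ^ k = 1) (hτW : ∀ w ∈ W, τ * w * τ⁻¹ ∈ W)
    (hτE : ∀ e ∈ E, τ * e * τ⁻¹ * e⁻¹ ∈ V) (hfpf : ∀ u ∈ U, τ * u * τ⁻¹ * u⁻¹ ∈ D → u ∈ D)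
    (hy : ∀ c ∈ C, ∃ y ∈ U, c * y ∈ E) : ∀ c ∈ C, ∃ m ∈ C ⊓ W, c * m ∈ E := by
  have hτC : ∀ c ∈ C, τ * c * τ⁻¹ ∈ C := by
    intro c hc
    rw [hC] at hc ⊢
    intro w hw
    have hmap : (W.map (MulAut.conj τ).toMonoidHom) = W := by
      refine eq_of_le_of_card_ge ?_
        (Nat.card_congr (W.equivMapOfInjective _ (MulAut.conj τ).injective).toEquiv.symm).ge
      rintro _ ⟨m, hm, rfl⟩
      exact hτW m hm
    rw [← hmap] at hw
    obtain ⟨w', hw', rfl⟩ := hw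
    change τ * c * τ⁻¹ * (τ * w' * τ⁻¹) = τ * w' * τ⁻¹ * (τ * c * τ⁻¹)
    calc τ * c * τ⁻¹ * (τ * w' * τ⁻¹) = τ * (c * w') * τ⁻¹ := by group
      _ = τ * (w' * c) * τ⁻¹ := by rw [hc w' hw']
      _ = _ := by group
  have hcomp : ∀ c ∈ C, ∀ y ∈ U, c * y ∈ E →
      ∃ v ∈ V, τ * c * τ⁻¹ * c⁻¹ = v * ((c * y) * (τ * y⁻¹ * τ⁻¹ * y⁻¹⁻¹) * (c * y)⁻¹) := by
    intro c hc y hy hE
    refine ⟨_, hτE _ hE, ?_⟩
    group
  have h1 : ∀ c ∈ C, τ * c * τ⁻¹ * c⁻¹ ∈ C ⊓ W := by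
    intro c hc
    obtain ⟨y, hyU, hyE⟩ := hy c hc
    obtain ⟨v, hv, e⟩ := hcomp c hc y hyU hyE
    refine ⟨C.mul_mem (hτC c hc) (C.inv_mem hc), ?_⟩
    rw [e]
    refine mul_mem (hDW (hVD hv)) (hEW _ hyE _ ?_)
    exact W.mul_mem (hτW _ (W.inv_mem (hUW hyU))) (W.inv_mem (W.inv_mem (hUW hyU)))
  intro c hc
  have h2 : c⁻¹ * τ * c * τ⁻¹ ∈ C ⊓ W := by
    have e2 : c⁻¹ * τ * c * τ⁻¹ = c⁻¹ * (τ * c * τ⁻¹ * c⁻¹) * c := by group
    rw [e2]
    have h4 := h1 c hc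
    refine ⟨C.mul_mem (C.mul_mem (C.inv_mem hc) h4.1) hc, ?_⟩
    have h5 := (hC c).1 hc _ h4.2
    have e3 : c⁻¹ * (τ * c * τ⁻¹ * c⁻¹) * c = τ * c * τ⁻¹ * c⁻¹ := by
      rw [mul_assoc, ← h5]; group
    rw [e3]; exact h4.2
  have hτM : ∀ m ∈ C ⊓ W, τ * m * τ⁻¹ ∈ C ⊓ W := fun m hm => ⟨hτC m hm.1, hτW m hm.2⟩
  have hy' : (c⁻¹ * τ * c) ^ p ^ k = 1 := by
    have e : c⁻¹ * τ * c = c⁻¹ * τ * c⁻¹⁻¹ := by rw [inv_inv]
    rw [e, conj_pow, hτ]; group
  obtain ⟨m, hm, hmτ⟩ := RadAbs.conj_of_same_coset hp hp2 (hC2.to_le inf_le_left) hτ hτM hy' h2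
  have hcm : τ * (c * m) * τ⁻¹ * (c * m)⁻¹ = 1 := by
    have e1 : m * τ = c⁻¹ * τ * c * m := by rw [← hmτ]; group
    have e2 : (c * m) * τ = τ * (c * m) := by
      calc (c * m) * τ = c * (m * τ) := by group
        _ = c * (c⁻¹ * τ * c * m) := by rw [e1]
        _ = _ := by group
    rw [← e2]; group
  have hcmC : c * m ∈ C := mul_mem hc hm.1
  obtain ⟨y, hyU, hyE⟩ := hy _ hcmC
  obtain ⟨v, hv, e⟩ := hcomp _ hcmC y hyU hyE
  rw [hcm] at e
  have h6 : τ * y⁻¹ * τ⁻¹ * y⁻¹⁻¹ ∈ D := by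
    have h7 : τ * y⁻¹ * τ⁻¹ * y⁻¹⁻¹ = (c * m * y)⁻¹ * v⁻¹ * (c * m * y) := by
      have h8 : (c * m * y) * (τ * y⁻¹ * τ⁻¹ * y⁻¹⁻¹) * (c * m * y)⁻¹ = v⁻¹ := by
        rw [eq_inv_iff_mul_eq_one]
        have := congrArg (fun w => v⁻¹ * w * v) e
        simp only [mul_one, inv_mul_cancel] at this
        rw [this]; group
      rw [← h8]; group
    have h9 := hEV _ hyE _ (inv_mem hv)
    rw [h7, mul_assoc, ← h9]
    have e4 : (c * m * y)⁻¹ * (c * m * y * v⁻¹) = v⁻¹ := by group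
    rw [e4]
    exact hVD (inv_mem hv)
  have hyD : y ∈ D := by
    have := hfpf y⁻¹ (inv_mem hyU) h6
    simpa using inv_mem this
  refine ⟨m, hm, ?_⟩
  have e5 : c * m = (c * m * y) * y⁻¹ := by group
  rw [e5]
  exact mul_mem hyE (inv_mem (hDE hyD))

/-- `Z i = Z(W i)` -/
def ZZ (V : Subgroup G) (R : ι → Subgroup G) (i : ι) : Subgroup G :=
  WW V (R i) ⊓ centralizer (WW V (R i) : Set G)

section

variable {V : Subgroup G} {R : ι → Subgroup G}

theorem ZZ_le_W (i : ι) : ZZ V R i ≤ WW V (R i) := inf_le_left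

theorem ZZ_le_C (i : ι) : ZZ V R i ≤ centralizer (WW V (R i) : Set G) := inf_le_right

theorem ZZ_le_U (i : ι) : ZZ V R i ≤ UU V R i := inf_le_inf_left _ (cen_W_le V (R i))

/-- `Z i` is central in `C(W i)` -/
theorem ZZ_comm {i : ι} {z c : G} (hz : z ∈ ZZ V R i) (hc : c ∈ centralizer (WW V (R i) : Set G)) :
    z * c = c * z := mem_centralizer_iff.1 hc z hz.1

variable (b : BT V R)
include b

theorem R_le_ZZ (i : ι) : R i ≤ ZZ V R i :=
  le_inf ((b.R_le i).trans (V_le_WW V (R i))) (b.R_cen_W i)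

/-- `Z i ∩ D = R i C_D(X)` -/
theorem ZZ_inf_D {i : ι} {z : G} (hz : z ∈ ZZ V R i) (hd : z ∈ DD V R) :
    ∃ a ∈ R i, a * z ∈ DD V R ⊓ centralizer (XX V R : Set G) := cen_DW b hd hz.2

/-- `[Z i, Z j] ≤ C_D(X)` -/
theorem ZZ_comm_ZZ {i j : ι} (hij : i ≠ j) {z z' : G} (hz : z ∈ ZZ V R i) (hz' : z' ∈ ZZ V R j) :
    z * z' * z⁻¹ * z'⁻¹ ∈ DD V R ⊓ centralizer (XX V R : Set G) := by
  have h1 := cen_W_U b hij hz.2 (ZZ_le_U j hz')
  have h2 := cen_W_U b (Ne.symm hij) hz'.2 (ZZ_le_U i hz)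
  refine mem_inf.2 ⟨h1.1, b.mem_cen_X hij h1.2 ?_⟩
  have e : z * z' * z⁻¹ * z'⁻¹ = (z' * z * z'⁻¹ * z⁻¹)⁻¹ := by group
  rw [e]
  exact inv_mem h2.2

end

section

variable {V : Subgroup G} {R : ι → Subgroup G} (b : BTS V R)
include b

/-- `Z i ∩ C(X) ≤ D` -/
theorem BTS.W_inf_CX [Finite G] {i : ι} {z : G} (hz : z ∈ WW V (R i))
    (hX : z ∈ centralizer (XX V R : Set G)) : z ∈ DD V R := by
  rw [← b.toBT.C_inf_W i]
  exact mem_inf.2 ⟨b.cen_X_le_C hX, hz⟩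

/-- **(4)** `C(W i) = Z(W i) C(X)`: an element of `X ∩ N(R i)` of order a power of an odd prime,
fixed-point-free on `U i / D` -/
theorem BTS.cen_W_fact [Finite G] {p : ℕ} (hp : p.Prime) (hp2 : p ≠ 2) {i : ι} {τ : G} {k : ℕ}
    (hτX : τ ∈ XX V R) (hτR : τ ∈ normalizer (R i : Set G)) (hτ : τ ^ p ^ k = 1)
    (hfpf : ∀ u ∈ UU V R i, τ * u * τ⁻¹ * u⁻¹ ∈ DD V R → u ∈ DD V R)
    {c : G} (hc : c ∈ centralizer (WW V (R i) : Set G)) :
    ∃ z ∈ ZZ V R i, z * c ∈ centralizer (XX V R : Set G) := by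
  have bb := b.toBT
  obtain ⟨m, hm, hE⟩ := fix_of hp hp2 (W := WW V (R i)) (U := UU V R i) (V := V) (D := DD V R) (E := CC R)
    (C := centralizer (WW V (R i) : Set G)) (τ := τ) (k := k)
    (fun c => by
      rw [mem_centralizer_iff]
      exact ⟨fun h w hw => (h w hw).symm, fun h w hw => (h w hw).symm⟩)
    (b.cen_W_isPGroup i) (UU_le_WW i) (V_le_D V R) (D_le_W V R i) bb.D_le_C
    (fun e he v hv => (mem_centralizer_iff.1 (bb.C_le_cen he) v hv).symm)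
    (fun e he w hw => conj_mem_of_normalizer (normalizer_le_WW V (R i) (bb.Q_le i (mem_iInf.1 he i))) hw)
    hτ (fun w hw => conj_mem_of_normalizer (normalizer_le_WW V (R i) hτR) hw)
    (fun e he => bb.CX hτX he) hfpf
    (fun c hc => bb.exists_eps (b.cen_W_le_Q i hc) (cen_W_le V (R i) hc)) c hc
  obtain ⟨a, ha, h⟩ := cen_CW bb hE (mul_mem hc hm.1)
  have hmZ : m ∈ ZZ V R i := mem_inf.2 ⟨hm.2, hm.1⟩
  refine ⟨a * m, mul_mem (R_le_ZZ bb i ha) hmZ, ?_⟩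
  rwa [mul_assoc, ZZ_comm hmZ hc]

/-- **(5)** `C(X)` is abelian -/
theorem BTS.commutator_eq_bot [Finite G] {i : ι}
    (hf : ∀ c ∈ centralizer (WW V (R i) : Set G), ∃ z ∈ ZZ V R i, z * c ∈ centralizer (XX V R : Set G)) :
    ⁅centralizer (XX V R : Set G), centralizer (XX V R : Set G)⁆ = ⊥ := by
  have bb := b.toBT
  set CX := centralizer (XX V R : Set G) with hCX
  set CW := centralizer (WW V (R i) : Set G) with hCW
  have hle : CX ≤ CW := cen_X_le i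
  have heq : ⁅CX, CX⁆ = ⁅CW, CW⁆ := by
    apply le_antisymm (commutator_mono hle hle)
    rw [commutator_le]
    intro c hc c' hc'
    obtain ⟨z, hz, hx⟩ := hf c hc
    obtain ⟨z', hz', hx'⟩ := hf c' hc'
    have k1 := ZZ_comm hz hc
    have k2 := ZZ_comm hz hc'
    have k3 := ZZ_comm hz' hc
    have k4 := ZZ_comm hz' hc'
    have k5 := ZZ_comm hz (ZZ_le_C i hz')
    have e : ⁅c, c'⁆ = ⁅z * c, z' * c'⁆ := by
      have a1 : Commute z c := k1
      have a2 : Commute z c' := k2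
      have a3 : Commute z' c := k3
      have a4 : Commute z' c' := k4
      have a5 : Commute z z' := k5
      rw [commutatorElement_def, commutatorElement_def, mul_inv_rev, mul_inv_rev]
      have b1 : z * c * (z' * c') = c * c' * (z' * z) := by
        calc z * c * (z' * c') = z * (c * z') * c' := by group
          _ = z * (z' * c) * c' := by rw [a3.eq]
          _ = (z * z') * (c * c') := by group
          _ = (c * c') * (z * z') := ((a1.mul_right a2).mul_left (a3.mul_right a4)).eq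
          _ = c * c' * (z' * z) := by rw [a5.eq]
      calc c * c' * c⁻¹ * c'⁻¹ = (c * c') * (z' * z) * (z' * z)⁻¹ * (c⁻¹ * c'⁻¹) := by group
        _ = (z * c * (z' * c')) * ((z' * z)⁻¹ * c⁻¹ * c'⁻¹) := by rw [b1]; group
        _ = (z * c * (z' * c')) * (c⁻¹ * z⁻¹ * (c'⁻¹ * z'⁻¹)) := by
            congr 1
            have d1 : Commute z⁻¹ c⁻¹ := a1.inv_left.inv_right
            have d3 : Commute z'⁻¹ c⁻¹ := a3.inv_left.inv_right
            have d2 : Commute z⁻¹ c'⁻¹ := a2.inv_left.inv_right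
            have d4 : Commute z'⁻¹ c'⁻¹ := a4.inv_left.inv_right
            calc (z' * z)⁻¹ * c⁻¹ * c'⁻¹ = z⁻¹ * (z'⁻¹ * c⁻¹) * c'⁻¹ := by group
              _ = z⁻¹ * (c⁻¹ * z'⁻¹) * c'⁻¹ := by rw [d3.eq]
              _ = (z⁻¹ * c⁻¹) * (z'⁻¹ * c'⁻¹) := by group
              _ = (c⁻¹ * z⁻¹) * (c'⁻¹ * z'⁻¹) := by rw [d1.eq, d4.eq]
              _ = _ := by group
        _ = _ := by group
    rw [e]
    exact commutator_mem_commutator hx hx'
  have hV : normalizer (V : Set G) ≤ normalizer (⁅CX, CX⁆ : Subgroup G) := by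
    intro g hg
    have h1 := cj_eq_self_iff.2 (NV_le_NCX bb hg)
    rw [← cj_eq_self_iff, cj, map_commutator]
    change ⁅cj g CX, cj g CX⁆ = _
    rw [h1]
  have hR : normalizer (R i : Set G) ≤ normalizer (⁅CX, CX⁆ : Subgroup G) := by
    rw [heq]
    intro g hg
    have h1 := cj_eq_self_iff.2 (NR_le_NCW bb i hg)
    rw [← cj_eq_self_iff, cj, map_commutator]
    change ⁅cj g CW, cj g CW⁆ = _
    rw [h1]
  have hle2 : ⁅CX, CX⁆ ≤ CX := commutator_le.2 fun x hx y hy => by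
    rw [commutatorElement_def]
    exact mul_mem (mul_mem (mul_mem hx hy) (inv_mem hx)) (inv_mem hy)
  have hleV : CX ≤ centralizer (V : Set G) := hle.trans (cen_W_le V (R i))
  exact b.nonloc i _ (b.cen_X_isPGroup.to_le hle2) (hle2.trans (hleV.trans (cen_le_NV V)))
    (hle2.trans (hleV.trans (bb.cen_le_N i))) hV hR

/-- **(5)** `C(X)` is abelian -/
theorem BTS.cen_X_comm [Finite G] {i : ι}
    (hf : ∀ c ∈ centralizer (WW V (R i) : Set G), ∃ z ∈ ZZ V R i, z * c ∈ centralizer (XX V R : Set G))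
    {x y : G} (hx : x ∈ centralizer (XX V R : Set G)) (hy : y ∈ centralizer (XX V R : Set G)) :
    x * y = y * x := by
  have h := commutator_mem_commutator hx hy
  rw [b.commutator_eq_bot hf, mem_bot] at h
  exact commutatorElement_eq_one_iff_mul_comm.1 h

/-- **(5)** `C(W i)` is abelian -/
theorem BTS.cen_W_comm [Finite G] {i : ι}
    (hf : ∀ c ∈ centralizer (WW V (R i) : Set G), ∃ z ∈ ZZ V R i, z * c ∈ centralizer (XX V R : Set G))
    {x y : G} (hx : x ∈ centralizer (WW V (R i) : Set G)) (hy : y ∈ centralizer (WW V (R i) : Set G)) :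
    x * y = y * x := by
  obtain ⟨z, hz, h1⟩ := hf x hx
  obtain ⟨z', hz', h2⟩ := hf y hy
  have h3 := b.cen_X_comm hf h1 h2
  have a1 : Commute z x := ZZ_comm hz hx
  have a2 : Commute z y := ZZ_comm hz hy
  have a3 : Commute z' x := ZZ_comm hz' hx
  have a4 : Commute z' y := ZZ_comm hz' hy
  have a5 : Commute z z' := ZZ_comm hz (ZZ_le_C i hz')
  have e1 : z * x * (z' * y) = (z * z') * (x * y) := by
    calc z * x * (z' * y) = z * (x * z') * y := by group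
      _ = z * (z' * x) * y := by rw [a3.eq]
      _ = _ := by group
  have e2 : z' * y * (z * x) = (z * z') * (y * x) := by
    calc z' * y * (z * x) = z' * (y * z) * x := by group
      _ = z' * (z * y) * x := by rw [a2.eq]
      _ = (z' * z) * (y * x) := by group
      _ = _ := by rw [a5.eq]
  rw [e1, e2] at h3
  exact mul_left_cancel h3

end

end Cfsg.Agent.Omega.HOne
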