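import Cfsg.Agent.Omega.BTwo.Rad

/-!
# The split case `C_V(E) ≠ 1` (h1): local structure with `C_D(X) ≠ 1` (#11929 (1) - (6)), K-free

`V` is the natural module `[V, E]`, `X = ⟨W i⟩`, `C(X)` may be nontrivial.
-/

set_option autoImplicit false

namespace Cfsg.Agent.Omega.HOne

open Subgroup Cfsg.Agent.Omega.BTwo

variable {G : Type*} [Group G] {ι : Type*}

/-- `b = 2` without `C_V(E) = 1`: no 2-subgroup `≠ 1` is normalised by `N(V)` and `N(R i)`;
`C(Q i) ≤ Q i`. -/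
structure BTS (V : Subgroup G) (R : ι → Subgroup G) : Prop extends BT V R where
  nonloc : ∀ i, ∀ T : Subgroup G, IsPGroup 2 T → T ≤ normalizer (V : Set G) → T ≤ normalizer (R i : Set G) →
    normalizer (V : Set G) ≤ normalizer (T : Set G) →
    normalizer (R i : Set G) ≤ normalizer (T : Set G) → T = ⊥
  cenQ : ∀ i, normalizer (R i : Set G) ⊓ centralizer (QQ (R i) : Set G) ≤ QQ (R i)

section

variable {V : Subgroup G} {R : ι → Subgroup G} (b : BT V R)
include b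

/-- the swap argument: `c ∈ C(W i)`, `[c, X] ≤ V` ==> `c ∈ R i C(X)` -/
theorem swapX {i : ι} {c : G} (hc : c ∈ centralizer (WW V (R i) : Set G))
    (hX : ∀ x ∈ XX V R, x * c * x⁻¹ * c⁻¹ ∈ V) : ∃ a ∈ R i, a * c ∈ centralizer (XX V R : Set G) := by
  obtain ⟨j, hj, -⟩ := b.third i i
  have hij : i ≠ j := Ne.symm hj
  obtain ⟨n, hn, e1, -⟩ := b.trans_X hij (Ne.symm hij)
  obtain ⟨a, ha, a', ha', e⟩ := b.exists_mul hij (hX n hn)
  have h1 : n * c * n⁻¹ ∈ centralizer (WW V (R j) : Set G) := by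
    rw [← b.cj_WW e1, centralizer_cj]
    exact conj_mem_cj hc
  have h2 : a * c ∈ centralizer (WW V (R i) : Set G) := mul_mem (b.R_cen_W i ha) hc
  have h3 : a * c ∈ centralizer (WW V (R j) : Set G) := by
    have h4 : a * c = a'⁻¹ * (n * c * n⁻¹) := by
      have h5 := b.V_comm a (b.R_le i ha) a' (b.R_le j ha')
      calc a * c = a'⁻¹ * (a' * a) * c := by group
        _ = a'⁻¹ * (n * c * n⁻¹ * c⁻¹) * c := by rw [← h5, ← e]
        _ = a'⁻¹ * (n * c * n⁻¹) := by group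
    rw [h4]
    exact mul_mem (inv_mem (b.R_cen_W j ha')) h1
  exact ⟨a, ha, b.mem_cen_X hij h2 h3⟩

/-- **(1)** `C_D(W i) = R i C_D(X)` -/
theorem cen_DW {i : ι} {d : G} (hd : d ∈ DD V R) (h : d ∈ centralizer (WW V (R i) : Set G)) :
    ∃ a ∈ R i, a * d ∈ DD V R ⊓ centralizer (XX V R : Set G) := by
  obtain ⟨a, ha, h1⟩ := swapX b h fun x hx => b.XD hx hd
  exact ⟨a, ha, mem_inf.2 ⟨mul_mem (V_le_D V R (b.R_le i ha)) hd, h1⟩⟩

/-- `[C(W i), U j] ≤ D ∩ C(W i)` -/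
theorem cen_W_U {i j : ι} (hij : i ≠ j) {c u : G} (hc : c ∈ centralizer (WW V (R i) : Set G))
    (hu : u ∈ UU V R j) :
    c * u * c⁻¹ * u⁻¹ ∈ DD V R ∧ c * u * c⁻¹ * u⁻¹ ∈ centralizer (WW V (R i) : Set G) := by
  have hcV := cen_W_le V (R i) hc
  have huV := UU_le_cen j hu
  have hc2 := conj_mem_of_normalizer (normalizer_le_normalizer_centralizer _ (b.cen_le_NW i huV)) (inv_mem hc)
  have e : c * u * c⁻¹ * u⁻¹ = c * (u * c⁻¹ * u⁻¹) := by group
  have h1 : c * u * c⁻¹ * u⁻¹ ∈ centralizer (WW V (R i) : Set G) := by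
    rw [e]
    exact mul_mem hc hc2
  have h2 : c * u * c⁻¹ * u⁻¹ ∈ UU V R j :=
    mul_mem (conj_mem_of_normalizer (b.cen_le_NU j hcV) hu) (inv_mem hu)
  refine ⟨?_, h1⟩
  rw [← b.UK hij]
  exact mem_inf.2 ⟨h2, b.cen_W_le_K i h1⟩

/-- **(2)** `[C(W i), U j] ≤ R i C_D(X)` -/
theorem cen_W_U' {i j : ι} (hij : i ≠ j) {c u : G} (hc : c ∈ centralizer (WW V (R i) : Set G))
    (hu : u ∈ UU V R j) :
    ∃ a ∈ R i, a * (c * u * c⁻¹ * u⁻¹) ∈ DD V R ⊓ centralizer (XX V R : Set G) :=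
  cen_DW b (cen_W_U b hij hc hu).1 (cen_W_U b hij hc hu).2

/-- odd order elements of `C(W i)` centralise `W j` -/
theorem odd_cen {i j : ι} (hij : i ≠ j) {c : G} (hc : c ∈ centralizer (WW V (R i) : Set G))
    (ho : Odd (orderOf c)) : c ∈ centralizer (WW V (R j) : Set G) := by
  have h1 : ∀ u ∈ UU V R j, c * u = u * c := by
    intro u hu
    have h := D_le_W V R i (cen_W_U b hij hc hu).1
    exact comm_of_odd ho (b.W_isPGroup i) h (mem_centralizer_iff.1 hc _ h).symm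
  rw [mem_centralizer_iff]
  intro w hw
  have h := b.cen_W_W hc hw
  exact (comm_of_odd ho (b.U_isPGroup j) h (h1 _ h)).symm

theorem LL_eq (i j : ι) : LL V R i = LL V R j := by
  have key : ∀ i j : ι, i ≠ j → LL V R i ≤ LL V R j := fun i j hij =>
    closure_mono fun c hc => ⟨odd_cen b hij hc.1 hc.2, hc.2⟩
  by_cases h : i = j
  · rw [h]
  · exact le_antisymm (key i j h) (key j i (Ne.symm h))

theorem cj_LL {g : G} {i j : ι} (h : cj g (R i) = R j) : cj g (LL V R i) = LL V R j := by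
  have key : ∀ (g : G) (i j : ι), cj g (R i) = R j → cj g (LL V R i) ≤ LL V R j := by
    intro g i j h
    rw [cj, map_le_iff_le_comap, LL, closure_le]
    rintro c ⟨hc, ho⟩
    refine subset_closure ⟨?_, ?_⟩
    · rw [← b.cj_WW h, centralizer_cj]
      exact conj_mem_cj hc
    · exact ((orderOf_injective (MulAut.conj g).toMonoidHom (MulAut.conj g).injective c).symm ▸ ho :)
  apply le_antisymm (key g i j h)
  have h' : cj g⁻¹ (R j) = R i := by rw [← h, cj_inv_cj]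
  have h3 := cj_mono (g := g) (key g⁻¹ j i h')
  rwa [cj_cj_inv] at h3

/-- `N(V)` normalises `C(X)` -/
theorem NV_le_NCX : normalizer (V : Set G) ≤ normalizer (centralizer (XX V R : Set G) : Set G) :=
  b.NV_le_NX.trans (normalizer_le_normalizer_centralizer _)

theorem NR_le_NCW (i : ι) :
    normalizer (R i : Set G) ≤ normalizer (centralizer (WW V (R i) : Set G) : Set G) := by
  have _ := b
  exact (normalizer_le_WW V (R i)).trans (normalizer_le_normalizer_centralizer _)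

end

section BTS

variable {V : Subgroup G} {R : ι → Subgroup G} (b : BTS V R)
include b

/-- **(2)** `C(W i)` is a 2-group -/
theorem BTS.cen_W_isPGroup [Finite G] (i : ι) : IsPGroup 2 (centralizer (WW V (R i) : Set G)) := by
  have bb := b.toBT
  have hLV : LL V R i ≤ centralizer (V : Set G) := (LL_le i).trans (cen_W_le V (R i))
  have hLN : LL V R i ≤ normalizer (R i : Set G) := hLV.trans (bb.cen_le_N i)
  have h1 : normalizer (V : Set G) ≤ normalizer (LL V R i : Set G) := by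
    intro g hg
    obtain ⟨j, hj⟩ := bb.perm g hg i
    rw [← cj_eq_self_iff, cj_LL bb hj, LL_eq bb]
  have h2 : normalizer (R i : Set G) ≤ normalizer (LL V R i : Set G) := by
    intro g hg
    rw [← cj_eq_self_iff, cj_LL bb (cj_eq_self_iff.2 hg)]
  have h3 : normalizer (LL V R i : Set G) ≤ normalizer (O2 (LL V R i) : Set G) := by
    intro g hg
    rw [← cj_eq_self_iff] at hg ⊢
    rw [cj_O2, hg]
  have h4 : O2 (LL V R i) = ⊥ := b.nonloc i _ (O2_isPGroup _) ((O2_le _).trans (hLV.trans (cen_le_NV V)))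
    ((O2_le _).trans hLN) (h1.trans h3) (h2.trans h3)
  have hQ := le_normalizer_O2 (normalizer (R i : Set G))
  have h5 : LL V R i ≤ centralizer (QQ (R i) : Set G) := by
    intro l hl
    rw [mem_centralizer_iff]
    intro q hq
    have k1 : q * l * q⁻¹ * l⁻¹ ∈ LL V R i :=
      mul_mem (conj_mem_of_normalizer (h2 (bb.Q_le i hq)) hl) (inv_mem hl)
    have k2 : q * l * q⁻¹ * l⁻¹ ∈ QQ (R i) := by
      have e : q * l * q⁻¹ * l⁻¹ = q * (l * q⁻¹ * l⁻¹) := by group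
      rw [e]
      exact mul_mem hq (conj_mem_of_normalizer (hQ (hLN hl)) (inv_mem hq))
    have k3 : LL V R i ⊓ QQ (R i) ≤ O2 (LL V R i) := by
      refine le_O2_of_normal inf_le_left ((O2_isPGroup _).to_le inf_le_right) ?_
      intro g hg a ha
      exact mem_inf.2 ⟨mul_mem (mul_mem hg ha.1) (inv_mem hg), conj_mem_of_normalizer (hQ (hLN hg)) ha.2⟩
    have k4 : q * l * q⁻¹ * l⁻¹ ∈ O2 (LL V R i) := k3 (mem_inf.2 ⟨k1, k2⟩)
    rw [h4, mem_bot, mul_inv_eq_one, mul_inv_eq_iff_eq_mul] at k4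
    exact k4
  have h6 : LL V R i ≤ QQ (R i) := fun l hl => b.cenQ i (mem_inf.2 ⟨hLN hl, h5 hl⟩)
  refine isPGroup_of_odd fun c hc ho => ?_
  have h7 : c ∈ QQ (R i) := h6 (subset_closure ⟨hc, ho⟩)
  obtain ⟨n, hn⟩ := O2_isPGroup _ (⟨c, h7⟩ : QQ (R i))
  have hn' : c ^ 2 ^ n = 1 := congrArg Subtype.val hn
  have hd := Nat.dvd_gcd (dvd_refl (orderOf c)) (orderOf_dvd_of_pow_eq_one hn')
  have hco : Nat.gcd (orderOf c) (2 ^ n) = 1 := (Nat.coprime_two_right.2 ho).pow_right n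
  rw [hco, Nat.dvd_one, orderOf_eq_one_iff] at hd
  exact hd

/-- **(2)** `K i` is a 2-group, `= Q i` -/
theorem BTS.K_eq [Finite G] (i : ι) : KK V R i = QQ (R i) := by
  have bb := b.toBT
  apply le_antisymm _ (bb.Q_le_K i)
  refine le_O2_of_normal (KK_le_N i) ?_ fun g hg c hc => conj_mem_of_normalizer (bb.N_le_NK i hg) hc
  refine isPGroup_of_odd fun c hc ho => ?_
  have h1 : c ∈ centralizer (WW V (R i) : Set G) := by
    rw [mem_centralizer_iff]
    intro w hw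
    have h := hc.2 w hw
    have h2 := bb.KR i hc h
    rw [mul_inv_eq_iff_eq_mul] at h2
    exact (comm_of_odd ho ((bb.W_isPGroup i).to_le ((bb.R_le i).trans (V_le_WW V (R i)))) h h2).symm
  obtain ⟨n, hn⟩ := b.cen_W_isPGroup i ⟨c, h1⟩
  have hn' : c ^ 2 ^ n = 1 := congrArg Subtype.val hn
  have hd := Nat.dvd_gcd (dvd_refl (orderOf c)) (orderOf_dvd_of_pow_eq_one hn')
  have hco : Nat.gcd (orderOf c) (2 ^ n) = 1 := (Nat.coprime_two_right.2 ho).pow_right n
  rw [hco, Nat.dvd_one, orderOf_eq_one_iff] at hd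
  exact hd

theorem BTS.cen_W_le_Q [Finite G] (i : ι) : centralizer (WW V (R i) : Set G) ≤ QQ (R i) := by
  rw [← b.K_eq i]
  exact b.toBT.cen_W_le_K i

/-- `C(X) ≤ Q_1 ∩ Q_2` -/
theorem BTS.cen_X_le_C [Finite G] : centralizer (XX V R : Set G) ≤ CC R :=
  le_iInf fun i => (cen_X_le i).trans (b.cen_W_le_Q i)

theorem BTS.cen_X_isPGroup [Finite G] : IsPGroup 2 (centralizer (XX V R : Set G)) := by
  obtain ⟨i⟩ := b.toBT.nonempty
  exact (b.cen_W_isPGroup i).to_le (cen_X_le i)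

omit b in
/-- **(3)** `x² ∈ C(X)` for `x ∈ Q_1 ∩ Q_2` -/
theorem C_sq (bb : BT V R) {x : G} (hx : x ∈ CC R) : x * x ∈ centralizer (XX V R : Set G) := by
  obtain ⟨i, j, hij⟩ := bb.exists_pair
  have key : ∀ k, x * x ∈ centralizer (WW V (R k) : Set G) := by
    intro k
    rw [mem_centralizer_iff]
    intro w hw
    have hxk : x ∈ QQ (R k) := (mem_iInf.1 hx) k
    have h1 := bb.WQ k hxk hw
    have h2 := bb.conj_R hxk h1
    have e : x * x * w * (x * x)⁻¹ * w⁻¹ =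
        x * (x * w * x⁻¹ * w⁻¹) * x⁻¹ * (x * w * x⁻¹ * w⁻¹) := by group
    rw [h2, bb.V_sq _ (bb.R_le k h1), mul_inv_eq_one, mul_inv_eq_iff_eq_mul] at e
    exact e.symm
  exact bb.mem_cen_X hij (key i) (key j)

omit b in
/-- `[Q_1 ∩ Q_2, D] = 1` -/
theorem CD_comm (bb : BT V R) {x d : G} (hx : x ∈ CC R) (hd : d ∈ DD V R) : x * d = d * x := by
  have h : x * d * x⁻¹ * d⁻¹ = 1 :=
    bb.eq_one_of_forall fun k => bb.WQ k (mem_iInf.1 hx k) (mem_DD.1 hd k)
  rwa [mul_inv_eq_one, mul_inv_eq_iff_eq_mul] at h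

omit b in
/-- **(3)** `C_{Q_1 ∩ Q_2}(W i) = R i C(X)` -/
theorem cen_CW (bb : BT V R) {i : ι} {x : G} (hx : x ∈ CC R)
    (h : x ∈ centralizer (WW V (R i) : Set G)) : ∃ a ∈ R i, a * x ∈ centralizer (XX V R : Set G) :=
  swapX bb h fun _ hy => bb.CX hy hx

omit b in
/-- **(3)** `C_{Q_1 ∩ Q_2}(U i) = V C(X)` -/
theorem cen_CU (bb : BT V R) {i : ι} {x : G} (hx : x ∈ CC R) (hU : ∀ u ∈ UU V R i, x * u = u * x) :
    ∃ v ∈ V, v * x ∈ centralizer (XX V R : Set G) := by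
  obtain ⟨v, hv, hc⟩ := bb.cen_U (mem_iInf.1 hx i) hU
  obtain ⟨a, ha, h1⟩ := cen_CW bb (mul_mem (inv_mem (bb.V_le_C hv)) hx) hc
  exact ⟨a * v⁻¹, mul_mem (bb.R_le i ha) (inv_mem hv), by rwa [mul_assoc]⟩

omit b in
/-- `λ` is injective modulo `V C(X)` -/
theorem lam_inj (bb : BT V R) {x : G} (hx : x ∈ CC R) (h : ∀ y ∈ YY V R, x * y = y * x) :
    ∃ v ∈ V, v * x ∈ centralizer (XX V R : Set G) := by
  obtain ⟨i⟩ := bb.nonempty
  exact cen_CU bb hx fun u hu => h u (UU_le_YY i hu)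

end BTS

end Cfsg.Agent.Omega.HOne
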