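import Cfsg.Agent.Omega.HOne.Main
import Cfsg.Agent.Omega.HOne.PairP
import Cfsg.Agent.Omega.Mix.RelPair
import Cfsg.Agent.Omega.NoFF.LinesPlug
import Cfsg.Agent.Omega.FFMutual

/-!
# One natural factor, split: `V_P = [V_P, O²(P)] × C_{V_P}(O²(P))`

`M : NatOver F P V D`, `V = V_P`, `D = C_V(O²(P))`, `N = [V, O²(P)] = vx S P`.

* `vx_surj` : `N` covers `V / D`;
* split (`N ∩ D = 1`): `V = N D`, `D ≤ Z(S)` and `P` centralises `D`;
* `rmod` : `N` is a natural module relative to `P C_G(N)` (`Mix.RMod`);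
* `ker_oddGen` : an element of `O²(P)` which centralises `V / D` centralises `V`;
  `splitPar_of_two` : if `|F| = 2` then `N ∩ D = 1`.
-/

set_option autoImplicit false
set_option linter.unusedSectionVars false

namespace Cfsg.Agent.Omega.HOne

open Subgroup Cfsg Cfsg.Agent.ZN Cfsg.Agent.ZN.ChoiceSit Cfsg.Agent.Omega.MinPar
open Cfsg.Agent.Omega.FrameFF Cfsg.Agent.Lib.SL2Mat Cfsg.Agent.Omega.NatPair
open Cfsg.Agent.Omega.SQ1.FFOne (NatSec)
open Cfsg.Agent.MinSimple.VModule (oddGen oddGen_le mem_oddGen zl_comm zl_sq le_normalizer_zl le_normalizer_oddGen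
  mem_zc)
open Cfsg.Agent.MinSimple.MinParabolic (IsMinPar)
open Cfsg.Agent.MinSimple
open Cfsg.Agent.ZN.CaseTwo (syl_of_sylow)
open Cfsg.Agent.Omega.HOne.Main (vx SplitPar)
open Cfsg.Agent.Omega.Mix (RMod)
open Cfsg.Agent.Omega.NoFF.LinesPlug (oddGen_sup)
open scoped commutatorElement

universe u

variable {G : Type u} [Group G]

/-! ### An element of order three -/

/-- an element of order three of `SL₂(F)`, `char F = 2` -/
def three (F : Type*) [Field F] [CharP F 2] : Matrix.SpecialLinearGroup (Fin 2) F :=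
  mk 0 1 1 1 (by
    have : (1 : F) + 1 = 0 := CharTwo.add_self_eq_zero 1
    linear_combination -this)

theorem three_pow {F : Type*} [Field F] [CharP F 2] (a : ℕ) :
    (three F) ^ 2 ^ a = three F ∨ (three F) ^ 2 ^ a = three F * three F := by
  have h2 : (1 : F) + 1 = 0 := CharTwo.add_self_eq_zero 1
  have h3 : three F * three F * three F * three F = three F := by
    refine ext_ent ?_ ?_ ?_ ?_ <;> (simp only [ent_mul]; simp only [three, mk_00, mk_01, mk_10, mk_11])
    · linear_combination h2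
    · linear_combination h2
    · linear_combination h2
    · linear_combination 2 * h2
  induction a with
  | zero => left; rw [pow_zero, pow_one]
  | succ n ih =>
    rw [pow_succ, pow_mul, pow_two]
    rcases ih with h | h
    · right; rw [h]
    · left; rw [h, ← mul_assoc, h3]

/-- `x ↦ A x - x` is onto for `A = t^(2^a)`, `t` of order three -/
theorem exists_ap_three_sub {F : Type*} [Field F] [CharP F 2] (a : ℕ) (x : Fin 2 → F) :
    ∃ y, ap ((three F) ^ 2 ^ a) y - y = x := by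
  rcases three_pow (F := F) a with h | h
  · refine ⟨![x 1, x 0 + x 1], ?_⟩
    rw [h]
    refine ext2 ?_ ?_
    · simp [ap, three]
    · simp [ap, three]
  · refine ⟨![x 0 + x 1, x 0], ?_⟩
    have h2 : (1 : F) + 1 = 0 := CharTwo.add_self_eq_zero 1
    have h2' : (2 : F) = 0 := by rw [← one_add_one_eq_two]; exact h2
    rw [h, ap_mul]
    refine ext2 ?_ ?_
    · simp [ap, three]
    · simp [ap, three]
      linear_combination (x 0) * h2'

/-! ### Conjugation and commutators -/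

theorem vx_le (S P : Subgroup G) : vx S P ≤ zl S P := by
  unfold vx
  rw [commutator_le]
  intro v hv g hg
  rw [commutatorElement_def]
  have h1 : g * v⁻¹ * g⁻¹ ∈ zl S P := conj_mem_zl (oddGen_le P hg) (inv_mem hv)
  have e : v * g * v⁻¹ * g⁻¹ = v * (g * v⁻¹ * g⁻¹) := by group
  rw [e]
  exact mul_mem hv h1

theorem comm_mem_vx {S P : Subgroup G} {v g : G} (hv : v ∈ zl S P) (hg : g ∈ oddGen P) :
    g * v * g⁻¹ * v⁻¹ ∈ vx S P := by
  have h := inv_mem (commutator_mem_commutator hv hg)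
  rw [commutatorElement_def] at h
  have e : (v * g * v⁻¹ * g⁻¹)⁻¹ = g * v * g⁻¹ * v⁻¹ := by group
  rwa [e] at h

theorem le_normalizer_vx (S P : Subgroup G) : P ≤ normalizer (vx S P : Set G) := by
  have key : ∀ g ∈ P, ∀ x ∈ vx S P, g * x * g⁻¹ ∈ vx S P := by
    intro g hg
    have h1 : vx S P ≤ (vx S P).comap (MulAut.conj g).toMonoidHom := by
      conv_lhs => unfold vx
      rw [commutator_le]
      intro v hv k hk
      rw [mem_comap]
      change g * ⁅v, k⁆ * g⁻¹ ∈ vx S P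
      have h2 := commutator_mem_commutator (conj_mem_zl hg hv)
        ((mem_normalizer_iff.1 (le_normalizer_oddGen P hg) k).1 hk)
      rw [commutatorElement_def] at h2 ⊢
      have e : g * (v * k * v⁻¹ * k⁻¹) * g⁻¹ =
        g * v * g⁻¹ * (g * k * g⁻¹) * (g * v * g⁻¹)⁻¹ * (g * k * g⁻¹)⁻¹ := by group
      rw [e]
      exact h2
    exact fun x hx => h1 hx
  intro g hg
  rw [mem_normalizer_iff]
  intro x
  refine ⟨key g hg x, fun h => ?_⟩
  have h1 := key g⁻¹ (inv_mem hg) _ h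
  have e : g⁻¹ * (g * x * g⁻¹) * g⁻¹⁻¹ = x := by group
  rwa [e] at h1

theorem conj_mem_vx {S P : Subgroup G} {h v : G} (hh : h ∈ P) (hv : v ∈ vx S P) : h * v * h⁻¹ ∈ vx S P :=
  (mem_normalizer_iff.1 (le_normalizer_vx S P hh) v).1 hv

/-! ### One parabolic -/

section one

variable [Finite G] {F : Type} [Field F] [CharP F 2]

/-- an element of odd order of `P` which acts on `V / D` without fixed points -/
theorem exists_odd {P V D : Subgroup G} (N : NatSec F P V D) : ∃ g ∈ P, Odd (orderOf g) ∧ ∃ a : ℕ,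
    N.Ind g ((three F) ^ 2 ^ a) := by
  obtain ⟨g₀, hg₀, h0⟩ := N.lift (three F)
  obtain ⟨a, m, hm, ha⟩ := Nat.exists_eq_pow_mul_and_not_dvd (orderOf_pos g₀).ne' 2 (by norm_num)
  have hm0 : 0 < m := Nat.pos_of_ne_zero (by rintro rfl; simp at hm)
  refine ⟨g₀ ^ 2 ^ a, pow_mem hg₀ _, ?_, a, ?_⟩
  · have h2 : orderOf (g₀ ^ 2 ^ a) = m := by
      rw [orderOf_pow_of_dvd (by positivity) (ha ▸ Dvd.intro _ rfl), ha, Nat.mul_div_cancel_left _ (by positivity)]
    rw [h2]
    exact Nat.not_even_iff_odd.1 fun h => hm h.two_dvd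
  · have key : ∀ n : ℕ, N.Ind (g₀ ^ n) ((three F) ^ n) := by
      intro n
      induction n with
      | zero => rw [pow_zero, pow_zero]; exact N.ind_one
      | succ n ih => rw [pow_succ, pow_succ]; exact N.ind_mul (pow_mem hg₀ n) hg₀ ih h0
    exact key _

/-- the section of `V_P` -/
abbrev sec {S P : Subgroup G} (M : NatOver F P (zl S P) (cv S P)) : NatSec F P (zl S P) (cv S P) :=
  toSec M (cv_le _ _) (fun _ hh _ hv => conj_mem_zl hh hv) (fun _ hh _ hv => conj_mem_cv hh hv)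

/-- `[V, O²(P)]` covers `V / D` -/
theorem vx_surj {S P : Subgroup G} (M : NatOver F P (zl S P) (cv S P)) (x : Fin 2 → F) :
    ∃ n ∈ vx S P, M.e n = x := by
  obtain ⟨g, hg, ho, a, hI⟩ := exists_odd (sec M)
  obtain ⟨y, hy⟩ := exists_ap_three_sub a x
  obtain ⟨v, hv, rfl⟩ := M.surj y
  refine ⟨g * v * g⁻¹ * v⁻¹, comm_mem_vx hv (mem_oddGen hg ho), ?_⟩
  have h1 := (sec M).map_div ((sec M).Vn g hg v hv) hv
  have h2 := hI v hv
  rw [h2] at h1
  exact h1.trans hy

/-- `V = N D` -/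
theorem exists_mul {S P : Subgroup G} (M : NatOver F P (zl S P) (cv S P)) {v : G} (hv : v ∈ zl S P) :
    ∃ n ∈ vx S P, ∃ d ∈ cv S P, v = n * d := by
  obtain ⟨n, hn, he⟩ := vx_surj M (M.e v)
  refine ⟨n, hn, n⁻¹ * v, ?_, by group⟩
  have hnV := vx_le S P hn
  rw [← M.ker _ (mul_mem (inv_mem hnV) hv), M.mul _ (inv_mem hnV) _ hv]
  have h1 : M.e n⁻¹ = - M.e n := (sec M).map_inv hnV
  rw [h1, he, neg_add_cancel]

theorem sup_eq {S P : Subgroup G} (M : NatOver F P (zl S P) (cv S P)) : vx S P ⊔ cv S P = zl S P := by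
  apply le_antisymm (sup_le (vx_le S P) (cv_le S P))
  intro v hv
  obtain ⟨n, hn, d, hd, rfl⟩ := exists_mul M hv
  exact mul_mem (le_sup_left (a := vx S P) hn) (le_sup_right (a := vx S P) hd)

end one

/-! ### Split -/

section split

variable [Finite G] {F : Type} [Field F] [CharP F 2] {S P : Subgroup G}
  (M : NatOver F P (zl S P) (cv S P)) (hs : SplitPar S P)

include hs in
/-- `M.e` is injective on `N` -/
theorem e_inj {n n' : G} (hn : n ∈ vx S P) (hn' : n' ∈ vx S P) (he : M.e n = M.e n') : n = n' := by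
  have h1 : n * n'⁻¹ ∈ vx S P ⊓ cv S P :=
    mem_inf.2 ⟨mul_mem hn (inv_mem hn'), ((sec M).eq_iff (vx_le S P hn) (vx_le S P hn')).1 he⟩
  rw [hs, mem_bot, mul_inv_eq_one] at h1
  exact h1

/-- the coordinates of `N` -/
noncomputable def co (x : Fin 2 → F) : G := (vx_surj M x).choose

theorem co_mem (x : Fin 2 → F) : co M x ∈ vx S P := (vx_surj M x).choose_spec.1

theorem e_co (x : Fin 2 → F) : M.e (co M x) = x := (vx_surj M x).choose_spec.2

include hs in
theorem co_e {n : G} (hn : n ∈ vx S P) : co M (M.e n) = n := e_inj M hs (co_mem M _) hn (e_co M _)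

include hs in
theorem conj_co {h : G} (hh : h ∈ P) {A : Matrix.SpecialLinearGroup (Fin 2) F}
    (hA : ∀ v ∈ zl S P, M.e (h * v * h⁻¹) = ap A (M.e v)) (x : Fin 2 → F) :
    h * co M x * h⁻¹ = co M (ap A x) := by
  apply e_inj M hs (conj_mem_vx hh (co_mem M x)) (co_mem M _)
  rw [hA _ (vx_le S P (co_mem M x)), e_co, e_co]

include hs in
theorem ind_of_conj_co {h : G} (hh : h ∈ P) {A : Matrix.SpecialLinearGroup (Fin 2) F}
    (hA : ∀ x, h * co M x * h⁻¹ = co M (ap A x)) : ∀ v ∈ zl S P, M.e (h * v * h⁻¹) = ap A (M.e v) := by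
  intro v hv
  obtain ⟨n, hn, d, hd, rfl⟩ := exists_mul M hv
  have hd' : M.e d = 0 := (M.ker d (cv_le S P hd)).2 hd
  have hd2 : M.e (h * d * h⁻¹) = 0 := (M.ker _ (conj_mem_zl hh (cv_le S P hd))).2 (conj_mem_cv hh hd)
  have e1 : h * (n * d) * h⁻¹ = (h * n * h⁻¹) * (h * d * h⁻¹) := by group
  rw [e1, M.mul _ (conj_mem_zl hh (vx_le S P hn)) _ (conj_mem_zl hh (cv_le S P hd)), hd2, add_zero,
    M.mul _ (vx_le S P hn) _ (cv_le S P hd), hd', add_zero]
  have h1 := hA (M.e n)
  rw [co_e M hs hn] at h1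
  rw [h1, e_co]

/-- `P C_G(N)` -/
def NP (S P : Subgroup G) : Subgroup G := P ⊔ centralizer (vx S P : Set G)

theorem mem_NP {g : G} : g ∈ NP S P ↔ ∃ p ∈ P, ∃ c ∈ centralizer (vx S P : Set G), g = p * c := by
  have h1 : P ≤ normalizer (centralizer (vx S P : Set G) : Set G) :=
    (le_normalizer_vx S P).trans (BTwo.normalizer_le_normalizer_centralizer _)
  rw [NP, ← SetLike.mem_coe, coe_mul_of_left_le_normalizer_right _ _ h1, Set.mem_mul]
  constructor
  · rintro ⟨p, hp, c, hc, rfl⟩; exact ⟨p, hp, c, hc, rfl⟩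
  · rintro ⟨p, hp, c, hc, rfl⟩; exact ⟨p, hp, c, hc, rfl⟩

theorem NP_le : NP S P ≤ normalizer (vx S P : Set G) :=
  sup_le (le_normalizer_vx S P) (centralizer_le_normalizer _)

theorem le_NP : P ≤ NP S P := le_sup_left

include hs in
/-- **`N` is a natural module relative to `P C_G(N)`** -/
noncomputable def rmod : RMod F (vx S P) (NP S P) where
  e := co M
  e_add x y := by
    apply e_inj M hs (co_mem M _) (mul_mem (co_mem M _) (co_mem M _))
    rw [M.mul _ (vx_le S P (co_mem M x)) _ (vx_le S P (co_mem M y)), e_co, e_co, e_co]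
  e_inj x y h := by rw [← e_co M x, h, e_co]
  mem_iff g := ⟨fun hg => ⟨M.e g, co_e M hs hg⟩, by rintro ⟨x, rfl⟩; exact co_mem M x⟩
  le := NP_le
  cent := le_sup_right
  lift' A := by
    obtain ⟨g, hg, h1, -⟩ := M.lift A
    exact ⟨g, le_NP hg, conj_co M hs hg h1⟩
  norm g hg h A hA := by
    obtain ⟨p, hp, c, hc, rfl⟩ := mem_NP.1 hg
    have hc' : ∀ n ∈ vx S P, c * n * c⁻¹ = n := fun n hn => by
      rw [← mem_centralizer_iff.1 hc n hn, mul_inv_cancel_right]
    obtain ⟨k, hk, hkA, -⟩ := M.lift A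
    obtain ⟨B, hB⟩ := M.norm p hp k hk A hkA
    refine ⟨B, fun x => ?_⟩
    rw [← conj_co M hs (mul_mem (mul_mem hp hk) (inv_mem hp)) hB]
    have h1 : ∀ n ∈ vx S P, h * n * h⁻¹ = k * n * k⁻¹ := by
      intro n hn
      rw [← co_e M hs hn, hA, conj_co M hs hk hkA]
    have h2 : p⁻¹ * co M x * p ∈ vx S P := by
      have := conj_mem_vx (inv_mem hp) (co_mem M x)
      rwa [inv_inv] at this
    have h3 : k * (p⁻¹ * co M x * p) * k⁻¹ ∈ vx S P := conj_mem_vx hk h2
    have hcinv : ∀ n ∈ vx S P, c⁻¹ * n * c = n := fun n hn => by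
      have := hc' n hn
      conv_lhs => rw [← this]
      group
    calc p * c * h * (p * c)⁻¹ * co M x * (p * c * h * (p * c)⁻¹)⁻¹
        = p * (c * (h * (c⁻¹ * (p⁻¹ * co M x * p) * c) * h⁻¹) * c⁻¹) * p⁻¹ := by group
      _ = p * (k * (p⁻¹ * co M x * p) * k⁻¹) * p⁻¹ := by rw [hcinv _ h2, h1 _ h2, hc' _ h3]
      _ = p * k * p⁻¹ * co M x * (p * k * p⁻¹)⁻¹ := by group

theorem rmod_e (x : Fin 2 → F) : (rmod M hs).e x = co M x := rfl

/-- the `SL₂(F)` is induced by elements of `P` -/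
theorem rmod_lift (A : Matrix.SpecialLinearGroup (Fin 2) F) : ∃ g ∈ P, (rmod M hs).Ind g A := by
  obtain ⟨g, hg, h1, -⟩ := M.lift A
  exact ⟨g, hg, conj_co M hs hg h1⟩

end split

section splitS

variable [Finite G] (hG : IsCharacteristicTwoType G) (S : Sylow 2 G) {P : Subgroup G}
  (h : IsParS (S : Subgroup G) P) {F : Type} [Field F] [CharP F 2]
  (M : NatOver F P (zl (S : Subgroup G) P) (cv (S : Subgroup G) P)) (hs : SplitPar (S : Subgroup G) P)

include hG h M hs in
/-- `D ≤ Z(S)` -/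
theorem cv_le_zc : cv (S : Subgroup G) P ≤ zc (S : Subgroup G) := by
  have hSP := h.le
  have hZle : zc (S : Subgroup G) ≤ zl (S : Subgroup G) P := VModule.zc_le_zl _ _
  have hzlS : zl (S : Subgroup G) P ≤ (S : Subgroup G) :=
    ((h.isLoc.zl_le S hG).trans (VModule.zc_le _)).trans (h.isLoc.o2_le S)
  set D₁ : Subgroup G := cv (S : Subgroup G) P ⊓ zc (S : Subgroup G) with hD₁
  -- `P` centralises `D₁`
  have hPD : ∀ p ∈ P, ∀ d ∈ D₁, p * d = d * p := by
    intro p hp d hd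
    have h1 : P ≤ centralizer ({d} : Set G) := by
      conv_lhs => rw [← oddGen_sup hSP (MinSimple.Basic.not_dvd_relIndex S hSP)]
      refine sup_le (fun y hy => ?_) (fun y hy => ?_)
      · rw [mem_centralizer_singleton_iff]
        exact mem_centralizer_iff.1 hd.1.2 y hy
      · rw [mem_centralizer_singleton_iff]
        exact (mem_zc.1 hd.2).2.1 y hy
    exact mem_centralizer_singleton_iff.1 (h1 hp)
  have hK : zl (S : Subgroup G) P ≤ vx (S : Subgroup G) P ⊔ D₁ := by
    apply VModule.zl_le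
    · intro z hz
      obtain ⟨n, hn, d, hd, rfl⟩ := exists_mul M (hZle hz)
      have hz' := (mem_zc.1 hz).2.1
      have hdz : d ∈ zc (S : Subgroup G) := by
        rw [mem_zc]
        refine ⟨hzlS (cv_le _ _ hd), fun s hs' => ?_, VModule.zc_sq _ _ (h.isLoc.zl_le S hG (cv_le _ _ hd))⟩
        have h1 : n⁻¹ * (s * n * s⁻¹) = d * (s * d * s⁻¹)⁻¹ := by
          have h2 : s * (n * d) * s⁻¹ = n * d := by rw [hz' s hs', mul_inv_cancel_right]
          have h3 : s * n * s⁻¹ * (s * d * s⁻¹) = n * d := by rw [← h2]; group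
          rw [inv_mul_eq_iff_eq_mul, ← mul_assoc, ← h3]
          group
        have h2 : d * (s * d * s⁻¹)⁻¹ ∈ vx (S : Subgroup G) P ⊓ cv (S : Subgroup G) P := by
          refine mem_inf.2 ⟨?_, mul_mem hd (inv_mem (conj_mem_cv (hSP hs') hd))⟩
          rw [← h1]
          exact mul_mem (inv_mem hn) (conj_mem_vx (hSP hs') hn)
        rw [hs, mem_bot, mul_inv_eq_one] at h2
        nth_rewrite 2 [h2]
        group
      exact mul_mem (le_sup_left (a := vx (S : Subgroup G) P) hn)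
        (le_sup_right (a := vx (S : Subgroup G) P) ⟨hd, hdz⟩)
    · refine le_trans (le_inf (le_normalizer_vx _ _) ?_) (normalizer_inf_normalizer_le_normalizer_sup _ _)
      intro p hp
      rw [mem_normalizer_iff]
      intro d
      constructor
      · intro hd
        rw [hPD p hp d hd, mul_inv_cancel_right]; exact hd
      · intro hd
        have := hPD p⁻¹ (inv_mem hp) _ hd
        have e : p⁻¹ * (p * d * p⁻¹) * p = d := by group
        rw [← e, this]
        simpa using hd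
  intro d hd
  have hd' := hK (cv_le _ _ hd)
  have hcomm : vx (S : Subgroup G) P ≤ normalizer (D₁ : Set G) := by
    intro n hn
    rw [mem_normalizer_iff]
    have hnP : n ∈ P := hSP (hzlS (vx_le _ _ hn))
    intro x
    constructor
    · intro hx
      rw [hPD n hnP x hx, mul_inv_cancel_right]; exact hx
    · intro hx
      have := hPD n⁻¹ (inv_mem hnP) _ hx
      have e : n⁻¹ * (n * x * n⁻¹) * n = x := by group
      rw [← e, this]
      simpa using hx
  rw [← SetLike.mem_coe, coe_mul_of_left_le_normalizer_right _ _ hcomm, Set.mem_mul] at hd'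
  obtain ⟨n, hn, d₁, hd₁, rfl⟩ := hd'
  have h1 : n ∈ vx (S : Subgroup G) P ⊓ cv (S : Subgroup G) P := by
    refine mem_inf.2 ⟨hn, ?_⟩
    have := mul_mem hd (inv_mem hd₁.1)
    rwa [mul_inv_cancel_right] at this
  rw [hs, mem_bot] at h1
  rw [h1, one_mul]
  exact hd₁.2

include hG h M hs in
/-- `P` centralises `D` -/
theorem le_centralizer_cv : P ≤ centralizer (cv (S : Subgroup G) P : Set G) := by
  conv_lhs => rw [← oddGen_sup h.le (MinSimple.Basic.not_dvd_relIndex S h.le)]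
  refine sup_le (fun y hy => ?_) (fun y hy => ?_)
  · rw [mem_centralizer_iff]
    exact fun d hd => (mem_centralizer_iff.1 hd.2 y hy).symm
  · rw [mem_centralizer_iff]
    exact fun d hd => ((mem_zc.1 (cv_le_zc hG S h M hs hd)).2.1 y hy).symm

end splitS

/-! ### The kernel of `O²(P)` on `V / D` -/

section kernel

variable [Finite G] (hG : IsCharacteristicTwoType G) (S : Sylow 2 G) {P : Subgroup G}
  (h : IsParS (S : Subgroup G) P) {F : Type} [Field F] [Finite F] [CharP F 2]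
  (M : NatOver F P (zl (S : Subgroup G) P) (cv (S : Subgroup G) P))

include hG h in
/-- a 2-element of `P` which centralises `V / D` centralises `V` -/
theorem comm_of_sec_two {u : G} (hu : u ∈ P) (hu2 : ∃ a : ℕ, u ^ 2 ^ a = 1) (hk : u ∈ (sec M).kern) :
    ∀ v ∈ zl (S : Subgroup G) P, u * v = v * u := by
  obtain ⟨a, ha⟩ := hu2
  have hz : IsPGroup 2 (zpowers u) := by
    rintro ⟨x, n, rfl⟩
    refine ⟨a, Subtype.ext ?_⟩
    change (u ^ n) ^ 2 ^ a = 1
    rw [← zpow_natCast, ← zpow_mul, mul_comm, zpow_mul, zpow_natCast, ha, one_zpow]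
  obtain ⟨p, hp, h1⟩ := FFThm.exists_conj_le S h.le hz (zpowers_le.2 hu)
  have h2 : p * u * p⁻¹ ∈ (S : Subgroup G) := h1 ⟨u, mem_zpowers u, rfl⟩
  have h3 : p * u * p⁻¹ ∈ (sec M).kern := (sec M).kern_norm hp hk
  have h4 := comm_of_sec hG S h M h2 (((sec M).mem_kern_iff (h.le h2)).1 h3)
  intro v hv
  have h5 := h4 _ (conj_mem_zl hp hv)
  have e : u * v = p⁻¹ * (p * u * p⁻¹ * (p * v * p⁻¹)) * p := by group
  rw [e, h5]
  group

include hG h in
/-- **an element of `O²(P)` which centralises `V / D` centralises `V`** -/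
theorem ker_oddGen {k : G} (hk : k ∈ oddGen P) (hks : k ∈ (sec M).kern) :
    ∀ v ∈ zl (S : Subgroup G) P, k * v = v * k := by
  have hkP := oddGen_le P hk
  have h1 := ((sec M).mem_kern_iff hkP).1 hks
  have hV2 : ∀ v ∈ zl (S : Subgroup G) P, v * v = 1 := fun v hv => by
    have := VModule.zc_sq _ _ (h.isLoc.zl_le S hG hv)
    rwa [pow_two] at this
  set C : Subgroup G := centralizer (zl (S : Subgroup G) P : Set G) with hC
  -- the square
  have hsq : k ^ 2 ∈ C := by
    rw [hC, mem_centralizer_iff]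
    intro v hv
    have h2 := h1 v hv
    have h3 : k * (k * v * k⁻¹ * v⁻¹) = (k * v * k⁻¹ * v⁻¹) * k := mem_centralizer_iff.1 h2.2 k hk
    have h4 : k ^ 2 * v * (k ^ 2)⁻¹ = v := by
      calc k ^ 2 * v * (k ^ 2)⁻¹ = k * (k * v * k⁻¹ * v⁻¹) * v * k⁻¹ := by rw [pow_two]; group
        _ = (k * v * k⁻¹ * v⁻¹) * (k * v * k⁻¹ * v⁻¹) * v := by rw [h3]; group
        _ = v := by rw [hV2 _ (cv_le _ _ h2), one_mul]
    rw [mul_inv_eq_iff_eq_mul] at h4
    exact h4.symm
  -- the power of 2-power order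
  obtain ⟨a, m, hm, ha⟩ := Nat.exists_eq_pow_mul_and_not_dvd (orderOf_pos k).ne' 2 (by norm_num)
  have hkm : k ^ m ∈ C := by
    rw [hC, mem_centralizer_iff]
    intro v hv
    refine (comm_of_sec_two hG S h M (pow_mem hkP m) ⟨a, ?_⟩ (pow_mem hks m) v hv).symm
    rw [← pow_mul, mul_comm, ← ha, pow_orderOf_eq_one]
  have hodd : Odd m := Nat.not_even_iff_odd.1 fun h => hm h.two_dvd
  obtain ⟨j, hj⟩ := hodd
  have h2 : k = k ^ m * ((k ^ 2) ^ j)⁻¹ := by
    rw [hj, pow_succ', ← pow_mul, mul_inv_cancel_right]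
  have h3 : k ∈ C := by
    rw [h2]
    exact mul_mem hkm (inv_mem (pow_mem hsq j))
  intro v hv
  exact (mem_centralizer_iff.1 h3 v hv).symm

include hG h M in
/-- **`q = 2` is always split** -/
theorem splitPar_of_two (hF : Nat.card F = 2) : SplitPar (S : Subgroup G) P := by
  set N := sec M with hN
  obtain ⟨g, hg, ho, a, hI⟩ := exists_odd N
  have hgo : g ∈ oddGen P := mem_oddGen hg ho
  have hVc : ∀ x ∈ zl (S : Subgroup G) P, ∀ y ∈ zl (S : Subgroup G) P, x * y = y * x := fun x hx y hy =>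
    VModule.zc_comm _ _ (h.isLoc.zl_le S hG hx) _ (h.isLoc.zl_le S hG hy)
  -- no fixed points of `g` on `V / D`
  have hfix : ∀ x : Fin 2 → F, N.act g x = x → x = 0 := by
    intro x hx
    have hI' := (N.ind_iff hg).1 hI
    have hsur : Function.Surjective (fun y : Fin 2 → F => N.act g y - y) := by
      intro z
      obtain ⟨y, hy⟩ := exists_ap_three_sub a z
      exact ⟨y, by change N.act g y - y = z; rw [hI' y]; exact hy⟩
    have hinj := Finite.injective_iff_surjective.2 hsur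
    apply hinj
    change N.act g x - x = N.act g 0 - 0
    rw [hx, sub_self, N.act_zero hg, sub_zero]
  -- the action on the three nonzero vectors
  let X := {x : Fin 2 → F // x ≠ 0}
  have hne : ∀ p : P, ∀ x : X, N.act (p : G) x.1 ≠ 0 := by
    intro p x hx
    apply x.2
    have := N.act_inv_act p.2 x.1
    rw [hx, N.act_zero (inv_mem p.2)] at this
    exact this.symm
  let φ : P →* Equiv.Perm X :=
    { toFun := fun p =>
        { toFun := fun x => ⟨N.act (p : G) x.1, hne p x⟩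
          invFun := fun x => ⟨N.act ((p⁻¹ : P) : G) x.1, hne p⁻¹ x⟩
          left_inv := fun x => Subtype.ext (N.act_inv_act p.2 x.1)
          right_inv := fun x => Subtype.ext (N.act_act_inv p.2 x.1) }
      map_one' := by
        ext1 x
        exact Subtype.ext (N.act_one x.1)
      map_mul' := fun p p' => by
        ext1 x
        exact Subtype.ext (N.act_mul p.2 p'.2 x.1) }
  have hφ : ∀ (p : P) (x : X), (φ p x).1 = N.act (p : G) x.1 := fun p x => rfl
  have : Fintype F := Fintype.ofFinite F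
  classical
  have hcX : Fintype.card X = 3 := by
    have h1 : Fintype.card X = Fintype.card (Fin 2 → F) - 1 := by
      rw [Fintype.card_subtype, Finset.filter_ne', Finset.card_erase_of_mem (Finset.mem_univ _), Finset.card_univ]
    rw [h1, Fintype.card_fun, Fintype.card_fin, ← Nat.card_eq_fintype_card, hF]
    norm_num
  have : Nontrivial X := Fintype.one_lt_card_iff_nontrivial.1 (by rw [hcX]; norm_num)
  have halt : Nat.card (alternatingGroup X) = 3 := by
    have h1 := two_mul_card_alternatingGroup (α := X)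
    rw [Fintype.card_perm, hcX, show Nat.factorial 3 = 6 from rfl] at h1
    rw [Nat.card_eq_fintype_card]
    omega
  have hsign : ∀ p : P, Odd (orderOf (p : G)) → φ p ∈ alternatingGroup X := by
    intro p hp
    rw [Equiv.Perm.mem_alternatingGroup]
    obtain ⟨j, hj⟩ := hp
    have h1 : Equiv.Perm.sign (φ p) ^ orderOf (p : G) = 1 := by
      rw [← map_pow, ← map_pow]
      have : p ^ orderOf (p : G) = 1 := Subtype.ext (pow_orderOf_eq_one (p : G))
      rw [this, map_one, map_one]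
    rw [hj, pow_add, pow_mul, Int.units_sq, one_pow, one_mul, pow_one] at h1
    exact h1
  have hgne : (⟨φ ⟨g, hg⟩, hsign ⟨g, hg⟩ ho⟩ : alternatingGroup X) ≠ 1 := by
    intro he
    have h1 : φ ⟨g, hg⟩ = 1 := congrArg Subtype.val he
    obtain ⟨x⟩ : Nonempty X := inferInstance
    apply x.2
    apply hfix
    have h2 := hφ ⟨g, hg⟩ x
    rw [h1] at h2
    exact h2.symm
  have hprime : Fact (Nat.Prime 3) := ⟨Nat.prime_three⟩
  -- the elements of odd order
  set C : Subgroup G := P ⊓ centralizer (zl (S : Subgroup G) P : Set G) with hC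
  have hoC : oddGen P ≤ zpowers g ⊔ C := by
    rw [VModule.oddGen_def, closure_le]
    rintro k ⟨hk, hko⟩
    have h1 : (⟨φ ⟨k, hk⟩, hsign ⟨k, hk⟩ hko⟩ : alternatingGroup X) ∈
        zpowers (⟨φ ⟨g, hg⟩, hsign ⟨g, hg⟩ ho⟩ : alternatingGroup X) :=
      mem_zpowers_of_prime_card halt hgne
    obtain ⟨i, hi⟩ := h1
    have h2 : φ ⟨g, hg⟩ ^ i = φ ⟨k, hk⟩ := congrArg Subtype.val hi
    have h3 : φ ((⟨g, hg⟩ : P) ^ (-i) * ⟨k, hk⟩) = 1 := by
      rw [map_mul, map_zpow, zpow_neg, h2, inv_mul_cancel]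
    have h4 : g ^ (-i) * k ∈ N.kern := by
      rw [N.mem_kern]
      refine ⟨mul_mem (zpow_mem hg _) hk, fun x => ?_⟩
      by_cases hx : x = 0
      · rw [hx]; exact N.act_zero (mul_mem (zpow_mem hg _) hk)
      · have h5 := hφ ((⟨g, hg⟩ : P) ^ (-i) * ⟨k, hk⟩) ⟨x, hx⟩
        rw [h3] at h5
        exact h5.symm
    have h5 : g ^ (-i) * k ∈ oddGen P := mul_mem (zpow_mem hgo _) (mem_oddGen hk hko)
    have h6 := ker_oddGen hG S h M h5 h4
    have h7 : g ^ (-i) * k ∈ C := mem_inf.2 ⟨oddGen_le P h5, mem_centralizer_iff.2 fun v hv => (h6 v hv).symm⟩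
    have h8 : k = g ^ i * (g ^ (-i) * k) := by rw [zpow_neg, mul_inv_cancel_left]
    rw [h8]
    exact mul_mem (le_sup_left (a := zpowers g) (zpow_mem (mem_zpowers g) i)) (le_sup_right (a := zpowers g) h7)
  -- `[V, g]`
  let Y : Subgroup G :=
    { carrier := {x | ∃ v ∈ zl (S : Subgroup G) P, x = g * v * g⁻¹ * v⁻¹}
      mul_mem' := by
        rintro _ _ ⟨v, hv, rfl⟩ ⟨w, hw, rfl⟩
        refine ⟨v * w, mul_mem hv hw, ?_⟩
        have h1 := hVc v⁻¹ (inv_mem hv) (g * w * g⁻¹) (conj_mem_zl hg hw)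
        have h2 := hVc w hw v hv
        calc g * v * g⁻¹ * v⁻¹ * (g * w * g⁻¹ * w⁻¹)
            = g * v * g⁻¹ * (v⁻¹ * (g * w * g⁻¹)) * w⁻¹ := by group
          _ = g * v * g⁻¹ * ((g * w * g⁻¹) * v⁻¹) * w⁻¹ := by rw [h1]
          _ = g * (v * w) * g⁻¹ * (w * v)⁻¹ := by group
          _ = g * (v * w) * g⁻¹ * (v * w)⁻¹ := by rw [h2]
      one_mem' := ⟨1, one_mem _, by group⟩
      inv_mem' := by
        rintro _ ⟨v, hv, rfl⟩
        refine ⟨v⁻¹, inv_mem hv, ?_⟩
        have h1 := hVc v hv (g * v⁻¹ * g⁻¹) (conj_mem_zl hg (inv_mem hv))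
        calc (g * v * g⁻¹ * v⁻¹)⁻¹ = v * (g * v⁻¹ * g⁻¹) := by group
          _ = (g * v⁻¹ * g⁻¹) * v := h1
          _ = g * v⁻¹ * g⁻¹ * v⁻¹⁻¹ := by group }
  have hYcomm : ∀ v ∈ zl (S : Subgroup G) P, g * v * g⁻¹ * v⁻¹ ∈ Y := fun v hv => ⟨v, hv, rfl⟩
  -- `[V, gⁱ] ≤ [V, g]`
  have hYpow : ∀ n : ℕ, ∀ v ∈ zl (S : Subgroup G) P, g ^ n * v * (g ^ n)⁻¹ * v⁻¹ ∈ Y := by
    intro n
    induction n with
    | zero => intro v hv; rw [pow_zero, one_mul, inv_one, mul_one, mul_inv_cancel]; exact one_mem Y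
    | succ n ih =>
      intro v hv
      have h1 : g ^ n * v * (g ^ n)⁻¹ ∈ zl (S : Subgroup G) P := conj_mem_zl (pow_mem hg n) hv
      have h2 := mul_mem (hYcomm _ h1) (ih v hv)
      have e : g * (g ^ n * v * (g ^ n)⁻¹) * g⁻¹ * (g ^ n * v * (g ^ n)⁻¹)⁻¹ * (g ^ n * v * (g ^ n)⁻¹ * v⁻¹) =
        g ^ (n + 1) * v * (g ^ (n + 1))⁻¹ * v⁻¹ := by rw [pow_succ']; group
      rwa [e] at h2
  have hvY : vx (S : Subgroup G) P ≤ Y := by
    unfold vx
    rw [commutator_le]
    intro v hv k hk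
    have h1 := hoC hk
    have hn : zpowers g ≤ normalizer (C : Set G) := by
      rw [zpowers_le]
      exact VModule.le_normalizer_centralizer_zl _ _ hg
    rw [← SetLike.mem_coe, coe_mul_of_left_le_normalizer_right _ _ hn, Set.mem_mul] at h1
    obtain ⟨_, hi, c, hc, rfl⟩ := h1
    rw [SetLike.mem_coe, mem_zpowers_iff] at hi
    obtain ⟨i, rfl⟩ := hi
    -- a natural power
    obtain ⟨n, hn'⟩ : ∃ n : ℕ, g ^ n = g ^ i := by
      have h2 : g ^ i ∈ zpowers g := zpow_mem (mem_zpowers g) i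
      rw [← mem_powers_iff_mem_zpowers] at h2
      exact h2
    rw [← hn', commutatorElement_def]
    have hc' : c * v⁻¹ * c⁻¹ = v⁻¹ := by
      rw [← mem_centralizer_iff.1 (mem_inf.1 hc).2 v⁻¹ (inv_mem hv), mul_inv_cancel_right]
    have h3 := inv_mem (hYpow n v hv)
    have e : v * (g ^ n * c) * v⁻¹ * (g ^ n * c)⁻¹ = v * (g ^ n * (c * v⁻¹ * c⁻¹) * (g ^ n)⁻¹) := by group
    rw [e, hc']
    have e2 : (g ^ n * v * (g ^ n)⁻¹ * v⁻¹)⁻¹ = v * (g ^ n * v⁻¹ * (g ^ n)⁻¹) := by group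
    rwa [e2] at h3
  -- `[V, g] ∩ D = 1`
  rw [SplitPar, eq_bot_iff]
  rintro x ⟨hx1, hx2⟩
  obtain ⟨v, hv, rfl⟩ := hvY hx1
  have h1 : N.π v = 0 := by
    apply hfix
    rw [N.act_π hg hv, N.eq_iff (N.Vn g hg v hv) hv]
    exact hx2
  have h2 : v ∈ cv (S : Subgroup G) P := (N.ker v hv).1 h1
  have h3 : g * v = v * g := mem_centralizer_iff.1 h2.2 g hgo
  rw [mem_bot, h3, mul_inv_cancel_right, mul_inv_cancel]

end kernel

end Cfsg.Agent.Omega.HOne
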