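import Cfsg.Agent.Omega.HOne.SplitP
import Cfsg.Agent.Omega.IId.Pair
import Cfsg.Agent.Omega.BTwo.Entry

/-!
# `V ≤ O₂(N_G(R))` for a split one-factor member of a mutual pair, `R` a line of `N = [V, O²(P)]`

* `le_o2_of_series` : `V ≤ T ∈ Syl₂`, `V` acts trivially on `Y / R` and on `R` (`R ≤ Y ≤ Z(O₂(H))` normal in `H`)
  and `[C_H(Y), V] ≤ O₂(H)` imply `V ≤ O₂(H)`;
* `le_QQ` : `V ≤ O₂(N_G(R))`, `R` a line of `N`, from `V_P ≤ O₂(C_G(Ω₁(Z(T))))`.
-/

set_option autoImplicit false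
set_option linter.unusedSectionVars false

namespace Cfsg.Agent.Omega.HOne

open Subgroup Cfsg Cfsg.Agent.ZN Cfsg.Agent.ZN.ChoiceSit Cfsg.Agent.Omega.MinPar
open Cfsg.Agent.Omega.FrameFF Cfsg.Agent.Lib.SL2Mat Cfsg.Agent.Omega.NatPair
open Cfsg.Agent.Omega.SQ1.FFOne (NatSec mem_norm_of syl_inf)
open Cfsg.Agent.MinSimple.VModule (oddGen oddGen_le mem_oddGen zl_comm zl_sq le_normalizer_zl le_normalizer_oddGen
  mem_zc)
open Cfsg.Agent.MinSimple.MinParabolic (IsMinPar)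
open Cfsg.Agent.MinSimple
open Cfsg.Agent.ZN.CaseTwo (syl_of_sylow)
open Cfsg.Agent.Omega.HOne.Main (vx SplitPar)
open Cfsg.Agent.Omega.Mix (RMod)
open Cfsg.Agent.Omega.NoFF.LinesPlug (oddGen_sup)

universe u

variable {G : Type u} [Group G]

section series

variable {H Y R : Subgroup G} (hYn : H ≤ normalizer (Y : Set G)) (hRn : H ≤ normalizer (R : Set G))

/-- the elements of `H` acting trivially on `R`, on `Y / R` and, modulo `O₂(H)`, on `C_H(Y)` -/
def serL (H Y R : Subgroup G) (_hYn : H ≤ normalizer (Y : Set G)) (hRn : H ≤ normalizer (R : Set G)) : Subgroup G where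
  carrier := {g | g ∈ H ∧ (∀ r ∈ R, g * r = r * g) ∧ (∀ y ∈ Y, g * y * g⁻¹ * y⁻¹ ∈ R) ∧
    ∀ e ∈ H, e ∈ centralizer (Y : Set G) → g * e * g⁻¹ * e⁻¹ ∈ o2 H}
  mul_mem' := by
    rintro g h ⟨hg, g1, g2, g3⟩ ⟨hh, h1, h2, h3⟩
    refine ⟨mul_mem hg hh, fun r hr => ?_, fun y hy => ?_, fun e he he' => ?_⟩
    · rw [mul_assoc, h1 r hr, ← mul_assoc, g1 r hr, mul_assoc]
    · have e1 : g * h * y * (g * h)⁻¹ * y⁻¹ = g * (h * y * h⁻¹ * y⁻¹) * g⁻¹ * (g * y * g⁻¹ * y⁻¹) := by group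
      rw [e1]
      exact mul_mem ((mem_normalizer_iff.1 (hRn hg) _).1 (h2 y hy)) (g2 y hy)
    · have e1 : g * h * e * (g * h)⁻¹ * e⁻¹ = g * (h * e * h⁻¹ * e⁻¹) * g⁻¹ * (g * e * g⁻¹ * e⁻¹) := by group
      rw [e1]
      exact mul_mem ((mem_normalizer_iff.1 (le_normalizer_o2 H hg) _).1 (h3 e he he')) (g3 e he he')
  one_mem' := ⟨one_mem H, fun r _ => by rw [one_mul, mul_one], fun y _ => by
    rw [one_mul, inv_one, mul_one, mul_inv_cancel]; exact one_mem R, fun e _ _ => by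
    rw [one_mul, inv_one, mul_one, mul_inv_cancel]; exact one_mem _⟩
  inv_mem' := by
    rintro g ⟨hg, g1, g2, g3⟩
    refine ⟨inv_mem hg, fun r hr => ?_, fun y hy => ?_, fun e he he' => ?_⟩
    · have := g1 r hr
      rw [inv_mul_eq_iff_eq_mul, ← mul_assoc, this, mul_inv_cancel_right]
    · have h1 := (mem_normalizer_iff.1 (hRn (inv_mem hg)) _).1 (inv_mem (g2 y hy))
      have e1 : g⁻¹ * (g * y * g⁻¹ * y⁻¹)⁻¹ * g⁻¹⁻¹ = g⁻¹ * y * g⁻¹⁻¹ * y⁻¹ := by group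
      rwa [e1] at h1
    · have h1 := (mem_normalizer_iff.1 (le_normalizer_o2 H (inv_mem hg)) _).1 (inv_mem (g3 e he he'))
      have e1 : g⁻¹ * (g * e * g⁻¹ * e⁻¹)⁻¹ * g⁻¹⁻¹ = g⁻¹ * e * g⁻¹⁻¹ * e⁻¹ := by group
      rwa [e1] at h1

theorem mem_serL {g : G} : g ∈ serL H Y R hYn hRn ↔ g ∈ H ∧ (∀ r ∈ R, g * r = r * g) ∧
    (∀ y ∈ Y, g * y * g⁻¹ * y⁻¹ ∈ R) ∧
    ∀ e ∈ H, e ∈ centralizer (Y : Set G) → g * e * g⁻¹ * e⁻¹ ∈ o2 H := Iff.rfl

theorem conj_mem_serL {h g : G} (hh : h ∈ H) (hg : g ∈ serL H Y R hYn hRn) :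
    h * g * h⁻¹ ∈ serL H Y R hYn hRn := by
  obtain ⟨hg, g1, g2, g3⟩ := hg
  have hh' := inv_mem hh
  refine ⟨mul_mem (mul_mem hh hg) (inv_mem hh), fun r hr => ?_, fun y hy => ?_, fun e he he' => ?_⟩
  · have h1 := (mem_normalizer_iff.1 (hRn hh') r).1 hr
    rw [inv_inv] at h1
    calc h * g * h⁻¹ * r = h * (g * (h⁻¹ * r * h)) * h⁻¹ := by group
      _ = h * ((h⁻¹ * r * h) * g) * h⁻¹ := by rw [g1 _ h1]
      _ = r * (h * g * h⁻¹) := by group
  · have h1 := (mem_normalizer_iff.1 (hYn hh') y).1 hy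
    rw [inv_inv] at h1
    have h2 := (mem_normalizer_iff.1 (hRn hh) _).1 (g2 _ h1)
    have e1 : h * (g * (h⁻¹ * y * h) * g⁻¹ * (h⁻¹ * y * h)⁻¹) * h⁻¹ =
      h * g * h⁻¹ * y * (h * g * h⁻¹)⁻¹ * y⁻¹ := by group
    rwa [e1] at h2
  · have h1 : h⁻¹ * e * h ∈ H := mul_mem (mul_mem hh' he) hh
    have h1' : h⁻¹ * e * h ∈ centralizer (Y : Set G) := by
      have h3 := BTwo.normalizer_le_normalizer_centralizer _ (hYn hh')
      have h4 := (mem_normalizer_iff.1 h3 e).1 he'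
      rwa [inv_inv] at h4
    have h2 := (mem_normalizer_iff.1 (le_normalizer_o2 H hh) _).1 (g3 _ h1 h1')
    have e1 : h * (g * (h⁻¹ * e * h) * g⁻¹ * (h⁻¹ * e * h)⁻¹) * h⁻¹ =
      h * g * h⁻¹ * e * (h * g * h⁻¹)⁻¹ * e⁻¹ := by group
    rwa [e1] at h2

/-- **a 2-subgroup acting trivially on a series is in `O₂`** -/
theorem le_o2_of_series [Finite G] (T : Sylow 2 G) {V : Subgroup G} (hTH : (T : Subgroup G) ≤ H)
    (hVT : V ≤ (T : Subgroup G)) (hR2 : ∀ r ∈ R, r * r = 1)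
    (hYn : H ≤ normalizer (Y : Set G)) (hRn : H ≤ normalizer (R : Set G))
    (hVR : ∀ v ∈ V, ∀ r ∈ R, v * r = r * v)
    (hVY : ∀ v ∈ V, ∀ y ∈ Y, v * y * v⁻¹ * y⁻¹ ∈ R)
    (hE : ∀ v ∈ V, ∀ e ∈ H, e ∈ centralizer (Y : Set G) → v * e * v⁻¹ * e⁻¹ ∈ o2 H) : V ≤ o2 H := by
  have hfact : Fact (Nat.Prime 2) := ⟨Nat.prime_two⟩
  set L := serL H Y R hYn hRn with hL
  have hLH : L ≤ H := fun g hg => hg.1
  have hVL : V ≤ L := fun v hv => ⟨hTH (hVT hv), hVR v hv, hVY v hv, hE v hv⟩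
  have hQT : o2 H ≤ (T : Subgroup G) := VModule.o2_le_of_sylow T.isPGroup' (MinSimple.Basic.not_dvd_relIndex T hTH)
  -- odd elements of `L` centralise `Y`
  have hodd : ∀ x ∈ L, Odd (orderOf x) → x ∈ centralizer (Y : Set G) := by
    rintro x ⟨-, x1, x2, -⟩ hx
    rw [mem_centralizer_iff]
    intro y hy
    set r := x * y * x⁻¹ * y⁻¹ with hr
    have hrR := x2 y hy
    have hxy : x * y * x⁻¹ = r * y := by rw [hr]; group
    have hpow : ∀ n : ℕ, x ^ n * y * (x ^ n)⁻¹ = r ^ n * y := by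
      intro n
      induction n with
      | zero => simp
      | succ n ih =>
        have h1 : x * r ^ n = r ^ n * x := x1 _ (pow_mem hrR n)
        calc x ^ (n + 1) * y * (x ^ (n + 1))⁻¹ = x * (x ^ n * y * (x ^ n)⁻¹) * x⁻¹ := by rw [pow_succ']; group
          _ = x * (r ^ n * y) * x⁻¹ := by rw [ih]
          _ = r ^ n * (x * y * x⁻¹) := by rw [← mul_assoc, h1]; group
          _ = r ^ (n + 1) * y := by rw [hxy, pow_succ]; group
    have h1 := hpow (orderOf x)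
    rw [pow_orderOf_eq_one, one_mul, inv_one, mul_one] at h1
    have h2 : r ^ orderOf x = 1 := by
      nth_rewrite 1 [← one_mul y] at h1
      exact (mul_right_cancel h1).symm
    obtain ⟨j, hj⟩ := hx
    rw [hj, pow_add, pow_one, pow_mul, pow_two, hR2 r hrR, one_pow, one_mul] at h2
    rw [h2, one_mul] at hxy
    rw [mul_inv_eq_iff_eq_mul] at hxy
    exact hxy.symm
  set TL : Subgroup G := (T : Subgroup G) ⊓ L with hTL
  have hsyl : Syl TL L := syl_inf (syl_of_sylow T hTH) hLH fun h hh n hn => conj_mem_serL hYn hRn hh hn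
  -- odd elements of `L` normalise `T ∩ L`
  have hnorm : oddGen L ≤ normalizer (TL : Set G) := by
    rw [VModule.oddGen_def, closure_le]
    rintro x ⟨hx, ho⟩
    refine mem_norm_of fun t ht => ?_
    have hxL : x ∈ L := hx
    have htL : t ∈ L := ht.2
    have h0 : t⁻¹ ∈ L := inv_mem htL
    have h1 := h0.2.2.2 x (hLH hx) (hodd x hx ho)
    rw [inv_inv] at h1
    refine mem_inf.2 ⟨?_, L.mul_mem (L.mul_mem hxL htL) (L.inv_mem hxL)⟩
    have h2 := mul_mem ht.1 (hQT h1)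
    have e : t * (t⁻¹ * x * t * x⁻¹) = x * t * x⁻¹ := by group
    rwa [e] at h2
  have hLn : L ≤ normalizer (TL : Set G) := by
    conv_lhs => rw [← oddGen_sup hsyl.1 (syl_not_dvd hsyl)]
    exact sup_le hnorm le_normalizer
  refine (le_inf hVT hVL).trans ?_
  exact BTwo.le_O2_of_isSubnormal (inf_le_right.trans hLH) hsyl.2.1
    (BTwo.subnormal_step hsyl.1 (BTwo.subnormal_step hLH (BTwo.subnormal_self H)
      fun h hh n hn => conj_mem_serL hYn hRn hh hn)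
      fun b hb a ha => (mem_normalizer_iff.1 (hLn hb) a).1 ha)

end series

/-! ### Change of the Sylow subgroup -/

section change

variable [Finite G] (S T : Sylow 2 G) {P : Subgroup G}

theorem exists_cj_eq (hS : (S : Subgroup G) ≤ P) (hT : (T : Subgroup G) ≤ P) :
    ∃ p ∈ P, ChoiceBase.cj p (S : Subgroup G) = T :=
  syl_conj (syl_of_sylow S hS) (syl_of_sylow T hT)

theorem cj_self_of_mem {p : G} (hp : p ∈ P) : ChoiceBase.cj p P = P :=
  ChoiceBase.cj_eq_of_mem_normalizer (le_normalizer hp)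

theorem zl_eq (hS : (S : Subgroup G) ≤ P) (hT : (T : Subgroup G) ≤ P) :
    zl (T : Subgroup G) P = zl (S : Subgroup G) P := by
  obtain ⟨p, hp, e⟩ := exists_cj_eq S T hS hT
  have h1 := IId.zl_cj p (S : Subgroup G) P
  rw [e, cj_self_of_mem hp] at h1
  rw [h1]
  exact ChoiceBase.cj_eq_of_mem_normalizer (le_normalizer_zl _ _ hp)

theorem cv_eq (hS : (S : Subgroup G) ≤ P) (hT : (T : Subgroup G) ≤ P) :
    cv (T : Subgroup G) P = cv (S : Subgroup G) P := by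
  rw [cv, cv, zl_eq S T hS hT]

theorem vx_eq (hS : (S : Subgroup G) ≤ P) (hT : (T : Subgroup G) ≤ P) :
    vx (T : Subgroup G) P = vx (S : Subgroup G) P := by
  rw [vx, vx, zl_eq S T hS hT]

theorem isParS_of (h : IsParS (S : Subgroup G) P) (hT : (T : Subgroup G) ≤ P) : IsParS (T : Subgroup G) P := by
  obtain ⟨p, hp, e⟩ := exists_cj_eq S T h.le hT
  have h1 := IId.isParS_cj h p
  rwa [e, cj_self_of_mem hp] at h1

theorem zc_le_of (hS : (S : Subgroup G) ≤ P) (hT : (T : Subgroup G) ≤ P) :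
    zc (T : Subgroup G) ≤ zl (S : Subgroup G) P := by
  rw [← zl_eq S T hS hT]
  exact VModule.zc_le_zl _ _

theorem zc_cj (p : G) (A : Subgroup G) : zc (ChoiceBase.cj p A) = ChoiceBase.cj p (zc A) :=
  zc_map (MulAut.conj p).toMonoidHom (MulAut.conj p).injective A

theorem le_o2_CZ_of (h : IsParS (S : Subgroup G) P) (hT : (T : Subgroup G) ≤ P)
    (hI : zl (S : Subgroup G) P ≤ o2 (centralizer (zc (S : Subgroup G) : Set G))) :
    zl (S : Subgroup G) P ≤ o2 (centralizer (zc (T : Subgroup G) : Set G)) := by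
  obtain ⟨p, hp, e⟩ := exists_cj_eq S T h.le hT
  have h1 := ChoiceBase.cj_mono p hI
  rw [ChoiceBase.cj_eq_of_mem_normalizer (le_normalizer_zl _ _ hp), ← o2_cj, ChoiceBase.cj_centralizer, ← zc_cj,
    e] at h1
  exact h1

/-- `D ≤ Z(T)` for all Sylow subgroups `T` of `P` -/
theorem cv_le_zc_of (hG : IsCharacteristicTwoType G) (h : IsParS (S : Subgroup G) P) {F : Type} [Field F] [CharP F 2]
    (M : NatOver F P (zl (S : Subgroup G) P) (cv (S : Subgroup G) P)) (hs : SplitPar (S : Subgroup G) P)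
    (hT : (T : Subgroup G) ≤ P) : cv (S : Subgroup G) P ≤ zc (T : Subgroup G) := by
  obtain ⟨p, hp, e⟩ := exists_cj_eq S T h.le hT
  have h1 := ChoiceBase.cj_mono p (cv_le_zc hG S h M hs)
  rwa [ChoiceBase.cj_eq_of_mem_normalizer (le_normalizer_cv _ _ hp), ← zc_cj, e] at h1

end change

/-! ### The lines of `N` -/

section lines

theorem exists_two {F : Type*} [Field F] {w x y : Fin 2 → F} (h1 : dt w x ≠ 0) (h2 : dt w y ≠ 0) :
    ∃ (B : Matrix.SpecialLinearGroup (Fin 2) F) (c : F), c ≠ 0 ∧ ap B w = c • w ∧ ap B x = y := by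
  obtain ⟨c, hc⟩ : ∃ c, c = dt w x * (dt w y)⁻¹ := ⟨_, rfl⟩
  have hc0 : c ≠ 0 := by rw [hc]; exact mul_ne_zero h1 (inv_ne_zero h2)
  have h3 : dt (c • w) y = dt w x := by
    rw [BTwo.dt_smul_left, hc, mul_assoc, inv_mul_cancel₀ h2, mul_one]
  obtain ⟨D, hD1, hD2⟩ := BTwo.exists_basis h1
  obtain ⟨D', hD1', hD2'⟩ := BTwo.exists_basis (w := c • w) (u := y) (by rw [h3]; exact h1)
  refine ⟨D' * D⁻¹, c, hc0, ?_, ?_⟩
  · rw [ap_mul]
    nth_rewrite 1 [← hD1]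
    rw [ap_inv_ap, hD1']
  · have h4 : x = dt w x • ap D ![0, 1] := by rw [hD2, smul_smul, mul_inv_cancel₀ h1, one_smul]
    rw [ap_mul]
    nth_rewrite 1 [h4]
    rw [ap_smul, ap_inv_ap, ap_smul, hD2', h3, smul_smul, mul_inv_cancel₀ h1, one_smul]

variable {F : Type*} [Field F] {V N : Subgroup G} (M : RMod F V N)

theorem dt_ne_of_not_mem {w x : Fin 2 → F} (hw : w ≠ 0) (hx : M.e x ∉ M.line w) : dt w x ≠ 0 := by
  intro h0
  obtain ⟨c, hc⟩ := exists_smul_of_dt hw h0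
  exact hx (M.e_mem_line.2 ⟨c, hc⟩)

/-- an element inducing `B` with `B w = c w` normalises the line of `w` -/
theorem mem_normalizer_line_of {w : Fin 2 → F} {l : G} {B : Matrix.SpecialLinearGroup (Fin 2) F} (hl : M.Ind l B)
    {c : F} (hc : c ≠ 0) (hB : ap B w = c • w) : l ∈ normalizer ((M.line w : Subgroup G) : Set G) := by
  rw [← cj_eq_iff, Mix.RMod.cj_line_of_ind M hl, hB, M.line_smul hc]

/-- a subgroup normalised by `N(R)` which meets `R` nontrivially contains `R`; `R` a line -/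
theorem line_le_of {w : Fin 2 → F} (hw : w ≠ 0) {Y : Subgroup G}
    (hY : normalizer ((M.line w : Subgroup G) : Set G) ≤ normalizer (Y : Set G)) {r : G} (hr : r ∈ M.line w)
    (hr1 : r ≠ 1) (hrY : r ∈ Y) : M.line w ≤ Y := by
  obtain ⟨c₀, rfl⟩ := hr
  have hc₀ : c₀ ≠ 0 := by
    rintro rfl
    rw [zero_smul, M.e_zero] at hr1
    exact hr1 rfl
  rintro _ ⟨c, rfl⟩
  by_cases hc : c = 0
  · rw [hc, zero_smul, M.e_zero]; exact one_mem Y
  have ht : c / c₀ ≠ 0 := div_ne_zero hc hc₀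
  obtain ⟨l, B, hl, hB⟩ := M.exists_torus hw ht
  have h1 := (mem_normalizer_iff.1 (hY (mem_normalizer_line_of M hl ht hB)) _).1 hrY
  rw [hl, ap_smul, hB, smul_smul, mul_div_cancel₀ _ hc₀] at h1
  exact h1

/-- if it contains an element of `V` outside `R`, it contains `V` -/
theorem le_of_not_mem {w : Fin 2 → F} (hw : w ≠ 0) {Y : Subgroup G}
    (hY : normalizer ((M.line w : Subgroup G) : Set G) ≤ normalizer (Y : Set G)) (hRY : M.line w ≤ Y) {x : G}
    (hx : x ∈ V) (hxR : x ∉ M.line w) (hxY : x ∈ Y) : V ≤ Y := by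
  obtain ⟨x, rfl⟩ := (M.mem_iff x).1 hx
  intro y hy
  obtain ⟨y, rfl⟩ := (M.mem_iff y).1 hy
  by_cases hyR : M.e y ∈ M.line w
  · exact hRY hyR
  obtain ⟨B, c, hc, h1, h2⟩ := exists_two (dt_ne_of_not_mem M hw hxR) (dt_ne_of_not_mem M hw hyR)
  obtain ⟨l, hl⟩ := M.lift B
  have hl' : M.Ind l B := hl
  have h3 := (mem_normalizer_iff.1 (hY (mem_normalizer_line_of M hl' hc h1)) _).1 hxY
  rwa [hl, h2] at h3

theorem line_ne_bot {w : Fin 2 → F} (hw : w ≠ 0) : M.line w ≠ ⊥ := by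
  intro h1
  have h2 : M.e w ∈ M.line w := ⟨1, by rw [one_smul]⟩
  rw [h1, mem_bot, M.e_eq_one] at h2
  exact hw h2

end lines

/-! ### `V ≤ O₂(N_G(R))` -/

section vq

variable [Finite G] (hG : IsCharacteristicTwoType G) (S : Sylow 2 G) {P : Subgroup G}
  (h : IsParS (S : Subgroup G) P) {F : Type} [Field F] [Finite F] [CharP F 2]
  (M : NatOver F P (zl (S : Subgroup G) P) (cv (S : Subgroup G) P)) (hs : SplitPar (S : Subgroup G) P)

include hG h in
theorem zl_le_self : zl (S : Subgroup G) P ≤ (S : Subgroup G) :=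
  ((h.isLoc.zl_le S hG).trans (VModule.zc_le _)).trans (h.isLoc.o2_le S)

include hG h in
theorem zl_sq' {v : G} (hv : v ∈ zl (S : Subgroup G) P) : v * v = 1 := by
  have := VModule.zc_sq _ _ (h.isLoc.zl_le S hG hv)
  rwa [pow_two] at this

include hG h in
theorem zl_comm' {v w : G} (hv : v ∈ zl (S : Subgroup G) P) (hw : w ∈ zl (S : Subgroup G) P) : v * w = w * v :=
  VModule.zc_comm _ _ (h.isLoc.zl_le S hG hv) _ (h.isLoc.zl_le S hG hw)

include hG h in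
theorem isPGroup_line {w : Fin 2 → F} : IsPGroup 2 ((rmod M hs).line w) := by
  rintro ⟨x, hx⟩
  refine ⟨1, Subtype.ext ?_⟩
  change x ^ 2 ^ 1 = 1
  rw [pow_one, pow_two]
  exact zl_sq' hG S h (vx_le _ _ ((rmod M hs).line_le w hx))

include hG h in
/-- **`V ≤ O₂(N_G(R))`** for the lines `R` of `N` -/
theorem le_QQ (T : Sylow 2 G) (hT : (T : Subgroup G) ≤ P) {w : Fin 2 → F} (hw : w ≠ 0)
    (hTR : (T : Subgroup G) ≤ normalizer (((rmod M hs).line w : Subgroup G) : Set G))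
    (hI : zl (S : Subgroup G) P ≤ o2 (centralizer (zc (S : Subgroup G) : Set G))) :
    zl (S : Subgroup G) P ≤ o2 (normalizer (((rmod M hs).line w : Subgroup G) : Set G)) := by
  set R := (rmod M hs).line w with hR
  set H := normalizer (R : Set G) with hH
  have hIT := le_o2_CZ_of S T h hT hI
  have hD := cv_le_zc_of S T hG h M hs hT
  have hR1 : R ≠ ⊥ := line_ne_bot _ hw
  have hRN : R ≤ vx (S : Subgroup G) P := (rmod M hs).line_le w
  have hRV : R ≤ zl (S : Subgroup G) P := hRN.trans (vx_le _ _)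
  have hL : IsLoc (T : Subgroup G) H := isLoc_normalizer T (isPGroup_line hG S h M hs) hR1 hTR
  have hVT : zl (S : Subgroup G) P ≤ (T : Subgroup G) := by
    rw [← zl_eq S T h.le hT]
    exact zl_le_self hG T (isParS_of S T h hT)
  have hVH : zl (S : Subgroup G) P ≤ H := hVT.trans hTR
  set Y := zl (T : Subgroup G) H with hY
  have hYz : Y ≤ zc (o2 H) := hL.zl_le T hG
  have hYn : H ≤ normalizer (Y : Set G) := le_normalizer_zl _ _
  have hYT : Y ≤ (T : Subgroup G) := (hYz.trans (VModule.zc_le _)).trans (hL.o2_le T)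
  have hYc : ∀ x ∈ Y, ∀ y ∈ Y, x * y = y * x := fun x hx y hy => VModule.zc_comm _ _ (hYz hx) _ (hYz hy)
  -- `R ≤ Y`
  obtain ⟨r, hr, hr1, hrT⟩ := NoFF.LinesPlug.exists_fixed T.isPGroup' (hRV.trans hVT) hTR hR1
  have hrz : r ∈ zc (T : Subgroup G) :=
    mem_zc.2 ⟨hVT (hRV hr), hrT, by rw [pow_two]; exact zl_sq' hG S h (hRV hr)⟩
  have hRY : R ≤ Y := line_le_of _ hw hYn hr hr1 (VModule.zc_le_zl _ _ hrz)
  -- `[N, Y] ≤ R`
  have hNY : ∀ n ∈ vx (S : Subgroup G) P, ∀ y ∈ Y, n * y * n⁻¹ * y⁻¹ ∈ R := by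
    intro n hn y hy
    by_cases hle : vx (S : Subgroup G) P ≤ Y
    · have h1 := hYc n (hle hn) y hy
      rw [h1, mul_inv_cancel_right, mul_inv_cancel]
      exact one_mem R
    · by_contra hcon
      apply hle
      refine le_of_not_mem _ hw hYn hRY (x := n * y * n⁻¹ * y⁻¹) ?_ hcon ?_
      · have h1 : y * n⁻¹ * y⁻¹ ∈ vx (S : Subgroup G) P := conj_mem_vx (hT (hYT hy)) (inv_mem hn)
        have e : n * y * n⁻¹ * y⁻¹ = n * (y * n⁻¹ * y⁻¹) := by group
        rw [e]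
        exact mul_mem hn h1
      · exact mul_mem ((mem_normalizer_iff.1 (hYn (hVH (vx_le _ _ hn))) y).1 hy) (inv_mem hy)
  have hPD := le_centralizer_cv hG S h M hs
  have hVY : ∀ v ∈ zl (S : Subgroup G) P, ∀ y ∈ Y, v * y * v⁻¹ * y⁻¹ ∈ R := by
    intro v hv y hy
    obtain ⟨n, hn, d, hd, rfl⟩ := exists_mul M hv
    have h1 : d * y = y * d := mem_centralizer_iff.1 (hPD (hT (hYT hy))) d hd
    have e : n * d * y * (n * d)⁻¹ * y⁻¹ = n * (d * y * d⁻¹) * n⁻¹ * y⁻¹ := by group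
    rw [e, h1, mul_inv_cancel_right]
    exact hNY n hn y hy
  refine le_o2_of_series T hTR hVT (fun r hr => zl_sq' hG S h (hRV hr)) hYn le_rfl
    (fun v hv r hr => zl_comm' hG S h hv (hRV hr)) hVY ?_
  -- `[C_H(Y), V] ≤ O₂(H)`
  intro v hv e he hec
  set E : Subgroup G := H ⊓ centralizer (Y : Set G) with hE
  have hEH : E ≤ H := inf_le_left
  have hEn : H ≤ normalizer (E : Set G) :=
    (le_inf le_normalizer (hYn.trans (BTwo.normalizer_le_normalizer_centralizer _))).trans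
      inf_normalizer_le_normalizer_inf
  have hEC : E ≤ centralizer (zc (T : Subgroup G) : Set G) :=
    inf_le_right.trans (centralizer_le (VModule.zc_le_zl _ _))
  have heE : e ∈ E := ⟨he, hec⟩
  have h1 : v * e * v⁻¹ * e⁻¹ ∈ E := mul_mem ((mem_normalizer_iff.1 (hEn (hVH hv)) e).1 heE) (inv_mem heE)
  have h2 : v * e * v⁻¹ * e⁻¹ ∈ o2 (centralizer (zc (T : Subgroup G) : Set G)) := by
    have h3 : e * v⁻¹ * e⁻¹ ∈ o2 (centralizer (zc (T : Subgroup G) : Set G)) :=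
      (mem_normalizer_iff.1 (le_normalizer_o2 _ (hEC heE)) _).1 (inv_mem (hIT hv))
    have e1 : v * e * v⁻¹ * e⁻¹ = v * (e * v⁻¹ * e⁻¹) := by group
    rw [e1]
    exact mul_mem (hIT hv) h3
  have h3 : E ⊓ o2 (centralizer (zc (T : Subgroup G) : Set G)) ≤ o2 H := by
    refine BTwo.le_O2_of_isSubnormal (inf_le_left.trans hEH) ((BTwo.O2_isPGroup (centralizer (zc (T : Subgroup G) : Set G))).to_le inf_le_right)
      (BTwo.subnormal_step inf_le_left (BTwo.subnormal_step hEH (BTwo.subnormal_self H)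
        fun h hh n hn => (mem_normalizer_iff.1 (hEn hh) n).1 hn) ?_)
    rintro b hb a ⟨ha1, ha2⟩
    exact mem_inf.2 ⟨E.mul_mem (E.mul_mem hb ha1) (E.inv_mem hb),
      (mem_normalizer_iff.1 (le_normalizer_o2 _ (hEC hb)) a).1 ha2⟩
  exact h3 ⟨h1, h2⟩

end vq

end Cfsg.Agent.Omega.HOne
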