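import Cfsg.Agent.Omega.HOne.TvDef

/-!
# II.0h1, `q = 2`, case (beta): (8) of #15959, the constant `c_0`

`exists_opp` : there are opposite lines (first part of (7)).
`jconst` : `E1` implies that `c(s; a, b)` is one and the same element `c_0` for all opposite pairs.
-/

set_option autoImplicit false
set_option linter.unusedSectionVars false

namespace Cfsg.Agent.Omega.HOne.TvConst

open Subgroup Cfsg.Agent.Omega.HOne.TvDef

variable {G : Type*} [Group G] {M : Subgroup G} {r t : G} {Q N : G → Subgroup G}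

theorem Opp.conj (h : TvH M r t Q N) {m s a b : G} (hm : m ∈ M) (o : Opp M r t N s a b) :
    Opp M r t N (m * s * m⁻¹) (m * a * m⁻¹) (m * b * m⁻¹) := by
  obtain ⟨h1, h2, n, hn, h3⟩ := o
  refine ⟨h1.conj hm, h2.conj hm, m * n * m⁻¹, h.Nc m _ _ hn, ?_⟩
  intro e
  apply h3
  have : m * n * m⁻¹ * (m * b * m⁻¹) * (m * n * m⁻¹)⁻¹ = m * (n * b * n⁻¹) * m⁻¹ := by group
  rw [this] at e
  have h4 : n * b * n⁻¹ = m⁻¹ * (m * (n * b * n⁻¹) * m⁻¹) * m := by group
  rw [h4, e]; group

/-- an element of `M` exchanging the points `s, s'` of a line and centralising `C_L` -/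
theorem swap_elt (h : TvH M r t Q N) {s s' : G} (a : Adj M r t s s') :
    ∃ x ∈ M, x * s * x⁻¹ = s' ∧ x * s' * x⁻¹ = s ∧ ∀ b ∈ ZC Q s, b ∈ ZC Q s' → x * b = b * x := by
  obtain ⟨q, hq, h1⟩ := h.Adj_q a
  obtain ⟨p, hp, h2⟩ := h.Adj_q (h.Adj_symm a)
  have hs := a.left
  have hs' := h.Adj_right a
  have hss : s * s' = s' * s := h.Adj_comm a
  have hqs : q * s * q⁻¹ = s := by
    have := h.ZC_comm (h.mem_ZC hs) hq
    rw [← this]; group
  have hps : p * s' * p⁻¹ = s' := by
    have := h.ZC_comm (h.mem_ZC hs') hp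
    rw [← this]; group
  have hq2 : q * (s' * s) * q⁻¹ = s' := by
    calc q * (s' * s) * q⁻¹ = (q * s' * q⁻¹) * (q * s * q⁻¹) := by group
      _ = s * s' * s := by rw [h1, hqs]
      _ = s' * (s * s) := by rw [hss]; group
      _ = s' := by rw [h.Om_sq hs, mul_one]
  have hp2 : p * (s * s') * p⁻¹ = s := by
    calc p * (s * s') * p⁻¹ = (p * s * p⁻¹) * (p * s' * p⁻¹) := by group
      _ = s' * s * s' := by rw [h2, hps]
      _ = s * (s' * s') := by rw [← hss]; group
      _ = s := by rw [h.Om_sq hs', mul_one]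
  refine ⟨q * p * q, M.mul_mem (M.mul_mem (h.Q_le_M hs hq) (h.Q_le_M hs' hp)) (h.Q_le_M hs hq), ?_, ?_, ?_⟩
  · calc q * p * q * s * (q * p * q)⁻¹ = q * (p * (q * s * q⁻¹) * p⁻¹) * q⁻¹ := by group
      _ = s' := by rw [hqs, h2, hq2]
  · calc q * p * q * s' * (q * p * q)⁻¹ = q * (p * (q * s' * q⁻¹) * p⁻¹) * q⁻¹ := by group
      _ = s := by rw [h1, hp2, hqs]
  · intro b hb hb'
    have e1 : b * q = q * b := h.ZC_comm hb hq
    have e2 : b * p = p * b := h.ZC_comm hb' hp
    calc q * p * q * b = q * p * (q * b) := by group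
      _ = q * (p * b) * q := by rw [← e1]; group
      _ = (q * b) * p * q := by rw [← e2]; group
      _ = b * (q * p * q) := by rw [← e1]; group

/-- there are opposite lines on every point -/
theorem exists_opp_r (h : TvH M r t Q N) : ∃ a b, Opp M r t N r a b := by
  by_contra hno
  push Not at hno
  -- all lines on `r` commute with `N a`
  have hc : ∀ a b, Adj M r t r a → Adj M r t r b → b ∈ Q a := by
    intro a b ha hb
    apply h.UN_at (h.Adj_right ha) (Om_le_UU (h.Adj_right hb))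
    intro n hn
    by_contra hne
    apply hno a b
    refine ⟨ha, hb, n, hn, ?_⟩
    intro e
    apply hne
    calc b * n = (n * b * n⁻¹) * n := by rw [e]
      _ = n * b := by group
  let T : Subgroup G := Subgroup.closure {b | Adj M r t r b}
  have hrT : r ∈ T := by
    have h1 : t ∈ T := Subgroup.subset_closure Adj_base
    have h2 : r * t ∈ T := Subgroup.subset_closure h.Adj_mul_base
    have : r = (r * t) * t⁻¹ := by group
    rw [this]; exact mul_mem h2 (inv_mem h1)
  have key : ∀ x : G, (∀ b, Adj M r t r b → x * b * x⁻¹ ∈ T) → ∀ y ∈ T, x * y * x⁻¹ ∈ T := by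
    intro x hx y hy
    induction hy using Subgroup.closure_induction with
    | mem b hb => exact hx b hb
    | one => simp
    | mul u v _ _ hu hv =>
      have : x * (u * v) * x⁻¹ = (x * u * x⁻¹) * (x * v * x⁻¹) := by group
      rw [this]; exact mul_mem hu hv
    | inv u _ hu =>
      have : x * u⁻¹ * x⁻¹ = (x * u * x⁻¹)⁻¹ := by group
      rw [this]; exact inv_mem hu
  -- `M` normalises `T`
  let W : Subgroup G :=
    { carrier := {x | (∀ y ∈ T, x * y * x⁻¹ ∈ T) ∧ ∀ y ∈ T, x⁻¹ * y * x ∈ T}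
      one_mem' := ⟨fun y hy => by simpa using hy, fun y hy => by simpa using hy⟩
      mul_mem' := by
        rintro x z ⟨hx, hx'⟩ ⟨hz, hz'⟩
        refine ⟨fun y hy => ?_, fun y hy => ?_⟩
        · have := hx _ (hz y hy)
          have e : x * z * y * (x * z)⁻¹ = x * (z * y * z⁻¹) * x⁻¹ := by group
          rwa [e]
        · have := hz' _ (hx' y hy)
          have e : (x * z)⁻¹ * y * (x * z) = z⁻¹ * (x⁻¹ * y * x) * z := by group
          rwa [e]
      inv_mem' := by
        rintro x ⟨hx, hx'⟩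
        refine ⟨fun y hy => ?_, fun y hy => ?_⟩
        · simpa using hx' y hy
        · simpa using hx y hy }
  have hW : M ≤ W := by
    apply h.gen W
    · intro m hm hmr
      have e1 : m * r * m⁻¹ = r := by rw [hmr]; group
      have e2 : m⁻¹ * r * m = r := by
        calc m⁻¹ * r * m = m⁻¹ * (r * m) := by group
          _ = r := by rw [← hmr]; group
      refine ⟨key m ?_, ?_⟩
      · intro b hb
        have := hb.conj hm
        rw [e1] at this
        exact Subgroup.subset_closure this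
      · have := key m⁻¹ (by
          intro b hb
          have := hb.conj (M.inv_mem hm)
          rw [inv_inv] at this
          rw [e2] at this
          rw [inv_inv]
          exact Subgroup.subset_closure this)
        intro y hy
        simpa using this y hy
    · intro m hm
      have hh : ∀ m ∈ Q r, ∀ b, Adj M r t r b → m * b * m⁻¹ ∈ T := by
        intro m hm b hb
        have hm' := h.Q_le hm
        have e1 : m * r * m⁻¹ = r := by
          have := h.ZC_comm (h.mem_ZC Om_base) hm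
          rw [← this]; group
        have := hb.conj hm'
        rw [e1] at this
        exact Subgroup.subset_closure this
      refine ⟨key m (hh m hm), ?_⟩
      have := key m⁻¹ (hh _ (inv_mem hm))
      intro y hy
      simpa using this y hy
    · intro m hm
      have hh : ∀ m ∈ Q t, ∀ b, Adj M r t r b → m * b * m⁻¹ ∈ T := by
        intro m hm b hb
        have hbt : b ∈ Q t := hc t b Adj_base hb
        have hbT : b ∈ T := Subgroup.subset_closure hb
        have htT : t ∈ T := Subgroup.subset_closure Adj_base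
        rcases h.comm_Q h.t_Om hm hbt with h1 | h1
        · have : m * b * m⁻¹ = (m * b * m⁻¹ * b⁻¹) * b := by group
          rw [this, h1, one_mul]; exact hbT
        · have : m * b * m⁻¹ = (m * b * m⁻¹ * b⁻¹) * b := by group
          rw [this, h1]; exact mul_mem htT hbT
      refine ⟨key m (hh m hm), ?_⟩
      have := key m⁻¹ (hh _ (inv_mem hm))
      intro y hy
      simpa using this y hy
  obtain ⟨u, hu, hu'⟩ := h.beta
  apply hu'
  have h1 : UU M r ≤ T := by
    unfold UU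
    rw [Subgroup.closure_le]
    rintro s ⟨m, hm, rfl⟩
    exact (hW hm).1 r hrT
  have h2 : T ≤ Q r := by
    rw [Subgroup.closure_le]
    intro b hb
    exact h.Adj_mem hb
  exact h2 (h1 hu)

/-- every line has an opposite line at each of its points -/
theorem exists_opp (h : TvH M r t Q N) {s a : G} (ha : Adj M r t s a) : ∃ b, Opp M r t N s a b := by
  obtain ⟨a0, b0, h0⟩ := exists_opp_r h
  obtain ⟨x, hx, hx1, hx2⟩ := h0.1
  obtain ⟨y, hy, hy1, hy2⟩ := ha
  refine ⟨(y * x⁻¹) * b0 * (y * x⁻¹)⁻¹, ?_⟩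
  have := Opp.conj h (M.mul_mem hy (M.inv_mem hx)) h0
  have e1 : y * x⁻¹ * r * (y * x⁻¹)⁻¹ = s := by
    rw [← hy1]
    calc y * x⁻¹ * r * (y * x⁻¹)⁻¹ = y * x⁻¹ * (x * r * x⁻¹) * (y * x⁻¹)⁻¹ := by rw [hx1]
      _ = _ := by group
  have e2 : y * x⁻¹ * a0 * (y * x⁻¹)⁻¹ = a := by
    rw [← hy2, ← hx2]; group
  rw [e1, e2] at this
  exact this

/-! ### the constant -/

/-- `c` is `c(s; a, b)` for all opposite pairs on `s` -/
def Is (M : Subgroup G) (r t : G) (Q N : G → Subgroup G) (s c : G) : Prop :=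
  ∀ a b, Opp M r t N s a b → c ≠ 1 ∧ c ∈ UU M r ∧ c ∈ ZC Q s ∧ c ∈ ZC Q a ∧ Adj M r t s (a * b * c) ∧
    ∀ n ∈ N a, n * b * n⁻¹ = b ∨ n * b * n⁻¹ = a * b * c

/-- local version: `c = c(s; a, b)` -/
def IsAt (M : Subgroup G) (r t : G) (Q N : G → Subgroup G) (s a b c : G) : Prop :=
  c ≠ 1 ∧ c ∈ UU M r ∧ c ∈ ZC Q s ∧ c ∈ ZC Q a ∧ c ∈ ZC Q b ∧ Adj M r t s (a * b * c) ∧
    (∀ n ∈ N a, n * b * n⁻¹ = b ∨ n * b * n⁻¹ = a * b * c) ∧
    (∀ n ∈ N b, n * a * n⁻¹ = a ∨ n * a * n⁻¹ = a * b * c)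

theorem Opp.isAt (j : JOpp M r t Q N) {s a b : G} (o : Opp M r t N s a b) :
    ∃ c, IsAt M r t Q N s a b c := by
  obtain ⟨-, -, -, -, -, c, h1, h2, h3, h4, h5, -, h7, h8, h9⟩ := j s a b o
  exact ⟨c, h1, h2, h3, h4, h5, h7, h8, h9⟩

theorem IsAt.unique {s a b c c' : G} (o : Opp M r t N s a b) (h1 : IsAt M r t Q N s a b c)
    (h2 : IsAt M r t Q N s a b c') : c = c' := by
  obtain ⟨-, -, n, hn, hne⟩ := o
  have e1 := (h1.2.2.2.2.2.2.1 n hn).resolve_left hne
  have e2 := (h2.2.2.2.2.2.2.1 n hn).resolve_left hne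
  rw [e1] at e2
  exact mul_left_cancel e2

theorem IsAt.symm (h : TvH M r t Q N) {s a b c : G} (o : Opp M r t N s a b)
    (h1 : IsAt M r t Q N s a b c) : IsAt M r t Q N s b a c := by
  obtain ⟨x1, x2, x3, x4, x5, x6, x7, x8⟩ := h1
  have e : b * a * c = a * b * c := by
    rw [h.Om_comm (h.Adj_right o.1) (h.Adj_right o.2.1)]
  exact ⟨x1, x2, x3, x5, x4, by rwa [e], by rwa [e], by rwa [e]⟩

/-- `c(s; a, s b) = c(s; a, b)` -/
theorem IsAt.mul (h : TvH M r t Q N) (j : JOpp M r t Q N) {s a b c : G} (o : Opp M r t N s a b)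
    (h1 : IsAt M r t Q N s a b c) : IsAt M r t Q N s a (s * b) c := by
  have o2 := (j s a b o).2.2.1
  obtain ⟨c', hc'⟩ := Opp.isAt j o2
  obtain ⟨-, -, n, hn, hne⟩ := o
  have ha := o2.1
  have hb : Adj M r t s b := by
    have := h.Adj_mul o2.2.1
    rwa [h.mul_cancel ha.left] at this
  have e1 := (h1.2.2.2.2.2.2.1 n hn).resolve_left hne
  have hns : n * s = s * n := h.N_comm ha hn
  have e2 : n * (s * b) * n⁻¹ = s * (n * b * n⁻¹) := by
    calc n * (s * b) * n⁻¹ = (n * s) * b * n⁻¹ := by group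
      _ = s * n * b * n⁻¹ := by rw [hns]
      _ = _ := by group
  have hne2 : n * (s * b) * n⁻¹ ≠ s * b := by
    rw [e2]; intro e; exact hne (mul_left_cancel e)
  have e3 := (hc'.2.2.2.2.2.2.1 n hn).resolve_left hne2
  rw [e2, e1] at e3
  have hsa : s * a = a * s := h.Adj_comm ha
  have : c = c' := by
    have e4 : s * (a * b * c) = s * (a * b * c') := by
      calc s * (a * b * c) = a * (s * b) * c' := e3
        _ = (a * s) * b * c' := by group
        _ = s * (a * b * c') := by rw [← hsa]; group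
    exact mul_left_cancel (mul_left_cancel e4)
  rw [this]; exact hc'

/-- case (ii): `b, b'` opposite to `a`, not opposite to each other -/
theorem IsAt.const2 (h : TvH M r t Q N) (jn : JNon M r t N) (e1 : E1 M r t N)
    {s a b b' c c' : G} (o : Opp M r t N s a b) (o' : Opp M r t N s a b')
    (hb1 : b' ≠ b) (hb2 : b' ≠ s * b) (hno : ¬ Opp M r t N s b b')
    (h1 : IsAt M r t Q N s a b c) (h2 : IsAt M r t Q N s a b' c') : c = c' := by
  have ha := o.1
  have hb := o.2.1
  have hb' := o'.2.1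
  obtain ⟨n, hn, hne⟩ := o.2.2
  have hne' : n * b' * n⁻¹ ≠ b' := by
    intro e
    have h3 : n * b' = b' * n := by
      calc n * b' = (n * b' * n⁻¹) * n := by group
        _ = b' * n := by rw [e]
    have h4 := (e1 s a b b' o o' n hn).2 h3
    apply hne
    rw [h4]; group
  have x1 := (h1.2.2.2.2.2.2.1 n hn).resolve_left hne
  have x2 := (h2.2.2.2.2.2.2.1 n hn).resolve_left hne'
  have hadj := (jn s b b' hb hb' hb1 hb2 hno).1
  have hs := ha.left
  have aU := Om_le_UU (h.Adj_right ha)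
  have bU := Om_le_UU (h.Adj_right hb)
  have b'U := Om_le_UU (h.Adj_right hb')
  have e3 : n * (b * b') * n⁻¹ = b * b' * (c * c') := by
    calc n * (b * b') * n⁻¹ = (n * b * n⁻¹) * (n * b' * n⁻¹) := by group
      _ = (a * b * c) * (a * b' * c') := by rw [x1, x2]
      _ = a * (b * c * a) * b' * c' := by group
      _ = a * (a * (b * c)) * b' * c' := by rw [h.UU_comm (mul_mem bU h1.2.1) aU]
      _ = (a * a) * b * (c * b') * c' := by group
      _ = b * (b' * c) * c' := by rw [h.Om_sq (h.Adj_right ha), one_mul, h.UU_comm h1.2.1 b'U]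
      _ = _ := by group
  have hadj2 := h.Adj_N ha hadj hn
  rw [e3] at hadj2
  have hbb : (b * b') * (b * b') = 1 := h.UU_sq (mul_mem bU b'U)
  have hcs : c * c' ∈ ZC Q s := mul_mem h1.2.2.1 h2.2.2.1
  have hca : c * c' ∈ ZC Q a := mul_mem h1.2.2.2.1 h2.2.2.2.1
  have hz : (b * b') * (b * b' * (c * c')) ∈ ZC Q s := by
    have : (b * b') * (b * b' * (c * c')) = c * c' := by
      rw [← mul_assoc, hbb, one_mul]
    rw [this]; exact hcs
  have hcc : c * c = 1 := h.UU_sq h1.2.1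
  rcases h.noPar_at hadj hadj2 hz with h5 | h5
  · have h6 : c * c' = 1 := by
      have : b * b' * (c * c') = b * b' * 1 := by rw [h5, mul_one]
      exact mul_left_cancel this
    calc c = c * (c * c') := by rw [h6, mul_one]
      _ = c' := by rw [← mul_assoc, hcc, one_mul]
  · exfalso
    have h6 : c * c' = s := by
      have h7 : b * b' * (c * c') = b * b' * s := by
        rw [h5, h.UU_comm (Om_le_UU hs) (mul_mem bU b'U)]
      exact mul_left_cancel h7
    exact h.not_both ha (h6 ▸ hca)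

/-- the third line: `c(s; b, b'') = c(s; b, b')` for `b'' = b b' d` -/
theorem IsAt.third (h : TvH M r t Q N) (j : JOpp M r t Q N) {s b b' d : G}
    (o : Opp M r t N s b b') (h1 : IsAt M r t Q N s b b' d) :
    Opp M r t N s b (b * b' * d) ∧ IsAt M r t Q N s b (b * b' * d) d := by
  have hb := o.1
  have hb' := o.2.1
  obtain ⟨n, hn, hne⟩ := o.2.2
  have x1 := (h1.2.2.2.2.2.2.1 n hn).resolve_left hne
  have bU := Om_le_UU (h.Adj_right hb)
  have b'U := Om_le_UU (h.Adj_right hb')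
  have hbb := h.Om_sq (h.Adj_right hb)
  have hdd : d * d = 1 := h.UU_sq h1.2.1
  have hnb : n * b * n⁻¹ = b := by rw [h.N_self (h.Adj_right hb) hn]; group
  have hnd : n * d * n⁻¹ = d := by
    have := h.ZC_comm h1.2.2.2.1 (h.N_le_Q (h.Adj_right hb) hn)
    rw [← this]; group
  have e3 : n * (b * b' * d) * n⁻¹ = b' := by
    calc n * (b * b' * d) * n⁻¹ = (n * b * n⁻¹) * (n * b' * n⁻¹) * (n * d * n⁻¹) := by group
      _ = b * (b * b' * d) * d := by rw [hnb, x1, hnd]
      _ = (b * b) * b' * (d * d) := by group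
      _ = b' := by rw [hbb, hdd, one_mul, mul_one]
  have hne2 : n * (b * b' * d) * n⁻¹ ≠ b * b' * d := by
    rw [e3]
    intro e
    -- b' = b b' d ⇒ d = b
    have h2 : b * d = 1 := by
      have : b' * (b * d) = b' * 1 := by
        calc b' * (b * d) = (b' * b) * d := by group
          _ = b * b' * d := by rw [h.UU_comm b'U bU]
          _ = b' * 1 := by rw [← e, mul_one]
      exact mul_left_cancel this
    have h3 : d = b := by
      calc d = (b * b) * d := by rw [hbb, one_mul]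
        _ = b * (b * d) := by group
        _ = b := by rw [h2, mul_one]
    exact h.Adj_not_mem hb (h3 ▸ h1.2.2.1)
  have o2 : Opp M r t N s b (b * b' * d) := ⟨hb, h1.2.2.2.2.2.1, n, hn, hne2⟩
  refine ⟨o2, ?_⟩
  obtain ⟨d', hd'⟩ := Opp.isAt j o2
  have x2 := (hd'.2.2.2.2.2.2.1 n hn).resolve_left hne2
  rw [e3] at x2
  have : d' = d := by
    have h4 : b' = b' * (d * d') := by
      calc b' = b * (b * b' * d) * d' := x2
        _ = (b * b) * b' * (d * d') := by group
        _ = b' * (d * d') := by rw [hbb, one_mul]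
    have h5 : d * d' = 1 := by
      have : b' * 1 = b' * (d * d') := by rw [← h4, mul_one]
      exact (mul_left_cancel this).symm
    calc d' = (d * d) * d' := by rw [hdd, one_mul]
      _ = d * (d * d') := by group
      _ = d := by rw [h5, mul_one]
  rw [this] at hd'
  exact hd'

/-- the third line of two lines opposite to `a` is `⟨s,a⟩` or not opposite to `a` -/
theorem third_not (h : TvH M r t Q N) (j : JOpp M r t Q N) (e1 : E1 M r t N) {s a b b' d : G}
    (o : Opp M r t N s a b) (o' : Opp M r t N s a b') (h1 : IsAt M r t Q N s b b' d) :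
    ¬ Opp M r t N s a (b * b' * d) := by
  intro o''
  have ha := o.1
  obtain ⟨c, hc⟩ := Opp.isAt j o
  obtain ⟨c', hc'⟩ := Opp.isAt j o'
  obtain ⟨c'', hc''⟩ := Opp.isAt j o''
  obtain ⟨n, hn, hne⟩ := o.2.2
  have mv : ∀ x, Opp M r t N s a x → n * x * n⁻¹ ≠ x := by
    intro x ox e
    have h3 : n * x = x * n := by
      calc n * x = (n * x * n⁻¹) * n := by group
        _ = x * n := by rw [e]
    have h4 := (e1 s a b x o ox n hn).2 h3
    apply hne
    rw [h4]; group
  have x1 := (hc.2.2.2.2.2.2.1 n hn).resolve_left hne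
  have x2 := (hc'.2.2.2.2.2.2.1 n hn).resolve_left (mv _ o')
  have x3 := (hc''.2.2.2.2.2.2.1 n hn).resolve_left (mv _ o'')
  have hns := h.N_comm ha hn
  have aU := Om_le_UU (h.Adj_right ha)
  have bU := Om_le_UU (h.Adj_right o.2.1)
  have b'U := Om_le_UU (h.Adj_right o'.2.1)
  have hdn : n * d * n⁻¹ ∈ ZC Q s := (h.ZC_fix hns).2 h1.2.2.1
  -- compare
  have e3 : n * (b * b' * d) * n⁻¹ = b * b' * (c * c' * (n * d * n⁻¹)) := by
    calc n * (b * b' * d) * n⁻¹ = (n * b * n⁻¹) * (n * b' * n⁻¹) * (n * d * n⁻¹) := by group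
      _ = (a * b * c) * (a * b' * c') * (n * d * n⁻¹) := by rw [x1, x2]
      _ = a * (b * c * a) * b' * c' * (n * d * n⁻¹) := by group
      _ = a * (a * (b * c)) * b' * c' * (n * d * n⁻¹) := by rw [h.UU_comm (mul_mem bU hc.2.1) aU]
      _ = (a * a) * b * (c * b') * c' * (n * d * n⁻¹) := by group
      _ = b * (b' * c) * c' * (n * d * n⁻¹) := by
          rw [h.Om_sq (h.Adj_right ha), one_mul, h.UU_comm hc.2.1 b'U]
      _ = _ := by group
  rw [e3] at x3
  have e4 : a * (b * b' * d) * c'' = b * b' * (a * d * c'') := by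
    calc a * (b * b' * d) * c'' = (a * (b * b')) * d * c'' := by group
      _ = ((b * b') * a) * d * c'' := by rw [h.UU_comm aU (mul_mem bU b'U)]
      _ = _ := by group
  rw [e4] at x3
  have e5 := mul_left_cancel x3
  have h6 : a ∈ ZC Q s := by
    have : a = (c * c' * (n * d * n⁻¹)) * (d * c'')⁻¹ := by
      rw [e5]; group
    rw [this]
    exact mul_mem (mul_mem (mul_mem hc.2.2.1 hc'.2.2.1) hdn)
      (inv_mem (mul_mem h1.2.2.1 hc''.2.2.1))
  exact h.Adj_not_mem ha h6

/-- constant in the second argument -/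
theorem IsAt.const (h : TvH M r t Q N) (j : JOpp M r t Q N) (jn : JNon M r t N) (e1 : E1 M r t N)
    {s a b b' c c' : G} (o : Opp M r t N s a b) (o' : Opp M r t N s a b')
    (h1 : IsAt M r t Q N s a b c) (h2 : IsAt M r t Q N s a b' c') : c = c' := by
  by_cases hb1 : b' = b
  · subst hb1; exact IsAt.unique o h1 h2
  by_cases hb2 : b' = s * b
  · subst hb2
    exact IsAt.unique o' (IsAt.mul h j o h1) h2
  by_cases hno : Opp M r t N s b b'
  · -- case (iii)
    obtain ⟨d, hd⟩ := Opp.isAt j hno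
    have key : ∀ b b' c : G, Opp M r t N s a b → Opp M r t N s a b' → Opp M r t N s b b' →
        IsAt M r t Q N s b b' d → IsAt M r t Q N s a b c → c = d := by
      intro b b' c o o' hno hd h1
      have ob : Opp M r t N s b a := (j s a b o).1
      have h1' := IsAt.symm h o h1
      obtain ⟨o3, h3⟩ := IsAt.third h j hno hd
      have hn := third_not h j e1 o o' hd
      by_cases k1 : b * b' * d = a
      · rw [k1] at h3
        exact IsAt.unique ob h1' h3
      by_cases k2 : b * b' * d = s * a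
      · rw [k2] at h3 o3
        have h4 := IsAt.mul h j ob h1'
        exact IsAt.unique o3 h4 h3
      · have hn' : ¬ Opp M r t N s a (b * b' * d) := hn
        exact IsAt.const2 h jn e1 ob o3 k1 k2 hn' h1' h3
    have k1 := key b b' c o o' hno hd h1
    have hd' := IsAt.symm h hno hd
    have k2 := key b' b c' o' o (j s b b' hno).1 hd' h2
    rw [k1, k2]
  · exact IsAt.const2 h jn e1 o o' hb1 hb2 hno h1 h2

/-- common opposite -/
theorem common (h : TvH M r t Q N) (j : JOpp M r t Q N) (jn : JNon M r t N)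
    {s a a' : G} (ha : Adj M r t s a) (ha' : Adj M r t s a') :
    ∃ b, Opp M r t N s a b ∧ Opp M r t N s a' b := by
  obtain ⟨b, ob⟩ := exists_opp h ha
  obtain ⟨b', ob'⟩ := exists_opp h ha'
  by_cases k1 : Opp M r t N s a' b
  · exact ⟨b, ob, k1⟩
  by_cases k2 : Opp M r t N s a b'
  · exact ⟨b', k2, ob'⟩
  have hb := ob.2.1
  have hb' := ob'.2.1
  -- elements of `N a'` fix `b`, elements of `N a` fix `b'`
  have f1 : ∀ n ∈ N a', n * b * n⁻¹ = b := by
    intro n hn
    by_contra hne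
    exact k1 ⟨ha', hb, n, hn, hne⟩
  have f2 : ∀ n ∈ N a, n * b' * n⁻¹ = b' := by
    intro n hn
    by_contra hne
    exact k2 ⟨ha, hb', n, hn, hne⟩
  have e1 : b' ≠ b := by rintro rfl; exact k2 ob
  have e2 : b' ≠ s * b := by rintro rfl; exact k2 (j s a b ob).2.2.1
  obtain ⟨n, hn, hne⟩ := ob.2.2
  obtain ⟨n', hn', hne'⟩ := ob'.2.2
  by_cases hno : Opp M r t N s b b'
  · obtain ⟨d, hd⟩ := Opp.isAt j hno
    obtain ⟨c, hc⟩ := Opp.isAt j ob
    obtain ⟨c', hc'⟩ := Opp.isAt j ob'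
    have x1 := (hc.2.2.2.2.2.2.1 n hn).resolve_left hne
    have x2 := (hc'.2.2.2.2.2.2.1 n' hn').resolve_left hne'
    have aU := Om_le_UU (h.Adj_right ha)
    have a'U := Om_le_UU (h.Adj_right ha')
    have bU := Om_le_UU (h.Adj_right hb)
    have b'U := Om_le_UU (h.Adj_right hb')
    refine ⟨b * b' * d, ⟨ha, hd.2.2.2.2.2.1, n, hn, ?_⟩, ⟨ha', hd.2.2.2.2.2.1, n', hn', ?_⟩⟩
    · intro e
      have e3 : n * (b * b' * d) * n⁻¹ = b * b' * (a * c * (n * d * n⁻¹)) := by
        calc n * (b * b' * d) * n⁻¹ = (n * b * n⁻¹) * (n * b' * n⁻¹) * (n * d * n⁻¹) := by group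
          _ = (a * b * c) * b' * (n * d * n⁻¹) := by rw [x1, f2 n hn]
          _ = (a * b) * (c * b') * (n * d * n⁻¹) := by group
          _ = (b * a) * (b' * c) * (n * d * n⁻¹) := by rw [h.UU_comm aU bU, h.UU_comm hc.2.1 b'U]
          _ = b * (a * b') * c * (n * d * n⁻¹) := by group
          _ = b * (b' * a) * c * (n * d * n⁻¹) := by rw [h.UU_comm aU b'U]
          _ = _ := by group
      rw [e3] at e
      have e4 := mul_left_cancel e
      have : a = d * (n * d * n⁻¹)⁻¹ * c⁻¹ := by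
        calc a = (a * c * (n * d * n⁻¹)) * (n * d * n⁻¹)⁻¹ * c⁻¹ := by group
          _ = _ := by rw [e4]
      apply h.Adj_not_mem ha
      rw [this]
      exact mul_mem (mul_mem hd.2.2.1 (inv_mem ((h.ZC_fix (h.N_comm ha hn)).2 hd.2.2.1)))
        (inv_mem hc.2.2.1)
    · intro e
      have e3 : n' * (b * b' * d) * n'⁻¹ = b * b' * (a' * c' * (n' * d * n'⁻¹)) := by
        calc n' * (b * b' * d) * n'⁻¹ = (n' * b * n'⁻¹) * (n' * b' * n'⁻¹) * (n' * d * n'⁻¹) := by
              group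
          _ = b * (a' * b' * c') * (n' * d * n'⁻¹) := by rw [x2, f1 n' hn']
          _ = b * (b' * a' * c') * (n' * d * n'⁻¹) := by rw [h.UU_comm a'U b'U]
          _ = _ := by group
      rw [e3] at e
      have e4 := mul_left_cancel e
      have : a' = d * (n' * d * n'⁻¹)⁻¹ * c'⁻¹ := by
        calc a' = (a' * c' * (n' * d * n'⁻¹)) * (n' * d * n'⁻¹)⁻¹ * c'⁻¹ := by group
          _ = _ := by rw [e4]
      apply h.Adj_not_mem ha'
      rw [this]
      exact mul_mem (mul_mem hd.2.2.1 (inv_mem ((h.ZC_fix (h.N_comm ha' hn')).2 hd.2.2.1)))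
        (inv_mem hc'.2.2.1)
  · have hadj := (jn s b b' hb hb' e1 e2 hno).1
    refine ⟨b * b', ⟨ha, hadj, n, hn, ?_⟩, ⟨ha', hadj, n', hn', ?_⟩⟩
    · intro e
      apply hne
      have e3 : n * (b * b') * n⁻¹ = (n * b * n⁻¹) * b' := by
        calc n * (b * b') * n⁻¹ = (n * b * n⁻¹) * (n * b' * n⁻¹) := by group
          _ = _ := by rw [f2 n hn]
      rw [e3] at e
      exact mul_right_cancel e
    · intro e
      apply hne'
      have e3 : n' * (b * b') * n'⁻¹ = b * (n' * b' * n'⁻¹) := by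
        calc n' * (b * b') * n'⁻¹ = (n' * b * n'⁻¹) * (n' * b' * n'⁻¹) := by group
          _ = _ := by rw [f1 n' hn']
      rw [e3] at e
      exact mul_left_cancel e

/-- constant at a point -/
theorem exists_is (h : TvH M r t Q N) (j : JOpp M r t Q N) (jn : JNon M r t N) (e1 : E1 M r t N)
    (s : G) (hs : s ∈ Om M r) : ∃ c, Is M r t Q N s c := by
  obtain ⟨m, hm, rfl⟩ := hs
  have hA : Adj M r t (m * r * m⁻¹) (m * t * m⁻¹) := ⟨m, hm, rfl, rfl⟩
  obtain ⟨b0, o0⟩ := exists_opp h hA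
  obtain ⟨c, hc⟩ := Opp.isAt j o0
  refine ⟨c, ?_⟩
  intro a b o
  obtain ⟨c', hc'⟩ := Opp.isAt j o
  obtain ⟨x, o1, o2⟩ := common h j jn hA o.1
  obtain ⟨c1, hc1⟩ := Opp.isAt j o1
  obtain ⟨c2, hc2⟩ := Opp.isAt j o2
  have k1 := IsAt.const h j jn e1 o0 o1 hc hc1
  have k2 := IsAt.const h j jn e1 (j _ _ _ o1).1 (j _ _ _ o2).1 (IsAt.symm h o1 hc1) (IsAt.symm h o2 hc2)
  have k3 := IsAt.const h j jn e1 o2 o hc2 hc'
  have : c = c' := by rw [k1, k2, k3]
  rw [← this] at hc'
  exact ⟨hc'.1, hc'.2.1, hc'.2.2.1, hc'.2.2.2.1, hc'.2.2.2.2.2.1, hc'.2.2.2.2.2.2.1⟩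

theorem Is.conj (h : TvH M r t Q N) {m s c : G} (hm : m ∈ M) (h1 : Is M r t Q N s c) :
    Is M r t Q N (m * s * m⁻¹) (m * c * m⁻¹) := by
  intro a b o
  have o' := Opp.conj h (M.inv_mem hm) o
  have e1 : m⁻¹ * (m * s * m⁻¹) * m⁻¹⁻¹ = s := by group
  rw [e1] at o'
  obtain ⟨x1, x2, x3, x4, x5, x6⟩ := h1 _ _ o'
  refine ⟨?_, UU_conj hm x2, h.ZC_conj.2 x3, ?_, ?_, ?_⟩
  · intro e
    apply x1
    have : c = m⁻¹ * (m * c * m⁻¹) * m := by group
    rw [this, e]; group
  · have := (h.ZC_conj (g := m)).2 x4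
    have e : m * (m⁻¹ * a * m⁻¹⁻¹) * m⁻¹ = a := by group
    rwa [e] at this
  · have := x5.conj hm
    have e : m * (m⁻¹ * a * m⁻¹⁻¹ * (m⁻¹ * b * m⁻¹⁻¹) * c) * m⁻¹ = a * b * (m * c * m⁻¹) := by group
    rwa [e] at this
  · intro n hn
    have hn' : m⁻¹ * n * m⁻¹⁻¹ ∈ N (m⁻¹ * a * m⁻¹⁻¹) := h.Nc _ _ _ hn
    rcases x6 _ hn' with h2 | h2
    · left
      have e : n * b * n⁻¹ = m * (m⁻¹ * n * m⁻¹⁻¹ * (m⁻¹ * b * m⁻¹⁻¹) * (m⁻¹ * n * m⁻¹⁻¹)⁻¹) * m⁻¹ := by
        group
      rw [e, h2]; group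
    · right
      have e : n * b * n⁻¹ = m * (m⁻¹ * n * m⁻¹⁻¹ * (m⁻¹ * b * m⁻¹⁻¹) * (m⁻¹ * n * m⁻¹⁻¹)⁻¹) * m⁻¹ := by
        group
      rw [e, h2]; group

theorem Is.unique (h : TvH M r t Q N) {s c c' : G} (hs : s ∈ Om M r) (h1 : Is M r t Q N s c)
    (h2 : Is M r t Q N s c') : c = c' := by
  obtain ⟨m, hm, rfl⟩ := hs
  have hA : Adj M r t (m * r * m⁻¹) (m * t * m⁻¹) := ⟨m, hm, rfl, rfl⟩
  obtain ⟨b, o⟩ := exists_opp h hA
  have x1 := h1 _ _ o
  have x2 := h2 _ _ o
  obtain ⟨-, -, n, hn, hne⟩ := o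
  have e1 := (x1.2.2.2.2.2 n hn).resolve_left hne
  have e2 := (x2.2.2.2.2.2 n hn).resolve_left hne
  rw [e1] at e2
  exact mul_left_cancel e2

/-- (8) -/
theorem jconst (h : TvH M r t Q N) (j : JOpp M r t Q N) (jn : JNon M r t N) (e1 : E1 M r t N) :
    ∃ c, JConst M r t Q N c := by
  obtain ⟨c, hc⟩ := exists_is h j jn e1 r Om_base
  have step : ∀ s s', Adj M r t s s' → Is M r t Q N s c → Is M r t Q N s' c := by
    intro s s' a hi
    obtain ⟨x, hx, x1, x2, x3⟩ := swap_elt h a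
    have h1 := Is.conj h hx hi
    rw [x1] at h1
    obtain ⟨b, o⟩ := exists_opp h a
    have h2 := hi _ _ o
    have h3 := x3 c h2.2.2.1 h2.2.2.2.1
    have h4 : x * c * x⁻¹ = c := by rw [h3]; group
    rwa [h4] at h1
  have all : ∀ s ∈ Om M r, Is M r t Q N s c := fun s hs => h.conn_ind hc step hs
  obtain ⟨b, o⟩ := exists_opp h Adj_base
  have hb := hc _ _ o
  refine ⟨c, hb.1, hb.2.1, ?_, ?_, ?_⟩
  · intro s hs
    obtain ⟨m, hm, rfl⟩ := hs
    have hA : Adj M r t (m * r * m⁻¹) (m * t * m⁻¹) := ⟨m, hm, rfl, rfl⟩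
    obtain ⟨b, o⟩ := exists_opp h hA
    exact (all _ ⟨m, hm, rfl⟩ _ _ o).2.2.1
  · intro m hm
    have h1 := Is.conj h hm hc
    have h2 := all (m * r * m⁻¹) ⟨m, hm, rfl⟩
    have h3 := Is.unique h ⟨m, hm, rfl⟩ h1 h2
    calc m * c = (m * c * m⁻¹) * m := by group
      _ = c * m := by rw [h3]
  · intro s a b o
    have h1 := all s o.1.left _ _ o
    exact ⟨h1.2.2.2.2.1, h1.2.2.2.2.2⟩

end Cfsg.Agent.Omega.HOne.TvConst
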