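import Cfsg.Agent.Omega.HOne.TvDef
import Cfsg.Agent.Involutions.BaerSuzuki
import Cfsg.Agent.Omega.MinPar

/-!
# II.0h1, `q = 2`, case (beta): the H-side of (13) of #15959 (helper916; Lean: helper52)

* `IsTv a K c` : the automorphism `a` of `M` is the transvection with axis `K` and centre `c`;
* `false_of` : `X ≤ Aut M`, `M` elementary abelian, `O_2(X) = 1`, `T` Sylow in `X`: there are no two
  transvections in `X` with the same axis and different centres fixed by `T` (Baer-Suzuki);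
* `hside_of` : the same for `H` acting on `NN`: `HSide S H NN`;
* `red_of` : the hypothesis '2-reduced' for `NN = ⟨z^g : g ∈ H, z ∈ Z⟩`, `Z` central in the Sylow group `S`.
-/

set_option autoImplicit false

namespace Cfsg.Agent.Omega.HOne.TvHSide

open Subgroup

theorem le_normalizer_of {G : Type*} [Group G] {A B : Subgroup G} (h : ∀ a ∈ A, ∀ b ∈ B, a * b * a⁻¹ ∈ B) :
    A ≤ normalizer (B : Set G) := by
  intro a ha
  rw [mem_normalizer_iff]
  refine fun b => ⟨h a ha b, fun hb => ?_⟩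
  have h1 := h a⁻¹ (A.inv_mem ha) _ hb
  have e : a⁻¹ * (a * b * a⁻¹) * a⁻¹⁻¹ = b := by group
  rwa [e] at h1

/-! ### transvections -/

section abs

variable {M : Type*} [CommGroup M]

/-- `a` is the transvection with axis `K` and centre `c` -/
structure IsTv (a : MulAut M) (K : Subgroup M) (c : M) : Prop where
  fix : ∀ n ∈ K, a n = n
  mov : ∀ n, n ∉ K → a n = n * c
  mem : c ∈ K
  idx : ∀ m n, m ∉ K → n ∉ K → m * n ∈ K

variable {a b : MulAut M} {K L : Subgroup M} {c d : M}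

theorem IsTv.sq (hM : ∀ m : M, m * m = 1) (h : IsTv a K c) : a * a = 1 := by
  ext n
  rw [MulAut.mul_apply, MulAut.one_apply]
  by_cases hn : n ∈ K
  · rw [h.fix n hn, h.fix n hn]
  · rw [h.mov n hn, map_mul, h.mov n hn, h.fix c h.mem, mul_assoc, hM, mul_one]

theorem IsTv.cen (h : IsTv a K c) : a c = c := h.fix c h.mem

/-- `(a b)^4 = 1` if the centre of `b` is in the axis of `a` -/
theorem IsTv.pow_four (hM : ∀ m : M, m * m = 1) (ha : IsTv a K c) (hb : IsTv b L d) (h : d ∈ K) :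
    (a * b) ^ 4 = 1 := by
  have hd : (a * b) d = d := by rw [MulAut.mul_apply, hb.cen, ha.fix d h]
  have hc : (a * b) c = c ∨ (a * b) c = c * d := by
    rw [MulAut.mul_apply]
    by_cases hn : c ∈ L
    · rw [hb.fix c hn]
      exact Or.inl ha.cen
    · rw [hb.mov c hn, map_mul, ha.cen, ha.fix d h]
      exact Or.inr rfl
  -- `g n ∈ n ⟨c, d⟩`
  have hn : ∀ n, (a * b) n = n ∨ (a * b) n = n * c ∨ (a * b) n = n * d ∨ (a * b) n = n * c * d := by
    intro n
    rw [MulAut.mul_apply]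
    by_cases h1 : n ∈ L
    · rw [hb.fix n h1]
      by_cases h2 : n ∈ K
      · exact Or.inl (ha.fix n h2)
      · exact Or.inr (Or.inl (ha.mov n h2))
    · rw [hb.mov n h1, map_mul, ha.fix d h]
      by_cases h2 : n ∈ K
      · rw [ha.fix n h2]
        exact Or.inr (Or.inr (Or.inl rfl))
      · rw [ha.mov n h2]
        exact Or.inr (Or.inr (Or.inr rfl))
  -- `g² n ∈ n ⟨d⟩`
  have h2 : ∀ n, (a * b) ((a * b) n) = n ∨ (a * b) ((a * b) n) = n * d := by
    intro n
    have e1 : ∀ x : M, x * c * c = x := fun x => by rw [mul_assoc, hM, mul_one]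
    have e2 : ∀ x : M, x * d * d = x := fun x => by rw [mul_assoc, hM, mul_one]
    have e3 : ∀ x : M, x * d * c = x * c * d := fun x => mul_right_comm x d c
    rcases hn n with h1 | h1 | h1 | h1
    · rw [h1, h1]
      exact Or.inl rfl
    · rw [h1, map_mul, h1]
      rcases hc with h2 | h2
      · rw [h2, e1]
        exact Or.inl rfl
      · rw [h2, ← mul_assoc, e1]
        exact Or.inr rfl
    · rw [h1, map_mul, h1, hd, e2]
      exact Or.inl rfl
    · rw [h1, map_mul, map_mul, h1, hd]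
      rcases hc with h2 | h2
      · rw [h2, e3, e1, e2]
        exact Or.inl rfl
      · rw [h2, ← mul_assoc, e3, e1, e2]
        exact Or.inr rfl
  have h4 : ∀ n, (a * b) ((a * b) ((a * b) ((a * b) n))) = n := by
    intro n
    rcases h2 n with h3 | h3
    · rw [h3, h3]
    · rw [h3, map_mul, map_mul, hd, hd, h3, mul_assoc, hM, mul_one]
  ext n
  rw [pow_succ, pow_succ, pow_succ, pow_one, MulAut.mul_apply, MulAut.mul_apply, MulAut.mul_apply,
    MulAut.one_apply]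
  exact h4 n

/-- conjugate transvections -/
theorem IsTv.conj (h : IsTv a K c) (g : MulAut M) :
    IsTv (g * a * g⁻¹) (K.map g.toMonoidHom) (g c) := by
  have key : ∀ n, n ∈ K.map g.toMonoidHom ↔ g⁻¹ n ∈ K := by
    intro n
    constructor
    · rintro ⟨k, hk, rfl⟩
      have : g⁻¹ (g.toMonoidHom k) = k := by
        change g⁻¹ (g k) = k
        rw [← MulAut.mul_apply, inv_mul_cancel, MulAut.one_apply]
      rw [this]
      exact hk
    · intro hn
      refine ⟨g⁻¹ n, hn, ?_⟩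
      change g (g⁻¹ n) = n
      rw [← MulAut.mul_apply, mul_inv_cancel, MulAut.one_apply]
  have gg : ∀ n, g (g⁻¹ n) = n := fun n => by
    rw [← MulAut.mul_apply, mul_inv_cancel, MulAut.one_apply]
  have gg' : ∀ n, g⁻¹ (g n) = n := fun n => by
    rw [← MulAut.mul_apply, inv_mul_cancel, MulAut.one_apply]
  refine ⟨fun n hn => ?_, fun n hn => ?_, ?_, fun m n hm hn => ?_⟩
  · rw [MulAut.mul_apply, MulAut.mul_apply, h.fix _ ((key n).1 hn), gg]
  · rw [MulAut.mul_apply, MulAut.mul_apply, h.mov _ (fun h1 => hn ((key n).2 h1)), map_mul, gg]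
  · rw [key, gg']
    exact h.mem
  · rw [key, map_mul]
    exact h.idx _ _ (fun h1 => hm ((key m).2 h1)) fun h1 => hn ((key n).2 h1)

/-- **Baer-Suzuki for transvections.** -/
theorem exists_tv [Finite M] (hM : ∀ m : M, m * m = 1) {X : Subgroup (MulAut M)} (ha : IsTv a K c)
    (haX : a ∈ X) (hX : ∀ (Y : Subgroup (MulAut M)), Y ≤ X → X ≤ normalizer (Y : Set (MulAut M)) →
      IsPGroup 2 Y → Y = ⊥) (hne : a ≠ 1) :
    ∃ b ∈ X, ∃ (L : Subgroup M) (d : M), IsTv b L d ∧ d ∉ K ∧ c ∉ L := by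
  have haa := ha.sq hM
  obtain ⟨g, hg1, hgo, hgi⟩ := Involutions.BaerSuzuki.exists_odd_inverted (G := X) ⟨a, haX⟩
    (Subtype.ext haa) (by
      intro h1
      have h2 := hX ((normalClosure {(⟨a, haX⟩ : X)}).map X.subtype) (map_subtype_le _) ?_ (h1.map _)
      · have h3 : (⟨a, haX⟩ : X) ∈ normalClosure {(⟨a, haX⟩ : X)} := subset_normalClosure rfl
        have h4 := mem_map_of_mem X.subtype h3
        rw [h2, mem_bot] at h4
        exact hne h4
      · have h3 : ((normalClosure {(⟨a, haX⟩ : X)}).map X.subtype).subgroupOf X =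
            normalClosure {(⟨a, haX⟩ : X)} := by
          rw [subgroupOf, comap_map_eq_self_of_injective X.subtype_injective]
        have h4 : (((normalClosure {(⟨a, haX⟩ : X)}).map X.subtype).subgroupOf X).Normal := by
          rw [h3]
          exact normalClosure_normal
        exact (normal_subgroupOf_iff_le_normalizer (map_subtype_le _)).1 h4)
  -- `a (g a g⁻¹) = g⁻²`
  have hgi' : a * (g : MulAut M) * a⁻¹ = (g : MulAut M)⁻¹ := congrArg Subtype.val hgi
  have haa' : a⁻¹ = a := inv_eq_of_mul_eq_one_left haa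
  refine ⟨g * a * (g : MulAut M)⁻¹, X.mul_mem (X.mul_mem g.2 haX) (X.inv_mem g.2), _, _, ha.conj g, ?_⟩
  have e : a * (g * a * (g : MulAut M)⁻¹) = ((g : MulAut M)⁻¹) ^ 2 := by
    have : a * (g * a * (g : MulAut M)⁻¹) = (a * g * a⁻¹) * (g : MulAut M)⁻¹ := by
      rw [haa']
      group
    rw [this, hgi', sq]
  have hodd : Odd (orderOf ((((g : MulAut M)⁻¹) ^ 2))) := by
    have h1 : orderOf ((g : MulAut M)⁻¹) = orderOf g := by rw [orderOf_inv, Subgroup.orderOf_coe]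
    exact Odd.of_dvd_nat (h1 ▸ hgo) (orderOf_pow_dvd 2)
  have hne2 : ((g : MulAut M)⁻¹) ^ 2 ≠ 1 := by
    intro h1
    rw [inv_pow, inv_eq_one] at h1
    have h2 : orderOf g ∣ 2 := orderOf_dvd_of_pow_eq_one (Subtype.ext h1)
    rcases (Nat.dvd_prime Nat.prime_two).1 h2 with h3 | h3
    · exact hg1 (orderOf_eq_one_iff.1 h3)
    · rw [h3] at hgo
      exact absurd hgo (by decide)
  have hfour : ∀ x : MulAut M, Odd (orderOf x) → x ^ 4 = 1 → x = 1 := by
    intro x h1 h2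
    have h3 : orderOf x ∣ 2 ^ 2 := orderOf_dvd_of_pow_eq_one h2
    have h4 : Nat.Coprime (orderOf x) (2 ^ 2) := Nat.Coprime.pow_right 2 (Nat.coprime_two_right.2 h1)
    exact orderOf_eq_one_iff.1 (h4.eq_one_of_dvd h3)
  constructor
  · intro h1
    have h2 := ha.pow_four hM (ha.conj g) h1
    rw [e] at h2
    exact hne2 (hfour _ hodd h2)
  · intro h1
    have h2 := (ha.conj g).pow_four hM ha h1
    have e2 : g * a * (g : MulAut M)⁻¹ * a = (a * (g * a * (g : MulAut M)⁻¹))⁻¹ := by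
      rw [mul_inv_rev, mul_inv_rev, mul_inv_rev, inv_inv, haa', ← mul_assoc]
    rw [e2, e, inv_pow, inv_eq_one] at h2
    exact hne2 (hfour _ hodd h2)

/-- **The H-side, abstract form.** -/
theorem false_of [Finite M] (hM : ∀ m : M, m * m = 1) {X T : Subgroup (MulAut M)} (hTX : T ≤ X)
    (hX : ∀ (Y : Subgroup (MulAut M)), Y ≤ X → X ≤ normalizer (Y : Set (MulAut M)) →
      IsPGroup 2 Y → Y = ⊥)
    (hT : ∀ (Y : Subgroup (MulAut M)), Y ≤ X → T ≤ normalizer (Y : Set (MulAut M)) →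
      IsPGroup 2 Y → Y ≤ T)
    (ha : IsTv a K c) (hb : IsTv b K d) (haX : a ∈ X) (hbX : b ∈ X) (hn : ∃ n, n ∉ K)
    (hc : ∀ x ∈ T, x c = c) (hd : ∀ x ∈ T, x d = d) (hc1 : c ≠ 1) (hd1 : d ≠ 1) (hcd : d ≠ c) : False := by
  obtain ⟨n₀, hn₀⟩ := hn
  have hne : a ≠ 1 := by
    rintro rfl
    have h1 := ha.mov n₀ hn₀
    rw [MulAut.one_apply] at h1
    exact hc1 (by simpa using h1.symm)
  obtain ⟨a', ha'X, K', c', ha', h1, h2⟩ := exists_tv hM ha haX hX hne
  -- the centre `z` in `{d, c d}` with `z ∈ K'`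
  obtain ⟨z, e, heX, he, hz, hzT, hz1⟩ : ∃ (z : M) (e : MulAut M), e ∈ X ∧ IsTv e K z ∧ z ∈ K' ∧
      (∀ x ∈ T, x z = z) ∧ z ≠ 1 := by
    by_cases h3 : d ∈ K'
    · exact ⟨d, b, hbX, hb, h3, hd, hd1⟩
    · refine ⟨c * d, b * a, X.mul_mem hbX haX, ⟨fun n hn => ?_, fun n hn => ?_, K.mul_mem ha.mem hb.mem,
        ha.idx⟩, ha'.idx _ _ h2 h3, fun x hx => ?_, fun h4 => ?_⟩
      · rw [MulAut.mul_apply, ha.fix n hn, hb.fix n hn]
      · rw [MulAut.mul_apply, ha.mov n hn, map_mul, hb.mov n hn, hb.fix c ha.mem, mul_assoc, mul_comm d c]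
      · rw [map_mul, hc x hx, hd x hx]
      · apply hcd
        rw [mul_eq_one_iff_inv_eq, inv_eq_of_mul_eq_one_left (hM c)] at h4
        exact h4.symm
  have ha'i : a'⁻¹ = a' := inv_eq_of_mul_eq_one_left (ha'.sq hM)
  -- `f = e (a' e a'⁻¹)` is the transvection with axis `K'` and centre `z`
  have ha'z : a' z = z := ha'.fix z hz
  have hf : ∀ n, n ∉ K' → (e * (a' * e * a'⁻¹)) n = n * z := by
    intro n hn
    rw [ha'i, MulAut.mul_apply, MulAut.mul_apply, MulAut.mul_apply, ha'.mov n hn]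
    have hc'n : a' c' = c' := ha'.cen
    have hzz : ∀ x : M, x * z * z = x := fun x => by rw [mul_assoc, hM, mul_one]
    have hcc : ∀ x : M, x * c' * c' = x := fun x => by rw [mul_assoc, hM, mul_one]
    have h5 : a' (n * c') = n := by rw [map_mul, ha'.mov n hn, hc'n, hcc]
    by_cases h3 : n ∈ K
    · have h4 : n * c' ∉ K := fun h5 => h1 (by
        have := K.mul_mem (K.inv_mem h3) h5
        rwa [inv_mul_cancel_left] at this)
      rw [he.mov _ h4, map_mul, h5, ha'z, map_mul, he.fix n h3, he.cen]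
    · have h4 : n * c' ∈ K := he.idx _ _ h3 h1
      rw [he.fix _ h4, h5, he.mov n h3]
  have hf' : ∀ n, n ∈ K' → (e * (a' * e * a'⁻¹)) n = n := by
    intro n hn
    rw [ha'i, MulAut.mul_apply, MulAut.mul_apply, MulAut.mul_apply, ha'.fix n hn]
    have hzz : ∀ x : M, x * z * z = x := fun x => by rw [mul_assoc, hM, mul_one]
    by_cases h3 : n ∈ K
    · rw [he.fix n h3, ha'.fix n hn, he.fix n h3]
    · rw [he.mov n h3, map_mul, ha'.fix n hn, ha'z, map_mul, he.mov n h3, he.cen, hzz]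
  -- the group of the transvections with centre `z`
  let E : Subgroup (MulAut M) :=
    { carrier := {x | x ∈ X ∧ x z = z ∧ ∀ n, x n = n ∨ x n = n * z}
      one_mem' := ⟨X.one_mem, rfl, fun n => Or.inl rfl⟩
      mul_mem' := by
        rintro x y ⟨hx, hxz, hx'⟩ ⟨hy, hyz, hy'⟩
        refine ⟨X.mul_mem hx hy, by rw [MulAut.mul_apply, hyz, hxz], fun n => ?_⟩
        rw [MulAut.mul_apply]
        rcases hy' n with h3 | h3
        · rw [h3]
          exact hx' n
        · rw [h3, map_mul, hxz]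
          rcases hx' n with h4 | h4
          · rw [h4]
            exact Or.inr rfl
          · rw [h4, mul_assoc, hM, mul_one]
            exact Or.inl rfl
      inv_mem' := by
        rintro x ⟨hx, hxz, hx'⟩
        have hxx : ∀ n, x⁻¹ (x n) = n := fun n => by
          rw [← MulAut.mul_apply, inv_mul_cancel, MulAut.one_apply]
        have h3 : x⁻¹ z = z := by
          have := hxx z
          rwa [hxz] at this
        refine ⟨X.inv_mem hx, h3, fun n => ?_⟩
        rcases hx' n with h4 | h4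
        · left
          have := hxx n
          rwa [h4] at this
        · right
          have := hxx (n * z)
          rwa [map_mul, hxz, h4, mul_assoc, hM, mul_one] at this }
  have hEp : IsPGroup 2 E := by
    rintro ⟨x, hx, hxz, hx'⟩
    refine ⟨1, Subtype.ext ?_⟩
    change x ^ 2 ^ 1 = 1
    rw [pow_one, sq]
    ext n
    rw [MulAut.mul_apply, MulAut.one_apply]
    rcases hx' n with h3 | h3
    · rw [h3, h3]
    · rw [h3, map_mul, h3, hxz, mul_assoc, hM, mul_one]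
  have hTE : T ≤ normalizer (E : Set (MulAut M)) := by
    refine le_normalizer_of fun t ht x hx => ?_
    obtain ⟨hxX, hxz, hx'⟩ := hx
    have htt : ∀ n, t (t⁻¹ n) = n := fun n => by
      rw [← MulAut.mul_apply, mul_inv_cancel, MulAut.one_apply]
    have htz : t⁻¹ z = z := hzT _ (T.inv_mem ht)
    refine ⟨X.mul_mem (X.mul_mem (hTX ht) hxX) (X.inv_mem (hTX ht)), ?_, fun n => ?_⟩
    · rw [MulAut.mul_apply, MulAut.mul_apply, htz, hxz, hzT t ht]
    · rw [MulAut.mul_apply, MulAut.mul_apply]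
      rcases hx' (t⁻¹ n) with h3 | h3
      · rw [h3, htt]
        exact Or.inl rfl
      · rw [h3, map_mul, htt, hzT t ht]
        exact Or.inr rfl
  have hET := hT E (fun x hx => hx.1) hTE hEp
  have hfE : e * (a' * e * a'⁻¹) ∈ E := by
    refine ⟨X.mul_mem heX (X.mul_mem (X.mul_mem ha'X heX) (X.inv_mem ha'X)), hf' z hz, fun n => ?_⟩
    by_cases h3 : n ∈ K'
    · exact Or.inl (hf' n h3)
    · exact Or.inr (hf n h3)
  have h3 := hc _ (hET hfE)
  rw [hf c h2] at h3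
  exact hz1 (by simpa using h3)

end abs

/-! ### subgroups -/

section app

variable {G : Type*} [Group G] [Finite G] {S H NN : Subgroup G}

/-- A subgroup `K` normalised by the Sylow group `S` of `H`, which is a 2-group modulo `C ⊴ H`, is in `S C`. -/
theorem exists_mul {C K : Subgroup G} (hS : IsPGroup 2 S) (hSyl : ¬ 2 ∣ S.relIndex H)
    (hC : H ≤ normalizer (C : Set G)) (hKH : K ≤ H) (hSK : S ≤ normalizer (K : Set G))
    (hK : ∀ x ∈ K, ∃ k : ℕ, x ^ 2 ^ k ∈ C) {x : G} (hx : x ∈ K) : ∃ s ∈ S, ∃ c ∈ C, x = s * c := by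
  have h2 : Fact (Nat.Prime 2) := ⟨Nat.prime_two⟩
  have hn : (C.subgroupOf H).Normal := normal_subgroupOf_of_le_normalizer hC
  have h1 : IsPGroup 2 (S.subgroupOf H) := hS.comap_of_injective _ H.subtype_injective
  set f := QuotientGroup.mk' (C.subgroupOf H) with hf
  set P : Sylow 2 H := h1.toSylow hSyl with hP
  have hle := MinPar.le_of_le_normalizer (P.mapSurjective (QuotientGroup.mk'_surjective (C.subgroupOf H)))
    (U := (K.subgroupOf H).map f) (by
      rintro ⟨_, y, hy, rfl⟩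
      obtain ⟨k, hk⟩ := hK y hy
      refine ⟨k, Subtype.ext ?_⟩
      change f y ^ 2 ^ k = 1
      rw [← map_pow]
      exact (QuotientGroup.eq_one_iff _).2 hk) (by
      rw [Sylow.coe_mapSurjective]
      refine le_normalizer_of ?_
      rintro _ ⟨a, ha, rfl⟩ _ ⟨y, hy, rfl⟩
      refine ⟨a * y * a⁻¹, ?_, ?_⟩
      · exact (mem_normalizer_iff.1 (hSK (show (a : G) ∈ S from ha)) y).1 hy
      · rw [map_mul, map_mul, map_inv])
  have h3 : f ⟨x, hKH hx⟩ ∈ (P.mapSurjective (QuotientGroup.mk'_surjective (C.subgroupOf H)) :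
      Subgroup (H ⧸ C.subgroupOf H)) := hle ⟨⟨x, hKH hx⟩, hx, rfl⟩
  rw [Sylow.coe_mapSurjective] at h3
  obtain ⟨s, hs, hsx⟩ := h3
  refine ⟨s, hs, (s : G)⁻¹ * x, ?_, by rw [mul_inv_cancel_left]⟩
  have h4 := (QuotientGroup.eq).1 hsx
  exact h4

omit [Finite G] in
theorem le_normalizer_inf_centralizer (hNH : H ≤ normalizer (NN : Set G)) :
    H ≤ normalizer ((H ⊓ centralizer (NN : Set G) : Subgroup G) : Set G) := by
  refine le_normalizer_of fun x hx y hy => ⟨H.mul_mem (H.mul_mem hx hy.1) (H.inv_mem hx),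
    mem_centralizer_iff.2 fun n hn => ?_⟩
  have h2 : x⁻¹ * n * x ∈ NN := by
    have := (mem_normalizer_iff.1 (hNH (H.inv_mem hx)) n).1 hn
    rwa [inv_inv] at this
  have h3 := mem_centralizer_iff.1 hy.2 _ h2
  calc n * (x * y * x⁻¹) = x * ((x⁻¹ * n * x) * y) * x⁻¹ := by group
    _ = x * (y * (x⁻¹ * n * x)) * x⁻¹ := by rw [h3]
    _ = _ := by group

/-- **The H-side of (13) for `H` acting on `NN`.** -/
theorem hside_of (hSH : S ≤ H) (hS : IsPGroup 2 S) (hSyl : ¬ 2 ∣ S.relIndex H)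
    (hNH : H ≤ normalizer (NN : Set G)) (hsq : ∀ n ∈ NN, n * n = 1)
    (hab : ∀ m ∈ NN, ∀ n ∈ NN, m * n = n * m)
    (hred : ∀ K : Subgroup G, K ≤ H → H ≤ normalizer (K : Set G) →
      (∀ x ∈ K, ∃ k : ℕ, x ^ 2 ^ k ∈ centralizer (NN : Set G)) → K ≤ centralizer (NN : Set G)) :
    TvDef.HSide S H NN := by
  intro N0 n1 u0 u1 c z hN0 hn1 hcov hu0 hu1 h0 h1 hu0n hu1n hc hz hSc hSz hc1 hz1 hzc
  let _ : CommGroup NN := { (inferInstance : Group NN) with
    mul_comm := fun a b => Subtype.ext (hab a a.2 b b.2) }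
  have hM : ∀ m : NN, m * m = 1 := fun m => Subtype.ext (hsq m m.2)
  let ρ : H →* MulAut NN := (NN.normalizerMonoidHom).comp (inclusion hNH)
  have hρ : ∀ (x : H) (n : NN), ((ρ x n : NN) : G) = x * n * (x : G)⁻¹ := fun x n => rfl
  have hρ1 : ∀ x : H, ρ x = 1 ↔ (x : G) ∈ centralizer (NN : Set G) := by
    intro x
    rw [mem_centralizer_iff]
    constructor
    · intro h2 n hn
      have h3 : x * n * (x : G)⁻¹ = n := by
        have := hρ x ⟨n, hn⟩
        rw [h2] at this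
        exact this.symm
      exact (mul_inv_eq_iff_eq_mul.1 h3).symm
    · intro h2
      ext n
      rw [hρ, MulAut.one_apply, mul_inv_eq_iff_eq_mul]
      exact (h2 n n.2).symm
  have hCH := le_normalizer_inf_centralizer hNH
  have hpull : ∀ Y : Subgroup (MulAut NN), IsPGroup 2 Y → ∀ x ∈ (Y.comap ρ).map H.subtype,
      ∃ k : ℕ, x ^ 2 ^ k ∈ centralizer (NN : Set G) := by
    rintro Y hY _ ⟨x, hx, rfl⟩
    obtain ⟨k, hk⟩ := hY ⟨ρ x, hx⟩
    refine ⟨k, ?_⟩
    have h2 : ρ (x ^ 2 ^ k) = 1 := by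
      rw [map_pow]
      exact congrArg Subtype.val hk
    exact (hρ1 _).1 h2
  have htv : ∀ (u v : G) (hu : u ∈ H) (hv : v ∈ N0), (∀ n ∈ N0, u * n = n * u) → u * n1 * u⁻¹ = n1 * v →
      IsTv (ρ ⟨u, hu⟩) (N0.subgroupOf NN) ⟨v, hN0 hv⟩ := by
    intro u v hu hv h2 h3
    have hidx : ∀ m ∈ NN, ∀ n ∈ NN, m ∉ N0 → n ∉ N0 → m * n ∈ N0 := by
      intro m hm n hn hm' hn'
      have h4 := (hcov m hm).resolve_left hm'
      have h5 := (hcov n hn).resolve_left hn'
      have h6 : m * n = (n1 * m) * (n1 * n) := by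
        calc m * n = (n1 * n1) * (m * n) := by rw [hsq n1 hn1, one_mul]
          _ = n1 * (n1 * m) * n := by group
          _ = n1 * (m * n1) * n := by rw [hab n1 hn1 m hm]
          _ = _ := by group
      rw [h6]
      exact N0.mul_mem h4 h5
    refine ⟨fun n hn => ?_, fun n hn => ?_, hv, fun m n hm hn => hidx m m.2 n n.2 hm hn⟩
    · refine Subtype.ext ?_
      rw [hρ, mul_inv_eq_iff_eq_mul]
      exact h2 n hn
    · refine Subtype.ext ?_
      rw [hρ]
      have h4 := (hcov n n.2).resolve_left hn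
      have h5 : (n : G) = n1 * (n1 * n) := by rw [← mul_assoc, hsq n1 hn1, one_mul]
      change u * (n : G) * u⁻¹ = n * v
      have h6 := h2 _ h4
      have h7 := hab v (hN0 hv) (n1 * n) (hN0 h4)
      calc u * (n : G) * u⁻¹ = u * (n1 * (n1 * n)) * u⁻¹ := by rw [← h5]
        _ = (u * n1 * u⁻¹) * (u * (n1 * n)) * u⁻¹ := by group
        _ = n1 * v * ((n1 * n) * u) * u⁻¹ := by rw [h3, h6]
        _ = n1 * (v * (n1 * n)) := by group
        _ = n1 * ((n1 * n) * v) := by rw [h7]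
        _ = (n1 * (n1 * n)) * v := by group
        _ = n * v := by rw [← h5]
  have hn1' : n1 ∉ N0 := by
    intro h2
    have h3 := h0 n1 h2
    rw [h3, mul_inv_cancel_right] at hu0n
    exact hc1 (by simpa using hu0n.symm)
  refine false_of hM (X := ρ.range) (T := (S.subgroupOf H).map ρ) ?_ ?_ ?_ (htv u0 c hu0 hc h0 hu0n)
    (htv u1 z hu1 hz h1 hu1n) ⟨_, rfl⟩ ⟨_, rfl⟩ ⟨⟨n1, hn1⟩, hn1'⟩ ?_ ?_ ?_ ?_ ?_
  · rintro _ ⟨x, -, rfl⟩
    exact ⟨x, rfl⟩
  · intro Y hYX hXY hY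
    rw [eq_bot_iff]
    intro y hy
    obtain ⟨x, rfl⟩ := hYX hy
    have h2 := hred ((Y.comap ρ).map H.subtype) (map_subtype_le _) ?_ (hpull Y hY) ⟨x, hy, rfl⟩
    · exact mem_bot.2 ((hρ1 x).2 h2)
    · refine le_normalizer_of ?_
      rintro g hg _ ⟨w, hw, rfl⟩
      refine ⟨⟨g, hg⟩ * w * ⟨g, hg⟩⁻¹, ?_, rfl⟩
      change ρ _ ∈ Y
      rw [map_mul, map_mul, map_inv]
      exact (mem_normalizer_iff.1 (hXY ⟨⟨g, hg⟩, rfl⟩) _).1 hw
  · intro Y hYX hTY hY y hy
    obtain ⟨x, rfl⟩ := hYX hy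
    obtain ⟨s, hs, k, hk, hxs⟩ := exists_mul (K := (Y.comap ρ).map H.subtype)
      (C := H ⊓ centralizer (NN : Set G)) hS hSyl hCH (map_subtype_le _) (by
        refine le_normalizer_of ?_
        rintro g hg _ ⟨w, hw, rfl⟩
        refine ⟨⟨g, hSH hg⟩ * w * ⟨g, hSH hg⟩⁻¹, ?_, rfl⟩
        change ρ _ ∈ Y
        rw [map_mul, map_mul, map_inv]
        exact (mem_normalizer_iff.1 (hTY ⟨⟨g, hSH hg⟩, hg, rfl⟩) _).1 hw) (by
        rintro w hw
        obtain ⟨k, hk⟩ := hpull Y hY w hw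
        exact ⟨k, H.pow_mem (map_subtype_le _ hw) _, hk⟩) ⟨x, hy, rfl⟩
    have h2 : x = ⟨s, hSH hs⟩ * ⟨k, hk.1⟩ := Subtype.ext hxs
    refine ⟨⟨s, hSH hs⟩, hs, ?_⟩
    rw [h2, map_mul, (hρ1 ⟨k, hk.1⟩).2 hk.2, mul_one]
  · rintro _ ⟨s, hs, rfl⟩
    refine Subtype.ext ?_
    rw [hρ, mul_inv_eq_iff_eq_mul]
    exact hSc s hs
  · rintro _ ⟨s, hs, rfl⟩
    refine Subtype.ext ?_
    rw [hρ, mul_inv_eq_iff_eq_mul]
    exact hSz s hs
  · exact fun h2 => hc1 (congrArg Subtype.val h2)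
  · exact fun h2 => hz1 (congrArg Subtype.val h2)
  · exact fun h2 => hzc (congrArg Subtype.val h2)

/-- **2-reduced**: `NN = ⟨z^g : z ∈ Z₀, g ∈ H⟩`, `Z₀ ⊆ H` centralised by the Sylow group `S` of `H`, `NN` abelian:
a normal subgroup of `H` which induces a 2-group on `NN` centralises `NN`. -/
theorem red_of {Z₀ : Set G} (hSH : S ≤ H) (hS : IsPGroup 2 S) (hSyl : ¬ 2 ∣ S.relIndex H)
    (hZS : ∀ x ∈ S, ∀ z ∈ Z₀, x * z = z * x)
    (hNH : H ≤ normalizer (NN : Set G)) (hZN : Z₀ ⊆ NN)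
    (hNN : NN ≤ closure {x | ∃ g ∈ H, ∃ z ∈ Z₀, g * z * g⁻¹ = x})
    (K : Subgroup G) (hKH : K ≤ H) (hHK : H ≤ normalizer (K : Set G))
    (hK : ∀ x ∈ K, ∃ k : ℕ, x ^ 2 ^ k ∈ centralizer (NN : Set G)) : K ≤ centralizer (NN : Set G) := by
  set C := H ⊓ centralizer (NN : Set G) with hCdef
  have hCH : H ≤ normalizer (C : Set G) := le_normalizer_inf_centralizer hNH
  have hKS : ∀ x ∈ K, ∃ s ∈ S, ∃ c ∈ C, x = s * c := fun x hx =>
    exists_mul hS hSyl hCH hKH (hSH.trans hHK)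
      (fun w hw => by
        obtain ⟨k, hk⟩ := hK w hw
        exact ⟨k, H.pow_mem (hKH hw) _, hk⟩) hx
  -- `L = K C`
  have hLH : K ⊔ C ≤ H := sup_le hKH inf_le_left
  have hHL : H ≤ normalizer ((K ⊔ C : Subgroup G) : Set G) := by
    refine le_normalizer_of fun x hx y hy => ?_
    have h1 : (K ⊔ C).map (MulAut.conj x).toMonoidHom ≤ K ⊔ C := by
      rw [Subgroup.map_sup]
      refine sup_le_sup ?_ ?_
      · rintro _ ⟨k, hk, rfl⟩
        exact (mem_normalizer_iff.1 (hHK hx) k).1 hk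
      · rintro _ ⟨k, hk, rfl⟩
        exact (mem_normalizer_iff.1 (hCH hx) k).1 hk
    exact h1 ⟨y, hy, rfl⟩
  have hmul : ∀ y ∈ K ⊔ C, ∃ s ∈ S ⊓ (K ⊔ C), ∃ c ∈ C, y = s * c := by
    intro y hy
    rw [← SetLike.mem_coe, coe_mul_of_left_le_normalizer_right K C (hKH.trans hCH)] at hy
    obtain ⟨k, hk, c, hc, rfl⟩ := Set.mem_mul.1 hy
    obtain ⟨s, hs, c', hc', rfl⟩ := hKS k hk
    refine ⟨s, ⟨hs, ?_⟩, c' * c, C.mul_mem hc' hc, mul_assoc _ _ _⟩
    have h1 := (K ⊔ C).mul_mem (mem_sup_left hk) (mem_sup_right (C.inv_mem hc'))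
    rwa [mul_inv_cancel_right] at h1
  have hfr := MinSimple.Basic.frattini hSH hS hSyl hHL
  -- `S ∩ L` centralises `NN`
  have hSL : S ⊓ (K ⊔ C) ≤ centralizer (NN : Set G) := by
    rw [le_centralizer_iff]
    refine hNN.trans ?_
    rw [closure_le]
    rintro _ ⟨g, hg, z, hz, rfl⟩
    have hg' := hfr hg
    rw [← SetLike.mem_coe, coe_mul_of_right_le_normalizer_left _ _ (inf_le_left.trans hHL)] at hg'
    obtain ⟨l, hl, n, hn, rfl⟩ := Set.mem_mul.1 hg'
    obtain ⟨s, hs, c, hc, rfl⟩ := hmul l hl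
    -- `s c n = (s n) c'`
    have hc' : n⁻¹ * c * n ∈ C := by
      have := (mem_normalizer_iff.1 (hCH (H.inv_mem hn.1)) c).1 hc
      rwa [inv_inv] at this
    have hcz : (n⁻¹ * c * n) * z * (n⁻¹ * c * n)⁻¹ = z := by
      rw [mul_inv_eq_iff_eq_mul]
      exact (mem_centralizer_iff.1 hc'.2 z (hZN hz)).symm
    have e : s * c * n * z * (s * c * n)⁻¹ = (s * n) * z * (s * n)⁻¹ := by
      calc s * c * n * z * (s * c * n)⁻¹ = (s * n) * ((n⁻¹ * c * n) * z * (n⁻¹ * c * n)⁻¹) * (s * n)⁻¹ := by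
            group
        _ = _ := by rw [hcz]
    rw [SetLike.mem_coe, e, mem_centralizer_iff]
    intro t ht
    have hsn : s * n ∈ normalizer ((S ⊓ (K ⊔ C) : Subgroup G) : Set G) :=
      mul_mem (le_normalizer hs) hn.2
    have ht' : (s * n)⁻¹ * t * (s * n) ∈ S ⊓ (K ⊔ C) := by
      have := (mem_normalizer_iff.1 (inv_mem hsn) t).1 ht
      rwa [inv_inv] at this
    have h3 := hZS _ ht'.1 z hz
    calc t * ((s * n) * z * (s * n)⁻¹) = (s * n) * (((s * n)⁻¹ * t * (s * n)) * z) * (s * n)⁻¹ := by group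
      _ = (s * n) * (z * ((s * n)⁻¹ * t * (s * n))) * (s * n)⁻¹ := by rw [h3]
      _ = _ := by group
  intro x hx
  obtain ⟨s, hs, c, hc, e⟩ := hmul x (mem_sup_left hx)
  rw [e]
  exact mul_mem (hSL hs) hc.2

end app

end Cfsg.Agent.Omega.HOne.TvHSide
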