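import Cfsg.Agent.Omega.HOne.TvDich
import Cfsg.Agent.Omega.HOne.TvOpp

/-!
# II.0h1, `q = 2`, case (β): (11) of #15959, the tail (helper865)

`s ~ t`, `s ∉ Q r` (so `⟨t,s⟩` is opposite to `V`), all pairs of lines are opposite.

* `comm_mem`     : (d) `[s, y] ∈ ⟨t⟩ Z(Q r)` for `y ∈ Q r` commuting with `t`;
* `not_zero`     : `[s, y] ∉ Z(Q r)` for some such `y`;
* `eleven_base`  : if `[s, N x] ≤ Q r` for all `x ~ r`, then there are exactly three lines on `r`;
* `jEleven_of_base` : transport to all points.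
-/

set_option autoImplicit false
set_option linter.unusedSectionVars false

namespace Cfsg.Agent.Omega.HOne.TvDef

open Subgroup

variable {G : Type*} [Group G] {M : Subgroup G} {r t : G} {Q N : G → Subgroup G}

namespace TvH

variable (h : TvH M r t Q N)
include h

theorem mul_of_mul {K : Subgroup G} {x y z : G} (_ : x ∈ UU M r) (hy : y ∈ UU M r) (hz : z ∈ UU M r)
    (h1 : x * z ∈ K) (h2 : y * z ∈ K) : x * y ∈ K := by
  have e : x * y = (x * z) * (y * z) := by
    have e1 := h.UU_comm hz hy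
    calc x * y = x * (z * z) * y := by rw [h.UU_sq hz, mul_one]
      _ = x * z * (z * y) := by group
      _ = _ := by rw [e1]
  rw [e]
  exact mul_mem h1 h2

/-- `r` commutes with `U` -/
theorem r_comm {u : G} (hu : u ∈ UU M r) : u * r = r * u := h.UU_comm hu (Om_le_UU Om_base)

/-- `[s, y] = s (y s y⁻¹) ∈ Q r` for `y ∈ Q r` -/
theorem br_mem {u : G} (hu : u ∈ UU M r) {x : G} (hx : x ∈ Om M r) {y : G} (hy : y ∈ Q x) :
    u * (y * u * y⁻¹) ∈ Q x ∧ u * (y * u * y⁻¹) ∈ UU M r := by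
  have hux : u * x = x * u := h.UU_comm hu (Om_le_UU hx)
  refine ⟨?_, mul_mem hu (UU_conj (h.Q_le_M hx hy) hu)⟩
  have e : u * (y * u * y⁻¹) = (u * y * u⁻¹) * y⁻¹ := by
    rw [h.UU_inv hu]
    group
  rw [e]
  exact mul_mem ((h.Q_fix hux).2 hy) (inv_mem hy)

/-- `[x y] = [x] [y]` up to `r` -/
theorem br_mul {u : G} (hu : u ∈ UU M r) {x y : G} (hx : x ∈ Q r) (hy : y ∈ Q r) :
    u * (x * y * u * (x * y)⁻¹) = (u * (x * u * x⁻¹)) * (u * (y * u * y⁻¹)) ∨
      u * (x * y * u * (x * y)⁻¹) = (u * (x * u * x⁻¹)) * (u * (y * u * y⁻¹)) * r := by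
  have hrO : r ∈ Om M r := Om_base
  obtain ⟨h1, h1'⟩ := h.br_mem hu hrO hx
  obtain ⟨h2, h2'⟩ := h.br_mem hu hrO hy
  set b := u * (y * u * y⁻¹) with hb
  have e1 : y * u * y⁻¹ = u * b := by rw [hb, ← mul_assoc, h.UU_sq hu, one_mul]
  have hxM := h.Q_le_M hrO hx
  have e2 : u * (x * y * u * (x * y)⁻¹) = (u * (x * u * x⁻¹)) * (x * b * x⁻¹) := by
    calc u * (x * y * u * (x * y)⁻¹) = u * (x * (y * u * y⁻¹) * x⁻¹) := by group
      _ = u * (x * (u * b) * x⁻¹) := by rw [e1]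
      _ = _ := by group
  rcases h.Q_comm x hx b h2 with h3 | h3
  · left
    have e3 : x * b * x⁻¹ = b := by rwa [mul_inv_eq_one] at h3
    rw [e2, e3]
  · right
    have e3 : x * b * x⁻¹ = r * b := by rwa [mul_inv_eq_iff_eq_mul] at h3
    rw [e2, e3, ← h.r_comm h2']
    exact (mul_assoc _ _ _).symm

/-- (d) -/
theorem comm_mem [Finite G] (hO : JOpp M r t Q N) (hA : AllOpp M r t N) {s : G} (hs : Adj M r t t s) {y : G}
    (hy : y ∈ Q r) (hyt : y * t = t * y) :
    s * (y * s * y⁻¹) ∈ ZC Q r ∨ t * (s * (y * s * y⁻¹)) ∈ ZC Q r := by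
  have hrO : r ∈ Om M r := Om_base
  have hsU := h.Adj_UU hs
  have htU : t ∈ UU M r := Om_le_UU h.t_Om
  have hrU : r ∈ UU M r := Om_le_UU hrO
  have hyM := h.Q_le_M hrO hy
  have eyt : y * t * y⁻¹ = t := by rw [hyt, mul_inv_cancel_right]
  obtain ⟨hiQ, hiU⟩ := h.br_mem hsU hrO hy
  have hs' : Adj M r t t (y * s * y⁻¹) := by
    have := hs.conj hyM
    rwa [eyt] at this
  have hs'U := h.Adj_UU hs'
  set s' := y * s * y⁻¹ with hs'def
  by_cases h1 : s' = s
  · left
    rw [h1, h.UU_sq hsU]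
    exact one_mem _
  by_cases h2 : s' = t * s
  · right
    have e : t * (s * s') = 1 := by
      rw [h2, ← mul_assoc s, ← h.UU_comm htU hsU, mul_assoc t, h.UU_sq hsU, mul_one, h.UU_sq htU]
    rw [e]
    exact one_mem _
  obtain ⟨-, -, -, -, -, c, -, hcU, hct, -, -, hcL, hL, -, -⟩ := hO t s s' (hA t s s' hs hs' h1 h2)
  have hic : s * s' * c ∈ UU M r := mul_mem hiU hcU
  have hNfix : ∀ n ∈ N r, n * (s * s' * c) * n⁻¹ = s * s' * c := by
    intro n hn
    refine h.fix_of h.Adj_swap hL hn ?_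
    have e1 : n * (s * s') * n⁻¹ = s * s' := by
      have := (h.mem_Q_iff hrO hiU).1 hiQ n hn
      rw [← this, mul_inv_cancel_right]
    have e2 : n * (s * s' * c) * n⁻¹ * (s * s' * c)⁻¹ = (n * c * n⁻¹) * c⁻¹ := by
      have hnc : n * c * n⁻¹ ∈ UU M r := UU_conj (h.N_le_M hrO hn) hcU
      calc n * (s * s' * c) * n⁻¹ * (s * s' * c)⁻¹
          = (n * (s * s') * n⁻¹) * ((n * c * n⁻¹) * c⁻¹) * (s * s')⁻¹ := by group
        _ = (s * s') * ((n * c * n⁻¹) * c⁻¹) * (s * s')⁻¹ := by rw [e1]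
        _ = _ := by rw [h.UU_comm hiU (mul_mem hnc (inv_mem hcU)), mul_inv_cancel_right]
    rw [e2]
    exact mul_mem (h.K_conj (h.N_comm h.Adj_swap hn) hct) (inv_mem hct)
  have hor : s * s' * c = r ∨ s * s' * c = t * r := by
    by_contra h3
    push Not at h3
    obtain ⟨-, -, n, hn, hne⟩ := hA t r _ h.Adj_swap hL h3.1 h3.2
    exact hne (hNfix n hn)
  have ei : s * s' = s * s' * c * c := by rw [mul_assoc (s * s'), h.UU_sq hcU, mul_one]
  rcases hor with h3 | h3
  · left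
    rw [h3] at hcL
    rw [ei, h3]
    exact mul_mem (h.mem_ZC hrO) hcL
  · right
    rw [h3] at hcL
    have h4 := h.Adj_CV (h.Adj_mul h.Adj_swap) hct hcL
    rw [h.mul_cancel h.t_Om] at h4
    rw [ei, h3, mul_assoc t, h.mul_cancel h.t_Om]
    exact mul_mem (h.mem_ZC hrO) h4

/-- `Dim 0` is impossible. -/
theorem not_zero [Finite G] (hA : AllOpp M r t N) {s : G} (hs : Adj M r t t s) (hsQ : s ∉ Q r) :
    ∃ y ∈ Q r, y * t = t * y ∧ s * (y * s * y⁻¹) ∉ ZC Q r := by
  by_contra hall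
  push Not at hall
  have hrO : r ∈ Om M r := Om_base
  have htO : t ∈ Om M r := h.t_Om
  have hsU := h.Adj_UU hs
  have htU : t ∈ UU M r := Om_le_UU htO
  have hrU : r ∈ UU M r := Om_le_UU hrO
  have hrt : r * t = t * r := h.Adj_comm Adj_base
  obtain ⟨q, hq, hqt⟩ := h.q12
  have hqM := h.Q_le_M hrO hq
  have hqr : q * r * q⁻¹ = r := by
    have := h.ZC_comm (h.mem_ZC hrO) hq
    rw [← this]; group
  obtain ⟨hiQ, hiU⟩ := h.br_mem hsU hrO hq
  set i := s * (q * s * q⁻¹) with hi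
  have hqs : q * s * q⁻¹ = s * i := by rw [hi, ← mul_assoc, h.UU_sq hsU, one_mul]
  -- `i` commutes with `q`
  have hiq : i * q = q * i := by
    have hqi : q * i * q⁻¹ ∈ UU M r := UU_conj hqM hiU
    have e1 : q * q * s * (q * q)⁻¹ = s * (i * (q * i * q⁻¹)) := by
      calc q * q * s * (q * q)⁻¹ = q * (q * s * q⁻¹) * q⁻¹ := by group
        _ = q * (s * i) * q⁻¹ := by rw [hqs]
        _ = (q * s * q⁻¹) * (q * i * q⁻¹) := by group
        _ = _ := by rw [hqs, mul_assoc]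
    have e2 : q * q * s * (q * q)⁻¹ = s := by
      rcases h.Q_sq q hq with h1 | h1
      · rw [h1]; group
      · rw [h1, ← h.r_comm hsU, mul_inv_cancel_right]
    rw [e2] at e1
    have e3 : i * (q * i * q⁻¹) = 1 := (mul_eq_left.mp e1.symm)
    have e4 : q * i * q⁻¹ = i := by
      have := h.UU_cancel' hiU (q * i * q⁻¹)
      rw [e3, mul_one] at this
      exact this.symm
    calc i * q = (q * i * q⁻¹) * q := by rw [e4]
      _ = q * i := by group
  -- `i` commutes with the `y`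
  have hiy : ∀ y ∈ Q r, y * t = t * y → i * y = y * i := by
    intro y hy hyt
    have hk := hall y hy hyt
    set k := s * (y * s * y⁻¹) with hk'
    have hkU : k ∈ UU M r := (h.br_mem hsU hrO hy).2
    have e1 : s * q * s⁻¹ = i * q := by rw [hi, h.UU_inv hsU]; group
    have e2 : s * y * s⁻¹ = k * y := by rw [hk', h.UU_inv hsU]; group
    have e3 : s * (q * y * q⁻¹ * y⁻¹) * s⁻¹ = q * y * q⁻¹ * y⁻¹ := by
      rcases h.Q_comm q hq y hy with h1 | h1
      · rw [h1]; group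
      · rw [h1, h.r_comm hsU, mul_inv_cancel_right]
    have e4 : s * (q * y * q⁻¹ * y⁻¹) * s⁻¹ = (i * q) * (k * y) * (i * q)⁻¹ * (k * y)⁻¹ := by
      rw [← e1, ← e2]; group
    have hkz : ∀ x ∈ Q r, k * x = x * k := fun x hx => h.ZC_comm hk hx
    have e5 : (i * q) * (k * y) * (i * q)⁻¹ * (k * y)⁻¹ = i * (q * y * q⁻¹) * i⁻¹ * y⁻¹ := by
      have h1 := hkz (i * q) (mul_mem hiQ hq)
      have h2 := hkz (i * (q * y * q⁻¹) * i⁻¹ * y⁻¹) (mul_mem (mul_mem (mul_mem hiQ
        (mul_mem (mul_mem hq hy) (inv_mem hq))) (inv_mem hiQ)) (inv_mem hy))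
      calc (i * q) * (k * y) * (i * q)⁻¹ * (k * y)⁻¹ = ((i * q) * k) * y * (i * q)⁻¹ * y⁻¹ * k⁻¹ := by group
        _ = (k * (i * q)) * y * (i * q)⁻¹ * y⁻¹ * k⁻¹ := by rw [h1]
        _ = (k * (i * (q * y * q⁻¹) * i⁻¹ * y⁻¹)) * k⁻¹ := by group
        _ = _ := by rw [h2, mul_inv_cancel_right]
    rw [e4, e5] at e3
    -- `i (q y q⁻¹) i⁻¹ y⁻¹ = q y q⁻¹ y⁻¹`
    have e6 : i * (q * y * q⁻¹) * i⁻¹ = q * y * q⁻¹ := mul_right_cancel e3
    rcases h.Q_comm q hq y hy with h1 | h1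
    · have e7 : q * y * q⁻¹ = y := mul_inv_eq_one.1 h1
      rw [e7] at e6
      exact mul_inv_eq_iff_eq_mul.1 e6
    · have e7 : q * y * q⁻¹ = r * y := mul_inv_eq_iff_eq_mul.1 h1
      rw [e7] at e6
      have e8 : i * (r * y) * i⁻¹ = r * (i * y * i⁻¹) := by
        calc i * (r * y) * i⁻¹ = (i * r) * y * i⁻¹ := by group
          _ = (r * i) * y * i⁻¹ := by rw [h.r_comm hiU]
          _ = _ := by group
      rw [e8] at e6
      exact mul_inv_eq_iff_eq_mul.1 (mul_left_cancel e6)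
  have hiZ : i ∈ ZC Q r := by
    rw [mem_centralizer_iff]
    intro x hx
    rcases h.Q_comm x hx t h.t_mem with h1 | h1
    · have h2 : x * t = t * x := by
        have := mul_inv_eq_one.1 h1
        exact mul_inv_eq_iff_eq_mul.1 this
      exact (hiy x hx h2).symm
    · have h2 : x * t * x⁻¹ = r * t := mul_inv_eq_iff_eq_mul.1 h1
      have h3 : (q⁻¹ * x) * t = t * (q⁻¹ * x) := by
        have h4 : q⁻¹ * (r * t) * q = t := by rw [← hqt]; group
        calc (q⁻¹ * x) * t = q⁻¹ * (x * t * x⁻¹) * x := by group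
          _ = q⁻¹ * (r * t) * q * (q⁻¹ * x) := by rw [h2]; group
          _ = _ := by rw [h4]
      have h5 := hiy _ (mul_mem (inv_mem hq) hx) h3
      calc x * i = q * ((q⁻¹ * x) * i) := by group
        _ = q * (i * (q⁻¹ * x)) := by rw [h5]
        _ = (q * i) * q⁻¹ * x := by group
        _ = (i * q) * q⁻¹ * x := by rw [hiq]
        _ = i * x := by group
  -- `g ∈ Q (r t)` swapping `r` and `t`
  have hart : Adj M r t (r * t) r := h.Adj_symm h.Adj_mul_base
  obtain ⟨g, hg, hgr⟩ := h.Adj_q hart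
  have hrtO : r * t ∈ Om M r := hart.left
  have hgM := h.Q_le_M hrtO hg
  have hgr' : g * r * g⁻¹ = t := by
    rw [hgr, hrt, mul_assoc, h.r_sq, mul_one]
  have hgrt : g * (r * t) * g⁻¹ = r * t := by
    have := h.ZC_comm (h.mem_ZC hrtO) hg
    rw [← this]; group
  have hgt : g * t * g⁻¹ = r := by
    have e1 : g * t * g⁻¹ = (g * r * g⁻¹)⁻¹ * (g * (r * t) * g⁻¹) := by group
    rw [e1, hgr', hgrt, h.UU_inv htU, hrt, h.mul_cancel htO]
  have harx : Adj M r t r (g * s * g⁻¹) := by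
    have := hs.conj hgM
    rwa [hgt] at this
  set x := g * s * g⁻¹ with hx
  have hxU := h.Adj_UU harx
  have h1 : s * x ∈ Q (r * t) := (h.br_mem hsU hrtO hg).1
  have h2 : q * s * q⁻¹ ∈ Q (r * t) := by
    have := hs.conj hqM
    rw [hqt] at this
    exact h.Adj_mem this
  have h3 : i * x ∈ Q (r * t) := by
    have e : i * x = (q * s * q⁻¹) * (s * x) := by
      rw [hi, h.UU_comm hsU (UU_conj hqM hsU), mul_assoc]
    rw [e]
    exact mul_mem h2 h1
  have hNx : ∀ n ∈ N (r * t), n * x * n⁻¹ = x := by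
    intro n hn
    refine h.fix_of h.Adj_mul_base harx hn ?_
    have h4 := (h.mem_Q_iff hrtO (mul_mem hiU hxU)).1 h3 n hn
    have h5 : n * (i * x) * n⁻¹ = i * x := by rw [← h4, mul_inv_cancel_right]
    have h6 : n * x * n⁻¹ * x⁻¹ = (n * i * n⁻¹)⁻¹ * i := by
      calc n * x * n⁻¹ * x⁻¹ = (n * i * n⁻¹)⁻¹ * (n * (i * x) * n⁻¹) * x⁻¹ := by group
        _ = (n * i * n⁻¹)⁻¹ * (i * x) * x⁻¹ := by rw [h5]
        _ = _ := by group
    rw [h6]
    exact mul_mem (inv_mem (h.K_conj (h.N_comm h.Adj_mul_base hn) hiZ)) hiZ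
  have hor : x = r * t ∨ x = r * (r * t) := by
    by_contra h4
    push Not at h4
    obtain ⟨-, -, n, hn, hne⟩ := hA r (r * t) x h.Adj_mul_base harx h4.1 h4.2
    exact hne (hNx n hn)
  have hs1 : ∀ z, x = g * z * g⁻¹ → s = z := by
    intro z hz
    have h4 : g * s * g⁻¹ = g * z * g⁻¹ := hz
    exact (MulAut.conj g).injective h4
  rcases hor with h4 | h4
  · apply hsQ
    rw [hs1 (r * t) (by rw [h4, hgrt])]
    exact mul_mem h.r_mem h.t_mem
  · apply hsQ
    rw [h.mul_cancel hrO] at h4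
    rw [hs1 r (by rw [h4, hgr'])]
    exact h.r_mem

/-- **(11) at the base point**, from `[s, N x] ≤ Q r` (`x ~ r`). -/
theorem eleven_base [Finite G] (hO : JOpp M r t Q N) (hA : AllOpp M r t N) {s : G} (hs : Adj M r t t s)
    (hsQ : s ∉ Q r) (path : ∀ x, Adj M r t r x → ∀ m ∈ N x, s * (m * s * m⁻¹) ∈ Q r) {b c : G}
    (hb : Opp M r t N r t b) (hc : Adj M r t r c) :
    c = t ∨ c = r * t ∨ c = b ∨ c = r * b ∨ t * b * c ∈ ZC Q r := by
  have hrO : r ∈ Om M r := Om_base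
  have htO : t ∈ Om M r := h.t_Om
  have hsU := h.Adj_UU hs
  have htU : t ∈ UU M r := Om_le_UU htO
  have hrU : r ∈ UU M r := Om_le_UU hrO
  have hrZ := h.mem_ZC hrO
  obtain ⟨q, hq, hqt⟩ := h.q12
  obtain ⟨hiQ, hiU⟩ := h.br_mem hsU hrO hq
  set i := s * (q * s * q⁻¹) with hi
  obtain ⟨y, hy, hyt, hyn⟩ := h.not_zero hA hs hsQ
  have hyt' := (h.comm_mem hO hA hs hy hyt).resolve_left hyn
  obtain ⟨hkQ, hkU⟩ := h.br_mem hsU hrO hy
  set k := s * (y * s * y⁻¹) with hk
  -- the four cosets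
  have four : ∀ x ∈ Q r, s * (x * s * x⁻¹) ∈ ZC Q r ∨ t * (s * (x * s * x⁻¹)) ∈ ZC Q r ∨
      i * (s * (x * s * x⁻¹)) ∈ ZC Q r ∨ t * i * (s * (x * s * x⁻¹)) ∈ ZC Q r := by
    intro x hx
    rcases h.Q_comm x hx t h.t_mem with h1 | h1
    · have h2 : x * t = t * x := mul_inv_eq_iff_eq_mul.1 (mul_inv_eq_one.1 h1)
      rcases h.comm_mem hO hA hs hx h2 with h3 | h3
      · exact Or.inl h3
      · exact Or.inr (Or.inl h3)
    · have h2 : x * t * x⁻¹ = r * t := mul_inv_eq_iff_eq_mul.1 h1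
      have h3 : (q⁻¹ * x) * t = t * (q⁻¹ * x) := by
        have h4 : q⁻¹ * (r * t) * q = t := by rw [← hqt]; group
        calc (q⁻¹ * x) * t = q⁻¹ * (x * t * x⁻¹) * x := by group
          _ = q⁻¹ * (r * t) * q * (q⁻¹ * x) := by rw [h2]; group
          _ = _ := by rw [h4]
      have hyQ : q⁻¹ * x ∈ Q r := mul_mem (inv_mem hq) hx
      have hl := h.comm_mem hO hA hs hyQ h3
      have hlU := (h.br_mem hsU hrO hyQ).2
      set l := s * (q⁻¹ * x * s * (q⁻¹ * x)⁻¹) with hl'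
      have hm := h.br_mul hsU hq hyQ
      have e0 : q * (q⁻¹ * x) = x := by group
      rw [e0, ← hi, ← hl'] at hm
      -- `[x] = i l` up to `r`
      have h5 : i * (s * (x * s * x⁻¹)) * l ∈ ZC Q r := by
        rcases hm with hm | hm
        · have e : i * (s * (x * s * x⁻¹)) * l = 1 := by
            rw [hm, h.UU_cancel' hiU, h.UU_sq hlU]
          rw [e]
          exact one_mem _
        · have e : i * (s * (x * s * x⁻¹)) * l = r := by
            rw [hm]
            calc i * (i * l * r) * l = i * (i * (l * (r * l))) := by group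
              _ = l * (r * l) := h.UU_cancel' hiU _
              _ = l * (l * r) := by rw [← h.r_comm hlU]
              _ = r := h.UU_cancel' hlU _
          rw [e]
          exact hrZ
      have hxU := (h.br_mem hsU hrO hx).2
      rcases hl with h6 | h6
      · right; right; left
        exact (mul_mem_cancel_right h6).1 h5
      · right; right; right
        have e : t * i * (s * (x * s * x⁻¹)) = (i * (s * (x * s * x⁻¹)) * l) * (t * l) := by
          have e1 : (i * (s * (x * s * x⁻¹)) * l) * (t * l) = (i * (s * (x * s * x⁻¹))) * (l * (t * l)) := by group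
          rw [e1, h.UU_comm htU hlU, h.UU_cancel' hlU, h.UU_comm (mul_mem hiU hxU) htU, mul_assoc t]
        rw [e]
        exact mul_mem h5 h6
  -- the other lines
  have E : ∀ b, Adj M r t r b → b ≠ t → b ≠ r * t → b * i ∈ ZC Q r ∨ b * t * i ∈ ZC Q r := by
    intro b hb h1 h2
    have hbU := h.Adj_UU hb
    have hne : t ≠ r * b := by
      intro e
      apply h2
      rw [e, h.mul_cancel hrO]
    have ho : Opp M r t N r b t := hA r b t hb Adj_base (Ne.symm h1) hne
    obtain ⟨-, -, -, -, -, d, -, hdU, hdr, -, -, -, -, hmv, -⟩ := hO r b t ho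
    obtain ⟨-, -, m, hm, hmt⟩ := ho
    have hmt' : m * t * m⁻¹ = b * t * d := (hmv m hm).resolve_left hmt
    have hmr : m * r = r * m := h.N_comm hb hm
    have hmM := h.N_le_M (h.Adj_right hb) hm
    have hy' : m * y * m⁻¹ ∈ Q r := (h.Q_fix hmr).2 hy
    set y' := m * y * m⁻¹ with hy'def
    have haQ := path b hb m hm
    have haU : s * (m * s * m⁻¹) ∈ UU M r := mul_mem hsU (UU_conj hmM hsU)
    set a := s * (m * s * m⁻¹) with ha
    have ems : m * s * m⁻¹ = s * a := by rw [ha, ← mul_assoc, h.UU_sq hsU, one_mul]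
    obtain ⟨hkQ', hkU'⟩ := h.br_mem hsU hrO hy'
    set k' := s * (y' * s * y'⁻¹) with hk'
    -- conjugate `t k ∈ ZC`
    have h3 : m * (t * k) * m⁻¹ ∈ ZC Q r := h.K_conj hmr hyt'
    have h4 : m * (t * k) * m⁻¹ = (b * t * d) * (s * a * (y' * (s * a) * y'⁻¹)) := by
      have e1 : m * k * m⁻¹ = (m * s * m⁻¹) * (y' * (m * s * m⁻¹) * y'⁻¹) := by
        rw [hk, hy'def]; group
      calc m * (t * k) * m⁻¹ = (m * t * m⁻¹) * (m * k * m⁻¹) := by group
        _ = _ := by rw [hmt', e1, ems]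
    have h5 : s * a * (y' * (s * a) * y'⁻¹) = k' * (a * (y' * a * y'⁻¹)) := by
      have hcU : y' * s * y'⁻¹ ∈ UU M r := UU_conj (h.Q_le_M hrO hy') hsU
      calc s * a * (y' * (s * a) * y'⁻¹) = s * (a * (y' * s * y'⁻¹)) * (y' * a * y'⁻¹) := by group
        _ = s * ((y' * s * y'⁻¹) * a) * (y' * a * y'⁻¹) := by rw [h.UU_comm haU hcU]
        _ = _ := by rw [hk']; group
    have h6 : a * (y' * a * y'⁻¹) ∈ ZC Q r := by
      rcases h.Q_comm y' hy' a haQ with h7 | h7
      · rw [mul_inv_eq_one.1 h7, h.UU_sq haU]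
        exact one_mem _
      · rw [mul_inv_eq_iff_eq_mul.1 h7, ← mul_assoc, h.r_comm haU, mul_assoc, h.UU_sq haU, mul_one]
        exact hrZ
    have h7 : b * t * k' ∈ ZC Q r := by
      rw [h4, h5] at h3
      have e1 : (b * t * d) * (k' * (a * (y' * a * y'⁻¹))) = (b * t * k') * d * (a * (y' * a * y'⁻¹)) := by
        calc (b * t * d) * (k' * (a * (y' * a * y'⁻¹))) = b * t * (d * k') * (a * (y' * a * y'⁻¹)) := by group
          _ = b * t * (k' * d) * (a * (y' * a * y'⁻¹)) := by rw [h.UU_comm hdU hkU']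
          _ = _ := by group
      rw [e1] at h3
      exact (mul_mem_cancel_right hdr).1 ((mul_mem_cancel_right h6).1 h3)
    have hbtU : b * t ∈ UU M r := mul_mem hbU htU
    rcases four y' hy' with h8 | h8 | h8 | h8
    · exfalso
      have h9 : b * t ∈ ZC Q r := (mul_mem_cancel_right h8).1 h7
      rw [h.UU_comm hbU htU] at h9
      rcases h.noPar_at Adj_base hb h9 with h10 | h10
      · exact h1 h10
      · exact h2 h10
    · exfalso
      have h9 : b * t * t ∈ ZC Q r := h.mul_of_mul hbtU htU hkU' h7 h8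
      rw [mul_assoc, h.UU_sq htU, mul_one] at h9
      exact h.Adj_not_mem hb h9
    · exact Or.inr (h.mul_of_mul hbtU hiU hkU' h7 h8)
    · left
      have h9 := h.mul_of_mul hbtU (mul_mem htU hiU) hkU' h7 h8
      have e : b * t * (t * i) = b * i := by rw [mul_assoc, h.UU_cancel' htU]
      rwa [e] at h9
  obtain ⟨-, -, -, hbt, hbrt, -⟩ := hO r t b hb
  have hbA := hb.2.1
  have hbU := h.Adj_UU hbA
  have hcU := h.Adj_UU hc
  by_cases h1 : c = t
  · exact Or.inl h1
  by_cases h2 : c = r * t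
  · exact Or.inr (Or.inl h2)
  right; right
  have htbU : ∀ x ∈ UU M r, ∀ y ∈ UU M r, x * i ∈ ZC Q r → y * i ∈ ZC Q r → x * y ∈ ZC Q r :=
    fun x hx y hy => h.mul_of_mul hx hy hiU
  have fin1 : b * c ∈ ZC Q r → c = b ∨ c = r * b ∨ t * b * c ∈ ZC Q r := by
    intro h3
    rcases h.noPar_at hbA hc h3 with h4 | h4
    · exact Or.inl h4
    · exact Or.inr (Or.inl h4)
  have fin2 : b * t * c ∈ ZC Q r → c = b ∨ c = r * b ∨ t * b * c ∈ ZC Q r := by
    intro h3
    rw [h.UU_comm hbU htU] at h3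
    exact Or.inr (Or.inr h3)
  rcases E b hbA hbt hbrt with h3 | h3 <;> rcases E c hc h1 h2 with h4 | h4
  · exact fin1 (htbU b hbU c hcU h3 h4)
  · apply fin2
    have h5 := htbU b hbU (c * t) (mul_mem hcU htU) h3 h4
    have e : b * (c * t) = b * t * c := by rw [h.UU_comm hcU htU, mul_assoc]
    rwa [e] at h5
  · exact fin2 (htbU (b * t) (mul_mem hbU htU) c hcU h3 h4)
  · apply fin1
    have h5 := htbU (b * t) (mul_mem hbU htU) (c * t) (mul_mem hcU htU) h3 h4
    have e : b * t * (c * t) = b * c := by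
      rw [h.UU_comm hcU htU, mul_assoc, h.UU_cancel' htU]
    rwa [e] at h5

/-- transport of (11) to all points -/
theorem jEleven_of_base (hbase : AllOpp M r t N → ∀ b c, Opp M r t N r t b → Adj M r t r c →
    c = t ∨ c = r * t ∨ c = b ∨ c = r * b ∨ t * b * c ∈ ZC Q r) : JEleven M r t Q N := by
  intro hA s a b c hb hc
  obtain ⟨m, hm, rfl, rfl⟩ := hb.1
  have hb' := h.opp_conj (M.inv_mem hm) hb
  have hc' := hc.conj (M.inv_mem hm)
  have e : ∀ z : G, m⁻¹ * (m * z * m⁻¹) * m⁻¹⁻¹ = z := fun z => by group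
  rw [e, e] at hb'
  rw [e] at hc'
  have ec : ∀ z : G, m⁻¹ * c * m⁻¹⁻¹ = z → c = m * z * m⁻¹ := by
    rintro z rfl
    group
  rcases hbase hA _ _ hb' hc' with h1 | h1 | h1 | h1 | h1
  · exact Or.inl (ec _ h1)
  · right; left
    rw [ec _ h1]
    group
  · right; right; left
    rw [ec _ h1]
    group
  · right; right; right; left
    rw [ec _ h1]
    group
  · right; right; right; right
    have h2 := (h.ZC_conj (g := m)).2 h1
    have e2 : m * (t * (m⁻¹ * b * m⁻¹⁻¹) * (m⁻¹ * c * m⁻¹⁻¹)) * m⁻¹ = m * t * m⁻¹ * b * c := by group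
    rwa [e2] at h2

end TvH

end Cfsg.Agent.Omega.HOne.TvDef
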